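import Mathlib
import Cfsg.Prelude.Def_Blocks

/-!
# Basic ordinary character theory for the `Cfsg` vocabulary (helper24's shared library)

Part 1: endomorphisms of finite order over `ℂ` are diagonalizable with roots of unity as
eigenvalues; consequences for traces.
-/

set_option autoImplicit false

namespace Cfsg.Agent.Helper24

open Cfsg Module

universe u v

section FiniteOrder

variable {V : Type v} [AddCommGroup V] [Module ℂ V] [FiniteDimensional ℂ V]

/-- An endomorphism of finite order of a finite-dimensional complex vector space has a basis of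
eigenvectors whose eigenvalues are roots of unity. -/
theorem exists_eigenbasis_of_pow_eq_one (f : Module.End ℂ V) {m : ℕ} (hm : 0 < m)
    (hf : f ^ m = 1) :
    ∃ (n : ℕ) (b : Module.Basis (Fin n) ℂ V) (μ : Fin n → ℂ),
      (∀ i, μ i ^ m = 1) ∧ ∀ i, f (b i) = μ i • b i := by
  classical
  have hsep : (Polynomial.X ^ m - 1 : Polynomial ℂ).Separable := by
    rw [Polynomial.X_pow_sub_one_separable_iff]
    exact_mod_cast hm.ne'
  have hss : f.IsSemisimple := by
    apply Module.End.isSemisimple_of_squarefree_aeval_eq_zero hsep.squarefree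
    simp [hf]
  have htop := hss.iSup_eigenspace_eq_top
  have hind := Module.End.eigenspaces_iSupIndep f
  have hint := DirectSum.isInternal_submodule_of_iSupIndep_of_iSup_eq_top hind htop
  let bb : ∀ μ : ℂ, Module.Basis _ ℂ (f.eigenspace μ) := fun μ =>
    Module.Basis.ofVectorSpace ℂ (f.eigenspace μ)
  let B := hint.collectedBasis bb
  haveI : Finite (Σ μ : ℂ, ↑(Module.Basis.ofVectorSpaceIndex ℂ (f.eigenspace μ))) :=
    Module.Finite.finite_basis B
  haveI : Fintype (Σ μ : ℂ, ↑(Module.Basis.ofVectorSpaceIndex ℂ (f.eigenspace μ))) :=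
    Fintype.ofFinite _
  let e := Fintype.equivFin (Σ μ : ℂ, ↑(Module.Basis.ofVectorSpaceIndex ℂ (f.eigenspace μ)))
  refine ⟨_, B.reindex e, fun i => (e.symm i).1, ?_, ?_⟩
  · intro i
    set a := e.symm i with ha
    have hmem : B a ∈ f.eigenspace a.1 := hint.collectedBasis_mem bb a
    have hne : B a ≠ 0 := B.ne_zero a
    rw [Module.End.mem_eigenspace_iff] at hmem
    have hpow : ∀ k : ℕ, (f ^ k) (B a) = a.1 ^ k • B a := by
      intro k
      induction k with
      | zero => simp
      | succ k ih =>
        rw [pow_succ, Module.End.mul_apply, hmem, map_smul, ih, smul_smul, pow_succ]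
        ring_nf
    have h1 := hpow m
    rw [hf, Module.End.one_apply] at h1
    have h2 : (a.1 ^ m - 1) • B a = 0 := by
      rw [sub_smul, one_smul, ← h1, sub_self]
    rcases smul_eq_zero.mp h2 with h3 | h3
    · exact sub_eq_zero.mp h3
    · exact absurd h3 hne
  · intro i
    have hmem : B (e.symm i) ∈ f.eigenspace (e.symm i).1 := hint.collectedBasis_mem bb _
    rw [Module.End.mem_eigenspace_iff] at hmem
    simpa [Module.Basis.reindex_apply] using hmem

/-- The trace of an endomorphism that is diagonal in a basis is the sum of the diagonal entries. -/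
theorem trace_eq_sum_of_eigenbasis {n : ℕ} (b : Module.Basis (Fin n) ℂ V) (μ : Fin n → ℂ)
    (f : Module.End ℂ V) (h : ∀ i, f (b i) = μ i • b i) :
    LinearMap.trace ℂ V f = ∑ i, μ i := by
  classical
  rw [LinearMap.trace_eq_matrix_trace ℂ b f, Matrix.trace]
  refine Finset.sum_congr rfl fun i _ => ?_
  rw [Matrix.diag_apply, LinearMap.toMatrix_apply, h i]
  simp

/-- `finrank` is the cardinality of a `Fin n`-indexed basis. -/
theorem finrank_eq_of_basis {n : ℕ} (b : Module.Basis (Fin n) ℂ V) : Module.finrank ℂ V = n := by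
  rw [Module.finrank_eq_card_basis b, Fintype.card_fin]

end FiniteOrder

section RepChar

open scoped ComplexConjugate

variable {G : Type u} [Group G] [Finite G] {V : Type v} [AddCommGroup V] [Module ℂ V]
  [FiniteDimensional ℂ V] (ρ : Representation ℂ G V)

omit [FiniteDimensional ℂ V] in
theorem rep_pow_card (g : G) : (ρ g) ^ (Nat.card G) = 1 := by
  rw [← map_pow, pow_card_eq_one', map_one]

/-- Each `ρ g` has a basis of eigenvectors with eigenvalues `|G|`-th roots of unity. -/
theorem exists_eigenbasis (g : G) :
    ∃ (n : ℕ) (b : Module.Basis (Fin n) ℂ V) (μ : Fin n → ℂ),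
      (∀ i, μ i ^ Nat.card G = 1) ∧ ∀ i, ρ g (b i) = μ i • b i :=
  exists_eigenbasis_of_pow_eq_one (ρ g) Nat.card_pos (rep_pow_card ρ g)

/-- The character value at `g` is a sum of `finrank` many `|G|`-th roots of unity, and simultaneously
the value at `g⁻¹` is the sum of their inverses. -/
theorem exists_roots_of_unity (g : G) :
    ∃ (μ : Fin (Module.finrank ℂ V) → ℂ), (∀ i, μ i ^ Nat.card G = 1) ∧
      (∀ k : ℕ, ρ.character (g ^ k) = ∑ i, μ i ^ k) ∧ ρ.character g⁻¹ = ∑ i, (μ i)⁻¹ := by
  obtain ⟨n, b, μ, hμ, hb⟩ := exists_eigenbasis ρ g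
  have hn : Module.finrank ℂ V = n := finrank_eq_of_basis b
  subst hn
  refine ⟨μ, hμ, ?_, ?_⟩
  · intro k
    apply trace_eq_sum_of_eigenbasis b
    intro i
    rw [map_pow]
    induction k with
    | zero => simp
    | succ k ih =>
      rw [pow_succ, Module.End.mul_apply, hb i, map_smul, ih, smul_smul, pow_succ]
      ring_nf
  · apply trace_eq_sum_of_eigenbasis b
    intro i
    have hne : μ i ≠ 0 := by
      intro h0
      have := hμ i
      rw [h0, zero_pow Nat.card_pos.ne'] at this
      exact zero_ne_one this
    have h1 : ρ g⁻¹ (ρ g (b i)) = b i := by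
      rw [← Module.End.mul_apply, ← map_mul, inv_mul_cancel, map_one, Module.End.one_apply]
    rw [hb i, map_smul] at h1
    calc ρ g⁻¹ (b i) = (μ i)⁻¹ • (μ i • ρ g⁻¹ (b i)) := by
          rw [smul_smul, inv_mul_cancel₀ hne, one_smul]
      _ = (μ i)⁻¹ • b i := by rw [h1]

theorem char_inv (g : G) : ρ.character g⁻¹ = conj (ρ.character g) := by
  obtain ⟨μ, hμ, hk, hinv⟩ := exists_roots_of_unity ρ g
  have h1 := hk 1
  simp only [pow_one] at h1
  rw [hinv, h1, map_sum]
  refine Finset.sum_congr rfl fun i _ => ?_
  exact Complex.inv_eq_conj (Complex.norm_eq_one_of_pow_eq_one (hμ i) Nat.card_pos.ne')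

theorem norm_char_le (g : G) : ‖ρ.character g‖ ≤ Module.finrank ℂ V := by
  obtain ⟨μ, hμ, hk, -⟩ := exists_roots_of_unity ρ g
  have h1 := hk 1
  simp only [pow_one] at h1
  rw [h1]
  calc ‖∑ i, μ i‖ ≤ ∑ i, ‖μ i‖ := norm_sum_le _ _
    _ = ∑ _i : Fin (Module.finrank ℂ V), (1 : ℝ) := by
        refine Finset.sum_congr rfl fun i _ => ?_
        exact Complex.norm_eq_one_of_pow_eq_one (hμ i) Nat.card_pos.ne'
    _ = Module.finrank ℂ V := by simp

theorem isIntegral_char (g : G) : IsIntegral ℤ (ρ.character g) := by
  obtain ⟨μ, hμ, hk, -⟩ := exists_roots_of_unity ρ g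
  have h1 := hk 1
  simp only [pow_one] at h1
  rw [h1]
  refine IsIntegral.sum _ fun i _ => ?_
  refine IsIntegral.of_pow (n := Nat.card G) Nat.card_pos ?_
  rw [hμ i]
  exact isIntegral_one

/-- `χ(g) = χ(1)` iff `g` acts trivially. -/
theorem char_eq_finrank_iff (g : G) :
    ρ.character g = Module.finrank ℂ V ↔ ρ g = 1 := by
  constructor
  · intro h
    obtain ⟨n, b, μ, hμ, hb⟩ := exists_eigenbasis ρ g
    have hn : Module.finrank ℂ V = n := finrank_eq_of_basis b
    have htr : ρ.character g = ∑ i, μ i := trace_eq_sum_of_eigenbasis b μ (ρ g) hb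
    rw [htr, hn] at h
    have hnorm : ∀ i, ‖μ i‖ = 1 := fun i =>
      Complex.norm_eq_one_of_pow_eq_one (hμ i) Nat.card_pos.ne'
    have hre_le : ∀ i, (μ i).re ≤ 1 := fun i => (hnorm i) ▸ Complex.re_le_norm (μ i)
    have hsum : ∑ i, (μ i).re = ∑ _i : Fin n, (1 : ℝ) := by
      have := congrArg Complex.re h
      simpa using this
    have hre : ∀ i, (μ i).re = 1 := by
      intro i
      have := (Finset.sum_eq_sum_iff_of_le (fun i _ => hre_le i)).mp hsum i (Finset.mem_univ i)
      exact this
    have hone : ∀ i, μ i = 1 := by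
      intro i
      have h2 := hnorm i
      have h3 := hre i
      have h4 : (μ i).im = 0 := by
        have := Complex.sq_norm (μ i)
        rw [h2, Complex.normSq_apply, h3] at this
        nlinarith
      apply Complex.ext <;> simp [h3, h4]
    apply b.ext
    intro i
    rw [hb i, hone i, one_smul, Module.End.one_apply]
  · intro h
    rw [Representation.character, h]
    simp

end RepChar

section Transport

variable {G : Type u} [Group G] {V : Type v} [AddCommGroup V] [Module ℂ V]
  {W : Type*} [AddCommGroup W] [Module ℂ W]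

/-- Transport a representation along a linear equivalence. -/
def transportRep (ρ : Representation ℂ G V) (e : V ≃ₗ[ℂ] W) : Representation ℂ G W where
  toFun g := e.toLinearMap ∘ₗ ρ g ∘ₗ e.symm.toLinearMap
  map_one' := by ext; simp
  map_mul' a b := by ext; simp

@[simp] theorem transportRep_apply (ρ : Representation ℂ G V) (e : V ≃ₗ[ℂ] W) (g : G) (w : W) :
    transportRep ρ e g w = e (ρ g (e.symm w)) := rfl

/-- The tautological equivalence between a representation and its transport. -/
def transportEquiv (ρ : Representation ℂ G V) (e : V ≃ₗ[ℂ] W) :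
    Representation.Equiv ρ (transportRep ρ e) :=
  Representation.Equiv.mk e (by intro g; ext v; simp)

/-- Irreducibility in terms of invariant submodules. -/
theorem isIrreducible_iff (ρ : Representation ℂ G V) :
    ρ.IsIrreducible ↔ Nontrivial V ∧
      ∀ U : Submodule ℂ V, (∀ g : G, ∀ v ∈ U, ρ g v ∈ U) → U = ⊥ ∨ U = ⊤ := by
  constructor
  · intro h
    refine ⟨?_, ?_⟩
    · by_contra hV
      rw [not_nontrivial_iff_subsingleton] at hV
      have h1 := h.toNontrivial
      obtain ⟨a, b, hab⟩ := h1
      apply hab
      apply Subrepresentation.toSubmodule_injective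
      exact Subsingleton.elim _ _
    · intro U hU
      rcases h.eq_bot_or_eq_top (⟨U, fun g v hv => hU g v hv⟩ : Subrepresentation ρ)
        with h1 | h1
      · left
        exact congrArg Subrepresentation.toSubmodule h1
      · right
        exact congrArg Subrepresentation.toSubmodule h1
  · rintro ⟨hV, hU⟩
    refine { exists_pair_ne := ⟨⊥, ⊤, ?_⟩, eq_bot_or_eq_top := ?_ }
    · intro h
      have := congrArg Subrepresentation.toSubmodule h
      exact bot_ne_top this
    · intro a
      rcases hU a.toSubmodule (fun g v hv => a.apply_mem_toSubmodule g hv) with h1 | h1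
      · left
        exact Subrepresentation.toSubmodule_injective h1
      · right
        exact Subrepresentation.toSubmodule_injective h1

theorem isIrreducible_transport (ρ : Representation ℂ G V) (e : V ≃ₗ[ℂ] W)
    (h : ρ.IsIrreducible) : (transportRep ρ e).IsIrreducible := by
  rw [isIrreducible_iff] at h ⊢
  obtain ⟨hV, hU⟩ := h
  refine ⟨e.symm.toEquiv.nontrivial, ?_⟩
  intro U hUinv
  have := hU (U.comap e.toLinearMap) (by
    intro g v hv
    simp only [Submodule.mem_comap, LinearEquiv.coe_coe] at hv ⊢
    have := hUinv g _ hv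
    simpa using this)
  rcases this with h1 | h1
  · left
    rw [eq_bot_iff]
    intro w hw
    have : e.symm w ∈ U.comap e.toLinearMap := by simpa using hw
    rw [h1] at this
    simpa using this
  · right
    rw [eq_top_iff]
    intro w _
    have : e.symm w ∈ U.comap e.toLinearMap := by rw [h1]; trivial
    simpa using this

variable [FiniteDimensional ℂ V]

theorem isCharacter_of_rep (ρ : Representation ℂ G V) : IsCharacter G ρ.character := by
  let b := Module.finBasis ℂ V
  refine ⟨Module.finrank ℂ V, transportRep ρ b.equivFun, ?_⟩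
  exact (Representation.char_iso (transportEquiv ρ b.equivFun)).symm

theorem isIrrCharacter_of_rep (ρ : Representation ℂ G V) (h : ρ.IsIrreducible) :
    IsIrrCharacter G ρ.character := by
  let b := Module.finBasis ℂ V
  refine ⟨Module.finrank ℂ V, transportRep ρ b.equivFun, isIrreducible_transport ρ _ h, ?_⟩
  exact (Representation.char_iso (transportEquiv ρ b.equivFun)).symm

end Transport

end Cfsg.Agent.Helper24
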