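import Mathlib
import Cfsg.Prelude.Def_Blocks
import Cfsg.Agent.Lib.Helper24.CharBasic

/-!
# Orthogonality and decomposition of characters (helper24's shared library)
-/

set_option autoImplicit false

namespace Cfsg.Agent.Helper24

open Cfsg Module

universe u v

open scoped ComplexConjugate

section Decompose

variable {G : Type u} [Group G] [Finite G]

theorem neZero_card_complex : NeZero (Nat.card G : ℂ) :=
  ⟨by exact_mod_cast (Nat.card_pos (α := G)).ne'⟩

/-- The character of a product representation is the sum of the characters. -/
theorem char_prod {V : Type v} [AddCommGroup V] [Module ℂ V] [FiniteDimensional ℂ V]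
    {W : Type v} [AddCommGroup W] [Module ℂ W] [FiniteDimensional ℂ W]
    (ρ : Representation ℂ G V) (σ : Representation ℂ G W) :
    (ρ.prod σ).character = ρ.character + σ.character := by
  ext g
  simp only [Representation.character, Pi.add_apply]
  exact LinearMap.trace_prodMap' _ _

/-- The character of any finite-dimensional representation is a sum of irreducible characters. -/
theorem char_mem_closure_aux (n : ℕ) :
    ∀ (V : Type v) [AddCommGroup V] [Module ℂ V] [FiniteDimensional ℂ V]
      (ρ : Representation ℂ G V), Module.finrank ℂ V = n →
      ρ.character ∈ AddSubmonoid.closure {χ : G → ℂ | IsIrrCharacter G χ} := by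
  induction n using Nat.strong_induction_on with
  | _ n ih =>
    intro V _ _ _ ρ hn
    haveI := neZero_card_complex (G := G)
    by_cases hirr : ρ.IsIrreducible
    · exact AddSubmonoid.subset_closure (isIrrCharacter_of_rep ρ hirr)
    · by_cases hV : Nontrivial V
      · -- reducible: split off an invariant subspace
        rw [isIrreducible_iff] at hirr
        push_neg at hirr
        obtain ⟨U, hUinv, hUbot, hUtop⟩ := hirr hV
        let US : Subrepresentation ρ := ⟨U, fun g v hv => hUinv g v hv⟩
        obtain ⟨US', hcompl⟩ := exists_isCompl US
        have hc : IsCompl US.toSubmodule US'.toSubmodule := by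
          constructor
          · rw [disjoint_iff]
            have := hcompl.inf_eq_bot
            exact congrArg Subrepresentation.toSubmodule this
          · rw [codisjoint_iff]
            have := hcompl.sup_eq_top
            exact congrArg Subrepresentation.toSubmodule this
        have hfr := Submodule.finrank_add_eq_of_isCompl hc
        have hpos1 : 0 < Module.finrank ℂ US.toSubmodule := by
          rw [Module.finrank_pos_iff]
          exact Submodule.nontrivial_iff_ne_bot.mpr hUbot
        have hpos2 : 0 < Module.finrank ℂ US'.toSubmodule := by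
          rw [Module.finrank_pos_iff]
          apply Submodule.nontrivial_iff_ne_bot.mpr
          intro h0
          apply hUtop
          have := hc.sup_eq_top
          rw [h0, sup_bot_eq] at this
          exact this
        have h1 := ih (Module.finrank ℂ US.toSubmodule) (by omega) US.toSubmodule
          US.toRepresentation rfl
        have h2 := ih (Module.finrank ℂ US'.toSubmodule) (by omega) US'.toSubmodule
          US'.toRepresentation rfl
        have heq : ρ.character = US.toRepresentation.character + US'.toRepresentation.character := by
          rw [← char_prod]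
          symm
          apply Representation.char_iso
          refine Representation.Equiv.mk (Submodule.prodEquivOfIsCompl _ _ hc) ?_
          intro g
          ext ⟨v, hv⟩ <;> simp [Representation.prod, Subrepresentation.toRepresentation]
        rw [heq]
        exact add_mem h1 h2
      · rw [not_nontrivial_iff_subsingleton] at hV
        have : ρ.character = 0 := by
          ext g
          simp only [Representation.character, Pi.zero_apply]
          have : ρ g = 0 := Subsingleton.elim _ _
          rw [this, map_zero]
        rw [this]
        exact zero_mem _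

theorem char_mem_closure {V : Type v} [AddCommGroup V] [Module ℂ V] [FiniteDimensional ℂ V]
    (ρ : Representation ℂ G V) :
    ρ.character ∈ AddSubmonoid.closure {χ : G → ℂ | IsIrrCharacter G χ} :=
  char_mem_closure_aux _ V ρ rfl

theorem isCharacter_mem_closure {φ : G → ℂ} (h : IsCharacter G φ) :
    φ ∈ AddSubmonoid.closure {χ : G → ℂ | IsIrrCharacter G χ} := by
  obtain ⟨n, ρ, rfl⟩ := h
  exact char_mem_closure ρ

end Decompose

section Inner

variable {G : Type u} [Group G] [Fintype G]

theorem classInner_add_left (φ₁ φ₂ ψ : G → ℂ) :
    classInner (φ₁ + φ₂) ψ = classInner φ₁ ψ + classInner φ₂ ψ := by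
  simp only [classInner, Pi.add_apply, add_mul, Finset.sum_add_distrib, mul_add]

theorem classInner_add_right (φ ψ₁ ψ₂ : G → ℂ) :
    classInner φ (ψ₁ + ψ₂) = classInner φ ψ₁ + classInner φ ψ₂ := by
  simp only [classInner, Pi.add_apply, map_add, mul_add, Finset.sum_add_distrib]

theorem classInner_smul_left (c : ℂ) (φ ψ : G → ℂ) :
    classInner (c • φ) ψ = c * classInner φ ψ := by
  simp only [classInner, Pi.smul_apply, smul_eq_mul, Finset.mul_sum]
  refine Finset.sum_congr rfl fun g _ => ?_
  ring

theorem classInner_smul_right (c : ℂ) (φ ψ : G → ℂ) :
    classInner φ (c • ψ) = conj c * classInner φ ψ := by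
  simp only [classInner, Pi.smul_apply, smul_eq_mul, Finset.mul_sum, map_mul]
  refine Finset.sum_congr rfl fun g _ => ?_
  ring

theorem classInner_zero_left (ψ : G → ℂ) : classInner (0 : G → ℂ) ψ = 0 := by
  simp [classInner]

theorem classInner_zero_right (φ : G → ℂ) : classInner φ (0 : G → ℂ) = 0 := by
  simp [classInner]

theorem classInner_sum_left {ι : Type*} (s : Finset ι) (f : ι → G → ℂ) (ψ : G → ℂ) :
    classInner (∑ i ∈ s, f i) ψ = ∑ i ∈ s, classInner (f i) ψ := by
  classical
  induction s using Finset.induction_on with
  | empty => simp [classInner_zero_left]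
  | insert a s ha ih => rw [Finset.sum_insert ha, Finset.sum_insert ha, classInner_add_left, ih]

theorem classInner_sum_right {ι : Type*} (s : Finset ι) (φ : G → ℂ) (f : ι → G → ℂ) :
    classInner φ (∑ i ∈ s, f i) = ∑ i ∈ s, classInner φ (f i) := by
  classical
  induction s using Finset.induction_on with
  | empty => simp [classInner_zero_right]
  | insert a s ha ih => rw [Finset.sum_insert ha, Finset.sum_insert ha, classInner_add_right, ih]

theorem classInner_conj_symm (φ ψ : G → ℂ) : conj (classInner φ ψ) = classInner ψ φ := by
  simp only [classInner, map_mul, map_inv₀, map_natCast, map_sum, Complex.conj_conj]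
  congr 1
  refine Finset.sum_congr rfl fun g _ => ?_
  ring

/-- `⟨φ, φ⟩ = 0` forces `φ = 0`. -/
theorem classInner_self_eq_zero {φ : G → ℂ} (h : classInner φ φ = 0) : φ = 0 := by
  have hcard : (Nat.card G : ℂ) ≠ 0 := by exact_mod_cast (Nat.card_pos (α := G)).ne'
  simp only [classInner, mul_eq_zero, inv_eq_zero, hcard, false_or] at h
  have h2 : ∑ g : G, Complex.normSq (φ g) = 0 := by
    have : ((∑ g : G, Complex.normSq (φ g) : ℝ) : ℂ) = 0 := by
      rw [← h]
      push_cast
      refine Finset.sum_congr rfl fun g _ => ?_
      rw [Complex.mul_conj]
    exact_mod_cast this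
  ext g
  have := (Finset.sum_eq_zero_iff_of_nonneg (fun g _ => Complex.normSq_nonneg (φ g))).mp h2 g
    (Finset.mem_univ g)
  simpa using this

/-- **First orthogonality relation** for irreducible characters. -/
theorem irr_orthogonality {χ ψ : G → ℂ} (hχ : IsIrrCharacter G χ) (hψ : IsIrrCharacter G ψ) :
    classInner χ ψ = if χ = ψ then 1 else 0 := by
  classical
  obtain ⟨n, ρ, hρ, rfl⟩ := hχ
  obtain ⟨m, σ, hσ, rfl⟩ := hψ
  have hcard : (Nat.card G : ℂ) ≠ 0 := by exact_mod_cast (Nat.card_pos (α := G)).ne'
  haveI : Invertible (Nat.card G : ℂ) := invertibleOfNonzero hcard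
  have key := Representation.char_orthonormal ρ σ
  have hinner : classInner ρ.character σ.character =
      (Nat.card G : ℂ)⁻¹ * ∑ g, ρ.character g * σ.character g⁻¹ := by
    simp only [classInner]
    congr 1
    refine Finset.sum_congr rfl fun g _ => ?_
    rw [char_inv]
  rw [hinner, key]
  by_cases hne : Nonempty (σ.Equiv ρ)
  · obtain ⟨φ⟩ := hne
    have := Representation.char_iso φ
    rw [if_pos ⟨φ⟩, if_pos this.symm]
  · rw [if_neg hne]
    by_cases heq : ρ.character = σ.character
    · exfalso
      rw [if_neg hne] at key
      have h0 : classInner ρ.character ρ.character = 0 := by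
        have e1 : classInner ρ.character ρ.character =
            (Nat.card G : ℂ)⁻¹ * ∑ g, ρ.character g * ρ.character g⁻¹ := by
          simp only [classInner]
          congr 1
          refine Finset.sum_congr rfl fun g _ => ?_
          rw [char_inv]
        have e2 : ∑ g, ρ.character g * ρ.character g⁻¹ =
            ∑ g, ρ.character g * σ.character g⁻¹ := by
          refine Finset.sum_congr rfl fun g _ => ?_
          rw [heq]
        rw [e1, e2, key]
      have h1 := classInner_self_eq_zero h0
      have h2 := congrFun h1 1
      rw [Representation.char_one] at h2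
      rw [isIrreducible_iff] at hρ
      obtain ⟨hnt, -⟩ := hρ
      have : 0 < Module.finrank ℂ (Fin n → ℂ) := Module.finrank_pos
      simp only [Pi.zero_apply] at h2
      have h3 : (Module.finrank ℂ (Fin n → ℂ) : ℂ) ≠ 0 := by exact_mod_cast this.ne'
      exact h3 h2
    · rw [if_neg heq]

theorem irr_orthogonality' (χ ψ : IrrCharacter G) :
    classInner (χ : G → ℂ) (ψ : G → ℂ) = if χ = ψ then 1 else 0 := by
  rw [irr_orthogonality χ.2 ψ.2]
  by_cases h : χ = ψ
  · rw [if_pos h, if_pos (congrArg Subtype.val h)]
  · rw [if_neg h, if_neg (fun h' => h (Subtype.ext h'))]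

theorem irr_linearIndependent :
    LinearIndependent ℂ (fun χ : IrrCharacter G => (χ : G → ℂ)) := by
  classical
  rw [linearIndependent_iff']
  intro s c hc χ hχ
  have h1 : classInner (∑ i ∈ s, c i • (i : G → ℂ)) (χ : G → ℂ) = 0 := by
    rw [hc, classInner_zero_left]
  rw [classInner_sum_left] at h1
  simp only [classInner_smul_left, irr_orthogonality'] at h1
  rw [Finset.sum_eq_single χ] at h1
  · simpa using h1
  · intro b _ hb
    rw [if_neg hb, mul_zero]
  · intro h
    exact absurd hχ h

theorem irr_finite : Finite (IrrCharacter G) :=
  (irr_linearIndependent (G := G)).finite_of_isNoetherian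

end Inner

section InnerFinite

variable {G : Type u} [Group G] [Finite G]

theorem irr_finite' : Finite (IrrCharacter G) := by
  haveI := Fintype.ofFinite G
  exact irr_finite

/-- A `Fintype` structure on the irreducible characters of a finite group. -/
noncomputable def irrFintype : Fintype (IrrCharacter G) :=
  haveI := irr_finite' (G := G)
  Fintype.ofFinite _

end InnerFinite

section Multiplicity

variable {G : Type u} [Group G] [Fintype G] [Fintype (IrrCharacter G)]

/-- Any function in the additive closure of the irreducible characters (in particular any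
character) has natural-number multiplicities and is the sum of its constituents. -/
theorem closure_decomp {φ : G → ℂ}
    (h : φ ∈ AddSubmonoid.closure {χ : G → ℂ | IsIrrCharacter G χ}) :
    (∀ χ : IrrCharacter G, ∃ m : ℕ, classInner φ (χ : G → ℂ) = m) ∧
      φ = ∑ χ : IrrCharacter G, classInner φ (χ : G → ℂ) • (χ : G → ℂ) := by
  classical
  induction h using AddSubmonoid.closure_induction with
  | mem x hx =>
    constructor
    · intro χ
      rw [irr_orthogonality hx χ.2]
      by_cases h : x = χ
      · exact ⟨1, by simp [h]⟩
      · exact ⟨0, by simp [h]⟩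
    · have : ∀ χ : IrrCharacter G, classInner x (χ : G → ℂ) • (χ : G → ℂ) =
          if χ = ⟨x, hx⟩ then x else 0 := by
        intro χ
        rw [irr_orthogonality hx χ.2]
        by_cases h : χ = ⟨x, hx⟩
        · rw [if_pos h]
          subst h
          simp
        · rw [if_neg h]
          have : x ≠ (χ : G → ℂ) := fun h' => h (Subtype.ext h'.symm)
          rw [if_neg this, zero_smul]
      simp only [this]
      rw [Finset.sum_ite_eq']
      simp
  | zero =>
    constructor
    · intro χ
      exact ⟨0, by simp [classInner_zero_left]⟩
    · simp [classInner_zero_left]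
  | add x y _ _ hx hy =>
    obtain ⟨hx1, hx2⟩ := hx
    obtain ⟨hy1, hy2⟩ := hy
    constructor
    · intro χ
      obtain ⟨a, ha⟩ := hx1 χ
      obtain ⟨b, hb⟩ := hy1 χ
      exact ⟨a + b, by rw [classInner_add_left, ha, hb]; push_cast; ring⟩
    · simp only [classInner_add_left, add_smul, Finset.sum_add_distrib]
      rw [← hx2, ← hy2]

theorem isCharacter_decomp {φ : G → ℂ} (h : IsCharacter G φ) :
    (∀ χ : IrrCharacter G, ∃ m : ℕ, classInner φ (χ : G → ℂ) = m) ∧
      φ = ∑ χ : IrrCharacter G, classInner φ (χ : G → ℂ) • (χ : G → ℂ) :=
  closure_decomp (isCharacter_mem_closure h)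

end Multiplicity

end Cfsg.Agent.Helper24
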