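import Mathlib
import Cfsg.Prelude.Def_Blocks
import Cfsg.Agent.Lib.Helper24.CharBasic
import Cfsg.Agent.Lib.Helper24.CharOrtho

/-!
# Completeness of the irreducible characters, second orthogonality (helper24's shared library)
-/

set_option autoImplicit false

namespace Cfsg.Agent.Helper24

open Cfsg Module

universe u v

open scoped ComplexConjugate

section Operator

variable {G : Type u} [Group G] [Fintype G]

/-- The operator `∑ g, f g • ρ g⁻¹` attached to a function `f` on `G` and a representation. -/
noncomputable def fnOp {V : Type v} [AddCommGroup V] [Module ℂ V] (f : G → ℂ)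
    (ρ : Representation ℂ G V) : Module.End ℂ V :=
  ∑ g : G, f g • ρ g⁻¹

theorem fnOp_apply {V : Type v} [AddCommGroup V] [Module ℂ V] (f : G → ℂ)
    (ρ : Representation ℂ G V) (v : V) : fnOp f ρ v = ∑ g : G, f g • ρ g⁻¹ v := by
  simp [fnOp, LinearMap.sum_apply]

/-- For a class function `f`, the operator `fnOp f ρ` commutes with the representation. -/
theorem fnOp_comm {V : Type v} [AddCommGroup V] [Module ℂ V] {f : G → ℂ}
    (hf : IsClassFunction G f) (ρ : Representation ℂ G V) (h : G) :
    fnOp f ρ ∘ₗ ρ h = ρ h ∘ₗ fnOp f ρ := by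
  ext v
  simp only [LinearMap.comp_apply, fnOp_apply, map_sum, map_smul]
  -- reindex the left sum by g ↦ h⁻¹ * g * h
  rw [← Equiv.sum_comp (MulAut.conj h).toEquiv]
  refine Finset.sum_congr rfl fun g _ => ?_
  simp only [MulEquiv.toEquiv_eq_coe, MulEquiv.coe_toEquiv, MulAut.conj_apply]
  rw [hf g h]
  congr 1
  rw [← Module.End.mul_apply, ← map_mul, ← Module.End.mul_apply, ← map_mul]
  congr 2
  group

theorem trace_fnOp {V : Type v} [AddCommGroup V] [Module ℂ V] [FiniteDimensional ℂ V]
    (f : G → ℂ) (ρ : Representation ℂ G V) :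
    LinearMap.trace ℂ V (fnOp f ρ) = (Nat.card G : ℂ) * classInner f ρ.character := by
  have hcard : (Nat.card G : ℂ) ≠ 0 := by exact_mod_cast (Nat.card_pos (α := G)).ne'
  simp only [fnOp, map_sum, map_smul, smul_eq_mul, classInner]
  rw [← mul_assoc, mul_inv_cancel₀ hcard, one_mul]
  refine Finset.sum_congr rfl fun g _ => ?_
  rw [← char_inv]
  rfl

/-- **Schur's lemma**: an endomorphism commuting with an irreducible complex representation is a
scalar. -/
theorem exists_scalar_of_comm {V : Type v} [AddCommGroup V] [Module ℂ V] [FiniteDimensional ℂ V]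
    (ρ : Representation ℂ G V) (hρ : ρ.IsIrreducible) (T : Module.End ℂ V)
    (hT : ∀ h : G, T ∘ₗ ρ h = ρ h ∘ₗ T) : ∃ c : ℂ, T = c • (1 : Module.End ℂ V) := by
  haveI := hρ
  let T' : Representation.IntertwiningMap ρ ρ := ⟨T, hT⟩
  obtain ⟨c, hc⟩ :=
    (Representation.IsIrreducible.algebraMap_intertwiningMap_bijective_of_isAlgClosed
      (ρ := ρ)).2 T'
  refine ⟨c, ?_⟩
  have := congrArg Representation.IntertwiningMap.toLinearMap hc
  rw [Representation.IntertwiningMap.algebraMap_apply] at this
  rw [← show T'.toLinearMap = T from rfl, ← this]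
  rfl

/-- If a class function is orthogonal to the character of an irreducible representation, its
operator on that representation vanishes. -/
theorem fnOp_eq_zero_of_irreducible {V : Type v} [AddCommGroup V] [Module ℂ V]
    [FiniteDimensional ℂ V] {f : G → ℂ} (hf : IsClassFunction G f)
    (ρ : Representation ℂ G V) (hρ : ρ.IsIrreducible)
    (h0 : classInner f ρ.character = 0) : fnOp f ρ = 0 := by
  obtain ⟨c, hc⟩ := exists_scalar_of_comm ρ hρ (fnOp f ρ) (fnOp_comm hf ρ)
  have htr := trace_fnOp f ρ
  rw [h0, mul_zero, hc, map_smul, LinearMap.trace_one, smul_eq_mul] at htr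
  rw [isIrreducible_iff] at hρ
  obtain ⟨hnt, -⟩ := hρ
  have hpos : (Module.finrank ℂ V : ℂ) ≠ 0 := by
    have : 0 < Module.finrank ℂ V := Module.finrank_pos
    exact_mod_cast this.ne'
  have hc0 : c = 0 := by
    rcases mul_eq_zero.mp htr with h | h
    · exact h
    · exact absurd h hpos
  rw [hc, hc0, zero_smul]

/-- If a class function is orthogonal to all irreducible characters, its operator vanishes on every
finite-dimensional representation. -/
theorem fnOp_eq_zero_aux {f : G → ℂ} (hf : IsClassFunction G f)
    (h0 : ∀ χ : G → ℂ, IsIrrCharacter G χ → classInner f χ = 0) (n : ℕ) :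
    ∀ (V : Type v) [AddCommGroup V] [Module ℂ V] [FiniteDimensional ℂ V]
      (ρ : Representation ℂ G V), Module.finrank ℂ V = n → fnOp f ρ = 0 := by
  induction n using Nat.strong_induction_on with
  | _ n ih =>
    intro V _ _ _ ρ hn
    haveI := neZero_card_complex (G := G)
    by_cases hirr : ρ.IsIrreducible
    · exact fnOp_eq_zero_of_irreducible hf ρ hirr (h0 _ (isIrrCharacter_of_rep ρ hirr))
    · by_cases hV : Nontrivial V
      · rw [isIrreducible_iff] at hirr
        push_neg at hirr
        obtain ⟨U, hUinv, hUbot, hUtop⟩ := hirr hV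
        let US : Subrepresentation ρ := ⟨U, fun g v hv => hUinv g v hv⟩
        obtain ⟨US', hcompl⟩ := exists_isCompl US
        have hc : IsCompl US.toSubmodule US'.toSubmodule := by
          constructor
          · rw [disjoint_iff]
            have := hcompl.inf_eq_bot
            exact congrArg Subrepresentation.toSubmodule this
          · rw [codisjoint_iff]
            have := hcompl.sup_eq_top
            exact congrArg Subrepresentation.toSubmodule this
        have hfr := Submodule.finrank_add_eq_of_isCompl hc
        have hpos1 : 0 < Module.finrank ℂ US.toSubmodule := by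
          rw [Module.finrank_pos_iff]
          exact Submodule.nontrivial_iff_ne_bot.mpr hUbot
        have hpos2 : 0 < Module.finrank ℂ US'.toSubmodule := by
          rw [Module.finrank_pos_iff]
          apply Submodule.nontrivial_iff_ne_bot.mpr
          intro h0
          apply hUtop
          have := hc.sup_eq_top
          rw [h0, sup_bot_eq] at this
          exact this
        have h1 := ih (Module.finrank ℂ US.toSubmodule) (by omega) US.toSubmodule
          US.toRepresentation rfl
        have h2 := ih (Module.finrank ℂ US'.toSubmodule) (by omega) US'.toSubmodule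
          US'.toRepresentation rfl
        -- the operator vanishes on both summands
        have hres : ∀ (S : Subrepresentation ρ), fnOp f S.toRepresentation = 0 →
            ∀ v ∈ S.toSubmodule, fnOp f ρ v = 0 := by
          intro S hS v hv
          have := congrArg (fun T => ((T ⟨v, hv⟩ : S.toSubmodule) : V)) hS
          simp only [fnOp_apply, LinearMap.zero_apply, ZeroMemClass.coe_zero] at this
          rw [fnOp_apply, ← this]
          simp [Subrepresentation.toRepresentation]
        apply LinearMap.ext
        intro v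
        have hv : v ∈ US.toSubmodule ⊔ US'.toSubmodule := by
          rw [hc.sup_eq_top]; trivial
        obtain ⟨a, ha, b, hb, rfl⟩ := Submodule.mem_sup.mp hv
        rw [map_add, hres US h1 a ha, hres US' h2 b hb, add_zero, LinearMap.zero_apply]
      · rw [not_nontrivial_iff_subsingleton] at hV
        exact Subsingleton.elim _ _

/-- The left regular representation on functions `G → ℂ`. -/
def regRep (G : Type u) [Group G] : Representation ℂ G (G → ℂ) where
  toFun h :=
    { toFun := fun φ x => φ (h⁻¹ * x)
      map_add' := fun _ _ => rfl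
      map_smul' := fun _ _ => rfl }
  map_one' := by ext φ x; simp
  map_mul' a b := by ext φ x; simp [mul_assoc]

@[simp] theorem regRep_apply (h : G) (φ : G → ℂ) (x : G) : regRep G h φ x = φ (h⁻¹ * x) := rfl

/-- **Completeness**: a class function orthogonal to all irreducible characters is zero. -/
theorem classFunction_eq_zero_of_orthogonal {f : G → ℂ} (hf : IsClassFunction G f)
    (h0 : ∀ χ : G → ℂ, IsIrrCharacter G χ → classInner f χ = 0) : f = 0 := by
  classical
  have h1 := fnOp_eq_zero_aux hf h0 _ (G → ℂ) (regRep G) rfl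
  ext x
  have h2 := congrFun (congrArg (fun T => T (Pi.single 1 1)) h1) x⁻¹
  simp only [fnOp_apply, LinearMap.zero_apply, Pi.zero_apply, Finset.sum_apply, Pi.smul_apply,
    regRep_apply, inv_inv, smul_eq_mul] at h2
  rw [Finset.sum_eq_single x] at h2
  · simpa using h2
  · intro g _ hg
    have : g * x⁻¹ ≠ 1 := fun h => hg (mul_inv_eq_one.mp h)
    simp [Pi.single_apply, this]
  · intro h
    exact absurd (Finset.mem_univ x) h

end Operator

section Complete

variable {G : Type u} [Group G] [Fintype G] [Fintype (IrrCharacter G)]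

omit [Fintype G] [Fintype (IrrCharacter G)] in
theorem isClassFunction_of_isIrrCharacter {χ : G → ℂ} (h : IsIrrCharacter G χ) :
    IsClassFunction G χ := by
  obtain ⟨n, ρ, -, rfl⟩ := h
  intro g h
  exact Representation.char_conj ρ g h

omit [Fintype G] [Fintype (IrrCharacter G)] in
theorem isClassFunction_of_isCharacter {χ : G → ℂ} (h : IsCharacter G χ) :
    IsClassFunction G χ := by
  obtain ⟨n, ρ, rfl⟩ := h
  intro g h
  exact Representation.char_conj ρ g h

/-- Every class function is the combination of the irreducible characters with coefficients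
the inner products. -/
theorem classFunction_expansion {f : G → ℂ} (hf : IsClassFunction G f) :
    f = ∑ χ : IrrCharacter G, classInner f (χ : G → ℂ) • (χ : G → ℂ) := by
  classical
  have hcf : IsClassFunction G
      (f - ∑ χ : IrrCharacter G, classInner f (χ : G → ℂ) • (χ : G → ℂ)) := by
    intro g h
    simp only [Pi.sub_apply, Finset.sum_apply, Pi.smul_apply, smul_eq_mul]
    rw [hf g h]
    congr 1
    refine Finset.sum_congr rfl fun χ _ => ?_
    rw [isClassFunction_of_isIrrCharacter χ.2 g h]
  have := classFunction_eq_zero_of_orthogonal hcf (by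
    intro ψ hψ
    have hsub : classInner (f - ∑ χ : IrrCharacter G, classInner f (χ : G → ℂ) • (χ : G → ℂ)) ψ
        = classInner f ψ -
          classInner (∑ χ : IrrCharacter G, classInner f (χ : G → ℂ) • (χ : G → ℂ)) ψ := by
      have := classInner_add_left
        (f - ∑ χ : IrrCharacter G, classInner f (χ : G → ℂ) • (χ : G → ℂ))
        (∑ χ : IrrCharacter G, classInner f (χ : G → ℂ) • (χ : G → ℂ)) ψ
      rw [sub_add_cancel] at this
      rw [this]
      ring
    rw [hsub, classInner_sum_left]
    simp only [classInner_smul_left]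
    rw [Finset.sum_eq_single (⟨ψ, hψ⟩ : IrrCharacter G)]
    · rw [irr_orthogonality hψ hψ, if_pos rfl, mul_one, sub_self]
    · intro b _ hb
      rw [irr_orthogonality b.2 hψ, if_neg, mul_zero]
      intro h
      exact hb (Subtype.ext h)
    · intro h
      exact absurd (Finset.mem_univ _) h)
  exact sub_eq_zero.mp this

/-- The class function counting the elements conjugating `h` to `x`. -/
noncomputable def conjCount (h : G) : G → ℂ := by
  classical exact fun x => ∑ y : G, if y * h * y⁻¹ = x then (1 : ℂ) else 0

omit [Fintype (IrrCharacter G)] in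
theorem conjCount_isClassFunction (h : G) : IsClassFunction G (conjCount h) := by
  classical
  intro g k
  simp only [conjCount]
  rw [← Equiv.sum_comp (Equiv.mulLeft k)]
  refine Finset.sum_congr rfl fun y _ => ?_
  simp only [Equiv.coe_mulLeft]
  have : k * y * h * (k * y)⁻¹ = k * g * k⁻¹ ↔ y * h * y⁻¹ = g := by
    constructor
    · intro e
      have : k * (y * h * y⁻¹) * k⁻¹ = k * g * k⁻¹ := by rw [← e]; group
      exact mul_left_cancel (mul_right_cancel this)
    · intro e
      rw [← e]; group
  simp only [this]

omit [Fintype (IrrCharacter G)] in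
theorem classInner_conjCount (h : G) {χ : G → ℂ} (hχ : IsClassFunction G χ) :
    classInner (conjCount h) χ = conj (χ h) := by
  classical
  have hcard : (Nat.card G : ℂ) ≠ 0 := by exact_mod_cast (Nat.card_pos (α := G)).ne'
  simp only [classInner, conjCount, Finset.sum_mul]
  rw [Finset.sum_comm]
  have : ∀ y : G, ∑ x : G, (if y * h * y⁻¹ = x then (1 : ℂ) else 0) * conj (χ x) = conj (χ h) := by
    intro y
    rw [Finset.sum_eq_single (y * h * y⁻¹)]
    · simp [hχ h y]
    · intro b _ hb
      rw [if_neg (Ne.symm hb), zero_mul]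
    · intro hh
      exact absurd (Finset.mem_univ _) hh
  simp only [this, Finset.sum_const, Finset.card_univ, nsmul_eq_mul]
  rw [← mul_assoc, ← Nat.card_eq_fintype_card, inv_mul_cancel₀ hcard, one_mul]

/-- **Second orthogonality relation**, in counting form. -/
theorem second_orthogonality (g h : G) :
    ∑ χ : IrrCharacter G, (χ : G → ℂ) g * conj ((χ : G → ℂ) h) =
      (Nat.card {y : G // y * h * y⁻¹ = g} : ℂ) := by
  classical
  have h1 := classFunction_expansion (conjCount_isClassFunction h)
  have h2 := congrFun h1 g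
  simp only [Finset.sum_apply, Pi.smul_apply, smul_eq_mul] at h2
  have h3 : ∀ χ : IrrCharacter G, classInner (conjCount h) (χ : G → ℂ) = conj ((χ : G → ℂ) h) :=
    fun χ => classInner_conjCount h (isClassFunction_of_isIrrCharacter χ.2)
  simp only [h3] at h2
  have h4 : conjCount h g = (Nat.card {y : G // y * h * y⁻¹ = g} : ℂ) := by
    simp only [conjCount]
    rw [Finset.sum_boole, Nat.card_eq_fintype_card, Fintype.card_subtype]
  rw [← h4, h2]
  refine Finset.sum_congr rfl fun χ _ => ?_
  ring

omit [Fintype G] [Fintype (IrrCharacter G)] in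
theorem card_conj_eq_of_isConj {g h : G} (hc : IsConj h g) :
    Nat.card {y : G // y * h * y⁻¹ = g} = Nat.card (Subgroup.centralizer ({h} : Set G)) := by
  obtain ⟨c, hc⟩ := isConj_iff.mp hc
  apply Nat.card_congr
  refine ⟨fun y => ⟨c⁻¹ * y.1, ?_⟩, fun z => ⟨c * z.1, ?_⟩, ?_, ?_⟩
  · rw [Subgroup.mem_centralizer_iff]
    intro x hx
    rw [Set.mem_singleton_iff] at hx
    subst hx
    have hy : y.1 * x * y.1⁻¹ = c * x * c⁻¹ := y.2.trans hc.symm
    have : c⁻¹ * (y.1 * x * y.1⁻¹) * c = x := by rw [hy]; group
    calc x * (c⁻¹ * y.1) = (c⁻¹ * (y.1 * x * y.1⁻¹) * c) * (c⁻¹ * y.1) := by rw [this]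
      _ = c⁻¹ * y.1 * x := by group
  · have hz := z.2
    rw [Subgroup.mem_centralizer_iff] at hz
    have := hz h (Set.mem_singleton h)
    calc c * z.1 * h * (c * z.1)⁻¹ = c * (z.1 * h) * z.1⁻¹ * c⁻¹ := by group
      _ = c * (h * z.1) * z.1⁻¹ * c⁻¹ := by rw [this]
      _ = c * h * c⁻¹ := by group
      _ = g := hc
  · intro y
    ext
    simp
  · intro z
    ext
    simp

omit [Fintype G] [Fintype (IrrCharacter G)] in
theorem card_conj_eq_zero_of_not_isConj {g h : G} (hc : ¬ IsConj h g) :
    Nat.card {y : G // y * h * y⁻¹ = g} = 0 := by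
  haveI : IsEmpty {y : G // y * h * y⁻¹ = g} := by
    constructor
    rintro ⟨y, hy⟩
    exact hc (isConj_iff.mpr ⟨y, hy⟩)
  exact Nat.card_of_isEmpty

/-- **Second orthogonality relation**. -/
theorem second_orthogonality' (g h : G) [Decidable (IsConj h g)] :
    ∑ χ : IrrCharacter G, (χ : G → ℂ) g * conj ((χ : G → ℂ) h) =
      if IsConj h g then (Nat.card (Subgroup.centralizer ({h} : Set G)) : ℂ) else 0 := by
  rw [second_orthogonality]
  split_ifs with hc
  · rw [card_conj_eq_of_isConj hc]
  · rw [card_conj_eq_zero_of_not_isConj hc, Nat.cast_zero]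

end Complete

section Degree

variable {G : Type u} [Group G]

/-- The value at `1` of an irreducible character is a positive natural number. -/
theorem irr_one_eq {χ : G → ℂ} (h : IsIrrCharacter G χ) : ∃ n : ℕ, 0 < n ∧ χ 1 = n := by
  obtain ⟨n, ρ, hρ, rfl⟩ := h
  rw [isIrreducible_iff] at hρ
  obtain ⟨hnt, -⟩ := hρ
  refine ⟨Module.finrank ℂ (Fin n → ℂ), Module.finrank_pos, ?_⟩
  rw [Representation.char_one]

theorem char_one_eq {χ : G → ℂ} (h : IsCharacter G χ) : ∃ n : ℕ, χ 1 = n := by
  obtain ⟨n, ρ, rfl⟩ := h
  exact ⟨Module.finrank ℂ (Fin n → ℂ), by rw [Representation.char_one]⟩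

theorem charDegree_natCast (n : ℕ) {χ : G → ℂ} (h : χ 1 = n) : charDegree χ = n := by
  simp [charDegree, h]

theorem irr_one_eq_charDegree {χ : G → ℂ} (h : IsIrrCharacter G χ) :
    χ 1 = (charDegree χ : ℂ) := by
  obtain ⟨n, -, hn⟩ := irr_one_eq h
  rw [charDegree_natCast n hn, hn]

theorem charDegree_pos {χ : G → ℂ} (h : IsIrrCharacter G χ) : 0 < charDegree χ := by
  obtain ⟨n, hpos, hn⟩ := irr_one_eq h
  rw [charDegree_natCast n hn]
  exact hpos

theorem char_one_eq_charDegree {χ : G → ℂ} (h : IsCharacter G χ) :
    χ 1 = (charDegree χ : ℂ) := by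
  obtain ⟨n, hn⟩ := char_one_eq h
  rw [charDegree_natCast n hn, hn]

variable [Fintype G] [Fintype (IrrCharacter G)]

/-- The sum of the squares of the irreducible character degrees is the group order. -/
theorem sum_charDegree_sq :
    ∑ χ : IrrCharacter G, charDegree (χ : G → ℂ) ^ 2 = Nat.card G := by
  classical
  have h := second_orthogonality' (1 : G) (1 : G)
  rw [if_pos (IsConj.refl 1)] at h
  have hc : Nat.card (Subgroup.centralizer ({1} : Set G)) = Nat.card G := by
    have : Subgroup.centralizer ({1} : Set G) = ⊤ := by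
      rw [eq_top_iff]
      intro x _
      rw [Subgroup.mem_centralizer_iff]
      intro y hy
      rw [Set.mem_singleton_iff] at hy
      subst hy
      simp
    rw [this, Subgroup.card_top]
  rw [hc] at h
  have : ∀ χ : IrrCharacter G, (χ : G → ℂ) 1 * conj ((χ : G → ℂ) 1) =
      ((charDegree (χ : G → ℂ) ^ 2 : ℕ) : ℂ) := by
    intro χ
    rw [irr_one_eq_charDegree χ.2]
    simp [sq]
  simp only [this] at h
  exact_mod_cast h

/-- The number of irreducible characters equals the number of conjugacy classes. -/
theorem card_irr_eq_card_conjClasses :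
    Nat.card (IrrCharacter G) = Nat.card (ConjClasses G) := by
  classical
  have hcardpos : 0 < Nat.card G := Nat.card_pos
  have hcard : (Nat.card G : ℂ) ≠ 0 := by exact_mod_cast hcardpos.ne'
  -- double count `∑ g ∑ χ |χ g|²`
  have h1 : ∑ g : G, ∑ χ : IrrCharacter G, (χ : G → ℂ) g * conj ((χ : G → ℂ) g) =
      ((Nat.card {p : G × G // Commute p.1 p.2} : ℕ) : ℂ) := by
    simp only [second_orthogonality]
    rw [← Nat.cast_sum]
    congr 1
    simp only [Nat.card_eq_fintype_card]
    rw [← Fintype.card_sigma]
    apply Fintype.card_congr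
    refine ⟨fun x => ⟨(x.1, x.2.1), ?_⟩, fun p => ⟨p.1.1, ⟨p.1.2, ?_⟩⟩, ?_, ?_⟩
    · have := x.2.2
      show Commute x.1 x.2.1
      rw [commute_iff_eq]
      have h2 : x.2.1 * x.1 * x.2.1⁻¹ * x.2.1 = x.1 * x.2.1 := by rw [this]
      rw [← h2]; group
    · have := p.2
      rw [commute_iff_eq] at this
      calc p.1.2 * p.1.1 * p.1.2⁻¹ = (p.1.1 * p.1.2) * p.1.2⁻¹ := by rw [this]
        _ = p.1.1 := by group
    · intro x; rfl
    · intro p; rfl
  have h2 : ∑ g : G, ∑ χ : IrrCharacter G, (χ : G → ℂ) g * conj ((χ : G → ℂ) g) =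
      (Nat.card G : ℂ) * (Nat.card (IrrCharacter G) : ℂ) := by
    rw [Finset.sum_comm]
    have : ∀ χ : IrrCharacter G, ∑ g : G, (χ : G → ℂ) g * conj ((χ : G → ℂ) g) = Nat.card G := by
      intro χ
      have := irr_orthogonality χ.2 χ.2
      rw [if_pos rfl, classInner] at this
      field_simp at this
      rw [this]
    simp only [this, Finset.sum_const, Finset.card_univ, nsmul_eq_mul, Nat.card_eq_fintype_card]
    ring
  rw [h1, card_comm_eq_card_conjClasses_mul_card] at h2
  have h3 : Nat.card (ConjClasses G) * Nat.card G = Nat.card G * Nat.card (IrrCharacter G) := by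
    exact_mod_cast h2
  rw [mul_comm] at h3
  exact (Nat.eq_of_mul_eq_mul_left hcardpos h3).symm

end Degree

end Cfsg.Agent.Helper24
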