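import Mathlib
import Cfsg.Prelude.Def_Blocks
import Cfsg.Agent.Lib.Helper24.CharBasic
import Cfsg.Agent.Lib.Helper24.CharOrtho
import Cfsg.Agent.Lib.Helper24.CharComplete

/-!
# Class sums act as scalars; central characters (helper24's shared library)
-/

set_option autoImplicit false

namespace Cfsg.Agent.Helper24

open Cfsg Module

universe u v

open scoped ComplexConjugate

section ClassSum

variable {G : Type u} [Group G] [Fintype G]

/-- On an irreducible representation, the sum of `ρ (y a y⁻¹)` over `y` is the scalar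
`|G| χ(a) / χ(1)`. -/
theorem sum_conj_rep {V : Type v} [AddCommGroup V] [Module ℂ V] [FiniteDimensional ℂ V]
    (ρ : Representation ℂ G V) (hρ : ρ.IsIrreducible) (a : G) :
    ∑ y : G, ρ (y * a * y⁻¹) =
      ((Nat.card G : ℂ) * ρ.character a / ρ.character 1) • (1 : Module.End ℂ V) := by
  have hcomm : ∀ h : G, (∑ y : G, ρ (y * a * y⁻¹)) ∘ₗ ρ h = ρ h ∘ₗ (∑ y : G, ρ (y * a * y⁻¹)) := by
    intro h
    ext v
    simp only [LinearMap.comp_apply, LinearMap.sum_apply, map_sum]
    rw [← Equiv.sum_comp (Equiv.mulLeft h)]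
    refine Finset.sum_congr rfl fun y _ => ?_
    simp only [Equiv.coe_mulLeft]
    rw [← Module.End.mul_apply, ← map_mul, ← Module.End.mul_apply, ← map_mul]
    congr 2
    group
  obtain ⟨c, hc⟩ := exists_scalar_of_comm ρ hρ _ hcomm
  have htr : LinearMap.trace ℂ V (∑ y : G, ρ (y * a * y⁻¹)) = (Nat.card G : ℂ) * ρ.character a := by
    rw [map_sum]
    have : ∀ y : G, LinearMap.trace ℂ V (ρ (y * a * y⁻¹)) = ρ.character a := fun y =>
      Representation.char_conj ρ a y
    simp only [this, Finset.sum_const, Finset.card_univ, nsmul_eq_mul, Nat.card_eq_fintype_card]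
  rw [hc, map_smul, LinearMap.trace_one, smul_eq_mul] at htr
  rw [isIrreducible_iff] at hρ
  obtain ⟨hnt, -⟩ := hρ
  have hpos : (Module.finrank ℂ V : ℂ) ≠ 0 := by
    have : 0 < Module.finrank ℂ V := Module.finrank_pos
    exact_mod_cast this.ne'
  rw [hc, Representation.char_one, ← htr]
  congr 1
  field_simp

/-- The classical formula `∑_y χ(x · y a y⁻¹) = |G| χ(x) χ(a) / χ(1)` for irreducible `χ`. -/
theorem sum_char_mul_conj {χ : G → ℂ} (hχ : IsIrrCharacter G χ) (x a : G) :
    ∑ y : G, χ (x * (y * a * y⁻¹)) = (Nat.card G : ℂ) * χ x * χ a / χ 1 := by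
  obtain ⟨n, ρ, hρ, rfl⟩ := hχ
  have h := sum_conj_rep ρ hρ a
  have h2 := congrArg (fun T => LinearMap.trace ℂ _ (ρ x * T)) h
  simp only [Finset.mul_sum, map_sum, mul_smul_comm, mul_one, map_smul, smul_eq_mul] at h2
  have h3 : ∀ y : G, ρ.character (x * (y * a * y⁻¹)) =
      LinearMap.trace ℂ _ (ρ x * ρ (y * a * y⁻¹)) := by
    intro y
    rw [Representation.character, map_mul]
  simp only [h3]
  rw [h2]
  simp only [Representation.character]
  ring

/-- The operator of an irreducible character `ψ` on an irreducible representation `ρ` is the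
scalar `|G| ⟨ψ, χ_ρ⟩ / χ_ρ(1)`. -/
theorem fnOp_irr {V : Type v} [AddCommGroup V] [Module ℂ V] [FiniteDimensional ℂ V]
    {ψ : G → ℂ} (hψ : IsClassFunction G ψ) (ρ : Representation ℂ G V) (hρ : ρ.IsIrreducible) :
    fnOp ψ ρ = ((Nat.card G : ℂ) * classInner ψ ρ.character / ρ.character 1) •
      (1 : Module.End ℂ V) := by
  obtain ⟨c, hc⟩ := exists_scalar_of_comm ρ hρ (fnOp ψ ρ) (fnOp_comm hψ ρ)
  have htr := trace_fnOp ψ ρ
  rw [hc, map_smul, LinearMap.trace_one, smul_eq_mul] at htr
  rw [isIrreducible_iff] at hρ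
  obtain ⟨hnt, -⟩ := hρ
  have hpos : (Module.finrank ℂ V : ℂ) ≠ 0 := by
    have : 0 < Module.finrank ℂ V := Module.finrank_pos
    exact_mod_cast this.ne'
  rw [hc, Representation.char_one, ← htr]
  congr 1
  field_simp

/-- **Generalized orthogonality relation**:
`∑_g ψ(g) χ(g⁻¹ w) = δ_{ψ,χ} |G| χ(w) / χ(1)` for irreducible characters. -/
theorem generalized_orthogonality {χ ψ : G → ℂ} (hχ : IsIrrCharacter G χ)
    (hψ : IsIrrCharacter G ψ) (w : G) :
    ∑ g : G, ψ g * χ (g⁻¹ * w) = if ψ = χ then (Nat.card G : ℂ) * χ w / χ 1 else 0 := by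
  have hψc := isClassFunction_of_isIrrCharacter hψ
  have hinner := irr_orthogonality hψ hχ
  obtain ⟨n, ρ, hρ, rfl⟩ := hχ
  have h := fnOp_irr hψc ρ hρ
  have h2 := congrArg (fun T => LinearMap.trace ℂ _ (T * ρ w)) h
  simp only [fnOp, Finset.sum_mul, map_sum, smul_mul_assoc, one_mul, map_smul, smul_eq_mul] at h2
  have h3 : ∀ g : G, ρ.character (g⁻¹ * w) = LinearMap.trace ℂ _ (ρ g⁻¹ * ρ w) := by
    intro g
    rw [Representation.character, map_mul]
  simp only [h3]
  rw [h2, hinner]
  split_ifs with he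
  · simp only [Representation.character]
    ring
  · simp

end ClassSum

end Cfsg.Agent.Helper24
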