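import Mathlib
import Cfsg.Prelude.Def_Blocks
import Cfsg.Agent.Lib.Helper24.CharBasic
import Cfsg.Agent.Lib.Helper24.CharOrtho
import Cfsg.Agent.Lib.Helper24.CharComplete
import Cfsg.Agent.Lib.Helper24.CharCentral

/-!
# Linear characters (helper24's shared library)
-/

set_option autoImplicit false

namespace Cfsg.Agent.Helper24

open Cfsg Module

universe u v

open scoped ComplexConjugate

section Linear

variable {G : Type u} [Group G]

/-- A one-dimensional representation is irreducible. -/
theorem isIrreducible_of_finrank_eq_one {V : Type v} [AddCommGroup V] [Module ℂ V]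
    (ρ : Representation ℂ G V) (h : Module.finrank ℂ V = 1) : ρ.IsIrreducible := by
  rw [isIrreducible_iff]
  haveI : FiniteDimensional ℂ V := Module.finite_of_finrank_eq_succ h
  have hnt : Nontrivial V := by
    apply (Module.finrank_pos_iff (R := ℂ) (M := V)).mp
    rw [h]; exact one_pos
  refine ⟨hnt, ?_⟩
  intro U _
  have hle := Submodule.finrank_le U
  rw [h] at hle
  rcases Nat.le_one_iff_eq_zero_or_eq_one.mp hle with h0 | h1
  · left
    exact Submodule.finrank_eq_zero.mp h0
  · right
    apply Submodule.eq_top_of_finrank_eq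
    rw [h1, h]

/-- The one-dimensional representation attached to a homomorphism to `ℂˣ`. -/
def linRep (f : G →* ℂˣ) : Representation ℂ G ℂ where
  toFun g := ((f g : ℂˣ) : ℂ) • LinearMap.id
  map_one' := by ext; simp
  map_mul' a b := by
    ext
    simp [mul_comm]

theorem linRep_character (f : G →* ℂˣ) : (linRep f).character = fun g => ((f g : ℂˣ) : ℂ) := by
  ext g
  simp [Representation.character, linRep]

/-- A homomorphism `G →* ℂˣ` is an irreducible character. -/
theorem isIrrCharacter_of_monoidHom (f : G →* ℂˣ) :
    IsIrrCharacter G (fun g => ((f g : ℂˣ) : ℂ)) := by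
  rw [← linRep_character]
  exact isIrrCharacter_of_rep _ (isIrreducible_of_finrank_eq_one _ (Module.finrank_self ℂ))

/-- The principal character is irreducible. -/
theorem isIrrCharacter_one : IsIrrCharacter G (fun _ => (1 : ℂ)) := by
  have := isIrrCharacter_of_monoidHom (1 : G →* ℂˣ)
  simpa using this

/-- The principal character as an element of `IrrCharacter G`. -/
def principalChar (G : Type u) [Group G] : IrrCharacter G := ⟨fun _ => (1 : ℂ), isIrrCharacter_one⟩

/-- Character values are bounded in norm by the degree. -/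
theorem norm_le_charDegree [Finite G] {χ : G → ℂ} (h : IsCharacter G χ) (g : G) :
    ‖χ g‖ ≤ charDegree χ := by
  obtain ⟨n, ρ, rfl⟩ := h
  have h1 := norm_char_le ρ g
  have h2 : charDegree ρ.character = Module.finrank ℂ (Fin n → ℂ) :=
    charDegree_natCast _ (Representation.char_one ρ)
  rw [h2]
  exact h1

theorem isCharacter_of_isIrrCharacter {χ : G → ℂ} (h : IsIrrCharacter G χ) : IsCharacter G χ := by
  obtain ⟨n, ρ, -, rfl⟩ := h
  exact ⟨n, ρ, rfl⟩

theorem irr_inv [Finite G] {χ : G → ℂ} (h : IsCharacter G χ) (g : G) : χ g⁻¹ = conj (χ g) := by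
  obtain ⟨n, ρ, rfl⟩ := h
  exact char_inv ρ g

theorem isIntegral_of_isCharacter [Finite G] {χ : G → ℂ} (h : IsCharacter G χ) (g : G) :
    IsIntegral ℤ (χ g) := by
  obtain ⟨n, ρ, rfl⟩ := h
  exact isIntegral_char ρ g

end Linear

end Cfsg.Agent.Helper24
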