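import Mathlib
import Cfsg.Prelude.Def_Blocks
import Cfsg.Agent.Lib.Helper24.CharBasic
import Cfsg.Agent.Lib.Helper24.CharOrtho
import Cfsg.Agent.Lib.Helper24.CharComplete
import Cfsg.Agent.Lib.Helper24.CharCentral
import Cfsg.Agent.Lib.Helper24.CharLinear

/-!
# Integrality of central characters; the degree divides the group order (helper24's shared library)
-/

set_option autoImplicit false

namespace Cfsg.Agent.Helper24

open Cfsg Module

universe u v

open scoped ComplexConjugate

section ClassCount

variable {G : Type u} [Group G] [Fintype G]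

/-- Summing `F (y a y⁻¹)` over `y` counts every conjugate of `a` exactly `|C_G(a)|` times. -/
theorem sum_conj_eq_card_mul_sum_filter [DecidableEq G] (a : G) [DecidablePred (IsConj a)]
    (F : G → ℂ) :
    ∑ y : G, F (y * a * y⁻¹) =
      (Nat.card (Subgroup.centralizer ({a} : Set G)) : ℂ) *
        ∑ b ∈ Finset.univ.filter (IsConj a), F b := by
  have h1 : ∀ y : G, F (y * a * y⁻¹) = ∑ b : G, if y * a * y⁻¹ = b then F b else 0 := by
    intro y
    rw [Finset.sum_ite_eq, if_pos (Finset.mem_univ _)]
  simp only [h1]
  rw [Finset.sum_comm, Finset.mul_sum, Finset.sum_filter]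
  refine Finset.sum_congr rfl fun b _ => ?_
  have h2 : ∑ y : G, (if y * a * y⁻¹ = b then F b else 0) =
      (Nat.card {y : G // y * a * y⁻¹ = b} : ℂ) * F b := by
    rw [← Finset.sum_filter, Finset.sum_const, nsmul_eq_mul, Nat.card_eq_fintype_card,
      Fintype.card_subtype]
  rw [h2]
  split_ifs with hc
  · rw [card_conj_eq_of_isConj hc]
  · rw [card_conj_eq_zero_of_not_isConj hc]
    simp

/-- The size of a conjugacy class is the index of the centralizer. -/
theorem card_filter_isConj [DecidableEq G] (a : G) [DecidablePred (IsConj a)] :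
    (Finset.univ.filter (IsConj a)).card = (Subgroup.centralizer ({a} : Set G)).index := by
  have h := sum_conj_eq_card_mul_sum_filter a (fun _ => (1 : ℂ))
  simp only [Finset.sum_const, Finset.card_univ, nsmul_eq_mul, mul_one] at h
  have h2 := Subgroup.card_mul_index (Subgroup.centralizer ({a} : Set G))
  rw [← Nat.card_eq_fintype_card, ← h2] at h
  have hpos : (Nat.card (Subgroup.centralizer ({a} : Set G)) : ℂ) ≠ 0 := by
    exact_mod_cast (Nat.card_pos (α := Subgroup.centralizer ({a} : Set G))).ne'
  push_cast at h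
  have := mul_left_cancel₀ hpos h
  exact_mod_cast this.symm

end ClassCount

section Integrality

variable {G : Type u} [Group G] [Fintype G]

/-- The central character value times a character value is an integral combination of character
values: `ω_χ(a) χ(x) = ∑_{b ∼ a} χ(x b)`. -/
theorem centralChar_mul_eq_sum [DecidableEq G] {χ : G → ℂ} (hχ : IsIrrCharacter G χ) (a x : G)
    [DecidablePred (IsConj a)] :
    centralChar χ a * χ x = ∑ b ∈ Finset.univ.filter (IsConj a), χ (x * b) := by
  have h1 := sum_char_mul_conj hχ x a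
  rw [sum_conj_eq_card_mul_sum_filter a (fun b => χ (x * b))] at h1
  have h2 := Subgroup.card_mul_index (Subgroup.centralizer ({a} : Set G))
  have hpos : (Nat.card (Subgroup.centralizer ({a} : Set G)) : ℂ) ≠ 0 := by
    exact_mod_cast (Nat.card_pos (α := Subgroup.centralizer ({a} : Set G))).ne'
  have h3 : (Nat.card G : ℂ) = (Nat.card (Subgroup.centralizer ({a} : Set G)) : ℂ) *
      ((Subgroup.centralizer ({a} : Set G)).index : ℂ) := by
    rw [← h2]; push_cast; ring
  rw [h3] at h1
  have h4 : (Nat.card (Subgroup.centralizer ({a} : Set G)) : ℂ) *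
      ∑ b ∈ Finset.univ.filter (IsConj a), χ (x * b) =
      (Nat.card (Subgroup.centralizer ({a} : Set G)) : ℂ) * (centralChar χ a * χ x) := by
    rw [h1, centralChar]
    ring
  exact (mul_left_cancel₀ hpos h4).symm

/-- Central character values of irreducible characters are algebraic integers. -/
theorem isIntegral_centralChar {χ : G → ℂ} (hχ : IsIrrCharacter G χ) (a : G) :
    IsIntegral ℤ (centralChar χ a) := by
  classical
  let N : Submodule ℤ ℂ := Submodule.span ℤ (Set.range χ)
  have hN : N ≠ ⊥ := by
    intro h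
    have h1 : χ 1 ∈ N := Submodule.subset_span ⟨1, rfl⟩
    rw [h, Submodule.mem_bot] at h1
    obtain ⟨n, hn, h2⟩ := irr_one_eq hχ
    rw [h2] at h1
    have : (n : ℂ) ≠ 0 := by exact_mod_cast hn.ne'
    exact this h1
  have hfg : N.FG := Submodule.fg_span (Set.finite_range χ)
  refine isIntegral_of_smul_mem_submodule N hN hfg (centralChar χ a) ?_
  intro n hn
  induction hn using Submodule.span_induction with
  | mem z hz =>
    obtain ⟨x, rfl⟩ := hz
    rw [smul_eq_mul, centralChar_mul_eq_sum hχ a x]
    exact Submodule.sum_mem _ fun b _ => Submodule.subset_span ⟨x * b, rfl⟩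
  | zero => simp
  | add u v _ _ hu hv =>
    rw [smul_add]
    exact Submodule.add_mem _ hu hv
  | smul k u _ hu =>
    rw [smul_comm]
    exact Submodule.smul_mem _ _ hu

omit [Fintype G] in
theorem classFunction_eq_of_isConj {f : G → ℂ} (hf : IsClassFunction G f) {a b : G}
    (h : IsConj a b) : f a = f b := by
  obtain ⟨c, hc⟩ := isConj_iff.mp h
  rw [← hc, hf a c]

/-- Summing a class function over the group, organised by conjugacy classes. -/
theorem sum_classFunction_eq [DecidableEq G] [Fintype (ConjClasses G)] {f : G → ℂ}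
    (hf : IsClassFunction G f) :
    ∑ g : G, f g = ∑ K : ConjClasses G,
      ((Subgroup.centralizer ({Quotient.out K} : Set G)).index : ℂ) * f (Quotient.out K) := by
  classical
  rw [← Finset.sum_fiberwise Finset.univ (ConjClasses.mk) f]
  refine Finset.sum_congr rfl fun K _ => ?_
  have hK : ConjClasses.mk (Quotient.out K) = K := Quotient.out_eq K
  have h1 : ∀ g ∈ Finset.univ.filter (fun g : G => ConjClasses.mk g = K), f g = f (Quotient.out K) := by
    intro g hg
    rw [Finset.mem_filter] at hg
    have : IsConj g (Quotient.out K) := by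
      rw [← ConjClasses.mk_eq_mk_iff_isConj, hK]
      exact hg.2
    exact classFunction_eq_of_isConj hf this
  rw [Finset.sum_congr rfl h1, Finset.sum_const, nsmul_eq_mul]
  congr 1
  rw [← card_filter_isConj (Quotient.out K)]
  congr 2
  ext g
  simp only [Finset.mem_filter, Finset.mem_univ, true_and]
  rw [← hK, ConjClasses.mk_eq_mk_iff_isConj, hK, isConj_comm]

/-- `|G| / χ(1)` is an algebraic integer. -/
theorem isIntegral_card_div_degree {χ : G → ℂ} (hχ : IsIrrCharacter G χ) :
    IsIntegral ℤ ((Nat.card G : ℂ) / χ 1) := by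
  classical
  have hcf := isClassFunction_of_isIrrCharacter hχ
  have horth := irr_orthogonality hχ hχ
  rw [if_pos rfl, classInner] at horth
  have hcard : (Nat.card G : ℂ) ≠ 0 := by exact_mod_cast (Nat.card_pos (α := G)).ne'
  have h1 : ∑ g : G, χ g * conj (χ g) = Nat.card G := by
    field_simp at horth
    exact horth
  have hcf2 : IsClassFunction G (fun g => χ g * conj (χ g)) := by
    intro g h
    simp only [hcf g h]
  rw [sum_classFunction_eq hcf2] at h1
  obtain ⟨n, hn, hn1⟩ := irr_one_eq hχ
  have hn0 : (n : ℂ) ≠ 0 := by exact_mod_cast hn.ne'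
  have h2 : (Nat.card G : ℂ) / χ 1 = ∑ K : ConjClasses G,
      centralChar χ (Quotient.out K) * conj (χ (Quotient.out K)) := by
    rw [← h1, Finset.sum_div]
    refine Finset.sum_congr rfl fun K _ => ?_
    rw [centralChar]
    ring
  rw [h2]
  refine IsIntegral.sum _ fun K _ => ?_
  refine IsIntegral.mul (isIntegral_centralChar hχ _) ?_
  have := isIntegral_of_isCharacter (isCharacter_of_isIrrCharacter hχ) (Quotient.out K)⁻¹
  rwa [irr_inv (isCharacter_of_isIrrCharacter hχ)] at this

/-- **The degree of an irreducible character divides the group order.** -/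
theorem charDegree_dvd_card {χ : G → ℂ} (hχ : IsIrrCharacter G χ) :
    charDegree χ ∣ Nat.card G := by
  have h := isIntegral_card_div_degree hχ
  obtain ⟨n, hn, hn1⟩ := irr_one_eq hχ
  rw [charDegree_natCast n hn1]
  rw [hn1] at h
  have hn0 : (n : ℚ) ≠ 0 := by exact_mod_cast hn.ne'
  have h2 : ((Nat.card G : ℂ) / (n : ℂ)) = algebraMap ℚ ℂ ((Nat.card G : ℚ) / (n : ℚ)) := by
    simp
  rw [h2, isIntegral_algebraMap_iff (algebraMap ℚ ℂ).injective] at h
  obtain ⟨m, hm⟩ := IsIntegrallyClosed.isIntegral_iff.mp h
  have h3 : (m : ℚ) * n = Nat.card G := by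
    have : (algebraMap ℤ ℚ m) = (m : ℚ) := rfl
    rw [this] at hm
    rw [hm]
    field_simp
  have h4 : (m * (n : ℤ)) = (Nat.card G : ℤ) := by exact_mod_cast h3
  have h5 : (n : ℤ) ∣ (Nat.card G : ℤ) := ⟨m, by rw [← h4]; ring⟩
  exact_mod_cast h5

end Integrality

end Cfsg.Agent.Helper24
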