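import Mathlib
import Cfsg.Prelude.Def_Blocks
import Cfsg.Agent.Lib.Helper24.CharBasic
import Cfsg.Agent.Lib.Helper24.CharOrtho
import Cfsg.Agent.Lib.Helper24.CharComplete
import Cfsg.Agent.Lib.Helper24.CharCentral
import Cfsg.Agent.Lib.Helper24.CharLinear
import Cfsg.Agent.Lib.Helper24.CharIntegral

/-!
# Characters and group homomorphisms: restriction, inflation, kernels, quotients
(helper24's shared library)
-/

set_option autoImplicit false

namespace Cfsg.Agent.Helper24

open Cfsg Module

universe u v w

open scoped ComplexConjugate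

section Comp

variable {G : Type u} [Group G] {H : Type w} [Group H]

/-- Pulling back a character along a group homomorphism gives a character
(restriction to subgroups, inflation from quotients). -/
theorem isCharacter_comp (f : H →* G) {χ : G → ℂ} (h : IsCharacter G χ) :
    IsCharacter H (χ ∘ f) := by
  obtain ⟨n, ρ, rfl⟩ := h
  exact ⟨n, ρ.comp f, rfl⟩

/-- Pulling back an irreducible character along a surjective homomorphism gives an irreducible
character. -/
theorem isIrrCharacter_comp_of_surjective (f : H →* G) (hf : Function.Surjective f) {χ : G → ℂ}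
    (h : IsIrrCharacter G χ) : IsIrrCharacter H (χ ∘ f) := by
  obtain ⟨n, ρ, hρ, rfl⟩ := h
  refine ⟨n, ρ.comp f, ?_, rfl⟩
  rw [isIrreducible_iff] at hρ ⊢
  refine ⟨hρ.1, fun U hU => hρ.2 U ?_⟩
  intro g v hv
  obtain ⟨k, rfl⟩ := hf g
  exact hU k v hv

/-- Restriction of a character to a subgroup is a character. -/
theorem isCharacter_restrict (K : Subgroup G) {χ : G → ℂ} (h : IsCharacter G χ) :
    IsCharacter K (fun k : K => χ k) :=
  isCharacter_comp K.subtype h

/-- Inflation of an irreducible character of a quotient. -/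
theorem isIrrCharacter_inflate (N : Subgroup G) [N.Normal] {χ : G ⧸ N → ℂ}
    (h : IsIrrCharacter (G ⧸ N) χ) : IsIrrCharacter G (χ ∘ (QuotientGroup.mk : G → G ⧸ N)) :=
  isIrrCharacter_comp_of_surjective (QuotientGroup.mk' N) (QuotientGroup.mk'_surjective N) h

end Comp

section Kernel

variable {G : Type u} [Group G] [Finite G]

/-- The kernel of a character, as a subgroup: the elements where the character takes its value
at the identity. -/
def charKer {χ : G → ℂ} (h : IsCharacter G χ) : Subgroup G where
  carrier := {g | χ g = χ 1}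
  one_mem' := rfl
  mul_mem' := by
    intro a b ha hb
    obtain ⟨n, ρ, rfl⟩ := h
    simp only [Set.mem_setOf_eq] at ha hb ⊢
    rw [Representation.char_one, char_eq_finrank_iff] at ha hb ⊢
    rw [map_mul, ha, hb, mul_one]
  inv_mem' := by
    intro a ha
    obtain ⟨n, ρ, rfl⟩ := h
    simp only [Set.mem_setOf_eq] at ha ⊢
    rw [Representation.char_one, char_eq_finrank_iff] at ha ⊢
    have : ρ a⁻¹ * ρ a = 1 := by rw [← map_mul, inv_mul_cancel, map_one]
    rwa [ha, mul_one] at this

theorem mem_charKer {χ : G → ℂ} (h : IsCharacter G χ) (g : G) :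
    g ∈ charKer h ↔ χ g = χ 1 := Iff.rfl

theorem charKer_normal {χ : G → ℂ} (h : IsCharacter G χ) : (charKer h).Normal := by
  constructor
  intro n hn g
  rw [mem_charKer] at hn ⊢
  rw [isClassFunction_of_isCharacter h n g, hn]

theorem card_charKer {χ : G → ℂ} (h : IsCharacter G χ) :
    Nat.card {g : G // χ g = χ 1} = Nat.card (charKer h) := rfl

/-- A character is constant on cosets of its kernel. -/
theorem char_mul_of_mem_charKer {χ : G → ℂ} (h : IsCharacter G χ) {k : G} (hk : k ∈ charKer h)
    (g : G) : χ (g * k) = χ g := by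
  have hk' : χ k = χ 1 := hk
  clear hk
  obtain ⟨n, ρ, rfl⟩ := h
  rw [Representation.char_one, char_eq_finrank_iff] at hk'
  simp only [Representation.character]
  rw [map_mul, hk', mul_one]

/-- **Deflation**: an irreducible character whose kernel contains the normal subgroup `N` comes from
an irreducible character of `G ⧸ N`. -/
theorem exists_deflate (N : Subgroup G) [N.Normal] {χ : G → ℂ} (h : IsIrrCharacter G χ)
    (hN : ∀ n ∈ N, χ n = χ 1) :
    ∃ ψ : G ⧸ N → ℂ, IsIrrCharacter (G ⧸ N) ψ ∧ χ = ψ ∘ (QuotientGroup.mk : G → G ⧸ N) := by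
  obtain ⟨n, ρ, hρ, rfl⟩ := h
  have hker : N ≤ ρ.ker := by
    intro k hk
    rw [MonoidHom.mem_ker]
    have := hN k hk
    rwa [Representation.char_one, char_eq_finrank_iff] at this
  let σ : Representation ℂ (G ⧸ N) (Fin n → ℂ) := QuotientGroup.lift N ρ hker
  refine ⟨σ.character, ⟨n, σ, ?_, rfl⟩, ?_⟩
  · rw [isIrreducible_iff] at hρ ⊢
    refine ⟨hρ.1, fun U hU => hρ.2 U ?_⟩
    intro g v hv
    have := hU (QuotientGroup.mk g) v hv
    simpa [σ] using this
  · ext g
    simp [Representation.character, σ]

/-- Deflation for arbitrary characters. -/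
theorem exists_deflate_char (N : Subgroup G) [N.Normal] {χ : G → ℂ} (h : IsCharacter G χ)
    (hN : ∀ n ∈ N, χ n = χ 1) :
    ∃ ψ : G ⧸ N → ℂ, IsCharacter (G ⧸ N) ψ ∧ χ = ψ ∘ (QuotientGroup.mk : G → G ⧸ N) := by
  obtain ⟨n, ρ, rfl⟩ := h
  have hker : N ≤ ρ.ker := by
    intro k hk
    rw [MonoidHom.mem_ker]
    have := hN k hk
    rwa [Representation.char_one, char_eq_finrank_iff] at this
  let σ : Representation ℂ (G ⧸ N) (Fin n → ℂ) := QuotientGroup.lift N ρ hker
  refine ⟨σ.character, ⟨n, σ, rfl⟩, ?_⟩
  ext g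
  simp [Representation.character, σ]

end Kernel

end Cfsg.Agent.Helper24
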