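import Mathlib
import Cfsg.Prelude.Def_Blocks
import Cfsg.Agent.Lib.Helper24.CharHom

/-!
# Sums, products, conjugates of characters; irreducibility criterion; generalized characters
(helper24's shared library)
-/

set_option autoImplicit false

namespace Cfsg.Agent.Helper24

open Cfsg Module

universe u

open scoped ComplexConjugate

section Algebra

variable {G : Type u} [Group G]

theorem isCharacter_zero : IsCharacter G 0 := by
  refine ⟨0, 1, ?_⟩
  ext g
  simp only [Representation.character, Pi.zero_apply]
  have : (1 : Representation ℂ G (Fin 0 → ℂ)) g = 0 := by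
    ext v i
    exact i.elim0
  rw [this, map_zero]

theorem isCharacter_add {χ ψ : G → ℂ} (hχ : IsCharacter G χ) (hψ : IsCharacter G ψ) :
    IsCharacter G (χ + ψ) := by
  obtain ⟨n, ρ, rfl⟩ := hχ
  obtain ⟨m, σ, rfl⟩ := hψ
  have : ρ.character + σ.character = (ρ.prod σ).character := by
    ext g
    simp only [Representation.character, Pi.add_apply]
    exact (LinearMap.trace_prodMap' _ _).symm
  rw [this]
  exact isCharacter_of_rep _

theorem isCharacter_mul {χ ψ : G → ℂ} (hχ : IsCharacter G χ) (hψ : IsCharacter G ψ) :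
    IsCharacter G (χ * ψ) := by
  obtain ⟨n, ρ, rfl⟩ := hχ
  obtain ⟨m, σ, rfl⟩ := hψ
  rw [← Representation.char_tensor]
  exact isCharacter_of_rep _

theorem isCharacter_one : IsCharacter G (fun _ => (1 : ℂ)) :=
  isCharacter_of_isIrrCharacter isIrrCharacter_one

theorem isCharacter_conj [Finite G] {χ : G → ℂ} (hχ : IsCharacter G χ) :
    IsCharacter G (fun g => conj (χ g)) := by
  obtain ⟨n, ρ, rfl⟩ := hχ
  have : (fun g => conj (ρ.character g)) = ρ.dual.character := by
    ext g
    rw [Representation.char_dual, char_inv]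
  rw [this]
  exact isCharacter_of_rep _

theorem isCharacter_sum {ι : Type*} (s : Finset ι) (f : ι → G → ℂ)
    (h : ∀ i ∈ s, IsCharacter G (f i)) : IsCharacter G (∑ i ∈ s, f i) := by
  classical
  induction s using Finset.induction_on with
  | empty => simpa using isCharacter_zero
  | insert a s ha ih =>
    rw [Finset.sum_insert ha]
    exact isCharacter_add (h a (Finset.mem_insert_self a s))
      (ih fun i hi => h i (Finset.mem_insert_of_mem hi))

theorem isCharacter_nsmul (n : ℕ) {χ : G → ℂ} (hχ : IsCharacter G χ) :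
    IsCharacter G (n • χ) := by
  induction n with
  | zero => simpa using isCharacter_zero
  | succ k ih =>
    rw [succ_nsmul]
    exact isCharacter_add ih hχ

theorem isCharacter_natCast_smul (n : ℕ) {χ : G → ℂ} (hχ : IsCharacter G χ) :
    IsCharacter G ((n : ℂ) • χ) := by
  have : (n : ℂ) • χ = n • χ := by
    ext g
    simp
  rw [this]
  exact isCharacter_nsmul n hχ

theorem isCharacter_of_mem_closure {φ : G → ℂ}
    (h : φ ∈ AddSubmonoid.closure {χ : G → ℂ | IsIrrCharacter G χ}) : IsCharacter G φ := by
  induction h using AddSubmonoid.closure_induction with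
  | mem x hx => exact isCharacter_of_isIrrCharacter hx
  | zero => exact isCharacter_zero
  | add x y _ _ hx hy => exact isCharacter_add hx hy

theorem isCharacter_iff_mem_closure [Finite G] {φ : G → ℂ} :
    IsCharacter G φ ↔ φ ∈ AddSubmonoid.closure {χ : G → ℂ | IsIrrCharacter G χ} := by
  haveI := Fintype.ofFinite G
  exact ⟨isCharacter_mem_closure, isCharacter_of_mem_closure⟩

/-- A character of degree one is multiplicative. -/
theorem char_mul_of_degree_one {χ : G → ℂ} (hχ : IsCharacter G χ) (h1 : χ 1 = 1) (a b : G) :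
    χ (a * b) = χ a * χ b := by
  obtain ⟨n, ρ, rfl⟩ := hχ
  have d1 : Module.finrank ℂ (Fin n → ℂ) = 1 := by
    rw [Representation.char_one] at h1
    exact_mod_cast h1
  obtain ⟨c, hc, -⟩ := LinearMap.existsUnique_eq_smul_id_of_finrank_eq_one d1 (ρ a)
  obtain ⟨d, hd, -⟩ := LinearMap.existsUnique_eq_smul_id_of_finrank_eq_one d1 (ρ b)
  simp only [Representation.character, map_mul]
  rw [hc, hd, show (LinearMap.id : (Fin n → ℂ) →ₗ[ℂ] (Fin n → ℂ)) = 1 from rfl]
  simp only [smul_mul_smul_comm, mul_one, map_smul, LinearMap.trace_one, d1, Nat.cast_one,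
    smul_eq_mul]

/-- A character of degree one as a homomorphism to the units of `ℂ`. -/
noncomputable def linHom {χ : G → ℂ} (hχ : IsCharacter G χ) (h1 : χ 1 = 1) : G →* ℂˣ :=
  MonoidHom.toHomUnits
    { toFun := χ
      map_one' := h1
      map_mul' := char_mul_of_degree_one hχ h1 }

@[simp] theorem linHom_apply {χ : G → ℂ} (hχ : IsCharacter G χ) (h1 : χ 1 = 1) (g : G) :
    ((linHom hχ h1 g : ℂˣ) : ℂ) = χ g := rfl

/-- A character of degree one is irreducible. -/
theorem isIrrCharacter_of_degree_one {χ : G → ℂ} (hχ : IsCharacter G χ) (h1 : χ 1 = 1) :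
    IsIrrCharacter G χ := by
  have := isIrrCharacter_of_monoidHom (linHom hχ h1)
  simpa using this

end Algebra


section Parseval

variable {G : Type u} [Group G] [Fintype G] [Fintype (IrrCharacter G)]

/-- Parseval: the inner product of a class function with any function, through the
multiplicities. -/
theorem classInner_eq_sum_mul {φ : G → ℂ} (hφ : IsClassFunction G φ) (θ : G → ℂ) :
    classInner φ θ =
      ∑ ψ : IrrCharacter G, classInner φ (ψ : G → ℂ) * conj (classInner θ (ψ : G → ℂ)) := by
  conv_lhs => rw [classFunction_expansion hφ]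
  rw [classInner_sum_left]
  refine Finset.sum_congr rfl fun ψ _ => ?_
  rw [classInner_smul_left, classInner_conj_symm θ]

/-- The inner product of two characters is a natural number. -/
theorem classInner_char_nat {χ ψ : G → ℂ} (hχ : IsCharacter G χ) (hψ : IsCharacter G ψ) :
    ∃ n : ℕ, classInner χ ψ = n := by
  rw [classInner_eq_sum_mul (isClassFunction_of_isCharacter hχ)]
  have h1 := (isCharacter_decomp hχ).1
  have h2 := (isCharacter_decomp hψ).1
  choose a ha using h1
  choose b hb using h2
  refine ⟨∑ θ : IrrCharacter G, a θ * b θ, ?_⟩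
  push_cast
  refine Finset.sum_congr rfl fun θ _ => ?_
  rw [ha, hb, Complex.conj_natCast]

/-- The inner product of characters is symmetric. -/
theorem classInner_char_comm {χ ψ : G → ℂ} (hχ : IsCharacter G χ) (hψ : IsCharacter G ψ) :
    classInner χ ψ = classInner ψ χ := by
  obtain ⟨n, hn⟩ := classInner_char_nat hψ hχ
  rw [← classInner_conj_symm ψ χ, hn, Complex.conj_natCast]

/-- **Irreducibility criterion**: a character of norm one is irreducible. -/
theorem isIrrCharacter_of_classInner_self_eq_one {χ : G → ℂ} (hχ : IsCharacter G χ)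
    (h : classInner χ χ = 1) : IsIrrCharacter G χ := by
  classical
  obtain ⟨h1, h2⟩ := isCharacter_decomp hχ
  choose a ha using h1
  rw [classInner_eq_sum_mul (isClassFunction_of_isCharacter hχ)] at h
  have hsum : ∑ θ : IrrCharacter G, a θ * a θ = 1 := by
    have : ((∑ θ : IrrCharacter G, a θ * a θ : ℕ) : ℂ) = 1 := by
      rw [← h]
      push_cast
      refine Finset.sum_congr rfl fun θ _ => ?_
      rw [ha, Complex.conj_natCast]
    exact_mod_cast this
  obtain ⟨θ₀, -, hθ₀⟩ : ∃ θ ∈ (Finset.univ : Finset (IrrCharacter G)), a θ * a θ ≠ 0 := by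
    apply Finset.exists_ne_zero_of_sum_ne_zero
    rw [hsum]
    exact one_ne_zero
  have hsplit := Finset.add_sum_erase Finset.univ (fun θ => a θ * a θ) (Finset.mem_univ θ₀)
  rw [hsum] at hsplit
  have ha0 : a θ₀ ≠ 0 := fun h0 => hθ₀ (by rw [h0])
  have ha1 : a θ₀ = 1 := by
    have : a θ₀ * a θ₀ ≤ 1 := by
      calc a θ₀ * a θ₀ ≤ a θ₀ * a θ₀ + ∑ x ∈ Finset.univ.erase θ₀, a x * a x := Nat.le_add_right _ _
        _ = 1 := hsplit
    have h3 : a θ₀ ≤ 1 := by nlinarith
    omega
  have hrest : ∑ x ∈ Finset.univ.erase θ₀, a x * a x = 0 := by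
    rw [ha1] at hsplit
    omega
  have hzero : ∀ θ : IrrCharacter G, θ ≠ θ₀ → a θ = 0 := by
    intro θ hθ
    have := (Finset.sum_eq_zero_iff.mp hrest) θ (Finset.mem_erase.mpr ⟨hθ, Finset.mem_univ _⟩)
    exact (mul_self_eq_zero).mp this
  have : χ = (θ₀ : G → ℂ) := by
    rw [h2, Finset.sum_eq_single θ₀]
    · rw [ha, ha1]
      simp
    · intro θ _ hθ
      rw [ha, hzero θ hθ]
      simp
    · intro hn
      exact absurd (Finset.mem_univ _) hn
  rw [this]
  exact θ₀.2

theorem isIrrCharacter_iff {χ : G → ℂ} :
    IsIrrCharacter G χ ↔ IsCharacter G χ ∧ classInner χ χ = 1 := by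
  constructor
  · intro h
    refine ⟨isCharacter_of_isIrrCharacter h, ?_⟩
    rw [irr_orthogonality h h, if_pos rfl]
  · rintro ⟨h1, h2⟩
    exact isIrrCharacter_of_classInner_self_eq_one h1 h2

/-- The complex conjugate of an irreducible character is irreducible. -/
theorem isIrrCharacter_conj {χ : G → ℂ} (hχ : IsIrrCharacter G χ) :
    IsIrrCharacter G (fun g => conj (χ g)) := by
  apply isIrrCharacter_of_classInner_self_eq_one
      (isCharacter_conj (isCharacter_of_isIrrCharacter hχ))
  have h := irr_orthogonality hχ hχ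
  rw [if_pos rfl] at h
  rw [← h]
  unfold classInner
  congr 1
  refine Finset.sum_congr rfl fun g _ => ?_
  rw [Complex.conj_conj, mul_comm]

/-- The product of an irreducible character with a linear character is irreducible. -/
theorem isIrrCharacter_mul_linear {χ lam : G → ℂ} (hχ : IsIrrCharacter G χ)
    (hl : IsCharacter G lam) (h1 : lam 1 = 1) : IsIrrCharacter G (χ * lam) := by
  apply isIrrCharacter_of_classInner_self_eq_one
      (isCharacter_mul (isCharacter_of_isIrrCharacter hχ) hl)
  have h := irr_orthogonality hχ hχ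
  rw [if_pos rfl] at h
  rw [← h]
  unfold classInner
  congr 1
  refine Finset.sum_congr rfl fun g _ => ?_
  have hn : lam g * conj (lam g) = 1 := by
    have hinv : lam g⁻¹ = conj (lam g) := irr_inv hl g
    rw [← hinv, ← char_mul_of_degree_one hl h1, mul_inv_cancel, h1]
  simp only [Pi.mul_apply, map_mul]
  calc χ g * lam g * (conj (χ g) * conj (lam g))
      = χ g * conj (χ g) * (lam g * conj (lam g)) := by ring
    _ = χ g * conj (χ g) := by rw [hn, mul_one]

end Parseval

end Cfsg.Agent.Helper24
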