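import Mathlib
import Cfsg.Prelude.Def_Blocks
import Cfsg.Agent.Lib.Helper24.CharAlgebra

/-!
# Induced class functions and induced characters (helper24's shared library)
-/

set_option autoImplicit false

namespace Cfsg.Agent.Helper24

open Cfsg Module

universe u

open scoped ComplexConjugate

section ExtendByZero

variable {G : Type u} [Group G]

theorem extendByZero_of_mem (H : Subgroup G) (θ : H → ℂ) {u : G} (h : u ∈ H) :
    extendByZero H θ u = θ ⟨u, h⟩ := by
  unfold extendByZero
  exact Subtype.val_injective.extend_apply θ 0 ⟨u, h⟩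

theorem extendByZero_of_not_mem (H : Subgroup G) (θ : H → ℂ) {u : G} (h : u ∉ H) :
    extendByZero H θ u = 0 := by
  unfold extendByZero
  rw [Function.extend_apply']
  · rfl
  · rintro ⟨a, rfl⟩
    exact h a.2

@[simp] theorem extendByZero_coe (H : Subgroup G) (θ : H → ℂ) (u : H) :
    extendByZero H θ (u : G) = θ u :=
  extendByZero_of_mem H θ u.2

theorem extendByZero_add (H : Subgroup G) (θ η : H → ℂ) :
    extendByZero H (θ + η) = extendByZero H θ + extendByZero H η := by
  ext u
  by_cases hu : u ∈ H
  · simp [extendByZero_of_mem H _ hu]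
  · simp [extendByZero_of_not_mem H _ hu]

theorem extendByZero_smul (H : Subgroup G) (c : ℂ) (θ : H → ℂ) :
    extendByZero H (c • θ) = c • extendByZero H θ := by
  ext u
  by_cases hu : u ∈ H
  · simp [extendByZero_of_mem H _ hu]
  · simp [extendByZero_of_not_mem H _ hu]

/-- A sum over `G` of a function vanishing off the subgroup `H` is the sum over `H`. -/
theorem sum_eq_sum_subgroup [Fintype G] (H : Subgroup G) [Fintype H] (f : G → ℂ)
    (h0 : ∀ x ∉ H, f x = 0) : ∑ x : G, f x = ∑ h : H, f (h : G) := by
  classical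
  have h1 : ∑ x ∈ (Finset.univ : Finset H).map ⟨Subtype.val, Subtype.val_injective⟩, f x =
      ∑ x : G, f x := by
    apply Finset.sum_subset (Finset.subset_univ _)
    intro x _ hx
    apply h0
    intro hxH
    apply hx
    rw [Finset.mem_map]
    exact ⟨⟨x, hxH⟩, Finset.mem_univ _, rfl⟩
  rw [← h1, Finset.sum_map]
  rfl

end ExtendByZero

section Induced

variable {G : Type u} [Group G] [Fintype G]

theorem indFun_apply (H : Subgroup G) (θ : H → ℂ) (g : G) :
    indFun H θ g = (Nat.card H : ℂ)⁻¹ * ∑ x : G, extendByZero H θ (x⁻¹ * g * x) := rfl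

theorem indFun_add (H : Subgroup G) (θ η : H → ℂ) :
    indFun H (θ + η) = indFun H θ + indFun H η := by
  ext g
  simp only [indFun_apply, Pi.add_apply, extendByZero_add, Finset.sum_add_distrib, mul_add]

theorem indFun_smul (H : Subgroup G) (c : ℂ) (θ : H → ℂ) :
    indFun H (c • θ) = c • indFun H θ := by
  ext g
  simp only [indFun_apply, Pi.smul_apply, extendByZero_smul, smul_eq_mul, ← Finset.mul_sum]
  ring

theorem isClassFunction_indFun (H : Subgroup G) (θ : H → ℂ) :
    IsClassFunction G (indFun H θ) := by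
  intro g h
  rw [indFun_apply, indFun_apply]
  congr 1
  have := Equiv.sum_comp (Equiv.mulLeft h)
    (fun y => extendByZero H θ (y⁻¹ * (h * g * h⁻¹) * y))
  rw [← this]
  refine Finset.sum_congr rfl fun x _ => ?_
  congr 1
  simp only [Equiv.coe_mulLeft]
  group

/-- **Frobenius reciprocity** for class functions. -/
theorem frobenius_reciprocity (H : Subgroup G) [Fintype H] (θ : H → ℂ) {χ : G → ℂ}
    (hχ : IsClassFunction G χ) :
    classInner (indFun H θ) χ = classInner θ (fun h : H => χ h) := by
  unfold classInner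
  simp only [indFun_apply]
  have h1 : ∀ g : G,
      (Nat.card H : ℂ)⁻¹ * (∑ x : G, extendByZero H θ (x⁻¹ * g * x)) * conj (χ g) =
      (Nat.card H : ℂ)⁻¹ *
        ∑ x : G, extendByZero H θ (x⁻¹ * g * x) * conj (χ (x⁻¹ * g * x)) := by
    intro g
    rw [mul_assoc, Finset.sum_mul]
    congr 1
    refine Finset.sum_congr rfl fun x _ => ?_
    have := hχ g x⁻¹
    rw [inv_inv] at this
    rw [this]
  rw [Finset.sum_congr rfl (fun g _ => h1 g), ← Finset.mul_sum, Finset.sum_comm]
  have h2 : ∀ x : G, ∑ g : G, extendByZero H θ (x⁻¹ * g * x) * conj (χ (x⁻¹ * g * x)) =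
      ∑ u : G, extendByZero H θ u * conj (χ u) := by
    intro x
    exact Equiv.sum_comp ((Equiv.mulLeft x⁻¹).trans (Equiv.mulRight x))
      (fun u => extendByZero H θ u * conj (χ u))
  rw [Finset.sum_congr rfl (fun x _ => h2 x), Finset.sum_const, Finset.card_univ, nsmul_eq_mul]
  have h3 : ∑ u : G, extendByZero H θ u * conj (χ u) = ∑ h : H, θ h * conj (χ h) := by
    rw [sum_eq_sum_subgroup H]
    · refine Finset.sum_congr rfl fun h _ => ?_
      rw [extendByZero_coe]
    · intro x hx
      rw [extendByZero_of_not_mem H θ hx, zero_mul]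
  rw [h3]
  have hG : (Nat.card G : ℂ) ≠ 0 := by
    have : Nat.card G ≠ 0 := Nat.card_pos.ne'
    exact_mod_cast this
  rw [← Nat.card_eq_fintype_card]
  field_simp

/-- **Induced characters are characters.** -/
theorem isCharacter_indFun (H : Subgroup G) {φ : H → ℂ} (hφ : IsCharacter H φ) :
    IsCharacter G (indFun H φ) := by
  classical
  letI : Fintype (IrrCharacter G) := irrFintype
  haveI : Fintype H := Fintype.ofFinite H
  letI : Fintype (IrrCharacter H) := irrFintype
  rw [classFunction_expansion (isClassFunction_indFun H φ)]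
  apply isCharacter_sum
  intro ψ _
  have hψc : IsCharacter G (ψ : G → ℂ) := isCharacter_of_isIrrCharacter ψ.2
  rw [frobenius_reciprocity H φ (isClassFunction_of_isCharacter hψc)]
  obtain ⟨n, hn⟩ := classInner_char_nat hφ (isCharacter_restrict H hψc)
  rw [hn]
  exact isCharacter_natCast_smul n hψc

/-- The degree of an induced function. -/
theorem indFun_one (H : Subgroup G) (θ : H → ℂ) :
    indFun H θ 1 = (H.index : ℂ) * θ 1 := by
  rw [indFun_apply]
  have : ∀ x : G, extendByZero H θ (x⁻¹ * 1 * x) = θ 1 := by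
    intro x
    rw [mul_one, inv_mul_cancel]
    exact extendByZero_of_mem H θ H.one_mem
  simp only [this, Finset.sum_const, Finset.card_univ, nsmul_eq_mul]
  have hH : (Nat.card H : ℂ) ≠ 0 := by
    have : Nat.card H ≠ 0 := Nat.card_pos.ne'
    exact_mod_cast this
  rw [← Nat.card_eq_fintype_card, ← H.card_mul_index]
  push_cast
  field_simp

end Induced

end Cfsg.Agent.Helper24
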