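import Mathlib
import Cfsg.Prelude.Def_Blocks
import Cfsg.Agent.Lib.Helper24.CharAlgebra

/-!
# Linear characters, their number, abelian groups (helper24's shared library)
-/

set_option autoImplicit false

namespace Cfsg.Agent.Helper24

open Cfsg Module

universe u

open scoped ComplexConjugate commutatorElement

section LinearCount

variable {G : Type u} [Group G]

/-- Linear characters (irreducible characters with value `1` at `1`) correspond to homomorphisms
`G →* ℂˣ`. -/
noncomputable def linearCharEquiv (G : Type u) [Group G] :
    {χ : IrrCharacter G // (χ : G → ℂ) 1 = 1} ≃ (G →* ℂˣ) where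
  toFun χ := linHom (isCharacter_of_isIrrCharacter χ.1.2) χ.2
  invFun f := ⟨⟨fun g => ((f g : ℂˣ) : ℂ), isIrrCharacter_of_monoidHom f⟩, by simp⟩
  left_inv χ := by
    apply Subtype.ext
    apply Subtype.ext
    funext g
    simp
  right_inv f := by
    ext g
    simp

theorem charDegree_eq_one_iff {χ : G → ℂ} (h : IsIrrCharacter G χ) :
    charDegree χ = 1 ↔ χ 1 = 1 := by
  rw [irr_one_eq_charDegree h]
  exact_mod_cast Iff.rfl

/-- The number of homomorphisms `G →* ℂˣ` is the index of the commutator subgroup. -/
theorem card_monoidHom_units [Finite G] : Nat.card (G →* ℂˣ) = (commutator G).index := by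
  rw [Nat.card_congr (Abelianization.lift (G := G) (A := ℂˣ))]
  rw [CommGroup.card_monoidHom_of_hasEnoughRootsOfUnity (Abelianization G) ℂ]
  rfl

/-- The number of linear characters is the index of the commutator subgroup. -/
theorem card_linear_characters [Finite G] :
    Nat.card {χ : IrrCharacter G // (χ : G → ℂ) 1 = 1} = (commutator G).index := by
  rw [Nat.card_congr (linearCharEquiv G), card_monoidHom_units]

theorem card_linear_characters' [Finite G] :
    Nat.card {χ : IrrCharacter G // charDegree (χ : G → ℂ) = 1} = (commutator G).index := by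
  rw [← card_linear_characters]
  apply Nat.card_congr
  apply Equiv.subtypeEquivRight
  intro χ
  exact charDegree_eq_one_iff χ.2

end LinearCount


section Abelian

variable {G : Type u} [Group G] [Fintype G] [Fintype (IrrCharacter G)]

/-- In an abelian group, every irreducible character is linear. -/
theorem charDegree_eq_one_of_comm (hcomm : ∀ a b : G, a * b = b * a) {χ : G → ℂ}
    (h : IsIrrCharacter G χ) : charDegree χ = 1 := by
  classical
  have hbij : Function.Bijective (ConjClasses.mk : G → ConjClasses G) := by
    refine ⟨?_, ConjClasses.mk_surjective⟩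
    intro a b hab
    rw [ConjClasses.mk_eq_mk_iff_isConj, isConj_iff] at hab
    obtain ⟨c, hc⟩ := hab
    rw [← hc, hcomm c a, mul_inv_cancel_right]
  have hcard : Nat.card (IrrCharacter G) = Nat.card G := by
    rw [card_irr_eq_card_conjClasses]
    exact (Nat.card_congr (Equiv.ofBijective _ hbij)).symm
  have hsum := sum_charDegree_sq (G := G)
  have h1 : ∑ _χ : IrrCharacter G, 1 = ∑ χ : IrrCharacter G, charDegree (χ : G → ℂ) ^ 2 := by
    rw [hsum, ← hcard, Nat.card_eq_fintype_card]
    simp
  have hle : ∀ χ ∈ (Finset.univ : Finset (IrrCharacter G)), 1 ≤ charDegree (χ : G → ℂ) ^ 2 := by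
    intro χ _
    exact Nat.one_le_pow _ _ (charDegree_pos χ.2)
  have := (Finset.sum_eq_sum_iff_of_le hle).mp h1 ⟨χ, h⟩ (Finset.mem_univ _)
  have h2 : charDegree χ ^ 2 = 1 := this.symm
  exact (pow_eq_one_iff_of_nonneg (Nat.zero_le _) two_ne_zero).mp h2

/-- If every irreducible character is linear, the group is abelian. -/
theorem comm_of_forall_charDegree_eq_one
    (h : ∀ χ : IrrCharacter G, charDegree (χ : G → ℂ) = 1) (a b : G) : a * b = b * a := by
  classical
  have hsum := sum_charDegree_sq (G := G)
  have hcard : Nat.card (IrrCharacter G) = Nat.card G := by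
    rw [← hsum, Nat.card_eq_fintype_card]
    simp [h]
  have h1 : Nat.card {χ : IrrCharacter G // charDegree (χ : G → ℂ) = 1} =
      Nat.card (IrrCharacter G) :=
    Nat.card_congr (Equiv.subtypeUnivEquiv h)
  rw [card_linear_characters', hcard] at h1
  have h2 := (commutator G).card_mul_index
  rw [h1] at h2
  have h3 : Nat.card (commutator G) = 1 := by
    have hpos : 0 < Nat.card G := Nat.card_pos
    exact Nat.eq_of_mul_eq_mul_right hpos (by rw [h2, one_mul])
  have h4 : commutator G = ⊥ := (Subgroup.card_eq_one).mp h3
  have h5 : ⁅a, b⁆ ∈ commutator G := by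
    rw [commutator_def]
    exact Subgroup.commutator_mem_commutator (Subgroup.mem_top a) (Subgroup.mem_top b)
  rw [h4, Subgroup.mem_bot, commutatorElement_eq_one_iff_mul_comm] at h5
  exact h5

end Abelian

end Cfsg.Agent.Helper24
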