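import Mathlib

/-!
# Determinants of finite-order endomorphisms from traces of powers (helper24's shared library)
-/

set_option autoImplicit false
set_option linter.unusedSectionVars false

namespace Cfsg.Agent.Helper24.DetTrace

open Module LinearMap

variable {V : Type*} [AddCommGroup V] [Module ℂ V]

/-- The spectral idempotent of `A` (with `A ^ n = 1`) for the `n`-th root of unity `ζ`. -/
noncomputable def specIdem (A : V →ₗ[ℂ] V) (n : ℕ) (ζ : ℂ) : V →ₗ[ℂ] V :=
  (n : ℂ)⁻¹ • ∑ i ∈ Finset.range n, (ζ⁻¹) ^ i • A ^ i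

variable (A : V →ₗ[ℂ] V) {n : ℕ}

theorem mul_specIdem (hn : 0 < n) (hA : A ^ n = 1) {ζ : ℂ} (hζ : ζ ^ n = 1) :
    A * specIdem A n ζ = ζ • specIdem A n ζ := by
  have hζ0 : ζ ≠ 0 := by
    rintro rfl
    rw [zero_pow hn.ne'] at hζ
    exact zero_ne_one hζ
  unfold specIdem
  rw [mul_smul_comm, smul_comm ζ]
  congr 1
  rw [Finset.mul_sum, Finset.smul_sum]
  set f : ℕ → (V →ₗ[ℂ] V) := fun i => (ζ * (ζ⁻¹) ^ i) • A ^ i with hf
  have h1 : ∀ i ∈ Finset.range n, A * ((ζ⁻¹) ^ i • A ^ i) = f (i + 1) := by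
    intro i _
    rw [hf]
    simp only
    rw [mul_smul_comm, ← pow_succ', pow_succ (ζ⁻¹), ← mul_assoc, mul_comm ζ, mul_assoc,
      mul_inv_cancel₀ hζ0, mul_one]
  have h2 : ∀ i ∈ Finset.range n, ζ • ((ζ⁻¹) ^ i • A ^ i) = f i := by
    intro i _
    rw [hf]
    simp only
    rw [smul_smul]
  rw [Finset.sum_congr rfl h1, Finset.sum_congr rfl h2]
  have e1 := Finset.sum_range_succ' f n
  have e2 := Finset.sum_range_succ f n
  rw [e2] at e1
  have e3 : f n = f 0 := by
    rw [hf]
    simp only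
    rw [hA, inv_pow, hζ, inv_one, pow_zero, pow_zero]
  rw [e3] at e1
  exact (add_right_cancel e1).symm

theorem pow_mul_specIdem (hn : 0 < n) (hA : A ^ n = 1) {ζ : ℂ} (hζ : ζ ^ n = 1) (i : ℕ) :
    A ^ i * specIdem A n ζ = ζ ^ i • specIdem A n ζ := by
  induction i with
  | zero => simp
  | succ i ih =>
    rw [pow_succ', mul_assoc, ih, mul_smul_comm, mul_specIdem A hn hA hζ, smul_smul, pow_succ]

theorem geom_sum_root {r : ℂ} (hr : r ^ n = 1) (hr1 : r ≠ 1) :
    ∑ i ∈ Finset.range n, r ^ i = 0 := by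
  have h := mul_neg_geom_sum r n
  rw [hr, sub_self] at h
  rcases mul_eq_zero.mp h with h | h
  · exact absurd (sub_eq_zero.mp h).symm hr1
  · exact h

theorem specIdem_mul_specIdem (hn : 0 < n) (hA : A ^ n = 1) {ζ ζ' : ℂ} (hζ : ζ ^ n = 1)
    (hζ' : ζ' ^ n = 1) :
    specIdem A n ζ * specIdem A n ζ' = if ζ = ζ' then specIdem A n ζ' else 0 := by
  have hζ0 : ζ ≠ 0 := by
    rintro rfl
    rw [zero_pow hn.ne'] at hζ
    exact zero_ne_one hζ
  have hn0 : (n : ℂ) ≠ 0 := Nat.cast_ne_zero.mpr hn.ne'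
  have h1 : specIdem A n ζ * specIdem A n ζ' =
      ((n : ℂ)⁻¹ * ∑ i ∈ Finset.range n, (ζ⁻¹ * ζ') ^ i) • specIdem A n ζ' := by
    conv_lhs => rw [specIdem]
    rw [smul_mul_assoc, Finset.sum_mul, mul_smul, Finset.sum_smul]
    congr 1
    apply Finset.sum_congr rfl
    intro i _
    rw [smul_mul_assoc, pow_mul_specIdem A hn hA hζ', smul_smul, mul_pow]
  rw [h1]
  split_ifs with h
  · subst h
    rw [inv_mul_cancel₀ hζ0]
    simp only [one_pow, Finset.sum_const, Finset.card_range, nsmul_eq_mul, mul_one]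
    rw [inv_mul_cancel₀ hn0, one_smul]
  · rw [geom_sum_root (n := n) (r := ζ⁻¹ * ζ'), mul_zero, zero_smul]
    · rw [mul_pow, inv_pow, hζ, hζ', inv_one, one_mul]
    · intro h2
      apply h
      field_simp at h2
      exact h2.symm


section Main

variable {V : Type*} [AddCommGroup V] [Module ℂ V] [FiniteDimensional ℂ V]

/-- The determinant of `1 + (c - 1) • e` for an idempotent `e`. -/
theorem det_one_add_smul_idem (e : V →ₗ[ℂ] V) (he : IsIdempotentElem e) (c : ℂ) :
    LinearMap.det (1 + (c - 1) • e) = c ^ finrank ℂ (LinearMap.range e) := by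
  have hproj : IsProj (LinearMap.range e) e := he.isProj_range
  set φ := (LinearMap.range e).prodEquivOfIsCompl (ker e) hproj.isCompl with hφ
  have h1 : e = φ.conj (prodMap LinearMap.id 0) := hproj.eq_conj_prodMap
  have h2 : (1 : V →ₗ[ℂ] V) + (c - 1) • e =
      φ.conj (prodMap (c • LinearMap.id) LinearMap.id) := by
    have e1 : (prodMap (c • (LinearMap.id : LinearMap.range e →ₗ[ℂ] LinearMap.range e))
        (LinearMap.id : ker e →ₗ[ℂ] ker e)) =
        1 + (c - 1) • prodMap LinearMap.id 0 := by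
      apply LinearMap.ext
      rintro ⟨a, b⟩
      simp only [prodMap_apply, LinearMap.smul_apply, LinearMap.id_apply, LinearMap.add_apply,
        Module.End.one_apply, LinearMap.zero_apply, Prod.mk_add_mk, Prod.smul_mk, smul_zero,
        add_zero]
      congr 1
      rw [sub_smul, one_smul]
      abel
    rw [e1, map_add, map_smul, ← h1]
    congr 1
    apply LinearMap.ext
    intro v
    simp [LinearEquiv.conj_apply]
  rw [h2, LinearEquiv.conj_apply, LinearMap.comp_assoc, LinearMap.det_conj, LinearMap.det_prodMap,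
    LinearMap.det_smul, LinearMap.det_id, LinearMap.det_id, mul_one, mul_one]


variable (A : V →ₗ[ℂ] V) {n : ℕ}

theorem sum_specIdem (hn : 0 < n) {ω : ℂ} (hω : IsPrimitiveRoot ω n) :
    ∑ j ∈ Finset.range n, specIdem A n (ω ^ j) = 1 := by
  have hn0 : (n : ℂ) ≠ 0 := Nat.cast_ne_zero.mpr hn.ne'
  unfold specIdem
  rw [← Finset.smul_sum, Finset.sum_comm]
  have h1 : ∀ i ∈ Finset.range n, ∑ j ∈ Finset.range n, ((ω ^ j)⁻¹) ^ i • A ^ i =
      (if i = 0 then (n : ℂ) else 0) • A ^ i := by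
    intro i hi
    rw [← Finset.sum_smul]
    congr 1
    split_ifs with h0
    · subst h0
      simp
    · have e : ∀ j ∈ Finset.range n, ((ω ^ j)⁻¹) ^ i = ((ω ^ i)⁻¹) ^ j := by
        intro j _
        rw [inv_pow, inv_pow, ← pow_mul, ← pow_mul, mul_comm]
      rw [Finset.sum_congr rfl e]
      apply geom_sum_root
      · rw [inv_pow, ← pow_mul, mul_comm, pow_mul, hω.pow_eq_one, one_pow, inv_one]
      · intro h
        rw [inv_eq_one] at h
        have := hω.pow_eq_one_iff_dvd i |>.mp h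
        have hi' := Finset.mem_range.mp hi
        exact h0 (Nat.eq_zero_of_dvd_of_lt this hi')
  rw [Finset.sum_congr rfl h1, Finset.sum_eq_single_of_mem 0 (Finset.mem_range.mpr hn)]
  · rw [if_pos rfl, pow_zero, smul_smul, inv_mul_cancel₀ hn0, one_smul]
  · intro i _ hi
    rw [if_neg hi, zero_smul]

theorem eq_sum_smul_specIdem (hn : 0 < n) (hA : A ^ n = 1) {ω : ℂ} (hω : IsPrimitiveRoot ω n) :
    A = ∑ j ∈ Finset.range n, (ω ^ j) • specIdem A n (ω ^ j) := by
  conv_lhs => rw [← mul_one A, ← sum_specIdem A hn hω, Finset.mul_sum]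
  apply Finset.sum_congr rfl
  intro j _
  apply mul_specIdem A hn hA
  rw [← pow_mul, mul_comm, pow_mul, hω.pow_eq_one, one_pow]

theorem isIdempotentElem_specIdem (hn : 0 < n) (hA : A ^ n = 1) {ζ : ℂ} (hζ : ζ ^ n = 1) :
    IsIdempotentElem (specIdem A n ζ) := by
  unfold IsIdempotentElem
  rw [specIdem_mul_specIdem A hn hA hζ hζ, if_pos rfl]

/-- Determinant of `1 + Σ (c j - 1) • E j` for pairwise orthogonal idempotents. -/
theorem det_orthogonal_idem {ι : Type*} [DecidableEq ι] (s : Finset ι) (E : ι → (V →ₗ[ℂ] V))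
    (hE : ∀ j ∈ s, IsIdempotentElem (E j)) (horth : ∀ j ∈ s, ∀ k ∈ s, j ≠ k → E j * E k = 0)
    (c : ι → ℂ) :
    LinearMap.det (1 + ∑ j ∈ s, (c j - 1) • E j) =
      ∏ j ∈ s, c j ^ finrank ℂ (LinearMap.range (E j)) := by
  induction s using Finset.induction_on with
  | empty => simp
  | insert a s ha ih =>
    have hE' : ∀ j ∈ s, IsIdempotentElem (E j) := fun j hj => hE j (Finset.mem_insert_of_mem hj)
    have horth' : ∀ j ∈ s, ∀ k ∈ s, j ≠ k → E j * E k = 0 := fun j hj k hk hjk =>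
      horth j (Finset.mem_insert_of_mem hj) k (Finset.mem_insert_of_mem hk) hjk
    have hfac : (1 : V →ₗ[ℂ] V) + ∑ j ∈ insert a s, (c j - 1) • E j =
        (1 + ∑ j ∈ s, (c j - 1) • E j) * (1 + (c a - 1) • E a) := by
      rw [Finset.sum_insert ha, mul_add, mul_one, add_mul, one_mul, Finset.sum_mul]
      have hz : ∑ j ∈ s, (c j - 1) • E j * (c a - 1) • E a = 0 := by
        apply Finset.sum_eq_zero
        intro j hj
        rw [smul_mul_smul_comm, horth j (Finset.mem_insert_of_mem hj) a (Finset.mem_insert_self a s)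
          (by rintro rfl; exact ha hj), smul_zero]
      rw [hz, add_zero]
      abel
    rw [hfac, map_mul, ih hE' horth', det_one_add_smul_idem _ (hE a (Finset.mem_insert_self a s)),
      Finset.prod_insert ha, mul_comm]

theorem det_eq_prod_specIdem (hn : 0 < n) (hA : A ^ n = 1) {ω : ℂ} (hω : IsPrimitiveRoot ω n) :
    LinearMap.det A =
      ∏ j ∈ Finset.range n, (ω ^ j) ^ finrank ℂ (LinearMap.range (specIdem A n (ω ^ j))) := by
  have hroot : ∀ j : ℕ, (ω ^ j) ^ n = 1 := by
    intro j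
    rw [← pow_mul, mul_comm, pow_mul, hω.pow_eq_one, one_pow]
  have h := det_orthogonal_idem (Finset.range n) (fun j => specIdem A n (ω ^ j))
    (fun j _ => isIdempotentElem_specIdem A hn hA (hroot j))
    (by
      intro j hj k hk hjk
      rw [specIdem_mul_specIdem A hn hA (hroot j) (hroot k), if_neg]
      intro h
      exact hjk (hω.pow_inj (Finset.mem_range.mp hj) (Finset.mem_range.mp hk) h))
    (fun j => ω ^ j)
  rw [← h]
  congr 1
  have e1 : ∑ j ∈ Finset.range n, (ω ^ j - 1) • specIdem A n (ω ^ j) =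
      ∑ j ∈ Finset.range n, (ω ^ j) • specIdem A n (ω ^ j) -
        ∑ j ∈ Finset.range n, specIdem A n (ω ^ j) := by
    rw [← Finset.sum_sub_distrib]
    apply Finset.sum_congr rfl
    intro j _
    rw [sub_smul, one_smul]
  rw [e1, ← eq_sum_smul_specIdem A hn hA hω, sum_specIdem A hn hω]
  abel

theorem finrank_range_specIdem (hn : 0 < n) (hA : A ^ n = 1) {ζ : ℂ} (hζ : ζ ^ n = 1) :
    (finrank ℂ (LinearMap.range (specIdem A n ζ)) : ℂ) =
      (n : ℂ)⁻¹ * ∑ i ∈ Finset.range n, (ζ⁻¹) ^ i * LinearMap.trace ℂ V (A ^ i) := by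
  have h := (isIdempotentElem_specIdem A hn hA hζ).isProj_range.trace
  rw [← h]
  unfold specIdem
  rw [map_smul, map_sum, smul_eq_mul]
  congr 1
  apply Finset.sum_congr rfl
  intro i _
  rw [map_smul, smul_eq_mul]

end Main

/-- **Determinants from traces of powers**: two endomorphisms of finite order with the same
traces of powers have the same determinant. -/
theorem det_eq_of_trace_pow_eq {V W : Type*} [AddCommGroup V] [Module ℂ V] [FiniteDimensional ℂ V]
    [AddCommGroup W] [Module ℂ W] [FiniteDimensional ℂ W] (A : V →ₗ[ℂ] V) (B : W →ₗ[ℂ] W)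
    {n : ℕ} (hn : 0 < n) (hA : A ^ n = 1) (hB : B ^ n = 1)
    (h : ∀ i : ℕ, LinearMap.trace ℂ V (A ^ i) = LinearMap.trace ℂ W (B ^ i)) :
    LinearMap.det A = LinearMap.det B := by
  have hω := Complex.isPrimitiveRoot_exp n hn.ne'
  set ω := Complex.exp (2 * Real.pi * Complex.I / n) with hωdef
  rw [det_eq_prod_specIdem A hn hA hω, det_eq_prod_specIdem B hn hB hω]
  apply Finset.prod_congr rfl
  intro j _
  have hroot : (ω ^ j) ^ n = 1 := by
    rw [← pow_mul, mul_comm, pow_mul, hω.pow_eq_one, one_pow]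
  have e1 := finrank_range_specIdem A hn hA hroot
  have e2 := finrank_range_specIdem B hn hB hroot
  have e3 : (finrank ℂ (LinearMap.range (specIdem A n (ω ^ j))) : ℂ) =
      (finrank ℂ (LinearMap.range (specIdem B n (ω ^ j))) : ℂ) := by
    rw [e1, e2]
    congr 1
    apply Finset.sum_congr rfl
    intro i _
    rw [h i]
  have e4 : finrank ℂ (LinearMap.range (specIdem A n (ω ^ j))) =
      finrank ℂ (LinearMap.range (specIdem B n (ω ^ j))) := by exact_mod_cast e3
  rw [e4]

end Cfsg.Agent.Helper24.DetTrace
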