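import Mathlib
import Cfsg.Prelude.Def_Blocks
import Cfsg.Agent.Lib.Helper24.CharAlgebra

/-!
# Conjugation action of a group on the characters of a normal subgroup
(helper24's shared library)
-/

set_option autoImplicit false

namespace Cfsg.Agent.Helper24

open Cfsg Module

universe u

open scoped ComplexConjugate

section ConjAction

variable {G : Type u} [Group G] (K : Subgroup G) [K.Normal]

/-- The conjugate `φ^g` of a function on the normal subgroup `K`:
`(conjFun K g φ) k = φ (g⁻¹ k g)`. -/
def conjFun (g : G) (φ : K → ℂ) : K → ℂ := fun k => φ (MulAut.conjNormal g⁻¹ k)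

theorem conjFun_apply (g : G) (φ : K → ℂ) (k : K) :
    conjFun K g φ k = φ (MulAut.conjNormal g⁻¹ k) := rfl

@[simp] theorem conjFun_one (φ : K → ℂ) : conjFun K 1 φ = φ := by
  ext k
  simp [conjFun]

theorem conjFun_mul (g h : G) (φ : K → ℂ) :
    conjFun K (g * h) φ = conjFun K g (conjFun K h φ) := by
  ext k
  simp [conjFun, mul_inv_rev, map_mul]

@[simp] theorem conjFun_conjNormal (g : G) (φ : K → ℂ) (k : K) :
    conjFun K g φ (MulAut.conjNormal g k) = φ k := by
  simp [conjFun]

/-- `conjFun K g φ` at `k'` when `k' = g k g⁻¹`. -/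
theorem conjFun_eq_of_eq (g : G) (φ : K → ℂ) {k k' : K} (h : (k' : G) = g * (k : G) * g⁻¹) :
    conjFun K g φ k' = φ k := by
  have : k' = MulAut.conjNormal g k := by
    apply Subtype.ext
    rw [h, MulAut.conjNormal_apply]
  rw [this, conjFun_conjNormal]

theorem conjFun_of_mem {φ : K → ℂ} (hφ : IsClassFunction K φ) {g : G} (hg : g ∈ K) :
    conjFun K g φ = φ := by
  ext k
  rw [conjFun_apply]
  have : MulAut.conjNormal g⁻¹ k = (⟨g, hg⟩ : K)⁻¹ * k * (⟨g, hg⟩ : K)⁻¹⁻¹ := by
    apply Subtype.ext
    simp [MulAut.conjNormal_apply]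
  rw [this, hφ]

theorem isCharacter_conjFun (g : G) {φ : K → ℂ} (hφ : IsCharacter K φ) :
    IsCharacter K (conjFun K g φ) :=
  isCharacter_comp (MulAut.conjNormal g⁻¹ : K ≃* K).toMonoidHom hφ

theorem isIrrCharacter_conjFun (g : G) {φ : K → ℂ} (hφ : IsIrrCharacter K φ) :
    IsIrrCharacter K (conjFun K g φ) :=
  isIrrCharacter_comp_of_surjective (MulAut.conjNormal g⁻¹ : K ≃* K).toMonoidHom
    (MulAut.conjNormal g⁻¹ : K ≃* K).surjective hφ

theorem conjFun_conj (g : G) (φ : K → ℂ) :
    conjFun K g (fun k => conj (φ k)) = fun k => conj (conjFun K g φ k) := rfl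

/-- The conjugation action of `G` on the irreducible characters of a normal subgroup. -/
@[reducible] def irrConjAction : MulAction G (IrrCharacter K) where
  smul g θ := ⟨conjFun K g θ.1, isIrrCharacter_conjFun K g θ.2⟩
  one_smul θ := Subtype.ext (conjFun_one K θ.1)
  mul_smul g h θ := Subtype.ext (conjFun_mul K g h θ.1)

theorem irrConjAction_smul_coe (g : G) (θ : IrrCharacter K) :
    (((irrConjAction K).toSMul.smul g θ : IrrCharacter K) : K → ℂ) = conjFun K g θ.1 := rfl

end ConjAction

end Cfsg.Agent.Helper24
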