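import Mathlib
import Cfsg.Agent.Lib.Helper5.OrbitMod

/-!
# Weighted orbit counting modulo `m`

Shared library of helper24 (namespace `Cfsg.Agent.Helper24`).

`sum_modEq_sum_fixedPoints`: if `f : α → ℕ` is invariant under the action of `H` and every
non-fixed orbit has size divisible by `m`, then `∑ a, f a ≡ ∑ (a fixed), f a [MOD m]`.
-/

set_option autoImplicit false
set_option linter.style.haveILetI false
set_option linter.unusedVariables false
set_option linter.unusedSectionVars false

namespace Cfsg.Agent.Helper24

open MulAction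

section

variable {H α : Type*} [Group H] [MulAction H α]

/-- The auxiliary `H`-set `{(a, i) | i < f a}`. -/
def WeightedSet (f : α → ℕ) : Type _ := {x : α × ℕ // x.2 < f x.1}

/-- The action of `H` on the weighted set (on the first coordinate). -/
@[reducible] def weightedAction (f : α → ℕ) (hf : ∀ (h : H) (a : α), f (h • a) = f a) :
    MulAction H (WeightedSet f) where
  smul h x := ⟨(h • x.1.1, x.1.2), by rw [hf]; exact x.2⟩
  one_smul x := Subtype.ext (Prod.ext (one_smul H x.1.1) rfl)
  mul_smul g h x := Subtype.ext (Prod.ext (mul_smul g h x.1.1) rfl)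

/-- The weighted set is a sigma type. -/
def weightedEquiv (f : α → ℕ) : (Σ a : α, Fin (f a)) ≃ WeightedSet f where
  toFun x := ⟨(x.1, x.2.1), x.2.2⟩
  invFun x := ⟨x.1.1, ⟨x.1.2, x.2⟩⟩
  left_inv x := rfl
  right_inv x := rfl

theorem sum_modEq_sum_fixedPoints [Fintype α] (m : ℕ) (f : α → ℕ)
    (hf : ∀ (h : H) (a : α), f (h • a) = f a)
    (hm : ∀ a : α, a ∉ fixedPoints H α → m ∣ Nat.card (orbit H a))
    [DecidablePred (· ∈ fixedPoints H α)] :
    ∑ a, f a ≡ ∑ a ∈ Finset.univ.filter (· ∈ fixedPoints H α), f a [MOD m] := by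
  classical
  letI := weightedAction (H := H) f hf
  have hsmul : ∀ (h : H) (x : WeightedSet f), (h • x).1 = (h • x.1.1, x.1.2) := fun h x => rfl
  haveI : Finite (WeightedSet f) := Finite.of_equiv _ (weightedEquiv f)
  -- stabilizers agree
  have hstab : ∀ x : WeightedSet f, stabilizer H x = stabilizer H x.1.1 := by
    intro x
    ext h
    rw [mem_stabilizer_iff, mem_stabilizer_iff]
    constructor
    · intro hx
      have := congrArg (fun y : WeightedSet f => y.1.1) hx
      simpa [hsmul] using this
    · intro hx
      apply Subtype.ext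
      rw [hsmul, hx]
  have hfix : ∀ x : WeightedSet f, x ∈ fixedPoints H (WeightedSet f) ↔ x.1.1 ∈ fixedPoints H α := by
    intro x
    rw [mem_fixedPoints, mem_fixedPoints]
    constructor
    · intro hx h
      have := congrArg (fun y : WeightedSet f => y.1.1) (hx h)
      simpa [hsmul] using this
    · intro hx h
      apply Subtype.ext
      rw [hsmul, hx h]
  have horb : ∀ x : WeightedSet f, Nat.card (orbit H x) = Nat.card (orbit H x.1.1) := by
    intro x
    rw [Nat.card_coe_set_eq, Nat.card_coe_set_eq, ← index_stabilizer, ← index_stabilizer, hstab]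
  have key := Cfsg.Agent.Helper5.card_modEq_card_fixedPoints_of_dvd (H := H)
    (α := WeightedSet f) m (by
      intro x hx
      rw [horb]
      exact hm _ (fun h => hx ((hfix x).mpr h)))
  have hc1 : Nat.card (WeightedSet f) = ∑ a, f a := by
    rw [← Nat.card_congr (weightedEquiv f), Nat.card_sigma]
    simp
  have hc2 : Nat.card (fixedPoints H (WeightedSet f)) =
      ∑ a ∈ Finset.univ.filter (· ∈ fixedPoints H α), f a := by
    let e : (Σ a : {a : α // a ∈ fixedPoints H α}, Fin (f a.1)) ≃
        fixedPoints H (WeightedSet f) :=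
      { toFun := fun x => ⟨⟨(x.1.1, x.2.1), x.2.2⟩, (hfix _).mpr x.1.2⟩
        invFun := fun x => ⟨⟨x.1.1.1, (hfix _).mp x.2⟩, ⟨x.1.1.2, x.1.2⟩⟩
        left_inv := fun x => rfl
        right_inv := fun x => rfl }
    rw [← Nat.card_congr e, Nat.card_sigma]
    simp only [Nat.card_eq_fintype_card, Fintype.card_fin]
    rw [Finset.sum_subtype (p := (· ∈ fixedPoints H α))
      (Finset.univ.filter (· ∈ fixedPoints H α)) (by intro x; simp) (fun a => f a)]
  rw [hc1, hc2] at key
  exact key

end

end Cfsg.Agent.Helper24
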