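import Mathlib
import Cfsg.Prelude.Def_Blocks
import Cfsg.Agent.Lib.Helper24.OrbitSum
import Cfsg.Agent.Lib.Helper23.BlockLocal

/-!
# Orbit sums modulo the local ideal (helper24's shared library)

If a `p`-group `A` acts on a finite set `X` and `F : X → ℂ` is an `A`-invariant function with
values in the local ring at `M` (a maximal ideal of the algebraic integers over `p`), then
`∑ x, F x ≡ ∑ (x fixed), F x` modulo the local ideal.
-/

set_option autoImplicit false
set_option linter.style.haveILetI false

namespace Cfsg.Agent.Helper24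

open Cfsg Cfsg.Agent.Helper23.Blk MulAction

theorem dvd_card_orbit_of_not_mem_fixedPoints {A X : Type*} [Group A] [MulAction A X] [Finite X]
    {p : ℕ} [Fact p.Prime] (hA : IsPGroup p A) (x : X) (hx : x ∉ fixedPoints A X) :
    p ∣ Nat.card (orbit A x) := by
  obtain ⟨n, hn⟩ := hA.card_orbit x
  rw [hn]
  rcases Nat.eq_zero_or_pos n with h0 | h0
  · exfalso
    apply hx
    letI : Fintype (orbit A x) := Fintype.ofFinite _
    rw [mem_fixedPoints_iff_card_orbit_eq_one, ← Nat.card_eq_fintype_card, hn, h0, pow_zero]
  · exact dvd_pow_self p h0.ne'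

/-- Level sets of an invariant function have as many points as fixed points, modulo `p`. -/
theorem card_filter_modEq_fixedPoints {A X : Type*} [Group A] [MulAction A X] [Fintype X]
    [DecidableEq X] {p : ℕ} [Fact p.Prime] (hA : IsPGroup p A) (Q : X → Prop) [DecidablePred Q]
    (hQ : ∀ (a : A) (x : X), Q (a • x) ↔ Q x) [DecidablePred (· ∈ fixedPoints A X)] :
    (Finset.univ.filter Q).card ≡
      ((Finset.univ.filter (· ∈ fixedPoints A X)).filter Q).card [MOD p] := by
  have h := sum_modEq_sum_fixedPoints (H := A) (α := X) p (fun x => if Q x then 1 else 0)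
    (by
      intro a x
      simp only [hQ a x])
    (fun x hx => dvd_card_orbit_of_not_mem_fixedPoints hA x hx)
  rw [Finset.sum_boole, Finset.sum_boole] at h
  simpa using h

/-- **Orbit sums modulo the local ideal.** -/
theorem memLocalIdeal_sum_sub_sum_fixedPoints {A X : Type*} [Group A] [MulAction A X] [Fintype X]
    {p : ℕ} {M : Ideal AlgInt} (hM : IsPModular p M) (hA : IsPGroup p A) (F : X → ℂ)
    (hF : ∀ (a : A) (x : X), F (a • x) = F x) (hR : ∀ x, MemLocalRing M (F x))
    [DecidablePred (· ∈ fixedPoints A X)] :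
    MemLocalIdeal M (∑ x, F x - ∑ x ∈ Finset.univ.filter (· ∈ fixedPoints A X), F x) := by
  classical
  haveI := isPrime_of_isPModular hM
  haveI : Fact p.Prime := ⟨hM.1⟩
  set T := Finset.univ.image F with hT
  have h1 : ∀ s : Finset X, ∑ x ∈ s, F x = ∑ b ∈ T, ((s.filter (fun x => F x = b)).card : ℂ) * b := by
    intro s
    rw [← Finset.sum_fiberwise_of_maps_to (s := s) (t := T) (g := F)
      (fun x _ => Finset.mem_image_of_mem F (Finset.mem_univ x))]
    apply Finset.sum_congr rfl
    intro b _
    rw [Finset.sum_congr rfl (fun x hx => (Finset.mem_filter.mp hx).2), Finset.sum_const,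
      nsmul_eq_mul]
  rw [h1 Finset.univ, h1 (Finset.univ.filter (· ∈ fixedPoints A X)), ← Finset.sum_sub_distrib]
  apply memLocalIdeal_sum
  intro b hb
  obtain ⟨x₀, -, hx₀⟩ := Finset.mem_image.mp hb
  have hbR : MemLocalRing M b := hx₀ ▸ hR x₀
  rw [← sub_mul]
  apply memLocalIdeal_mul_right _ hbR
  have hmod := card_filter_modEq_fixedPoints hA (fun x => F x = b)
    (fun a x => by rw [hF a x])
  have hdvd : (p : ℤ) ∣ ((Finset.univ.filter (fun x => F x = b)).card : ℤ) -
      (((Finset.univ.filter (· ∈ fixedPoints A X)).filter (fun x => F x = b)).card : ℤ) := by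
    have := (Int.natCast_modEq_iff.mpr hmod).symm.dvd
    exact this
  obtain ⟨k, hk⟩ := hdvd
  have hk' : ((Finset.univ.filter (fun x => F x = b)).card : ℂ) -
      (((Finset.univ.filter (· ∈ fixedPoints A X)).filter (fun x => F x = b)).card : ℂ) =
      (p : ℂ) * (k : ℂ) := by
    have := congrArg (fun z : ℤ => (z : ℂ)) hk
    push_cast at this
    exact this
  rw [hk']
  exact memLocalIdeal_mul_right (memLocalIdeal_prime hM) (memLocalRing_intCast k)

end Cfsg.Agent.Helper24
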