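import Mathlib
import Cfsg.Prelude.Def_Blocks
import Cfsg.Agent.Lib.Helper24.GlaubOrbit
import Cfsg.Agent.Lib.Helper23.BlockBrauer2

/-!
# Coprime action of a `p`-group: fixed points, fusion and lifting of class functions
(helper24's shared library)

Setting: a group `A` acts on a finite group `G` through `φ : A →* MulAut G`.

* `fixedSub φ` : the subgroup of fixed points `C_G(A)`;
* `memLocalIdeal_sum_sub_sum_fixedSub` : for a `p`-group `A`, an invariant local-integer valued
  function has the same sum over `G` and over `C_G(A)` modulo the local ideal;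
* `fusion` : if `A` is a `p`-group and `p ∤ |G|`, two fixed points that are conjugate in `G` are
  conjugate in `C_G(A)`;
* `lift φ a` : the class function of `G` supported on the classes meeting `C_G(A)` and extending
  the class function `a` of `C_G(A)`.
-/

set_option autoImplicit false
set_option linter.style.haveILetI false

namespace Cfsg.Agent.Helper24.Glaub

open Cfsg Cfsg.Agent.Helper23.Blk

universe u v

variable {G : Type u} [Group G] {A : Type v} [Group A] (φ : A →* MulAut G)

/-- The subgroup of fixed points. -/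
def fixedSub : Subgroup G where
  carrier := {g | ∀ a, φ a g = g}
  one_mem' := fun a => map_one _
  mul_mem' := fun {x y} hx hy a => by rw [map_mul, hx a, hy a]
  inv_mem' := fun {x} hx a => by rw [map_inv, hx a]

theorem mem_fixedSub (g : G) : g ∈ fixedSub φ ↔ ∀ a, φ a g = g := Iff.rfl

/-- A function on `G` is invariant under the action. -/
def IsInv (F : G → ℂ) : Prop := ∀ (a : A) (g : G), F (φ a g) = F g

/-- The action of `A` on `G` as a `MulAction`. -/
@[reducible] def actOn : MulAction A G := MulAction.compHom G φ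

theorem mem_fixedPoints_actOn (g : G) :
    (letI := actOn φ; g ∈ MulAction.fixedPoints A G) ↔ g ∈ fixedSub φ := Iff.rfl

/-- Orbit sums over `G` reduce to sums over the fixed points, modulo the local ideal. -/
theorem memLocalIdeal_sum_sub_sum_fixedSub [Fintype G] [Fintype (fixedSub φ)] {p : ℕ}
    {M : Ideal AlgInt} (hM : IsPModular p M) (hA : IsPGroup p A) (F : G → ℂ) (hF : IsInv φ F)
    (hR : ∀ g, MemLocalRing M (F g)) :
    MemLocalIdeal M (∑ g, F g - ∑ c : fixedSub φ, F c) := by
  classical
  letI := actOn φ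
  have h := memLocalIdeal_sum_sub_sum_fixedPoints hM hA F (fun a g => hF a g) hR
  have h2 : ∑ x ∈ Finset.univ.filter (· ∈ MulAction.fixedPoints A G), F x =
      ∑ c : fixedSub φ, F c := by
    apply Finset.sum_subtype
    intro x
    rw [Finset.mem_filter]
    exact ⟨fun h => h.2, fun h => ⟨Finset.mem_univ _, h⟩⟩
  rw [h2] at h
  exact h

/-- **Fusion**: fixed points conjugate in `G` are conjugate in `C_G(A)`. -/
theorem fusion [Finite G] {p : ℕ} [Fact p.Prime] (hA : IsPGroup p A) (hp : ¬ p ∣ Nat.card G)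
    {c c' : G} (hc : c ∈ fixedSub φ) (hc' : c' ∈ fixedSub φ) (h : IsConj c c') :
    ∃ g ∈ fixedSub φ, g * c * g⁻¹ = c' := by
  classical
  letI : Fintype G := Fintype.ofFinite G
  letI := actOn φ
  obtain ⟨g₁, hg₁⟩ := isConj_iff.mp h
  have hmod := card_filter_modEq_fixedPoints (A := A) (X := G) hA (fun g => g * c * g⁻¹ = c')
    (by
      intro a g
      show φ a g * c * (φ a g)⁻¹ = c' ↔ g * c * g⁻¹ = c'
      constructor
      · intro h1
        have h2 : φ a (g * c * g⁻¹) = φ a c' := by
          rw [map_mul, map_mul, map_inv, hc a, hc' a]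
          exact h1
        exact (φ a).injective h2
      · intro h1
        have h2 : φ a (g * c * g⁻¹) = φ a c' := by rw [h1]
        rw [map_mul, map_mul, map_inv, hc a, hc' a] at h2
        exact h2)
  -- the left side is the order of the centralizer
  have hcard : (Finset.univ.filter (fun g : G => g * c * g⁻¹ = c')).card =
      Nat.card (Subgroup.centralizer ({c} : Set G)) := by
    rw [Nat.card_eq_fintype_card, Fintype.card_subtype]
    apply Finset.card_bij' (fun g _ => g₁⁻¹ * g) (fun z _ => g₁ * z)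
    · intro g hg
      rw [Finset.mem_filter] at hg ⊢
      refine ⟨Finset.mem_univ _, ?_⟩
      rw [Subgroup.mem_centralizer_singleton_iff]
      have h3 : g * c = c' * g := by
        rw [← hg.2]; group
      have h4 : g₁ * c = c' * g₁ := by
        rw [← hg₁]; group
      calc g₁⁻¹ * g * c = g₁⁻¹ * (g * c) := by group
        _ = g₁⁻¹ * (c' * g) := by rw [h3]
        _ = g₁⁻¹ * c' * g₁ * (g₁⁻¹ * g) := by group
        _ = g₁⁻¹ * (c' * g₁) * (g₁⁻¹ * g) := by group
        _ = g₁⁻¹ * (g₁ * c) * (g₁⁻¹ * g) := by rw [h4]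
        _ = c * (g₁⁻¹ * g) := by group
    · intro z hz
      rw [Finset.mem_filter] at hz ⊢
      refine ⟨Finset.mem_univ _, ?_⟩
      have hz' := Subgroup.mem_centralizer_singleton_iff.mp hz.2
      calc g₁ * z * c * (g₁ * z)⁻¹ = g₁ * (z * c) * z⁻¹ * g₁⁻¹ := by group
        _ = g₁ * (c * z) * z⁻¹ * g₁⁻¹ := by rw [hz']
        _ = g₁ * c * g₁⁻¹ := by group
        _ = c' := hg₁
    · intro g _
      group
    · intro z _
      group
  have hnd : ¬ p ∣ (Finset.univ.filter (fun g : G => g * c * g⁻¹ = c')).card := by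
    rw [hcard]
    intro hd
    exact hp (hd.trans (Subgroup.card_subgroup_dvd_card _))
  have hne : ((Finset.univ.filter (· ∈ MulAction.fixedPoints A G)).filter
      (fun g : G => g * c * g⁻¹ = c')).card ≠ 0 := by
    intro h0
    apply hnd
    rw [h0] at hmod
    exact (Nat.modEq_zero_iff_dvd).mp hmod
  obtain ⟨g, hg⟩ := Finset.card_pos.mp (Nat.pos_of_ne_zero hne)
  rw [Finset.mem_filter, Finset.mem_filter] at hg
  exact ⟨g, hg.1.2, hg.2⟩

section Lift

open Classical in
/-- The lift of a function on the fixed points to the classes of `G` meeting them. -/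
noncomputable def lift (a : fixedSub φ → ℂ) (g : G) : ℂ :=
  if h : ∃ c : fixedSub φ, IsConj (c : G) g then a h.choose else 0

theorem lift_add (a b : fixedSub φ → ℂ) : lift φ (a + b) = lift φ a + lift φ b := by
  funext g
  unfold lift
  rw [Pi.add_apply]
  split_ifs
  · rfl
  · rw [add_zero]

theorem lift_smul (r : ℂ) (a : fixedSub φ → ℂ) : lift φ (r • a) = r • lift φ a := by
  funext g
  unfold lift
  rw [Pi.smul_apply]
  split_ifs
  · rfl
  · rw [smul_zero]

theorem lift_eq_zero (a : fixedSub φ → ℂ) {g : G} (h : ¬ ∃ c : fixedSub φ, IsConj (c : G) g) :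
    lift φ a g = 0 := by
  unfold lift
  rw [dif_neg h]

variable [Finite G] {p : ℕ} [Fact p.Prime] (hA : IsPGroup p A) (hp : ¬ p ∣ Nat.card G)

include hA hp

theorem lift_eq_of_isConj {a : fixedSub φ → ℂ} (hcl : IsClassFunction (fixedSub φ) a)
    {c : fixedSub φ} {g : G} (h : IsConj (c : G) g) : lift φ a g = a c := by
  unfold lift
  rw [dif_pos ⟨c, h⟩]
  have h0 : IsConj ((Exists.choose (⟨c, h⟩ : ∃ c : fixedSub φ, IsConj (c : G) g) : fixedSub φ) : G)
      g := Exists.choose_spec (⟨c, h⟩ : ∃ c : fixedSub φ, IsConj (c : G) g)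
  set c₀ := Exists.choose (⟨c, h⟩ : ∃ c : fixedSub φ, IsConj (c : G) g) with hc₀
  have h1 : IsConj (c₀ : G) (c : G) := h0.trans h.symm
  obtain ⟨z, hz, hzc⟩ := fusion φ hA hp c₀.2 c.2 h1
  have h2 : c = ⟨z, hz⟩ * c₀ * (⟨z, hz⟩ : fixedSub φ)⁻¹ := Subtype.ext hzc.symm
  rw [h2]
  exact (hcl c₀ ⟨z, hz⟩).symm

theorem lift_coe {a : fixedSub φ → ℂ} (hcl : IsClassFunction (fixedSub φ) a) (c : fixedSub φ) :
    lift φ a (c : G) = a c :=
  lift_eq_of_isConj φ hA hp hcl (IsConj.refl _)

theorem isClassFunction_lift {a : fixedSub φ → ℂ} (hcl : IsClassFunction (fixedSub φ) a) :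
    IsClassFunction G (lift φ a) := by
  intro g h
  have hconj : IsConj g (h * g * h⁻¹) := isConj_iff.2 ⟨h, rfl⟩
  by_cases hex : ∃ c : fixedSub φ, IsConj (c : G) g
  · obtain ⟨c, hc⟩ := hex
    rw [lift_eq_of_isConj φ hA hp hcl hc, lift_eq_of_isConj φ hA hp hcl (hc.trans hconj)]
  · rw [lift_eq_zero φ a hex, lift_eq_zero]
    rintro ⟨c, hc⟩
    exact hex ⟨c, hc.trans hconj.symm⟩

theorem isInv_lift {a : fixedSub φ → ℂ} (hcl : IsClassFunction (fixedSub φ) a) :
    IsInv φ (lift φ a) := by
  intro x g
  by_cases hex : ∃ c : fixedSub φ, IsConj (c : G) g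
  · obtain ⟨c, hc⟩ := hex
    have hc' : IsConj (c : G) (φ x g) := by
      have := (φ x).toMonoidHom.map_isConj hc
      rw [show (φ x).toMonoidHom (c : G) = (c : G) from c.2 x] at this
      exact this
    rw [lift_eq_of_isConj φ hA hp hcl hc, lift_eq_of_isConj φ hA hp hcl hc']
  · rw [lift_eq_zero φ a hex, lift_eq_zero]
    rintro ⟨c, hc⟩
    apply hex
    refine ⟨c, ?_⟩
    have := (φ x).symm.toMonoidHom.map_isConj hc
    have h1 : (φ x).symm.toMonoidHom (c : G) = (c : G) := by
      show (φ x).symm (c : G) = (c : G)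
      rw [MulEquiv.symm_apply_eq]
      exact (c.2 x).symm
    have h2 : (φ x).symm.toMonoidHom (φ x g) = g := by
      show (φ x).symm (φ x g) = g
      exact MulEquiv.symm_apply_apply _ _
    rw [h1, h2] at this
    exact this

omit hA hp in
theorem memLocalRing_lift {M : Ideal AlgInt} [M.IsPrime] {a : fixedSub φ → ℂ}
    (hR : ∀ c, MemLocalRing M (a c)) (g : G) : MemLocalRing M (lift φ a g) := by
  unfold lift
  split_ifs
  · exact hR _
  · exact memLocalRing_zero ne_top

end Lift

end Cfsg.Agent.Helper24.Glaub
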