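import Mathlib
import Cfsg.Prelude.Def_Blocks
import Cfsg.Agent.Lib.Helper24.GlaubSetup
import Cfsg.Agent.Lib.Helper24.CharIntegral
import Cfsg.Agent.Lib.Helper24.CharLinear
import Cfsg.Agent.Lib.Helper5.Clifford

/-!
# The Glauberman correspondence for a `p`-group of operators (helper24's shared library)

A `p`-group `A` acts on the finite `p'`-group `G` through `φ : A →* MulAut G`, `C = C_G(A)`.
For an invariant `χ ∈ Irr(G)`, `Lfun φ χ a = ω_χ (lift a)` is a central homomorphism of `C`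
modulo the local ideal; it determines `β ∈ Irr(C)` with `χ(c)/χ(1) ≡ β(c)/β(1)`.
-/

set_option autoImplicit false
set_option linter.style.haveILetI false
set_option linter.unusedSectionVars false

namespace Cfsg.Agent.Helper24.Glaub

open Cfsg Cfsg.Agent.Helper23.Blk Cfsg.Agent.Helper24
open scoped ComplexConjugate

universe u v

section Units

variable {M : Ideal AlgInt} {p : ℕ}

theorem not_memLocalIdeal_natCast (hM : IsPModular p M) {n : ℕ} (h : ¬ p ∣ n) :
    ¬ MemLocalIdeal M (n : ℂ) := fun h' => h ((memLocalIdeal_natCast_iff hM n).mp h')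

theorem memLocalRing_inv_natCast (hM : IsPModular p M) {n : ℕ} (h : ¬ p ∣ n) :
    MemLocalRing M ((n : ℂ)⁻¹) := by
  haveI := isPrime_of_isPModular hM
  exact memLocalRing_inv (memLocalRing_natCast n) (not_memLocalIdeal_natCast hM h)

theorem not_memLocalIdeal_inv_natCast (hM : IsPModular p M) {n : ℕ} (h : ¬ p ∣ n) :
    ¬ MemLocalIdeal M ((n : ℂ)⁻¹) := by
  haveI := isPrime_of_isPModular hM
  exact not_memLocalIdeal_inv (memLocalRing_natCast n) (not_memLocalIdeal_natCast hM h)

/-- There is a maximal ideal of the algebraic integers over every prime. -/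
theorem exists_isPModular (hp : p.Prime) : ∃ M : Ideal AlgInt, IsPModular p M := by
  have hne : Ideal.span {(p : AlgInt)} ≠ ⊤ := by
    intro h
    rw [Ideal.span_singleton_eq_top] at h
    obtain ⟨u, hu⟩ := h
    have h1 : ((u⁻¹ : AlgIntˣ) : AlgInt) * (p : AlgInt) = 1 := by
      rw [← hu]
      exact Units.inv_mul u
    have h2 : (((u⁻¹ : AlgIntˣ) : AlgInt) : ℂ) * (p : ℂ) = 1 := by
      have := congrArg (fun z : AlgInt => (z : ℂ)) h1
      simpa using this
    have hA : IsIntegral ℤ ((((u⁻¹ : AlgIntˣ) : AlgInt) : ℂ)) := (((u⁻¹ : AlgIntˣ) : AlgInt)).2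
    have hp0 : (p : ℂ) ≠ 0 := by exact_mod_cast hp.ne_zero
    have h3 : (((u⁻¹ : AlgIntˣ) : AlgInt) : ℂ) = algebraMap ℚ ℂ ((1 : ℚ) / (p : ℚ)) := by
      rw [eq_div_of_mul_eq hp0 h2]
      simp
    rw [h3, isIntegral_algebraMap_iff (algebraMap ℚ ℂ).injective] at hA
    obtain ⟨m, hm⟩ := IsIntegrallyClosed.isIntegral_iff.mp hA
    have hp0' : (p : ℚ) ≠ 0 := by exact_mod_cast hp.ne_zero
    have h4 : (m : ℚ) * p = 1 := by
      have : (algebraMap ℤ ℚ m) = (m : ℚ) := rfl
      rw [this] at hm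
      rw [hm]
      field_simp
    have h5 : m * (p : ℤ) = 1 := by exact_mod_cast h4
    have h6 : (p : ℤ) ∣ 1 := ⟨m, by rw [← h5]; ring⟩
    have h7 : p ∣ 1 := by exact_mod_cast h6
    exact hp.one_lt.ne' (Nat.dvd_one.mp h7)
  obtain ⟨M, hM, hle⟩ := Ideal.exists_le_maximal _ hne
  exact ⟨M, hp, hM, hle (Ideal.subset_span rfl)⟩

variable {H : Type u} [Group H] [Fintype H]

theorem memLocalRing_irr [M.IsPrime] (χ : IrrCharacter H) (g : H) :
    MemLocalRing M ((χ : H → ℂ) g) :=
  memLocalRing_of_isIntegral (isIntegral_of_isCharacter (isCharacter_of_isIrrCharacter χ.2) g)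
    ne_top

theorem memLocalRing_conj_irr [M.IsPrime] (χ : IrrCharacter H) (g : H) :
    MemLocalRing M (conj ((χ : H → ℂ) g)) := by
  rw [← irr_inv (isCharacter_of_isIrrCharacter χ.2)]
  exact memLocalRing_irr χ g⁻¹

theorem not_dvd_degree (hp : ¬ p ∣ Nat.card H) (χ : IrrCharacter H) :
    ¬ p ∣ charDegree (χ : H → ℂ) := fun h => hp (h.trans (charDegree_dvd_card χ.2))

theorem memLocalRing_inv_degree (hM : IsPModular p M) (hp : ¬ p ∣ Nat.card H)
    (χ : IrrCharacter H) : MemLocalRing M (((χ : H → ℂ) 1)⁻¹) := by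
  rw [irr_one_eq_charDegree χ.2]
  exact memLocalRing_inv_natCast hM (not_dvd_degree hp χ)

theorem not_memLocalIdeal_degree (hM : IsPModular p M) (hp : ¬ p ∣ Nat.card H)
    (χ : IrrCharacter H) : ¬ MemLocalIdeal M ((χ : H → ℂ) 1) := by
  rw [irr_one_eq_charDegree χ.2]
  exact not_memLocalIdeal_natCast hM (not_dvd_degree hp χ)

theorem not_memLocalIdeal_inv_degree (hM : IsPModular p M) (hp : ¬ p ∣ Nat.card H)
    (χ : IrrCharacter H) : ¬ MemLocalIdeal M (((χ : H → ℂ) 1)⁻¹) := by
  rw [irr_one_eq_charDegree χ.2]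
  exact not_memLocalIdeal_inv_natCast hM (not_dvd_degree hp χ)

end Units

variable {G : Type u} [Group G] [Fintype G] {A : Type v} [Group A] (φ : A →* MulAut G)
  [Fintype (fixedSub φ)] {M : Ideal AlgInt} {p : ℕ}

theorem isInv_conv {f f' : G → ℂ} (hf : IsInv φ f) (hf' : IsInv φ f') : IsInv φ (conv f f') := by
  intro x g
  rw [conv_apply, conv_apply, ← Equiv.sum_comp (φ x).toEquiv]
  apply Finset.sum_congr rfl
  intro h _
  show f (φ x h) * f' ((φ x h)⁻¹ * φ x g) = _
  rw [hf x h, ← map_inv, ← map_mul, hf' x]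

/-- The functional on the class functions of `C_G(A)` attached to a character of `G`. -/
noncomputable def Lfun (χ : G → ℂ) (a : fixedSub φ → ℂ) : ℂ := omega χ (lift φ a)

theorem not_dvd_card_fixedSub (hp : ¬ p ∣ Nat.card G) : ¬ p ∣ Nat.card (fixedSub φ) :=
  fun h => hp (h.trans (Subgroup.card_subgroup_dvd_card _))

theorem isCentralHom_Lfun (hM : IsPModular p M) (hA : IsPGroup p A) (hp : ¬ p ∣ Nat.card G)
    (χ : IrrCharacter G) (hχ : IsInv φ (χ : G → ℂ)) :
    IsCentralHom M (Lfun φ (χ : G → ℂ)) := by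
  classical
  haveI := isPrime_of_isPModular hM
  haveI : Fact p.Prime := ⟨hM.1⟩
  letI := irrFintype (G := G)
  letI := irrFintype (G := fixedSub φ)
  have hχ1 := memLocalRing_inv_degree hM hp χ
  refine ⟨?_, ?_, ?_, ?_, ?_⟩
  · intro a b
    unfold Lfun
    rw [lift_add, omega_add]
  · intro r a
    unfold Lfun
    rw [lift_smul, omega_smul]
  · intro a hacl haR
    exact memLocalRing_omega χ (isClassFunction_lift φ hA hp hacl) (memLocalRing_lift φ haR)
  · intro a b hacl hbcl haR hbR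
    have hla := isClassFunction_lift φ hA hp hacl
    have hlb := isClassFunction_lift φ hA hp hbcl
    have hcab : IsClassFunction (fixedSub φ) (conv a b) := isClassFunction_conv hacl hbcl
    set d : G → ℂ := lift φ (conv a b) - conv (lift φ a) (lift φ b) with hd
    have hLd : Lfun φ (χ : G → ℂ) (conv a b) - Lfun φ (χ : G → ℂ) a * Lfun φ (χ : G → ℂ) b =
        omega (χ : G → ℂ) d := by
      unfold Lfun
      rw [← omega_conv χ hla hlb, ← omega_sub]
    rw [hLd]
    have hdinv : IsInv φ d := by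
      intro x g
      simp only [hd, Pi.sub_apply]
      rw [isInv_lift φ hA hp hcab x g,
        isInv_conv φ (isInv_lift φ hA hp hacl) (isInv_lift φ hA hp hbcl) x g]
    have hcR : ∀ c, MemLocalRing M (conv a b c) := by
      intro c
      rw [conv_apply]
      exact memLocalRing_sum _ _ (fun h _ => memLocalRing_mul (haR _) (hbR _))
    have hdR : ∀ g, MemLocalRing M (d g) := by
      intro g
      simp only [hd, Pi.sub_apply]
      apply memLocalRing_sub (memLocalRing_lift φ hcR g)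
      rw [conv_apply]
      exact memLocalRing_sum _ _ (fun h _ =>
        memLocalRing_mul (memLocalRing_lift φ haR _) (memLocalRing_lift φ hbR _))
    have hdC : ∀ c : fixedSub φ, MemLocalIdeal M (d c) := by
      intro c
      have h1 := memLocalIdeal_sum_sub_sum_fixedSub φ hM hA
        (fun h => lift φ a h * lift φ b (h⁻¹ * c))
        (by
          intro x h
          show lift φ a (φ x h) * lift φ b ((φ x h)⁻¹ * c) = lift φ a h * lift φ b (h⁻¹ * c)
          have hc : (c : G) = φ x c := (c.2 x).symm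
          rw [isInv_lift φ hA hp hacl x h]
          conv_lhs => rw [hc, ← map_inv, ← map_mul, isInv_lift φ hA hp hbcl x])
        (fun h => memLocalRing_mul (memLocalRing_lift φ haR _) (memLocalRing_lift φ hbR _))
      have h2 : d c = -(∑ h : G, lift φ a h * lift φ b (h⁻¹ * c) -
          ∑ h : fixedSub φ, lift φ a (h : G) * lift φ b ((h : G)⁻¹ * c)) := by
        simp only [hd, Pi.sub_apply]
        rw [lift_coe φ hA hp hcab c, conv_apply, conv_apply]
        have : ∀ h : fixedSub φ, lift φ a (h : G) * lift φ b ((h : G)⁻¹ * (c : G)) =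
            a h * b (h⁻¹ * c) := by
          intro h
          rw [lift_coe φ hA hp hacl h]
          have h3 : ((h : G)⁻¹ * (c : G)) = ((h⁻¹ * c : fixedSub φ) : G) := rfl
          rw [h3, lift_coe φ hA hp hbcl]
        rw [Finset.sum_congr rfl (fun h _ => this h)]
        ring
      rw [h2]
      exact memLocalIdeal_neg h1
    have hF := memLocalIdeal_sum_sub_sum_fixedSub φ hM hA
      (fun g => d g * (χ : G → ℂ) g * ((χ : G → ℂ) 1)⁻¹)
      (by
        intro x g
        show d (φ x g) * (χ : G → ℂ) (φ x g) * _ = _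
        rw [hdinv x g, hχ x g])
      (fun g => memLocalRing_mul (memLocalRing_mul (hdR g) (memLocalRing_irr χ g)) hχ1)
    have hC : MemLocalIdeal M (∑ c : fixedSub φ, d c * (χ : G → ℂ) c * ((χ : G → ℂ) 1)⁻¹) :=
      memLocalIdeal_sum _ _ (fun c _ => memLocalIdeal_mul_right
        (memLocalIdeal_mul_right (hdC c) (memLocalRing_irr χ _)) hχ1)
    have hom : omega (χ : G → ℂ) d = ∑ g, d g * (χ : G → ℂ) g * ((χ : G → ℂ) 1)⁻¹ := by
      unfold omega
      rw [div_eq_mul_inv, Finset.sum_mul]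
    rw [hom]
    have := memLocalIdeal_add hF hC
    simpa using this
  · have hδ : IsClassFunction (fixedSub φ)
        (fun g : fixedSub φ => @ite ℂ (g = 1) (Classical.propDecidable _) (1 : ℂ) 0) := by
      intro g h
      have : h * g * h⁻¹ = 1 ↔ g = 1 := by
        constructor
        · intro h1
          have : g = h⁻¹ * (h * g * h⁻¹) * h := by group
          rw [this, h1]; group
        · rintro rfl; group
      show @ite ℂ (h * g * h⁻¹ = 1) (Classical.propDecidable _) (1 : ℂ) 0 =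
        @ite ℂ (g = 1) (Classical.propDecidable _) (1 : ℂ) 0
      by_cases hg : g = 1
      · rw [if_pos hg, if_pos (this.mpr hg)]
      · rw [if_neg hg, if_neg (fun h' => hg (this.mp h'))]
    have hl : lift φ (fun g : fixedSub φ => @ite ℂ (g = 1) (Classical.propDecidable _) (1 : ℂ) 0) =
        fun g : G => @ite ℂ (g = 1) (Classical.propDecidable _) (1 : ℂ) 0 := by
      funext g
      by_cases hg : g = 1
      · subst hg
        have := lift_coe φ hA hp hδ (1 : fixedSub φ)
        rw [Subgroup.coe_one] at this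
        rw [this, if_pos rfl, if_pos rfl]
      · rw [if_neg hg]
        by_cases hex : ∃ c : fixedSub φ, IsConj (c : G) g
        · obtain ⟨c, hc⟩ := hex
          rw [lift_eq_of_isConj φ hA hp hδ hc, if_neg]
          rintro rfl
          apply hg
          rw [Subgroup.coe_one] at hc
          exact (isConj_one_right.mp hc)
        · exact lift_eq_zero φ _ hex
    show MemLocalIdeal M (Lfun φ (χ : G → ℂ)
      (fun g : fixedSub φ => @ite ℂ (g = 1) (Classical.propDecidable _) (1 : ℂ) 0) - 1)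
    unfold Lfun
    rw [hl]
    have : omega (χ : G → ℂ) (fun g : G => @ite ℂ (g = 1) (Classical.propDecidable _) (1 : ℂ) 0)
        = 1 := by
      unfold omega
      rw [Finset.sum_eq_single (1 : G)]
      · simp only [if_true, one_mul]
        exact div_self (irr_one_ne_zero χ.2)
      · intro g _ hg
        simp only [if_neg hg, zero_mul]
      · intro h
        exact absurd (Finset.mem_univ _) h
    rw [this, sub_self]
    exact memLocalIdeal_zero ne_top

/-- The relation between an invariant irreducible character of `G` and an irreducible character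
of `C_G(A)`: the central characters agree modulo the local ideal. -/
def Rel (M : Ideal AlgInt) (χ : G → ℂ) (β : fixedSub φ → ℂ) : Prop :=
  ∀ a, IsClassFunction (fixedSub φ) a → (∀ c, MemLocalRing M (a c)) →
    MemLocalIdeal M (Lfun φ χ a - omega β a)

theorem exists_rel (hM : IsPModular p M) (hA : IsPGroup p A) (hp : ¬ p ∣ Nat.card G)
    (χ : IrrCharacter G) (hχ : IsInv φ (χ : G → ℂ)) :
    ∃ β : IrrCharacter (fixedSub φ), Rel φ M (χ : G → ℂ) (β : fixedSub φ → ℂ) := by
  letI := irrFintype (G := fixedSub φ)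
  exact IsCentralHom.exists_irr hM (isCentralHom_Lfun φ hM hA hp χ hχ)

theorem isConj_fixed_map (c : fixedSub φ) (x : A) (g : G) :
    IsConj (c : G) (φ x g) ↔ IsConj (c : G) g := by
  constructor
  · intro hc
    have := (φ x).symm.toMonoidHom.map_isConj hc
    have h1 : (φ x).symm.toMonoidHom (c : G) = (c : G) := by
      show (φ x).symm (c : G) = (c : G)
      rw [MulEquiv.symm_apply_eq]
      exact (c.2 x).symm
    have h2 : (φ x).symm.toMonoidHom (φ x g) = g := by
      show (φ x).symm (φ x g) = g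
      exact MulEquiv.symm_apply_apply _ _
    rw [h1, h2] at this
    exact this
  · intro hc
    have := (φ x).toMonoidHom.map_isConj hc
    rw [show (φ x).toMonoidHom (c : G) = (c : G) from c.2 x] at this
    exact this

theorem index_centralizer_modEq [Fact p.Prime] (hA : IsPGroup p A) (hp : ¬ p ∣ Nat.card G)
    (c : fixedSub φ) :
    (Subgroup.centralizer ({(c : G)} : Set G)).index ≡
      (Subgroup.centralizer ({c} : Set (fixedSub φ))).index [MOD p] := by
  classical
  letI := actOn φ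
  rw [← card_filter_isConj (c : G), ← card_filter_isConj c]
  have hmod := card_filter_modEq_fixedPoints (A := A) (X := G) hA (fun g => IsConj (c : G) g)
    (fun a g => isConj_fixed_map φ c a g)
  refine hmod.trans ?_
  have : ((Finset.univ.filter (· ∈ MulAction.fixedPoints A G)).filter
      (fun g => IsConj (c : G) g)).card = (Finset.univ.filter (IsConj c)).card := by
    rw [← Finset.card_image_of_injective _ Subtype.coe_injective]
    congr 1
    ext g
    simp only [Finset.mem_filter, Finset.mem_image, Finset.mem_univ, true_and]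
    constructor
    · rintro ⟨hg, hcg⟩
      obtain ⟨z, hz, hzc⟩ := fusion φ hA hp c.2 hg hcg
      exact ⟨⟨g, hg⟩, isConj_iff.2 ⟨⟨z, hz⟩, Subtype.ext hzc⟩, rfl⟩
    · rintro ⟨c', hc', rfl⟩
      refine ⟨c'.2, ?_⟩
      exact (fixedSub φ).subtype.map_isConj hc'
  rw [this]

theorem lift_classInd [Fact p.Prime] (hA : IsPGroup p A) (hp : ¬ p ∣ Nat.card G)
    (c : fixedSub φ) : lift φ (classInd c) = classInd (c : G) := by
  classical
  funext g
  by_cases hex : ∃ c' : fixedSub φ, IsConj (c' : G) g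
  · obtain ⟨c', hc'⟩ := hex
    rw [lift_eq_of_isConj φ hA hp (isClassFunction_classInd c) hc']
    unfold classInd
    have : IsConj c c' ↔ IsConj (c : G) g := by
      constructor
      · intro h
        exact ((fixedSub φ).subtype.map_isConj h).trans hc'
      · intro h
        obtain ⟨z, hz, hzc⟩ := fusion φ hA hp c.2 c'.2 (h.trans hc'.symm)
        exact isConj_iff.2 ⟨⟨z, hz⟩, Subtype.ext hzc⟩
    by_cases h1 : IsConj c c'
    · rw [if_pos h1, if_pos (this.mp h1)]
    · rw [if_neg h1, if_neg (fun h2 => h1 (this.mpr h2))]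
  · rw [lift_eq_zero φ _ hex]
    unfold classInd
    rw [if_neg]
    intro h
    exact hex ⟨c, h⟩

theorem rel_centralChar (hM : IsPModular p M) (hA : IsPGroup p A) (hp : ¬ p ∣ Nat.card G)
    (χ : IrrCharacter G) (β : IrrCharacter (fixedSub φ))
    (h : Rel φ M (χ : G → ℂ) (β : fixedSub φ → ℂ)) (c : fixedSub φ) :
    MemLocalIdeal M (centralChar (χ : G → ℂ) (c : G) - centralChar (β : fixedSub φ → ℂ) c) := by
  haveI := isPrime_of_isPModular hM
  haveI : Fact p.Prime := ⟨hM.1⟩
  letI := irrFintype (G := G)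
  letI := irrFintype (G := fixedSub φ)
  have h1 := h (classInd c) (isClassFunction_classInd c) (fun g => memLocalRing_classInd c g)
  unfold Lfun at h1
  rw [lift_classInd φ hA hp c, omega_classInd, omega_classInd] at h1
  exact h1

/-- The correspondence relation on character values. -/
def Corr (M : Ideal AlgInt) (χ : G → ℂ) (β : fixedSub φ → ℂ) : Prop :=
  ∀ c : fixedSub φ, MemLocalIdeal M (χ c / χ 1 - β c / β 1)

theorem corr_of_rel (hM : IsPModular p M) (hA : IsPGroup p A) (hp : ¬ p ∣ Nat.card G)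
    (χ : IrrCharacter G) (β : IrrCharacter (fixedSub φ))
    (h : Rel φ M (χ : G → ℂ) (β : fixedSub φ → ℂ)) :
    Corr φ M (χ : G → ℂ) (β : fixedSub φ → ℂ) := by
  haveI := isPrime_of_isPModular hM
  haveI : Fact p.Prime := ⟨hM.1⟩
  intro c
  have h0 := rel_centralChar φ hM hA hp χ β h c
  unfold centralChar at h0
  set nG := (Subgroup.centralizer ({(c : G)} : Set G)).index with hnG
  set nC := (Subgroup.centralizer ({c} : Set (fixedSub φ))).index with hnC
  have hmod : nG ≡ nC [MOD p] := index_centralizer_modEq φ hA hp c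
  have hnCp : ¬ p ∣ nC := by
    intro hd
    exact not_dvd_card_fixedSub φ hp (hd.trans (Subgroup.index_dvd_card _))
  have hnC0 : (nC : ℂ) ≠ 0 := by
    intro h0
    apply hnCp
    have : nC = 0 := by exact_mod_cast h0
    rw [this]
    exact dvd_zero p
  obtain ⟨k, hk⟩ := (Int.natCast_modEq_iff.mpr hmod).symm.dvd
  have hk' : (nG : ℂ) - (nC : ℂ) = (p : ℂ) * (k : ℂ) := by
    have := congrArg (fun z : ℤ => (z : ℂ)) hk
    push_cast at this
    exact this
  have hχc : MemLocalRing M ((χ : G → ℂ) c / (χ : G → ℂ) 1) := by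
    rw [div_eq_mul_inv]
    exact memLocalRing_mul (memLocalRing_irr χ _) (memLocalRing_inv_degree hM hp χ)
  have key : (χ : G → ℂ) c / (χ : G → ℂ) 1 - (β : fixedSub φ → ℂ) c / (β : fixedSub φ → ℂ) 1 =
      (nC : ℂ)⁻¹ * (((nG : ℂ) * (χ : G → ℂ) c / (χ : G → ℂ) 1 -
        (nC : ℂ) * (β : fixedSub φ → ℂ) c / (β : fixedSub φ → ℂ) 1) -
        ((nG : ℂ) - (nC : ℂ)) * ((χ : G → ℂ) c / (χ : G → ℂ) 1)) := by
    field_simp
    ring
  rw [key]
  apply memLocalIdeal_mul_left (memLocalRing_inv_natCast hM hnCp)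
  apply memLocalIdeal_sub h0
  rw [hk']
  exact memLocalIdeal_mul_right
    (memLocalIdeal_mul_right (memLocalIdeal_prime hM) (memLocalRing_intCast k)) hχc

theorem corr_sub_mem (hM : IsPModular p M) {χ : IrrCharacter G} {β : IrrCharacter (fixedSub φ)}
    (h : Corr φ M (χ : G → ℂ) (β : fixedSub φ → ℂ)) (c : fixedSub φ) :
    MemLocalIdeal M ((χ : G → ℂ) c -
      (χ : G → ℂ) 1 / (β : fixedSub φ → ℂ) 1 * (β : fixedSub φ → ℂ) c) := by
  haveI := isPrime_of_isPModular hM
  have h1 : (χ : G → ℂ) c - (χ : G → ℂ) 1 / (β : fixedSub φ → ℂ) 1 * (β : fixedSub φ → ℂ) c =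
      (χ : G → ℂ) 1 * ((χ : G → ℂ) c / (χ : G → ℂ) 1 -
        (β : fixedSub φ → ℂ) c / (β : fixedSub φ → ℂ) 1) := by
    have := irr_one_ne_zero χ.2
    field_simp
  rw [h1]
  exact memLocalIdeal_mul_left (memLocalRing_irr χ 1) (h c)

theorem memLocalRing_ratio (hM : IsPModular p M) (hp : ¬ p ∣ Nat.card G) (χ : IrrCharacter G)
    (β : IrrCharacter (fixedSub φ)) :
    MemLocalRing M ((χ : G → ℂ) 1 / (β : fixedSub φ → ℂ) 1) := by
  haveI := isPrime_of_isPModular hM
  rw [div_eq_mul_inv]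
  exact memLocalRing_mul (memLocalRing_irr χ 1)
    (memLocalRing_inv_degree hM (not_dvd_card_fixedSub φ hp) β)

theorem not_memLocalIdeal_ratio (hM : IsPModular p M) (hp : ¬ p ∣ Nat.card G)
    (χ : IrrCharacter G) (β : IrrCharacter (fixedSub φ)) :
    ¬ MemLocalIdeal M ((χ : G → ℂ) 1 / (β : fixedSub φ → ℂ) 1) := by
  haveI := isPrime_of_isPModular hM
  rw [div_eq_mul_inv]
  exact not_memLocalIdeal_mul (memLocalRing_irr χ 1)
    (memLocalRing_inv_degree hM (not_dvd_card_fixedSub φ hp) β)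
    (not_memLocalIdeal_degree hM hp χ)
    (not_memLocalIdeal_inv_degree hM (not_dvd_card_fixedSub φ hp) β)

/-- Multiplicities of the restriction to the fixed points, modulo the local ideal. -/
theorem mult_cong (hM : IsPModular p M) (hp : ¬ p ∣ Nat.card G) (χ : IrrCharacter G)
    (β β' : IrrCharacter (fixedSub φ))
    (h : Corr φ M (χ : G → ℂ) (β : fixedSub φ → ℂ)) :
    MemLocalIdeal M (classInner (fun c : fixedSub φ => (χ : G → ℂ) c) (β' : fixedSub φ → ℂ) -
      (χ : G → ℂ) 1 / (β : fixedSub φ → ℂ) 1 * (if β = β' then 1 else 0)) := by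
  classical
  haveI := isPrime_of_isPModular hM
  rw [← irr_orthogonality' β β']
  set u := (χ : G → ℂ) 1 / (β : fixedSub φ → ℂ) 1 with hu
  have h1 : classInner (fun c : fixedSub φ => (χ : G → ℂ) c) (β' : fixedSub φ → ℂ) -
      u * classInner (β : fixedSub φ → ℂ) (β' : fixedSub φ → ℂ) =
      (Nat.card (fixedSub φ) : ℂ)⁻¹ * ∑ c : fixedSub φ,
        ((χ : G → ℂ) c - u * (β : fixedSub φ → ℂ) c) * conj ((β' : fixedSub φ → ℂ) c) := by
    unfold classInner
    rw [← mul_assoc, mul_comm u, mul_assoc, ← mul_sub, Finset.mul_sum, ← Finset.sum_sub_distrib]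
    congr 1
    apply Finset.sum_congr rfl
    intro c _
    ring
  rw [h1]
  apply memLocalIdeal_mul_left (memLocalRing_inv_natCast hM (not_dvd_card_fixedSub φ hp))
  apply memLocalIdeal_sum
  intro c _
  exact memLocalIdeal_mul_right (corr_sub_mem φ hM h c) (memLocalRing_conj_irr β' c)

theorem sum_mul_conj_self (ψ : IrrCharacter G) :
    ∑ g : G, (ψ : G → ℂ) g * conj ((ψ : G → ℂ) g) = (Nat.card G : ℂ) := by
  have h := irr_orthogonality' ψ ψ
  rw [if_pos rfl] at h
  unfold classInner at h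
  have h0 : (Nat.card G : ℂ) ≠ 0 := card_ne_zero
  field_simp at h
  exact h

theorem sum_mul_conj_ne {ψ ψ' : IrrCharacter G} (hne : ψ ≠ ψ') :
    ∑ g : G, (ψ : G → ℂ) g * conj ((ψ' : G → ℂ) g) = 0 := by
  have h := irr_orthogonality' ψ ψ'
  rw [if_neg hne] at h
  unfold classInner at h
  have h0 : (Nat.card G : ℂ) ≠ 0 := card_ne_zero
  rcases mul_eq_zero.mp h with h1 | h1
  · exact absurd (inv_eq_zero.mp h1) h0
  · exact h1

/-- `|G| ≡ |C_G(A)|` modulo the local ideal. -/
theorem card_sub_card_mem (hM : IsPModular p M) (hA : IsPGroup p A) :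
    MemLocalIdeal M ((Nat.card G : ℂ) - (Nat.card (fixedSub φ) : ℂ)) := by
  haveI := isPrime_of_isPModular hM
  have h := memLocalIdeal_sum_sub_sum_fixedSub φ hM hA (fun _ => (1 : ℂ)) (fun _ _ => rfl)
    (fun _ => memLocalRing_one ne_top)
  simpa [Finset.sum_const, Nat.card_eq_fintype_card] using h

/-- The key congruence between inner products over `G` and over `C_G(A)`. -/
theorem key_cong (hM : IsPModular p M) (hA : IsPGroup p A) (hp : ¬ p ∣ Nat.card G)
    {χ χ' : IrrCharacter G} (hχ : IsInv φ (χ : G → ℂ)) (hχ' : IsInv φ (χ' : G → ℂ))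
    {β β' : IrrCharacter (fixedSub φ)}
    (h : Corr φ M (χ : G → ℂ) (β : fixedSub φ → ℂ))
    (h' : Corr φ M (χ' : G → ℂ) (β' : fixedSub φ → ℂ)) :
    MemLocalIdeal M (∑ g : G, (χ : G → ℂ) g * conj ((χ' : G → ℂ) g) -
      (χ : G → ℂ) 1 / (β : fixedSub φ → ℂ) 1 * ((χ' : G → ℂ) 1 / (β' : fixedSub φ → ℂ) 1) *
        ∑ c : fixedSub φ, (β : fixedSub φ → ℂ) c * conj ((β' : fixedSub φ → ℂ) c)) := by
  haveI := isPrime_of_isPModular hM
  set u := (χ : G → ℂ) 1 / (β : fixedSub φ → ℂ) 1 with hu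
  set u' := (χ' : G → ℂ) 1 / (β' : fixedSub φ → ℂ) 1 with hu'
  have huR : MemLocalRing M u := memLocalRing_ratio φ hM hp χ β
  have hu'R : MemLocalRing M u' := memLocalRing_ratio φ hM hp χ' β'
  have h1 := memLocalIdeal_sum_sub_sum_fixedSub φ hM hA
    (fun g => (χ : G → ℂ) g * conj ((χ' : G → ℂ) g))
    (by
      intro x g
      show (χ : G → ℂ) (φ x g) * conj ((χ' : G → ℂ) (φ x g)) = _
      rw [hχ x g, hχ' x g])
    (fun g => memLocalRing_mul (memLocalRing_irr χ g) (memLocalRing_conj_irr χ' g))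
  have h2 : MemLocalIdeal M (∑ c : fixedSub φ, (χ : G → ℂ) c * conj ((χ' : G → ℂ) c) -
      u * u' * ∑ c : fixedSub φ, (β : fixedSub φ → ℂ) c * conj ((β' : fixedSub φ → ℂ) c)) := by
    rw [Finset.mul_sum, ← Finset.sum_sub_distrib]
    apply memLocalIdeal_sum
    intro c _
    have hc1 := corr_sub_mem φ hM h c
    have hc2 := corr_sub_mem φ hM h' c⁻¹
    have e1 : conj ((χ' : G → ℂ) c) = (χ' : G → ℂ) ((c⁻¹ : fixedSub φ) : G) := by
      rw [Subgroup.coe_inv, irr_inv (isCharacter_of_isIrrCharacter χ'.2)]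
    have e2 : conj ((β' : fixedSub φ → ℂ) c) = (β' : fixedSub φ → ℂ) c⁻¹ := by
      rw [irr_inv (isCharacter_of_isIrrCharacter β'.2)]
    rw [e1, e2]
    have e3 : u * u' * ((β : fixedSub φ → ℂ) c * (β' : fixedSub φ → ℂ) c⁻¹) =
        (u * (β : fixedSub φ → ℂ) c) * (u' * (β' : fixedSub φ → ℂ) c⁻¹) := by ring
    rw [e3]
    exact cong_mul hc1 hc2 (memLocalRing_mul huR (memLocalRing_irr β c))
      (memLocalRing_irr χ' _)
  have := memLocalIdeal_add h1 h2
  simpa using this

/-- `(χ(1)/β(1))² ≡ 1`. -/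
theorem ratio_sq_cong (hM : IsPModular p M) (hA : IsPGroup p A) (hp : ¬ p ∣ Nat.card G)
    {χ : IrrCharacter G} (hχ : IsInv φ (χ : G → ℂ)) {β : IrrCharacter (fixedSub φ)}
    (h : Corr φ M (χ : G → ℂ) (β : fixedSub φ → ℂ)) :
    MemLocalIdeal M (((χ : G → ℂ) 1 / (β : fixedSub φ → ℂ) 1) ^ 2 - 1) := by
  haveI := isPrime_of_isPModular hM
  have h1 := key_cong φ hM hA hp hχ hχ h h
  rw [sum_mul_conj_self χ, sum_mul_conj_self β] at h1
  have h2 := card_sub_card_mem φ hM hA
  set u := (χ : G → ℂ) 1 / (β : fixedSub φ → ℂ) 1 with hu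
  have hC0 : (Nat.card (fixedSub φ) : ℂ) ≠ 0 := card_ne_zero
  have e : u ^ 2 - 1 = (Nat.card (fixedSub φ) : ℂ)⁻¹ *
      (((Nat.card G : ℂ) - (Nat.card (fixedSub φ) : ℂ)) -
        ((Nat.card G : ℂ) - u * u * (Nat.card (fixedSub φ) : ℂ))) := by
    field_simp
    ring
  rw [e]
  exact memLocalIdeal_mul_left (memLocalRing_inv_natCast hM (not_dvd_card_fixedSub φ hp))
    (memLocalIdeal_sub h2 h1)

/-- Injectivity of the correspondence. -/
theorem corr_inj (hM : IsPModular p M) (hA : IsPGroup p A) (hp : ¬ p ∣ Nat.card G)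
    {χ χ' : IrrCharacter G} (hχ : IsInv φ (χ : G → ℂ)) (hχ' : IsInv φ (χ' : G → ℂ))
    {β : IrrCharacter (fixedSub φ)}
    (h : Corr φ M (χ : G → ℂ) (β : fixedSub φ → ℂ))
    (h' : Corr φ M (χ' : G → ℂ) (β : fixedSub φ → ℂ)) : χ = χ' := by
  haveI := isPrime_of_isPModular hM
  by_contra hne
  have h1 := key_cong φ hM hA hp hχ hχ' h h'
  rw [sum_mul_conj_ne hne, sum_mul_conj_self β, zero_sub] at h1
  have h2 := memLocalIdeal_neg h1
  rw [neg_neg] at h2
  have hC : ¬ MemLocalIdeal M (Nat.card (fixedSub φ) : ℂ) :=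
    not_memLocalIdeal_natCast hM (not_dvd_card_fixedSub φ hp)
  exact not_memLocalIdeal_mul
    (memLocalRing_mul (memLocalRing_ratio φ hM hp χ β) (memLocalRing_ratio φ hM hp χ' β))
    (memLocalRing_natCast _)
    (not_memLocalIdeal_mul (memLocalRing_ratio φ hM hp χ β) (memLocalRing_ratio φ hM hp χ' β)
      (not_memLocalIdeal_ratio φ hM hp χ β) (not_memLocalIdeal_ratio φ hM hp χ' β)) hC h2

/-- The correspondent is unique. -/
theorem corr_unique (hM : IsPModular p M) (hA : IsPGroup p A) (hp : ¬ p ∣ Nat.card G)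
    {χ : IrrCharacter G} (hχ : IsInv φ (χ : G → ℂ)) {β β' : IrrCharacter (fixedSub φ)}
    (h : Corr φ M (χ : G → ℂ) (β : fixedSub φ → ℂ))
    (h' : Corr φ M (χ : G → ℂ) (β' : fixedSub φ → ℂ)) : β = β' := by
  haveI := isPrime_of_isPModular hM
  by_contra hne
  have h1 := key_cong φ hM hA hp hχ hχ h h'
  rw [sum_mul_conj_self χ, sum_mul_conj_ne hne, mul_zero, sub_zero] at h1
  exact not_memLocalIdeal_natCast hM hp h1

/-- The action of `A` on the irreducible characters of `G`. -/
@[reducible] noncomputable def irrAct : MulAction A (IrrCharacter G) where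
  smul a χ := ⟨(χ : G → ℂ) ∘ (φ a).symm,
    Cfsg.Agent.Helper5.isIrrCharacter_comp_equiv ((φ a).symm : G ≃* G) χ.2⟩
  one_smul χ := by
    apply Subtype.ext
    funext g
    show (χ : G → ℂ) ((φ 1).symm g) = (χ : G → ℂ) g
    rw [map_one]
    rfl
  mul_smul a b χ := by
    apply Subtype.ext
    funext g
    show (χ : G → ℂ) ((φ (a * b)).symm g) = (χ : G → ℂ) ((φ b).symm ((φ a).symm g))
    rw [map_mul]
    rfl

theorem irrAct_apply (a : A) (χ : IrrCharacter G) (g : G) :
    (((irrAct φ).toSMul.smul a χ : IrrCharacter G) : G → ℂ) g = (χ : G → ℂ) ((φ a).symm g) := rfl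

theorem mem_fixedPoints_irrAct (χ : IrrCharacter G) :
    (letI := irrAct φ; χ ∈ MulAction.fixedPoints A (IrrCharacter G)) ↔ IsInv φ (χ : G → ℂ) := by
  letI := irrAct φ
  constructor
  · intro h a g
    have h1 := congrFun (congrArg Subtype.val (h a)) (φ a g)
    have h2 : ((a • χ : IrrCharacter G) : G → ℂ) (φ a g) = (χ : G → ℂ) ((φ a).symm (φ a g)) := rfl
    rw [h2, MulEquiv.symm_apply_apply] at h1
    exact h1.symm
  · intro h a
    apply Subtype.ext
    funext g
    show (χ : G → ℂ) ((φ a).symm g) = (χ : G → ℂ) g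
    have := h a ((φ a).symm g)
    rw [MulEquiv.apply_symm_apply] at this
    exact this.symm

theorem omega_idemCoeff [Fintype (IrrCharacter (fixedSub φ))] (β β' : IrrCharacter (fixedSub φ)) :
    omega (β' : fixedSub φ → ℂ) (idemCoeff (β : fixedSub φ → ℂ)) = if β' = β then 1 else 0 := by
  classical
  have h1 : idemCoeff (β : fixedSub φ → ℂ) =
      synth (fun ψ : IrrCharacter (fixedSub φ) => if ψ = β then (1 : ℂ) else 0) := by
    funext g
    unfold synth
    simp only [ite_mul, one_mul, zero_mul, Finset.sum_ite_eq', Finset.mem_univ, if_true]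
  rw [h1, omega_synth]

/-- Surjectivity of the correspondence. -/
theorem corr_surj (hM : IsPModular p M) (hA : IsPGroup p A) (hp : ¬ p ∣ Nat.card G)
    (β : IrrCharacter (fixedSub φ)) :
    ∃ χ : IrrCharacter G, IsInv φ (χ : G → ℂ) ∧
      Corr φ M (χ : G → ℂ) (β : fixedSub φ → ℂ) := by
  classical
  haveI := isPrime_of_isPModular hM
  haveI : Fact p.Prime := ⟨hM.1⟩
  letI := irrFintype (G := G)
  letI := irrFintype (G := fixedSub φ)
  by_contra hcon
  push Not at hcon
  have hpC := not_dvd_card_fixedSub φ hp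
  -- the lifted idempotent
  have heR : ∀ c, MemLocalRing M (idemCoeff (β : fixedSub φ → ℂ) c) := by
    intro c
    unfold idemCoeff
    exact memLocalRing_mul (memLocalRing_inv_natCast hM hpC)
      (memLocalRing_mul (memLocalRing_irr β 1) (memLocalRing_conj_irr β c))
  have hecl : IsClassFunction (fixedSub φ) (idemCoeff (β : fixedSub φ → ℂ)) := by
    intro g h
    unfold idemCoeff
    rw [isClassFunction_of_isIrrCharacter β.2 g h]
  set Φ := lift φ (idemCoeff (β : fixedSub φ → ℂ)) with hΦ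
  have hΦcl : IsClassFunction G Φ := isClassFunction_lift φ hA hp hecl
  have hΦR : ∀ g, MemLocalRing M (Φ g) := memLocalRing_lift φ heR
  have hΦinv : IsInv φ Φ := isInv_lift φ hA hp hecl
  -- invariant characters see `Φ` trivially
  have hinvχ : ∀ χ : IrrCharacter G, IsInv φ (χ : G → ℂ) →
      MemLocalIdeal M (omega (χ : G → ℂ) Φ) := by
    intro χ hχ
    obtain ⟨β', hβ'⟩ := exists_rel φ hM hA hp χ hχ
    have hne : β' ≠ β := by
      rintro rfl
      exact hcon χ hχ (corr_of_rel φ hM hA hp χ β' hβ')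
    have h1 := hβ' _ hecl heR
    rw [omega_idemCoeff, if_neg hne, sub_zero] at h1
    exact h1
  -- spectral decomposition at the identity
  have h1 : Φ 1 = ∑ χ : IrrCharacter G, omega (χ : G → ℂ) Φ * idemCoeff (χ : G → ℂ) 1 := by
    rw [← synth_omega hΦcl 1]
    rfl
  letI := irrAct φ
  have hidR : ∀ χ : IrrCharacter G, MemLocalRing M (idemCoeff (χ : G → ℂ) 1) := by
    intro χ
    unfold idemCoeff
    exact memLocalRing_mul (memLocalRing_inv_natCast hM hp)
      (memLocalRing_mul (memLocalRing_irr χ 1) (memLocalRing_conj_irr χ 1))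
  have h2 := memLocalIdeal_sum_sub_sum_fixedPoints (A := A) (X := IrrCharacter G) hM hA
    (fun χ => omega (χ : G → ℂ) Φ * idemCoeff (χ : G → ℂ) 1)
    (by
      intro a χ
      have e1 : omega ((a • χ : IrrCharacter G) : G → ℂ) Φ = omega (χ : G → ℂ) Φ := by
        unfold omega
        have hone : ((a • χ : IrrCharacter G) : G → ℂ) 1 = (χ : G → ℂ) 1 := by
          show (χ : G → ℂ) ((φ a).symm 1) = _
          rw [map_one]
        rw [hone]
        congr 1
        rw [← Equiv.sum_comp (φ a).toEquiv]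
        apply Finset.sum_congr rfl
        intro g _
        show Φ (φ a g) * (χ : G → ℂ) ((φ a).symm (φ a g)) = _
        rw [hΦinv a g, MulEquiv.symm_apply_apply]
      have e2 : idemCoeff ((a • χ : IrrCharacter G) : G → ℂ) 1 = idemCoeff (χ : G → ℂ) 1 := by
        unfold idemCoeff
        have hone : ((a • χ : IrrCharacter G) : G → ℂ) 1 = (χ : G → ℂ) 1 := by
          show (χ : G → ℂ) ((φ a).symm 1) = _
          rw [map_one]
        rw [hone]
      show omega ((a • χ : IrrCharacter G) : G → ℂ) Φ *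
        idemCoeff ((a • χ : IrrCharacter G) : G → ℂ) 1 = _
      rw [e1, e2])
    (fun χ => memLocalRing_mul (memLocalRing_omega χ hΦcl hΦR) (hidR χ))
  have h3 : MemLocalIdeal M (∑ χ ∈ Finset.univ.filter
      (· ∈ MulAction.fixedPoints A (IrrCharacter G)),
      omega (χ : G → ℂ) Φ * idemCoeff (χ : G → ℂ) 1) := by
    apply memLocalIdeal_sum
    intro χ hχ
    rw [Finset.mem_filter] at hχ
    exact memLocalIdeal_mul_right (hinvχ χ ((mem_fixedPoints_irrAct φ χ).mp hχ.2)) (hidR χ)
  have h4 : MemLocalIdeal M (Φ 1) := by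
    rw [h1]
    have := memLocalIdeal_add h2 h3
    simpa using this
  -- but `Φ 1` is a unit
  have h5 : Φ 1 = idemCoeff (β : fixedSub φ → ℂ) 1 := by
    have := lift_coe φ hA hp hecl (1 : fixedSub φ)
    rw [Subgroup.coe_one] at this
    exact this
  rw [h5] at h4
  unfold idemCoeff at h4
  rw [conj_irr_one β.2] at h4
  exact not_memLocalIdeal_mul (memLocalRing_inv_natCast hM hpC)
    (memLocalRing_mul (memLocalRing_irr β 1) (memLocalRing_irr β 1))
    (not_memLocalIdeal_inv_natCast hM hpC)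
    (not_memLocalIdeal_mul (memLocalRing_irr β 1) (memLocalRing_irr β 1)
      (not_memLocalIdeal_degree hM hpC β) (not_memLocalIdeal_degree hM hpC β)) h4

/-- Every invariant irreducible character has a correspondent. -/
theorem exists_corr (hM : IsPModular p M) (hA : IsPGroup p A) (hp : ¬ p ∣ Nat.card G)
    (χ : IrrCharacter G) (hχ : IsInv φ (χ : G → ℂ)) :
    ∃ β : IrrCharacter (fixedSub φ), Corr φ M (χ : G → ℂ) (β : fixedSub φ → ℂ) := by
  obtain ⟨β, hβ⟩ := exists_rel φ hM hA hp χ hχ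
  exact ⟨β, corr_of_rel φ hM hA hp χ β hβ⟩

/-- The correspondent is the unique constituent of the restriction with multiplicity prime to
`p`. -/
theorem not_dvd_mult_iff (hM : IsPModular p M) (hp : ¬ p ∣ Nat.card G)
    {χ : IrrCharacter G} {β : IrrCharacter (fixedSub φ)}
    (h : Corr φ M (χ : G → ℂ) (β : fixedSub φ → ℂ)) (β' : IrrCharacter (fixedSub φ)) (m : ℕ)
    (hm : classInner (fun c : fixedSub φ => (χ : G → ℂ) c) (β' : fixedSub φ → ℂ) = m) :
    ¬ p ∣ m ↔ β' = β := by
  haveI := isPrime_of_isPModular hM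
  have h1 := mult_cong φ hM hp χ β β' h
  rw [hm] at h1
  constructor
  · intro hpm
    by_contra hne
    rw [if_neg (fun h' => hne h'.symm), mul_zero, sub_zero] at h1
    exact hpm ((memLocalIdeal_natCast_iff hM m).mp h1)
  · rintro rfl hpm
    rw [if_pos rfl, mul_one] at h1
    have h2 : MemLocalIdeal M (m : ℂ) := (memLocalIdeal_natCast_iff hM m).mpr hpm
    have h3 := memLocalIdeal_sub h2 h1
    rw [sub_sub_cancel] at h3
    exact not_memLocalIdeal_ratio φ hM hp χ β' h3

/-- The multiplicity of the correspondent is `±1` modulo `p`. -/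
theorem mult_modEq (hM : IsPModular p M) (hA : IsPGroup p A) (hp : ¬ p ∣ Nat.card G)
    {χ : IrrCharacter G} (hχ : IsInv φ (χ : G → ℂ)) {β : IrrCharacter (fixedSub φ)}
    (h : Corr φ M (χ : G → ℂ) (β : fixedSub φ → ℂ)) (m : ℕ)
    (hm : classInner (fun c : fixedSub φ => (χ : G → ℂ) c) (β : fixedSub φ → ℂ) = m) :
    (m : ℤ) ≡ 1 [ZMOD p] ∨ (m : ℤ) ≡ -1 [ZMOD p] := by
  haveI := isPrime_of_isPModular hM
  have h1 := mult_cong φ hM hp χ β β h
  rw [hm, if_pos rfl, mul_one] at h1
  have h2 := ratio_sq_cong φ hM hA hp hχ h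
  set u := (χ : G → ℂ) 1 / (β : fixedSub φ → ℂ) 1 with hu
  have huR : MemLocalRing M u := memLocalRing_ratio φ hM hp χ β
  have h3 : MemLocalIdeal M ((m : ℂ) ^ 2 - 1) := by
    have e : (m : ℂ) ^ 2 - 1 = ((m : ℂ) - u) * ((m : ℂ) + u) + (u ^ 2 - 1) := by ring
    rw [e]
    exact memLocalIdeal_add
      (memLocalIdeal_mul_right h1 (memLocalRing_add (memLocalRing_natCast m) huR)) h2
  have hm1 : 1 ≤ m := by
    by_contra hlt
    have hm0 : m = 0 := by omega
    rw [hm0] at h3
    norm_num at h3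
    have := memLocalIdeal_neg h3
    rw [neg_neg] at this
    exact not_memLocalIdeal_one this
  have h4 : MemLocalIdeal M ((m ^ 2 - 1 : ℕ) : ℂ) := by
    have : ((m ^ 2 - 1 : ℕ) : ℂ) = (m : ℂ) ^ 2 - 1 := by
      have : 1 ≤ m ^ 2 := Nat.one_le_pow _ _ hm1
      push_cast [Nat.cast_sub this]
      ring
    rw [this]
    exact h3
  have h5 : p ∣ m ^ 2 - 1 := (memLocalIdeal_natCast_iff hM _).mp h4
  have h6 : (p : ℤ) ∣ ((m : ℤ) - 1) * ((m : ℤ) + 1) := by
    have : ((m : ℤ) - 1) * ((m : ℤ) + 1) = ((m ^ 2 - 1 : ℕ) : ℤ) := by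
      have : 1 ≤ m ^ 2 := Nat.one_le_pow _ _ hm1
      push_cast [Nat.cast_sub this]
      ring
    rw [this]
    exact_mod_cast h5
  rcases Int.Prime.dvd_mul' hM.1 h6 with h7 | h7
  · left
    exact (Int.modEq_iff_dvd.mpr h7).symm
  · right
    apply Int.ModEq.symm
    rw [Int.modEq_iff_dvd]
    simpa using h7

/-- `β` is the Glauberman correspondent of `χ`: its multiplicity in the restriction of `χ` to the
fixed points is prime to `p`. -/
def IsGl (p : ℕ) (χ : G → ℂ) (β : fixedSub φ → ℂ) : Prop :=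
  ∃ m : ℕ, classInner (fun c : fixedSub φ => χ c) β = m ∧ ¬ p ∣ m

theorem isGl_iff_corr (hM : IsPModular p M) (hA : IsPGroup p A) (hp : ¬ p ∣ Nat.card G)
    {χ : IrrCharacter G} (hχ : IsInv φ (χ : G → ℂ)) (β : IrrCharacter (fixedSub φ)) :
    IsGl φ p (χ : G → ℂ) (β : fixedSub φ → ℂ) ↔ Corr φ M (χ : G → ℂ) (β : fixedSub φ → ℂ) := by
  constructor
  · rintro ⟨m, hm, hpm⟩
    obtain ⟨β₀, hβ₀⟩ := exists_corr φ hM hA hp χ hχ
    have := (not_dvd_mult_iff φ hM hp hβ₀ β m hm).mp hpm
    rw [this]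
    exact hβ₀
  · intro h
    letI := irrFintype (G := fixedSub φ)
    obtain ⟨m, hm⟩ := classInner_char_nat
      (isCharacter_restrict (fixedSub φ) (isCharacter_of_isIrrCharacter χ.2))
      (isCharacter_of_isIrrCharacter β.2)
    exact ⟨m, hm, (not_dvd_mult_iff φ hM hp h β m hm).mpr rfl⟩

/-- **Glauberman correspondence, `p`-group case** (i): existence and uniqueness. -/
theorem glauberman_existsUnique (hpp : p.Prime) (hA : IsPGroup p A) (hp : ¬ p ∣ Nat.card G)
    (χ : IrrCharacter G) (hχ : IsInv φ (χ : G → ℂ)) :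
    ∃! β : IrrCharacter (fixedSub φ), IsGl φ p (χ : G → ℂ) (β : fixedSub φ → ℂ) := by
  obtain ⟨M, hM⟩ := exists_isPModular hpp
  obtain ⟨β₀, hβ₀⟩ := exists_corr φ hM hA hp χ hχ
  refine ⟨β₀, (isGl_iff_corr φ hM hA hp hχ β₀).mpr hβ₀, ?_⟩
  intro β hβ
  exact corr_unique φ hM hA hp hχ ((isGl_iff_corr φ hM hA hp hχ β).mp hβ) hβ₀

/-- (ii): the multiplicity is `±1` modulo `p`. -/
theorem glauberman_modEq (hpp : p.Prime) (hA : IsPGroup p A) (hp : ¬ p ∣ Nat.card G)
    (χ : IrrCharacter G) (hχ : IsInv φ (χ : G → ℂ)) (β : IrrCharacter (fixedSub φ)) (m : ℕ)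
    (hm : classInner (fun c : fixedSub φ => (χ : G → ℂ) c) (β : fixedSub φ → ℂ) = m)
    (hpm : ¬ p ∣ m) : (m : ℤ) ≡ 1 [ZMOD p] ∨ (m : ℤ) ≡ -1 [ZMOD p] := by
  obtain ⟨M, hM⟩ := exists_isPModular hpp
  have h := (isGl_iff_corr φ hM hA hp hχ β).mp ⟨m, hm, hpm⟩
  exact mult_modEq φ hM hA hp hχ h m hm

/-- (iii): injectivity. -/
theorem glauberman_inj (hpp : p.Prime) (hA : IsPGroup p A) (hp : ¬ p ∣ Nat.card G)
    (χ χ' : IrrCharacter G) (hχ : IsInv φ (χ : G → ℂ)) (hχ' : IsInv φ (χ' : G → ℂ))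
    (β : IrrCharacter (fixedSub φ)) (h : IsGl φ p (χ : G → ℂ) (β : fixedSub φ → ℂ))
    (h' : IsGl φ p (χ' : G → ℂ) (β : fixedSub φ → ℂ)) : χ = χ' := by
  obtain ⟨M, hM⟩ := exists_isPModular hpp
  exact corr_inj φ hM hA hp hχ hχ' ((isGl_iff_corr φ hM hA hp hχ β).mp h)
    ((isGl_iff_corr φ hM hA hp hχ' β).mp h')

/-- (iv): surjectivity. -/
theorem glauberman_surj (hpp : p.Prime) (hA : IsPGroup p A) (hp : ¬ p ∣ Nat.card G)
    (β : IrrCharacter (fixedSub φ)) :
    ∃ χ : IrrCharacter G, IsInv φ (χ : G → ℂ) ∧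
      IsGl φ p (χ : G → ℂ) (β : fixedSub φ → ℂ) := by
  obtain ⟨M, hM⟩ := exists_isPModular hpp
  obtain ⟨χ, hχ, h⟩ := corr_surj φ hM hA hp β
  exact ⟨χ, hχ, (isGl_iff_corr φ hM hA hp hχ β).mpr h⟩

end Cfsg.Agent.Helper24.Glaub
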