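import Mathlib
import Cfsg.Prelude.Def_Blocks
import Cfsg.Agent.Lib.Helper5.Clifford

/-!
# The action of the normalizer of a subgroup on its irreducible characters
(helper24's shared library)

For a subgroup `H` of `Γ`, the normalizer of `H` acts on `IrrCharacter H` by
`(x • θ) h = θ (x⁻¹ h x)`.

* `normConj H x : H ≃* H` : conjugation by `x ∈ N_Γ(H)`;
* `normAct H : MulAction (normalizer H) (IrrCharacter H)`;
* `permOf H X hX : X →* Equiv.Perm (IrrCharacter H)` for a subgroup `X ≤ N_Γ(H)`.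
-/

set_option autoImplicit false
set_option linter.style.haveILetI false

namespace Cfsg.Agent.Helper24

open Cfsg

universe u

variable {Γ : Type u} [Group Γ]

/-- A subgroup all of whose elements conjugate `H` into itself normalizes `H`. -/
theorem le_normalizer_of_forall_conj_mem (S H : Subgroup Γ)
    (h : ∀ s ∈ S, ∀ g ∈ H, s * g * s⁻¹ ∈ H) : S ≤ Subgroup.normalizer (H : Set Γ) := by
  intro s hs
  rw [Subgroup.mem_normalizer_iff]
  intro g
  constructor
  · intro hg
    exact h s hs g hg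
  · intro hg
    have := h s⁻¹ (S.inv_mem hs) _ hg
    rw [inv_inv] at this
    have e : s⁻¹ * (s * g * s⁻¹) * s = g := by group
    rw [e] at this
    exact this

/-- Conjugation by an element of the normalizer, as an automorphism of `H`. -/
def normConj (H : Subgroup Γ) (x : Γ) (hx : x ∈ Subgroup.normalizer (H : Set Γ)) : H ≃* H where
  toFun h := ⟨x * h * x⁻¹, (Subgroup.mem_normalizer_iff.mp hx h).mp h.2⟩
  invFun h := ⟨x⁻¹ * h * x, by
    have := (Subgroup.mem_normalizer_iff.mp hx (x⁻¹ * h * x))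
    rw [this]
    have e : x * (x⁻¹ * (h : Γ) * x) * x⁻¹ = h := by group
    rw [e]
    exact h.2⟩
  left_inv h := by
    apply Subtype.ext
    show x⁻¹ * (x * (h : Γ) * x⁻¹) * x = h
    group
  right_inv h := by
    apply Subtype.ext
    show x * (x⁻¹ * (h : Γ) * x) * x⁻¹ = h
    group
  map_mul' a b := by
    apply Subtype.ext
    show x * ((a : Γ) * b) * x⁻¹ = (x * a * x⁻¹) * (x * b * x⁻¹)
    group

theorem normConj_apply (H : Subgroup Γ) (x : Γ) (hx : x ∈ Subgroup.normalizer (H : Set Γ))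
    (h : H) : ((normConj H x hx h : H) : Γ) = x * h * x⁻¹ := rfl

/-- The conjugate of an irreducible character of `H` by an element of the normalizer:
`(conjIrr x θ) h = θ (x⁻¹ h x)`. -/
noncomputable def conjIrr (H : Subgroup Γ) (x : Γ) (hx : x ∈ Subgroup.normalizer (H : Set Γ))
    (θ : IrrCharacter H) : IrrCharacter H :=
  ⟨(θ : H → ℂ) ∘ (normConj H x⁻¹ (Subgroup.inv_mem _ hx)),
    Cfsg.Agent.Helper5.isIrrCharacter_comp_equiv _ θ.2⟩

theorem conjIrr_apply (H : Subgroup Γ) (x : Γ) (hx : x ∈ Subgroup.normalizer (H : Set Γ))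
    (θ : IrrCharacter H) (h : H) :
    (conjIrr H x hx θ : H → ℂ) h =
      (θ : H → ℂ) (normConj H x⁻¹ (Subgroup.inv_mem _ hx) h) := rfl

theorem conjIrr_eq_iff (H : Subgroup Γ) (x : Γ) (hx : x ∈ Subgroup.normalizer (H : Set Γ))
    (θ : IrrCharacter H) :
    conjIrr H x hx θ = θ ↔ ∀ g g' : H, (g' : Γ) = x * g * x⁻¹ → (θ : H → ℂ) g' = (θ : H → ℂ) g := by
  constructor
  · intro h g g' hgg'
    have h1 := congrFun (congrArg Subtype.val h) g'
    rw [conjIrr_apply] at h1
    rw [← h1]
    apply congrArg (θ : H → ℂ)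
    apply Subtype.ext
    rw [normConj_apply, hgg']
    group
  · intro h
    apply Subtype.ext
    funext g
    rw [conjIrr_apply]
    symm
    apply h
    rw [normConj_apply]
    group

/-- The action of the normalizer of `H` on the irreducible characters of `H`. -/
@[reducible] noncomputable def normAct (H : Subgroup Γ) :
    MulAction (Subgroup.normalizer (H : Set Γ)) (IrrCharacter H) where
  smul x θ := conjIrr H x.1 x.2 θ
  one_smul θ := by
    apply Subtype.ext
    funext h
    show (θ : H → ℂ) _ = (θ : H → ℂ) h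
    apply congrArg (θ : H → ℂ)
    apply Subtype.ext
    rw [normConj_apply]
    simp
  mul_smul x y θ := by
    apply Subtype.ext
    funext h
    show (θ : H → ℂ) _ = (θ : H → ℂ) _
    apply congrArg (θ : H → ℂ)
    apply Subtype.ext
    simp only [normConj_apply, Subgroup.coe_mul]
    group

/-- The permutation representation of a subgroup `X ≤ N_Γ(H)` on `IrrCharacter H`. -/
noncomputable def permOf (H X : Subgroup Γ) (hX : X ≤ Subgroup.normalizer (H : Set Γ)) :
    X →* Equiv.Perm (IrrCharacter H) :=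
  letI := normAct H
  (MulAction.toPermHom (Subgroup.normalizer (H : Set Γ)) (IrrCharacter H)).comp
    (Subgroup.inclusion hX)

theorem permOf_apply (H X : Subgroup Γ) (hX : X ≤ Subgroup.normalizer (H : Set Γ)) (x : X)
    (θ : IrrCharacter H) : permOf H X hX x θ = conjIrr H x.1 (hX x.2) θ := rfl

/-- If `X` normalizes `Y` (both inside `N_Γ(H)`), the image of `X` in `Sym (Irr H)` normalizes the
image of `Y`. -/
theorem permOf_range_le_normalizer (H X Y : Subgroup Γ)
    (hX : X ≤ Subgroup.normalizer (H : Set Γ)) (hY : Y ≤ Subgroup.normalizer (H : Set Γ))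
    (hXY : ∀ x ∈ X, ∀ y ∈ Y, x * y * x⁻¹ ∈ Y) :
    (permOf H X hX).range ≤
      Subgroup.normalizer ((permOf H Y hY).range : Set (Equiv.Perm (IrrCharacter H))) := by
  apply le_normalizer_of_forall_conj_mem
  rintro _ ⟨x, rfl⟩ _ ⟨y, rfl⟩
  refine ⟨⟨x * y * x⁻¹, hXY x x.2 y y.2⟩, ?_⟩
  unfold permOf
  simp only [MonoidHom.comp_apply]
  rw [← map_inv, ← map_mul, ← map_mul]
  apply congrArg
  apply Subtype.ext
  rfl

/-- Multiplicities in the restriction of an `x`-invariant function are `x`-invariant. -/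
theorem classInner_res_conjIrr (H G : Subgroup Γ) [Fintype H] (hHG : H ≤ G) (x : Γ)
    (hx : x ∈ Subgroup.normalizer (H : Set Γ)) (χ : G → ℂ)
    (hinv : ∀ g g' : G, (g' : Γ) = x * g * x⁻¹ → χ g' = χ g) (θ : IrrCharacter H) :
    classInner (fun n : H => χ ⟨n, hHG n.2⟩) (conjIrr H x hx θ : H → ℂ) =
      classInner (fun n : H => χ ⟨n, hHG n.2⟩) (θ : H → ℂ) := by
  have h1 : (fun n : H => χ ⟨n, hHG n.2⟩) =
      (fun n : H => χ ⟨n, hHG n.2⟩) ∘ (normConj H x⁻¹ (Subgroup.inv_mem _ hx)) := by
    funext n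
    rw [Function.comp_apply]
    apply hinv
    show (n : Γ) = x * (x⁻¹ * (n : Γ) * x⁻¹⁻¹) * x⁻¹
    group
  have h2 : (conjIrr H x hx θ : H → ℂ) =
      (θ : H → ℂ) ∘ (normConj H x⁻¹ (Subgroup.inv_mem _ hx)) := rfl
  rw [h2]
  conv_lhs => rw [h1]
  exact Cfsg.Agent.Helper5.classInner_comp_equiv _ _ _

end Cfsg.Agent.Helper24
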