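import Mathlib
import Cfsg.Prelude.Def_Blocks
import Cfsg.Agent.Lib.Helper24.CharAlgebra

/-!
# Irreducible characters and normal subgroups (helper24's shared library)
-/

set_option autoImplicit false

namespace Cfsg.Agent.Helper24

open Cfsg Module

universe u

open scoped ComplexConjugate

section NormalSum

variable {G : Type u} [Group G] [Fintype G]

/-- The sum of an irreducible representation over a normal subgroup not contained in its kernel
vanishes. -/
theorem sum_rep_normal_eq_zero (N : Subgroup G) [N.Normal] [Fintype N] {n : ℕ}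
    (ρ : Representation ℂ G (Fin n → ℂ)) (hρ : ρ.IsIrreducible)
    (hN : ∃ x ∈ N, ρ x ≠ 1) : ∑ m : N, ρ (m : G) = 0 := by
  set T : Module.End ℂ (Fin n → ℂ) := ∑ m : N, ρ (m : G) with hT
  have hcomm : ∀ h : G, T ∘ₗ ρ h = ρ h ∘ₗ T := by
    intro h
    have h1 : T ∘ₗ ρ h = ∑ m : N, ρ ((m : G) * h) := by
      rw [hT, ← Module.End.mul_eq_comp, Finset.sum_mul]
      refine Finset.sum_congr rfl fun m _ => ?_
      rw [map_mul]
    have h2 : ρ h ∘ₗ T = ∑ m : N, ρ (h * (m : G)) := by
      rw [hT, ← Module.End.mul_eq_comp, Finset.mul_sum]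
      refine Finset.sum_congr rfl fun m _ => ?_
      rw [map_mul]
    rw [h1, h2]
    have := Equiv.sum_comp (MulAut.conjNormal h : N ≃* N).toEquiv (fun m : N => ρ ((m : G) * h))
    rw [← this]
    refine Finset.sum_congr rfl fun m _ => ?_
    congr 1
    simp [MulAut.conjNormal_apply]
  obtain ⟨c, hc⟩ := exists_scalar_of_comm ρ hρ T hcomm
  have hfix : ∀ k : N, ρ (k : G) * T = T := by
    intro k
    rw [hT, Finset.mul_sum]
    have := Equiv.sum_comp (Equiv.mulLeft k) (fun m : N => ρ (m : G))
    rw [← this]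
    refine Finset.sum_congr rfl fun m _ => ?_
    rw [← map_mul]
    rfl
  by_cases hc0 : c = 0
  · rw [hc, hc0, zero_smul]
  · exfalso
    obtain ⟨x, hxN, hx⟩ := hN
    apply hx
    have := hfix ⟨x, hxN⟩
    rw [hc, mul_smul_comm, mul_one] at this
    exact smul_right_injective _ hc0 this

/-- If `N` is a normal subgroup not contained in the kernel of the irreducible character `χ`, then
the sum of `χ` over every coset of `N` vanishes. -/
theorem sum_char_coset_eq_zero (N : Subgroup G) [N.Normal] [Fintype N] {χ : G → ℂ}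
    (hχ : IsIrrCharacter G χ) (hN : ∃ x ∈ N, χ x ≠ χ 1) (g : G) :
    ∑ m : N, χ (g * (m : G)) = 0 := by
  obtain ⟨n, ρ, hρ, rfl⟩ := hχ
  have hN' : ∃ x ∈ N, ρ x ≠ 1 := by
    obtain ⟨x, hxN, hx⟩ := hN
    refine ⟨x, hxN, fun h => hx ?_⟩
    rw [Representation.char_one, char_eq_finrank_iff]
    exact h
  have h0 := sum_rep_normal_eq_zero N ρ hρ hN'
  have : ∑ m : N, ρ.character (g * (m : G)) =
      LinearMap.trace ℂ (Fin n → ℂ) (ρ g * ∑ m : N, ρ (m : G)) := by
    rw [Finset.mul_sum, map_sum]
    refine Finset.sum_congr rfl fun m _ => ?_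
    rw [Representation.character, map_mul]
  rw [this, h0, mul_zero, map_zero]

/-- If `N` is contained in the kernel of the character `χ`, then
the sum of `χ` over the coset `g N` is `|N| χ(g)`. -/
theorem sum_char_coset_of_le_ker (N : Subgroup G) [Fintype N] {χ : G → ℂ}
    (hχ : IsCharacter G χ) (hN : ∀ x ∈ N, χ x = χ 1) (g : G) :
    ∑ m : N, χ (g * (m : G)) = (Nat.card N : ℂ) * χ g := by
  have : ∀ m : N, χ (g * (m : G)) = χ g := fun m =>
    char_mul_of_mem_charKer hχ (hN m m.2) g
  simp only [this, Finset.sum_const, Finset.card_univ, nsmul_eq_mul, Nat.card_eq_fintype_card]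

end NormalSum

end Cfsg.Agent.Helper24
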