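import Mathlib
import Cfsg.Prelude.Def_Blocks
import Cfsg.Agent.Lib.Helper24.CharAlgebra

/-!
# Codegrees of irreducible characters (helper24's shared library)

The codegree of `χ` is written in the statements as
`Nat.card G / (Nat.card {g // χ g = χ 1} * charDegree χ)`.
-/

set_option autoImplicit false

namespace Cfsg.Agent.Helper24

open Cfsg Module

universe u

open scoped ComplexConjugate

section Codegree

variable {G : Type u} [Group G] [Finite G]

/-- `|G| = |ker χ| * χ(1) * m` for some `m` (the codegree). -/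
theorem exists_card_eq_ker_mul_degree_mul {χ : G → ℂ} (hχ : IsIrrCharacter G χ) :
    ∃ m : ℕ, Nat.card G = Nat.card {g : G // χ g = χ 1} * charDegree χ * m := by
  have hc := isCharacter_of_isIrrCharacter hχ
  let K := charKer hc
  haveI : K.Normal := charKer_normal hc
  obtain ⟨ψ, hψ, hχψ⟩ := exists_deflate K hχ (fun n hn => hn)
  have hdeg : charDegree χ = charDegree ψ := by
    unfold charDegree
    rw [hχψ]
    simp
  have hcard : Nat.card G = Nat.card K * Nat.card (G ⧸ K) := by
    rw [mul_comm]
    exact Subgroup.card_eq_card_quotient_mul_card_subgroup K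
  haveI : Fintype (G ⧸ K) := Fintype.ofFinite _
  obtain ⟨m, hm⟩ : charDegree ψ ∣ Nat.card (G ⧸ K) := charDegree_dvd_card hψ
  refine ⟨m, ?_⟩
  rw [card_charKer hc, hcard, hm, hdeg, mul_assoc]

/-- The codegree times `|ker χ| * χ(1)` is `|G|`. -/
theorem codegree_mul {χ : G → ℂ} (hχ : IsIrrCharacter G χ) :
    Nat.card G / (Nat.card {g : G // χ g = χ 1} * charDegree χ) *
      (Nat.card {g : G // χ g = χ 1} * charDegree χ) = Nat.card G := by
  obtain ⟨m, hm⟩ := exists_card_eq_ker_mul_degree_mul hχ
  exact Nat.div_mul_cancel ⟨m, hm⟩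

/-- The codegree divides the group order. -/
theorem codegree_dvd_card {χ : G → ℂ} (hχ : IsIrrCharacter G χ) :
    Nat.card G / (Nat.card {g : G // χ g = χ 1} * charDegree χ) ∣ Nat.card G :=
  ⟨_, (codegree_mul hχ).symm⟩

/-- An irreducible character that is constant is the principal character. -/
theorem eq_one_of_const {χ : G → ℂ} (hχ : IsIrrCharacter G χ) (h : ∀ g, χ g = χ 1) :
    χ = fun _ => (1 : ℂ) := by
  haveI : Fintype G := Fintype.ofFinite G
  have h1 := irr_orthogonality hχ hχ
  rw [if_pos rfl] at h1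
  obtain ⟨n, hn, hn1⟩ := irr_one_eq hχ
  have h2 : classInner χ χ = (n : ℂ) * n := by
    unfold classInner
    simp only [h, hn1, Complex.conj_natCast, Finset.sum_const, Finset.card_univ, nsmul_eq_mul]
    have hG : (Nat.card G : ℂ) ≠ 0 := by
      exact_mod_cast (Nat.card_pos (α := G)).ne'
    rw [← Nat.card_eq_fintype_card]
    field_simp
  rw [h2] at h1
  have h3 : n * n = 1 := by exact_mod_cast h1
  have h4 : n = 1 := Nat.eq_one_of_mul_eq_one_left h3
  funext g
  rw [h g, hn1, h4, Nat.cast_one]

/-- In a simple group, a nonprincipal irreducible character is faithful. -/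
theorem card_ker_eq_one_of_simple (hS : IsSimpleGroup G) {χ : G → ℂ} (hχ : IsIrrCharacter G χ)
    (hne : χ ≠ fun _ => (1 : ℂ)) : Nat.card {g : G // χ g = χ 1} = 1 := by
  have hc := isCharacter_of_isIrrCharacter hχ
  rw [card_charKer hc]
  rcases hS.eq_bot_or_eq_top_of_normal (charKer hc) (charKer_normal hc) with h | h
  · rw [h]
    exact Subgroup.card_bot
  · exfalso
    apply hne
    apply eq_one_of_const hχ
    intro g
    have : g ∈ charKer hc := by rw [h]; exact Subgroup.mem_top g
    exact this

/-- If `p` divides `|G|`, some nonprincipal irreducible character has degree prime to `p`. -/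
theorem exists_nonprincipal_degree_not_dvd {p : ℕ} (hp : p.Prime) (hpG : p ∣ Nat.card G) :
    ∃ χ : IrrCharacter G, (χ : G → ℂ) ≠ (fun _ => (1 : ℂ)) ∧ ¬ p ∣ charDegree (χ : G → ℂ) := by
  classical
  haveI : Fintype G := Fintype.ofFinite G
  letI : Fintype (IrrCharacter G) := irrFintype
  by_contra hcon
  have hall : ∀ χ : IrrCharacter G, χ ≠ principalChar G → p ∣ charDegree (χ : G → ℂ) := by
    intro χ hχ
    by_contra hnd
    apply hcon
    refine ⟨χ, fun h => hχ (Subtype.ext h), hnd⟩
  have hsum := sum_charDegree_sq (G := G)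
  rw [← Finset.add_sum_erase Finset.univ _ (Finset.mem_univ (principalChar G))] at hsum
  have h1 : charDegree ((principalChar G : IrrCharacter G) : G → ℂ) = 1 := by
    apply charDegree_natCast 1
    simp [principalChar]
  have h2 : p ∣ ∑ χ ∈ Finset.univ.erase (principalChar G), charDegree (χ : G → ℂ) ^ 2 := by
    apply Finset.dvd_sum
    intro χ hχ
    rw [Finset.mem_erase] at hχ
    exact dvd_pow (hall χ hχ.1) two_ne_zero
  rw [h1] at hsum
  have h3 : p ∣ 1 := by
    have : p ∣ 1 ^ 2 + ∑ χ ∈ Finset.univ.erase (principalChar G), charDegree (χ : G → ℂ) ^ 2 := by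
      rw [hsum]; exact hpG
    rw [one_pow] at this
    exact (Nat.dvd_add_left h2).mp this
  exact hp.one_lt.ne' (Nat.dvd_one.mp h3)

end Codegree

end Cfsg.Agent.Helper24
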