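import Mathlib
import Cfsg.Prelude.Def_Blocks
import Cfsg.Agent.Lib.Helper24.CharCodegree

/-!
# Irreducible characters of a quotient group (helper24's shared library)
-/

set_option autoImplicit false

namespace Cfsg.Agent.Helper24

open Cfsg Module

universe u

open scoped ComplexConjugate

section Quotient

variable {G : Type u} [Group G] [Finite G] (N : Subgroup G) [N.Normal]

/-- The irreducible characters of `G ⧸ N` correspond to the irreducible characters of `G` with `N`
in the kernel. -/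
noncomputable def inflateEquiv :
    IrrCharacter (G ⧸ N) ≃ {χ : IrrCharacter G // ∀ n ∈ N, (χ : G → ℂ) n = (χ : G → ℂ) 1} := by
  refine Equiv.ofBijective
    (fun ψ => ⟨⟨(ψ : G ⧸ N → ℂ) ∘ (QuotientGroup.mk : G → G ⧸ N), isIrrCharacter_inflate N ψ.2⟩,
      fun n hn => ?_⟩) ⟨?_, ?_⟩
  · simp only [Function.comp_apply]
    rw [(QuotientGroup.eq_one_iff n).mpr hn, QuotientGroup.mk_one]
  · intro ψ₁ ψ₂ h
    have h' := congrArg (fun x => ((x.1 : IrrCharacter G) : G → ℂ)) h
    simp only at h'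
    apply Subtype.ext
    funext x
    obtain ⟨g, rfl⟩ := QuotientGroup.mk_surjective x
    exact congrFun h' g
  · rintro ⟨χ, hχ⟩
    obtain ⟨ψ, hψ, hχψ⟩ := exists_deflate N χ.2 hχ
    refine ⟨⟨ψ, hψ⟩, ?_⟩
    apply Subtype.ext
    apply Subtype.ext
    exact hχψ.symm

theorem inflateEquiv_coe (ψ : IrrCharacter (G ⧸ N)) :
    (((inflateEquiv N ψ).1 : IrrCharacter G) : G → ℂ) =
      (ψ : G ⧸ N → ℂ) ∘ (QuotientGroup.mk : G → G ⧸ N) := rfl

theorem charDegree_inflate (ψ : G ⧸ N → ℂ) :
    charDegree (ψ ∘ (QuotientGroup.mk : G → G ⧸ N)) = charDegree ψ := by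
  unfold charDegree
  simp

/-- The sum of the squares of the degrees of the irreducible characters with `N` in the kernel is
`|G/N|`. -/
theorem sum_charDegree_sq_of_le_ker
    [Fintype {χ : IrrCharacter G // ∀ n ∈ N, (χ : G → ℂ) n = (χ : G → ℂ) 1}] :
    ∑ χ : {χ : IrrCharacter G // ∀ n ∈ N, (χ : G → ℂ) n = (χ : G → ℂ) 1},
      charDegree ((χ.1 : IrrCharacter G) : G → ℂ) ^ 2 = Nat.card (G ⧸ N) := by
  haveI : Fintype (G ⧸ N) := Fintype.ofFinite _
  letI : Fintype (IrrCharacter (G ⧸ N)) := irrFintype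
  rw [← sum_charDegree_sq (G := G ⧸ N), ← Equiv.sum_comp (inflateEquiv N)]
  refine Finset.sum_congr rfl fun ψ _ => ?_
  rw [inflateEquiv_coe, charDegree_inflate]

/-- The kernel of an inflated character. -/
theorem card_ker_inflate {ψ : G ⧸ N → ℂ} (hψ : IsCharacter (G ⧸ N) ψ) :
    Nat.card {g : G // (ψ ∘ (QuotientGroup.mk : G → G ⧸ N)) g =
        (ψ ∘ (QuotientGroup.mk : G → G ⧸ N)) 1} =
      Nat.card N * Nat.card {x : G ⧸ N // ψ x = ψ 1} := by
  rw [card_charKer hψ]
  have hχ : IsCharacter G (ψ ∘ (QuotientGroup.mk : G → G ⧸ N)) :=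
    isCharacter_comp (QuotientGroup.mk' N) hψ
  rw [card_charKer hχ]
  have hcomap : charKer hχ = (charKer hψ).comap (QuotientGroup.mk' N) := by
    ext g
    rw [Subgroup.mem_comap, mem_charKer, mem_charKer]
    simp
  have hidx : (charKer hχ).index = (charKer hψ).index := by
    rw [hcomap]
    exact Subgroup.index_comap_of_surjective _ (QuotientGroup.mk'_surjective N)
  have h1 := Subgroup.card_mul_index (charKer hχ)
  have h2 := Subgroup.card_mul_index (charKer hψ)
  have h3 : Nat.card G = Nat.card N * Nat.card (G ⧸ N) := by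
    rw [mul_comm]
    exact Subgroup.card_eq_card_quotient_mul_card_subgroup N
  rw [hidx, h3, ← h2, ← mul_assoc] at h1
  have hpos : 0 < (charKer hψ).index := Nat.pos_of_ne_zero Subgroup.index_ne_zero_of_finite
  exact Nat.eq_of_mul_eq_mul_right hpos h1

/-- Inflation preserves the codegree. -/
theorem codegree_inflate {ψ : G ⧸ N → ℂ} (hψ : IsCharacter (G ⧸ N) ψ) :
    Nat.card G / (Nat.card {g : G // (ψ ∘ (QuotientGroup.mk : G → G ⧸ N)) g =
        (ψ ∘ (QuotientGroup.mk : G → G ⧸ N)) 1} *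
          charDegree (ψ ∘ (QuotientGroup.mk : G → G ⧸ N))) =
      Nat.card (G ⧸ N) / (Nat.card {x : G ⧸ N // ψ x = ψ 1} * charDegree ψ) := by
  rw [card_ker_inflate N hψ, charDegree_inflate]
  have h3 : Nat.card G = Nat.card N * Nat.card (G ⧸ N) := by
    rw [mul_comm]
    exact Subgroup.card_eq_card_quotient_mul_card_subgroup N
  rw [h3, mul_assoc]
  exact Nat.mul_div_mul_left _ _ Nat.card_pos

end Quotient

end Cfsg.Agent.Helper24
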