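import Mathlib
import Cfsg.Prelude.Def_Blocks
import Cfsg.Agent.Lib.Helper24.CharAlgebra

/-!
# Brauer's permutation lemma (helper24's shared library)
-/

set_option autoImplicit false

namespace Cfsg.Agent.Helper24

open Cfsg Module

universe u

open scoped ComplexConjugate

section Centralizer

variable {G : Type u} [Group G]

theorem card_centralizer_eq_of_isConj {a b : G} (h : IsConj a b) :
    Nat.card (Subgroup.centralizer ({a} : Set G)) =
      Nat.card (Subgroup.centralizer ({b} : Set G)) := by
  rw [← card_conj_eq_of_isConj h, ← card_conj_eq_of_isConj h.symm]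
  apply Nat.card_congr
  refine ⟨fun y => ⟨y.1⁻¹, ?_⟩, fun y => ⟨y.1⁻¹, ?_⟩, ?_, ?_⟩
  · obtain ⟨y, hy⟩ := y
    subst hy
    group
  · obtain ⟨y, hy⟩ := y
    subst hy
    group
  · intro y
    ext
    simp
  · intro y
    ext
    simp

theorem index_centralizer_eq_of_isConj [Finite G] {a b : G} (h : IsConj a b) :
    (Subgroup.centralizer ({a} : Set G)).index = (Subgroup.centralizer ({b} : Set G)).index := by
  have h1 := Subgroup.card_mul_index (Subgroup.centralizer ({a} : Set G))
  have h2 := Subgroup.card_mul_index (Subgroup.centralizer ({b} : Set G))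
  rw [card_centralizer_eq_of_isConj h, ← h2] at h1
  exact Nat.eq_of_mul_eq_mul_left Nat.card_pos h1

end Centralizer

section Brauer

variable {G : Type u} [Group G] [Fintype G] [Fintype (IrrCharacter G)]

/-- **Brauer's permutation lemma**, counting version: if `σ` is a map on the irreducible
characters and `τ` a permutation of the group preserving conjugacy such that
`(σ χ) (τ g) = χ g`, then the number of `σ`-fixed irreducible characters equals the number of
`τ`-fixed conjugacy classes. -/
theorem brauer_permutation_out (σ : IrrCharacter G → IrrCharacter G) (τ : G ≃ G)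
    (hτ : ∀ a b : G, IsConj a b → IsConj (τ a) (τ b))
    (h : ∀ (χ : IrrCharacter G) (g : G), (σ χ : G → ℂ) (τ g) = (χ : G → ℂ) g) :
    Nat.card {χ : IrrCharacter G // σ χ = χ} =
      Nat.card {c : ConjClasses G // IsConj (τ (Quotient.out c)) (Quotient.out c)} := by
  classical
  have hcard : (Nat.card G : ℂ) ≠ 0 := by
    exact_mod_cast (Nat.card_pos (α := G)).ne'
  -- left side as a sum of inner products
  have h1 : (Nat.card {χ : IrrCharacter G // σ χ = χ} : ℂ) =
      ∑ χ : IrrCharacter G, classInner (σ χ : G → ℂ) (χ : G → ℂ) := by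
    rw [Nat.card_eq_fintype_card, Fintype.card_subtype, Finset.card_filter]
    push_cast
    refine Finset.sum_congr rfl fun χ _ => ?_
    rw [irr_orthogonality (σ χ).2 χ.2]
    by_cases hχ : σ χ = χ
    · rw [if_pos hχ, if_pos (congrArg Subtype.val hχ)]
    · rw [if_neg hχ, if_neg (fun h' => hχ (Subtype.ext h'))]
  -- the class function
  let f : G → ℂ := fun x =>
    if IsConj (τ x) x then ((Subgroup.centralizer ({x} : Set G)).index : ℂ)⁻¹ else 0
  have hf : IsClassFunction G f := by
    intro g x
    have hc : IsConj (x * g * x⁻¹) g := (isConj_iff.mpr ⟨x, rfl⟩ : IsConj g (x * g * x⁻¹)).symm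
    have hiff : IsConj (τ (x * g * x⁻¹)) (x * g * x⁻¹) ↔ IsConj (τ g) g := by
      constructor
      · intro h'
        exact ((hτ _ _ hc.symm).trans h').trans hc
      · intro h'
        exact ((hτ _ _ hc).trans h').trans hc.symm
    simp only [f]
    rw [index_centralizer_eq_of_isConj hc]
    by_cases h' : IsConj (τ g) g
    · rw [if_pos h', if_pos (hiff.mpr h')]
    · rw [if_neg h', if_neg (fun h'' => h' (hiff.mp h''))]
  have h2 : ∑ χ : IrrCharacter G, classInner (σ χ : G → ℂ) (χ : G → ℂ) = ∑ x : G, f x := by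
    simp only [classInner]
    rw [← Finset.mul_sum, Finset.sum_comm, ← Equiv.sum_comp τ, Finset.mul_sum]
    refine Finset.sum_congr rfl fun x _ => ?_
    have h3 : ∑ χ : IrrCharacter G, (σ χ : G → ℂ) (τ x) * conj ((χ : G → ℂ) (τ x)) =
        ∑ χ : IrrCharacter G, (χ : G → ℂ) x * conj ((χ : G → ℂ) (τ x)) :=
      Finset.sum_congr rfl fun χ _ => by rw [h χ x]
    rw [h3, second_orthogonality' x (τ x)]
    simp only [f]
    by_cases hx : IsConj (τ x) x
    · rw [if_pos hx, if_pos hx, card_centralizer_eq_of_isConj hx]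
      have := Subgroup.card_mul_index (Subgroup.centralizer ({x} : Set G))
      rw [← this]
      have hpos : (Nat.card (Subgroup.centralizer ({x} : Set G)) : ℂ) ≠ 0 := by
        exact_mod_cast (Nat.card_pos (α := Subgroup.centralizer ({x} : Set G))).ne'
      have hpos2 : ((Subgroup.centralizer ({x} : Set G)).index : ℂ) ≠ 0 := by
        have : (Subgroup.centralizer ({x} : Set G)).index ≠ 0 := Subgroup.index_ne_zero_of_finite
        exact_mod_cast this
      push_cast
      field_simp
    · rw [if_neg hx, if_neg hx, mul_zero]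
  have h4 : ∑ x : G, f x =
      (Nat.card {c : ConjClasses G // IsConj (τ (Quotient.out c)) (Quotient.out c)} : ℂ) := by
    rw [sum_classFunction_eq hf, Nat.card_eq_fintype_card, Fintype.card_subtype,
      Finset.card_filter]
    push_cast
    refine Finset.sum_congr rfl fun c _ => ?_
    simp only [f]
    by_cases hc : IsConj (τ (Quotient.out c)) (Quotient.out c)
    · rw [if_pos hc, if_pos hc]
      have hpos2 : ((Subgroup.centralizer ({Quotient.out c} : Set G)).index : ℂ) ≠ 0 := by
        have : (Subgroup.centralizer ({Quotient.out c} : Set G)).index ≠ 0 :=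
          Subgroup.index_ne_zero_of_finite
        exact_mod_cast this
      field_simp
    · rw [if_neg hc, if_neg hc, mul_zero]
  have : (Nat.card {χ : IrrCharacter G // σ χ = χ} : ℂ) =
      (Nat.card {c : ConjClasses G // IsConj (τ (Quotient.out c)) (Quotient.out c)} : ℂ) := by
    rw [h1, h2, h4]
  exact_mod_cast this

/-- **Brauer's permutation lemma**, with the fixed classes described without representatives. -/
theorem brauer_permutation (σ : IrrCharacter G → IrrCharacter G) (τ : G ≃ G)
    (hτ : ∀ a b : G, IsConj a b → IsConj (τ a) (τ b))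
    (h : ∀ (χ : IrrCharacter G) (g : G), (σ χ : G → ℂ) (τ g) = (χ : G → ℂ) g) :
    Nat.card {χ : IrrCharacter G // σ χ = χ} =
      Nat.card {c : ConjClasses G // ∀ g : G, ConjClasses.mk g = c → ConjClasses.mk (τ g) = c} := by
  rw [brauer_permutation_out σ τ hτ h]
  apply Nat.card_congr
  apply Equiv.subtypeEquivRight
  intro c
  have hc : ConjClasses.mk (Quotient.out c) = c := Quotient.out_eq c
  constructor
  · intro h1 g hg
    have h2 : IsConj g (Quotient.out c) := by
      rw [← ConjClasses.mk_eq_mk_iff_isConj, hc, hg]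
    have h3 := (hτ _ _ h2).trans h1
    rw [← ConjClasses.mk_eq_mk_iff_isConj, hc] at h3
    exact h3
  · intro h1
    have := h1 (Quotient.out c) hc
    rw [← ConjClasses.mk_eq_mk_iff_isConj, hc]
    exact this

/-- **Brauer's permutation lemma**, element-counting form (no hypothesis on `τ` beyond
bijectivity): `#Fix(σ) * |G| = #{(x, y) | y * τ x * y⁻¹ = x}`. -/
theorem brauer_permutation_count (σ : IrrCharacter G → IrrCharacter G) (τ : G ≃ G)
    (h : ∀ (χ : IrrCharacter G) (g : G), (σ χ : G → ℂ) (τ g) = (χ : G → ℂ) g) :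
    Nat.card {χ : IrrCharacter G // σ χ = χ} * Nat.card G =
      Nat.card {p : G × G // p.2 * τ p.1 * p.2⁻¹ = p.1} := by
  classical
  have hcard : (Nat.card G : ℂ) ≠ 0 := by
    exact_mod_cast (Nat.card_pos (α := G)).ne'
  have h1 : (Nat.card {χ : IrrCharacter G // σ χ = χ} : ℂ) =
      ∑ χ : IrrCharacter G, classInner (σ χ : G → ℂ) (χ : G → ℂ) := by
    rw [Nat.card_eq_fintype_card, Fintype.card_subtype, Finset.card_filter]
    push_cast
    refine Finset.sum_congr rfl fun χ _ => ?_
    rw [irr_orthogonality (σ χ).2 χ.2]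
    by_cases hχ : σ χ = χ
    · rw [if_pos hχ, if_pos (congrArg Subtype.val hχ)]
    · rw [if_neg hχ, if_neg (fun h' => hχ (Subtype.ext h'))]
  have h2 : ∑ χ : IrrCharacter G, classInner (σ χ : G → ℂ) (χ : G → ℂ) =
      (Nat.card G : ℂ)⁻¹ * ∑ x : G, (Nat.card {y : G // y * τ x * y⁻¹ = x} : ℂ) := by
    simp only [classInner]
    rw [← Finset.mul_sum, Finset.sum_comm, ← Equiv.sum_comp τ]
    congr 1
    refine Finset.sum_congr rfl fun x _ => ?_
    have h3 : ∑ χ : IrrCharacter G, (σ χ : G → ℂ) (τ x) * conj ((χ : G → ℂ) (τ x)) =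
        ∑ χ : IrrCharacter G, (χ : G → ℂ) x * conj ((χ : G → ℂ) (τ x)) :=
      Finset.sum_congr rfl fun χ _ => by rw [h χ x]
    rw [h3, second_orthogonality x (τ x)]
  have h4 : ∑ x : G, Nat.card {y : G // y * τ x * y⁻¹ = x} =
      Nat.card {p : G × G // p.2 * τ p.1 * p.2⁻¹ = p.1} := by
    rw [← Nat.card_sigma]
    exact (Nat.card_congr
      (Equiv.subtypeProdEquivSigmaSubtype (fun (x y : G) => y * τ x * y⁻¹ = x))).symm
  have : ((Nat.card {χ : IrrCharacter G // σ χ = χ} * Nat.card G : ℕ) : ℂ) =
      (Nat.card {p : G × G // p.2 * τ p.1 * p.2⁻¹ = p.1} : ℂ) := by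
    rw [← h4]
    push_cast
    rw [h1, h2]
    field_simp
  exact_mod_cast this

end Brauer

end Cfsg.Agent.Helper24
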