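import Mathlib

/-!
# Some pure group theory lemmas (helper24's shared library)
-/

set_option autoImplicit false

namespace Cfsg.Agent.Helper24

open Subgroup

/-- A group of order `d * p` with `p` prime and `1 ≤ d < p` is not perfect. -/
theorem commutator_ne_top_of_card_eq_mul_prime {H : Type*} [Group H] [Finite H] {p d : ℕ}
    (hp : p.Prime) (hd : 0 < d) (hdp : d < p) (hcard : Nat.card H = d * p) :
    commutator H ≠ ⊤ := by
  haveI : Fact p.Prime := ⟨hp⟩
  intro htop
  obtain P : Sylow p H := default
  have hpd : ¬ p ∣ d := fun h => absurd (Nat.le_of_dvd hd h) (not_le.mpr hdp)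
  have hPcard : Nat.card P = p := by
    rw [Sylow.card_eq_multiplicity, hcard, Nat.factorization_mul hd.ne' hp.ne_zero]
    simp [Nat.factorization_eq_zero_of_not_dvd hpd, hp.factorization_self]
  have hidx : (P : Subgroup H).index = d := by
    have := Subgroup.card_mul_index (P : Subgroup H)
    rw [hcard, hPcard, mul_comm] at this
    exact Nat.eq_of_mul_eq_mul_right hp.pos this
  have h1 : Nat.card (Sylow p H) ≡ 1 [MOD p] := card_sylow_modEq_one p H
  have h2 : Nat.card (Sylow p H) ∣ d := hidx ▸ Sylow.card_dvd_index P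
  have h3 : Nat.card (Sylow p H) = 1 := by
    have hle : Nat.card (Sylow p H) ≤ d := Nat.le_of_dvd hd h2
    have hlt : Nat.card (Sylow p H) < p := lt_of_le_of_lt hle hdp
    have := h1
    unfold Nat.ModEq at this
    rw [Nat.mod_eq_of_lt hlt, Nat.mod_eq_of_lt hp.one_lt] at this
    exact this
  haveI : Subsingleton (Sylow p H) := (Nat.card_eq_one_iff_unique.mp h3).1
  haveI hPn : (P : Subgroup H).Normal := Sylow.normal_of_subsingleton P
  haveI hcyc : IsCyclic (P : Subgroup H) := isCyclic_of_prime_card hPcard
  letI : CommGroup (MulAut (P : Subgroup H)) :=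
    (hcyc.mulAutMulEquiv _).toMonoidHom.commGroupOfInjective (hcyc.mulAutMulEquiv _).injective
  let f : H →* MulAut (P : Subgroup H) := MulAut.conjNormal
  have hk : commutator H ≤ f.ker := Abelianization.commutator_subset_ker f
  rw [htop, top_le_iff] at hk
  have hcent : ∀ h : H, ∀ x ∈ (P : Subgroup H), h * x * h⁻¹ = x := by
    intro h x hx
    have h4 : f h = 1 := by
      rw [← MonoidHom.mem_ker, hk]; trivial
    have h5 := congrArg (fun a : MulAut (P : Subgroup H) => ((a ⟨x, hx⟩ : (P : Subgroup H)) : H)) h4
    simpa [f, MulAut.conjNormal_apply] using h5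
  have hP : normalizer (P : Set H) ≤ centralizer (P : Set H) := by
    intro h _
    rw [Subgroup.mem_centralizer_iff]
    intro x hx
    have := hcent h x hx
    calc x * h = (h * x * h⁻¹) * h := by rw [this]
      _ = h * x := by group
  have hcompl := MonoidHom.ker_transferSylow_isComplement' P hP
  letI : CommGroup (P : Subgroup H) := hcyc.commGroup
  have hk2 : commutator H ≤ (MonoidHom.transferSylow P hP).ker :=
    Abelianization.commutator_subset_ker _
  rw [htop, top_le_iff] at hk2
  rw [hk2, Subgroup.isComplement'_top_left] at hcompl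
  have : Nat.card (P : Subgroup H) = 1 := by
    rw [hcompl]; exact Subgroup.card_bot
  rw [hPcard] at this
  exact hp.one_lt.ne' this


/-- **Burnside's orbit counting lemma** for a quotient by a relation that is the orbit relation of a
group action: `#orbits * |G| = #{(g, x) | g • x = x}`. -/
theorem card_quot_mul_card_group {G X : Type*} [Group G] [MulAction G X] (r : X → X → Prop)
    (hr : ∀ x y, r x y ↔ ∃ g : G, y = g • x) :
    Nat.card (Quot r) * Nat.card G = Nat.card {p : G × X // p.1 • p.2 = p.2} := by
  have e1 : Quot r ≃ Quotient (MulAction.orbitRel G X) := by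
    refine Quot.congrRight fun x y => ?_
    rw [hr]
    change _ ↔ x ∈ MulAction.orbit G y
    rw [MulAction.mem_orbit_iff]
    constructor
    · rintro ⟨g, rfl⟩
      exact ⟨g⁻¹, inv_smul_smul g x⟩
    · rintro ⟨g, rfl⟩
      exact ⟨g⁻¹, (inv_smul_smul g y).symm⟩
  have e2 := MulAction.sigmaFixedByEquivOrbitsProdGroup G X
  have e3 : {p : G × X // p.1 • p.2 = p.2} ≃ Σ g : G, MulAction.fixedBy X g :=
    Equiv.subtypeProdEquivSigmaSubtype (fun (g : G) (x : X) => g • x = x)
  rw [Nat.card_congr e1, ← Nat.card_prod, Nat.card_congr e3, Nat.card_congr e2]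

/-- Burnside's lemma for the orbit quotient, in `Nat.card` form. -/
theorem card_orbits_mul_card_group (G X : Type*) [Group G] [MulAction G X] :
    Nat.card (Quotient (MulAction.orbitRel G X)) * Nat.card G =
      Nat.card {p : G × X // p.1 • p.2 = p.2} := by
  have e2 := MulAction.sigmaFixedByEquivOrbitsProdGroup G X
  have e3 : {p : G × X // p.1 • p.2 = p.2} ≃ Σ g : G, MulAction.fixedBy X g :=
    Equiv.subtypeProdEquivSigmaSubtype (fun (g : G) (x : X) => g • x = x)
  rw [← Nat.card_prod, Nat.card_congr e3, Nat.card_congr e2]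

/-- The number of pairs satisfying a relation, as a sum over the first component. -/
theorem card_subtype_prod_eq_sum_fst {α β : Type*} [Fintype α] [Finite β] (P : α → β → Prop) :
    Nat.card {p : α × β // P p.1 p.2} = ∑ a, Nat.card {b // P a b} := by
  rw [← Nat.card_sigma]
  exact Nat.card_congr (Equiv.subtypeProdEquivSigmaSubtype P)

/-- The number of pairs satisfying a relation, as a sum over the second component. -/
theorem card_subtype_prod_eq_sum_snd {α β : Type*} [Finite α] [Fintype β] (P : α → β → Prop) :
    Nat.card {p : α × β // P p.1 p.2} = ∑ b, Nat.card {a // P a b} := by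
  rw [← card_subtype_prod_eq_sum_fst (fun b a => P a b)]
  apply Nat.card_congr
  exact ⟨fun p => ⟨(p.1.2, p.1.1), p.2⟩, fun p => ⟨(p.1.2, p.1.1), p.2⟩, fun _ => rfl, fun _ => rfl⟩

end Cfsg.Agent.Helper24
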