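import Mathlib
import Cfsg.Prelude.Def_Blocks
import Cfsg.Agent.Lib.Helper24.CharConj
import Cfsg.Agent.Lib.Helper24.CharBrauerPerm
import Cfsg.Agent.Lib.Helper24.CharAbelian
import Cfsg.Agent.Lib.Helper24.GroupLemmas

/-!
# Orbits of a group on the irreducible characters of an abelian normal subgroup
(helper24's shared library)
-/

set_option autoImplicit false

namespace Cfsg.Agent.Helper24

open Cfsg Module

universe u

open scoped ComplexConjugate

section CommCard

variable {G : Type u} [Group G] [Finite G]

/-- A finite abelian group has as many irreducible characters as elements. -/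
theorem card_irr_of_comm (hcomm : ∀ a b : G, a * b = b * a) :
    Nat.card (IrrCharacter G) = Nat.card G := by
  haveI : Fintype G := Fintype.ofFinite G
  letI : Fintype (IrrCharacter G) := irrFintype
  have hbij : Function.Bijective (ConjClasses.mk : G → ConjClasses G) := by
    refine ⟨?_, ConjClasses.mk_surjective⟩
    intro a b hab
    rw [ConjClasses.mk_eq_mk_iff_isConj, isConj_iff] at hab
    obtain ⟨c, hc⟩ := hab
    rw [← hc, hcomm c a, mul_inv_cancel_right]
  rw [card_irr_eq_card_conjClasses]
  exact (Nat.card_congr (Equiv.ofBijective _ hbij)).symm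

end CommCard

section Orbits

variable {G : Type u} [Group G] [Finite G] (N : Subgroup G) [N.Normal]

/-- The stabilizer (inertia group) of an irreducible character of a normal subgroup. -/
def inertia (μ : IrrCharacter N) : Subgroup G :=
  @MulAction.stabilizer G (IrrCharacter N) _ (irrConjAction N) μ

omit [Finite G] in
theorem mem_inertia (μ : IrrCharacter N) (g : G) :
    g ∈ inertia N μ ↔ conjFun N g μ.1 = μ.1 := by
  unfold inertia
  rw [@MulAction.mem_stabilizer_iff G (IrrCharacter N) _ (irrConjAction N)]
  constructor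
  · intro h
    exact congrArg Subtype.val h
  · intro h
    exact Subtype.ext h

omit [Finite G] in
/-- Membership in the inertia group in the elementwise form used in the statements. -/
theorem mem_inertia_iff (μ : IrrCharacter N) (g : G) :
    g ∈ inertia N μ ↔
      ∀ n n' : N, (n' : G) = g * (n : G) * g⁻¹ → (μ : N → ℂ) n' = (μ : N → ℂ) n := by
  rw [mem_inertia]
  constructor
  · intro h n n' hn
    rw [← conjFun_eq_of_eq N g μ.1 hn, h]
  · intro h
    ext k
    rw [conjFun_apply]
    symm
    apply h
    rw [MulAut.conjNormal_apply]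
    group

/-- For an abelian normal subgroup, an element fixes as many irreducible characters as elements. -/
theorem card_fixed_irr_eq_card_fixed_of_comm (hab : ∀ a b : N, a * b = b * a) (g : G) :
    Nat.card {θ : IrrCharacter N // conjFun N g θ.1 = θ.1} =
      Nat.card {k : N // MulAut.conjNormal g k = k} := by
  haveI : Fintype N := Fintype.ofFinite N
  letI : Fintype (IrrCharacter N) := irrFintype
  let σ : IrrCharacter N → IrrCharacter N :=
    fun θ => ⟨conjFun N g θ.1, isIrrCharacter_conjFun N g θ.2⟩
  let τ : N ≃ N := (MulAut.conjNormal g : N ≃* N).toEquiv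
  have hστ : ∀ (θ : IrrCharacter N) (k : N), (σ θ : N → ℂ) (τ k) = (θ : N → ℂ) k := by
    intro θ k
    exact conjFun_conjNormal N g θ.1 k
  have h1 := brauer_permutation_count σ τ hστ
  have h2 : Nat.card {θ : IrrCharacter N // σ θ = θ} =
      Nat.card {θ : IrrCharacter N // conjFun N g θ.1 = θ.1} := by
    apply Nat.card_congr
    apply Equiv.subtypeEquivRight
    intro θ
    constructor
    · intro h
      exact congrArg Subtype.val h
    · intro h
      exact Subtype.ext h
  have h3 : Nat.card {p : N × N // p.2 * τ p.1 * p.2⁻¹ = p.1} =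
      Nat.card {k : N // MulAut.conjNormal g k = k} * Nat.card N := by
    rw [← Nat.card_prod]
    apply Nat.card_congr
    refine ⟨fun p => (⟨p.1.1, ?_⟩, p.1.2), fun q => ⟨(q.1.1, q.2), ?_⟩, ?_, ?_⟩
    · have := p.2
      rw [hab p.1.2 (τ p.1.1), mul_inv_cancel_right] at this
      exact this
    · show q.2 * τ q.1.1 * q.2⁻¹ = q.1.1
      rw [hab q.2 (τ q.1.1), mul_inv_cancel_right]
      exact q.1.2
    · intro p
      rfl
    · intro q
      rfl
  rw [h2, h3] at h1
  exact Nat.eq_of_mul_eq_mul_right Nat.card_pos h1

/-- The conjugation action of `G` on a normal subgroup. -/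
@[reducible] def conjNormalAction : MulAction G N :=
  MulAction.compHom N (MulAut.conjNormal : G →* MulAut N)

omit [Finite G] in
theorem conjNormalAction_smul (g : G) (k : N) :
    (conjNormalAction N).toSMul.smul g k = MulAut.conjNormal g k := rfl

/-- For an abelian normal subgroup `N`, the group has as many orbits on `Irr(N)` as on `N`. -/
theorem card_orbits_irr_eq_of_comm (hab : ∀ a b : N, a * b = b * a) :
    Nat.card (Quotient (@MulAction.orbitRel G (IrrCharacter N) _ (irrConjAction N))) =
      Nat.card (Quotient (@MulAction.orbitRel G N _ (conjNormalAction N))) := by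
  haveI : Fintype G := Fintype.ofFinite G
  haveI : Finite (IrrCharacter N) := irr_finite'
  have h1 : Nat.card (Quotient (@MulAction.orbitRel G (IrrCharacter N) _ (irrConjAction N))) *
      Nat.card G = ∑ g : G, Nat.card {θ : IrrCharacter N // conjFun N g θ.1 = θ.1} := by
    letI := irrConjAction N (G := G)
    rw [card_orbits_mul_card_group G (IrrCharacter N),
      card_subtype_prod_eq_sum_fst (fun (g : G) (θ : IrrCharacter N) => g • θ = θ)]
    refine Finset.sum_congr rfl fun g _ => ?_
    apply Nat.card_congr
    apply Equiv.subtypeEquivRight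
    intro θ
    constructor
    · intro h
      exact congrArg Subtype.val h
    · intro h
      exact Subtype.ext h
  have h2 : Nat.card (Quotient (@MulAction.orbitRel G N _ (conjNormalAction N))) *
      Nat.card G = ∑ g : G, Nat.card {k : N // MulAut.conjNormal g k = k} := by
    letI := conjNormalAction N (G := G)
    rw [card_orbits_mul_card_group G N,
      card_subtype_prod_eq_sum_fst (fun (g : G) (k : N) => g • k = k)]
    rfl
  rw [Finset.sum_congr rfl (fun g _ => card_fixed_irr_eq_card_fixed_of_comm N hab g), ← h2] at h1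
  exact Nat.eq_of_mul_eq_mul_right Nat.card_pos h1

/-- If `G` is transitive on the nonidentity elements of the abelian normal subgroup `N ≠ 1`, then
`G` is transitive on the nonprincipal irreducible characters of `N`. -/
theorem exists_conj_of_nonprincipal (hab : ∀ a b : N, a * b = b * a)
    (htrans : ∀ a b : N, a ≠ 1 → b ≠ 1 → ∃ g : G, MulAut.conjNormal g a = b) (hN : N ≠ ⊥)
    (μ μ' : IrrCharacter N) (hμ : (μ : N → ℂ) ≠ fun _ => (1 : ℂ))
    (hμ' : (μ' : N → ℂ) ≠ fun _ => (1 : ℂ)) : ∃ g : G, conjFun N g μ.1 = μ'.1 := by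
  letI := irrConjAction N (G := G)
  -- two orbits on N
  have h2 : Nat.card (Quotient (@MulAction.orbitRel G N _ (conjNormalAction N))) = 2 := by
    letI := conjNormalAction N (G := G)
    obtain ⟨x₀, hx₀⟩ : ∃ x₀ : N, x₀ ≠ 1 := by
      obtain ⟨x₀, hx₀⟩ := Subgroup.ne_bot_iff_exists_ne_one.mp hN
      exact ⟨x₀, hx₀⟩
    rw [Nat.card_eq_two_iff]
    refine ⟨⟦1⟧, ⟦x₀⟧, ?_, ?_⟩
    · intro h
      rw [Quotient.eq] at h
      change (1 : N) ∈ MulAction.orbit G x₀ at h
      obtain ⟨g, hg⟩ := h
      have hg' : MulAut.conjNormal g x₀ = 1 := hg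
      apply hx₀
      rwa [map_eq_one_iff _ (MulEquiv.injective _)] at hg'
    · rw [Set.eq_univ_iff_forall]
      intro q
      induction q using Quotient.inductionOn with
      | h k =>
        by_cases hk : k = 1
        · left
          rw [hk]
        · right
          rw [Set.mem_singleton_iff, Quotient.eq]
          change k ∈ MulAction.orbit G x₀
          obtain ⟨g, hg⟩ := htrans x₀ k hx₀ hk
          exact ⟨g, hg⟩
  rw [← card_orbits_irr_eq_of_comm N hab] at h2
  obtain ⟨a, b, hab', huniv⟩ := Nat.card_eq_two_iff.mp h2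
  -- the principal character is fixed
  have hfix : ∀ g : G, g • (principalChar N) = principalChar N := by
    intro g
    apply Subtype.ext
    rfl
  have horb1 : ∀ θ : IrrCharacter N,
      (⟦θ⟧ : Quotient (MulAction.orbitRel G (IrrCharacter N))) = ⟦principalChar N⟧ →
        (θ : N → ℂ) = fun _ => (1 : ℂ) := by
    intro θ h
    rw [Quotient.eq] at h
    change θ ∈ MulAction.orbit G (principalChar N) at h
    obtain ⟨g, hg⟩ := h
    have hg' : g • (principalChar N) = θ := hg
    rw [hfix] at hg'
    rw [← hg']
    rfl
  have hmem : ∀ q : Quotient (MulAction.orbitRel G (IrrCharacter N)), q = a ∨ q = b := by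
    intro q
    have : q ∈ ({a, b} : Set _) := by rw [huniv]; exact Set.mem_univ q
    exact this
  have hsame : (⟦μ'⟧ : Quotient (MulAction.orbitRel G (IrrCharacter N))) = ⟦μ⟧ := by
    have h1 := hmem ⟦principalChar N⟧
    have h3 := hmem ⟦μ⟧
    have h4 := hmem ⟦μ'⟧
    have n1 : (⟦μ⟧ : Quotient (MulAction.orbitRel G (IrrCharacter N))) ≠ ⟦principalChar N⟧ :=
      fun h => hμ (horb1 μ h)
    have n2 : (⟦μ'⟧ : Quotient (MulAction.orbitRel G (IrrCharacter N))) ≠ ⟦principalChar N⟧ :=
      fun h => hμ' (horb1 μ' h)
    rcases h1 with h1 | h1 <;> rcases h3 with h3 | h3 <;> rcases h4 with h4 | h4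
    · exact absurd (h3.trans h1.symm) n1
    · exact absurd (h3.trans h1.symm) n1
    · exact absurd (h4.trans h1.symm) n2
    · exact h4.trans h3.symm
    · exact h4.trans h3.symm
    · exact absurd (h4.trans h1.symm) n2
    · exact absurd (h3.trans h1.symm) n1
    · exact absurd (h3.trans h1.symm) n1
  rw [Quotient.eq] at hsame
  change μ' ∈ MulAction.orbit G μ at hsame
  obtain ⟨g, hg⟩ := hsame
  exact ⟨g, congrArg Subtype.val hg⟩

/-- Under the same hypotheses, the inertia group of a nonprincipal character has index
`|N| - 1`. -/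
theorem card_inertia_mul (hab : ∀ a b : N, a * b = b * a)
    (htrans : ∀ a b : N, a ≠ 1 → b ≠ 1 → ∃ g : G, MulAut.conjNormal g a = b) (hN : N ≠ ⊥)
    (μ : IrrCharacter N) (hμ : (μ : N → ℂ) ≠ fun _ => (1 : ℂ)) :
    (Nat.card N - 1) * Nat.card (inertia N μ) = Nat.card G := by
  classical
  letI := irrConjAction N (G := G)
  haveI : Fintype N := Fintype.ofFinite N
  letI : Fintype (IrrCharacter N) := irrFintype
  have h1 := Subgroup.card_mul_index (MulAction.stabilizer G μ)
  rw [MulAction.index_stabilizer, ← Nat.card_coe_set_eq] at h1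
  have h2 : Nat.card (MulAction.orbit G μ) = Nat.card N - 1 := by
    have hiff : ∀ θ : IrrCharacter N, θ ∈ MulAction.orbit G μ ↔ ¬ (θ = principalChar N) := by
      intro θ
      constructor
      · rintro ⟨g, hg⟩ h
        have hg' : g • μ = θ := hg
        apply hμ
        have h' : g⁻¹ • (g • μ) = g⁻¹ • principalChar N := by rw [hg', h]
        rw [inv_smul_smul] at h'
        rw [h']
        rfl
      · intro hθ
        have hθ' : (θ : N → ℂ) ≠ fun _ => (1 : ℂ) := fun h => hθ (Subtype.ext h)
        obtain ⟨g, hg⟩ := exists_conj_of_nonprincipal N hab htrans hN μ θ hμ hθ'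
        exact ⟨g, Subtype.ext hg⟩
    rw [Nat.card_congr (Equiv.subtypeEquivRight hiff), ← card_irr_of_comm hab,
      Nat.card_eq_fintype_card, Nat.card_eq_fintype_card, Fintype.card_subtype_compl,
      Fintype.card_subtype_eq]
  rw [h2, mul_comm] at h1
  exact h1

end Orbits

end Cfsg.Agent.Helper24
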