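import Mathlib
import Cfsg.Prelude.Def_Blocks
import Cfsg.Agent.Lib.Helper24.CharLinear
import Cfsg.Agent.Lib.Helper24.CharOrtho
import Cfsg.Agent.Lib.Helper24.CharComplete

/-!
# S4441 PIECE APPX (core): a character with a nonzero integer value `a` at `x` in a set `B` of
characters with `∑_{ψ ∈ B} mult ψ ψ(x) ∈ {-1, 0, 1}` (and the central character clause) has
`a = ±1`.  The piece TLP enters as a hypothesis.
-/

set_option autoImplicit false

namespace Cfsg.Agent.Helper5.TL

section APPX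

variable {G : Type*} [Group G] [Finite G]

/-- a rational algebraic integer of the form `d' a / d` is an integer -/
theorem exists_int_of_rat_integral (z : ℂ) (hz : IsIntegral ℤ z) (q : ℚ) (hq : z = (q : ℂ)) :
    ∃ m : ℤ, z = (m : ℂ) := by
  have h2 : z = algebraMap ℚ ℂ q := by rw [hq]; rfl
  rw [h2, isIntegral_algebraMap_iff (algebraMap ℚ ℂ).injective] at hz
  obtain ⟨m, hm⟩ := IsIntegrallyClosed.isIntegral_iff.mp hz
  refine ⟨m, ?_⟩
  rw [hq, ← hm]
  simp

/-- PIECE APPX with TLP as a hypothesis (for an arbitrary set `B` of characters). -/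
theorem abs_eq_one_of_int_value_core (B : Set (Cfsg.IrrCharacter G)) (χ : Cfsg.IrrCharacter G)
    (hχ : χ ∈ B) (x : G) (a : ℤ) (ha : (χ : G → ℂ) x = (a : ℂ)) (ha0 : a ≠ 0)
    (hTLP : ∃ mult : Cfsg.IrrCharacter G → ℕ, 1 ≤ mult χ ∧
      (∀ ψ ψ' : Cfsg.IrrCharacter G, 0 < mult ψ → 0 < mult ψ' →
        (∃ r : ℚ, Cfsg.centralChar (ψ : G → ℂ) x = (r : ℂ)) →
          Cfsg.centralChar (ψ' : G → ℂ) x = Cfsg.centralChar (ψ : G → ℂ) x) ∧
      ∃ t : ℤ, (t = -1 ∨ t = 0 ∨ t = 1) ∧
        ∑ᶠ ψ ∈ B, (mult ψ : ℂ) * (ψ : G → ℂ) x = (t : ℂ)) :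
    a = 1 ∨ a = -1 := by
  classical
  haveI : Fintype G := Fintype.ofFinite G
  haveI : Fintype (Cfsg.IrrCharacter G) := Cfsg.Agent.Helper24.irrFintype
  obtain ⟨mult, hmχ, hclause, t, ht, hsum⟩ := hTLP
  obtain ⟨d, hd, hd1⟩ := Cfsg.Agent.Helper24.irr_one_eq χ.2
  set idx := (Subgroup.centralizer ({x} : Set G)).index with hidx
  have hidx0 : (idx : ℂ) ≠ 0 := by
    have : idx ≠ 0 := Subgroup.index_ne_zero_of_finite
    exact_mod_cast this
  have hd0 : (d : ℂ) ≠ 0 := by exact_mod_cast hd.ne'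
  have hωχ : Cfsg.centralChar (χ : G → ℂ) x = (((idx : ℚ) * (a : ℚ) / (d : ℚ) : ℚ) : ℂ) := by
    rw [Cfsg.centralChar, ha, hd1]
    push_cast
    ring
  -- each term is an integer of the sign of `a`
  have hterm : ∀ ψ : Cfsg.IrrCharacter G, ∃ k : ℤ,
      (mult ψ : ℂ) * (ψ : G → ℂ) x = (k : ℂ) ∧ 0 ≤ k * a ∧ (ψ = χ → a * a ≤ k * a) := by
    intro ψ
    by_cases hm : mult ψ = 0
    · refine ⟨0, by simp [hm], by simp, ?_⟩
      intro h
      rw [h] at hm
      omega
    · have hmpos : 0 < mult ψ := Nat.pos_of_ne_zero hm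
      have hω := hclause χ ψ (by omega) hmpos ⟨_, hωχ⟩
      obtain ⟨d', hd', hd1'⟩ := Cfsg.Agent.Helper24.irr_one_eq ψ.2
      have hd0' : (d' : ℂ) ≠ 0 := by exact_mod_cast hd'.ne'
      rw [Cfsg.centralChar, Cfsg.centralChar, ha, hd1, hd1', ← hidx] at hω
      have hval : (ψ : G → ℂ) x = (((d' : ℚ) * (a : ℚ) / (d : ℚ) : ℚ) : ℂ) := by
        rw [div_eq_div_iff hd0' hd0] at hω
        have h1 : (idx : ℂ) * ((ψ : G → ℂ) x * (d : ℂ)) = (idx : ℂ) * ((a : ℂ) * (d' : ℂ)) := by
          linear_combination hω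
        have h2 := mul_left_cancel₀ hidx0 h1
        push_cast
        rw [eq_div_iff hd0, h2]; ring
      have hint := Cfsg.Agent.Helper24.isIntegral_of_isCharacter
        (Cfsg.Agent.Helper24.isCharacter_of_isIrrCharacter ψ.2) x
      obtain ⟨m, hm'⟩ := exists_int_of_rat_integral _ hint _ hval
      have hrel : (m : ℤ) * (d : ℤ) = (d' : ℤ) * a := by
        have h1 : ((m : ℤ) : ℂ) * (d : ℂ) = (d' : ℂ) * (a : ℂ) := by
          rw [← hm', hval]
          push_cast
          field_simp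
        exact_mod_cast h1
      have hdpos : (0 : ℤ) < d := by exact_mod_cast hd
      have hdpos' : (0 : ℤ) < d' := by exact_mod_cast hd'
      have hma : 0 ≤ m * a := by
        have h1 : m * a * d = d' * (a * a) := by
          calc m * a * d = (m * d) * a := by ring
            _ = d' * a * a := by rw [hrel]
            _ = d' * (a * a) := by ring
        have h2 : 0 ≤ m * a * d := by
          rw [h1]
          exact mul_nonneg hdpos'.le (mul_self_nonneg a)
        by_contra hneg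
        push_neg at hneg
        have : m * a * d < 0 := mul_neg_of_neg_of_pos hneg hdpos
        omega
      refine ⟨mult ψ * m, by rw [hm']; push_cast; ring, ?_, ?_⟩
      · have : (mult ψ : ℤ) * m * a = (mult ψ : ℤ) * (m * a) := by ring
        rw [this]
        exact mul_nonneg (by positivity) hma
      · intro h
        subst h
        have hma' : m = a := by
          have : ((m : ℤ) : ℂ) = (a : ℂ) := by rw [← hm', ha]
          exact_mod_cast this
        rw [hma']
        have h1 : (1 : ℤ) ≤ mult ψ := by exact_mod_cast hmχ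
        nlinarith [mul_self_nonneg a]
  choose k hk1 hk2 hk3 using hterm
  -- the integer identity
  have hsumZ : ∑ ψ ∈ Finset.univ.filter (· ∈ B), k ψ = t := by
    have h1 : ∑ᶠ ψ ∈ B, (mult ψ : ℂ) * (ψ : G → ℂ) x =
        ∑ ψ ∈ Finset.univ.filter (· ∈ B), (mult ψ : ℂ) * (ψ : G → ℂ) x := by
      rw [finsum_mem_eq_finite_toFinset_sum _ (Set.toFinite B)]
      refine Finset.sum_congr ?_ fun _ _ => rfl
      ext ψ
      simp
    rw [h1, Finset.sum_congr rfl (fun ψ _ => hk1 ψ)] at hsum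
    have h2 : ((∑ ψ ∈ Finset.univ.filter (· ∈ B), k ψ : ℤ) : ℂ) = (t : ℂ) := by
      rw [← hsum]; push_cast; rfl
    exact_mod_cast h2
  have hineq : a * a ≤ t * a := by
    rw [← hsumZ, Finset.sum_mul]
    have hmem : χ ∈ Finset.univ.filter (· ∈ B) := by simp [hχ]
    calc a * a ≤ k χ * a := hk3 χ rfl
      _ ≤ ∑ ψ ∈ Finset.univ.filter (· ∈ B), k ψ * a :=
        Finset.single_le_sum (f := fun ψ => k ψ * a) (fun ψ _ => hk2 ψ) hmem
  rcases ht with rfl | rfl | rfl
  · right
    have : a * a ≤ -a := by linarith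
    have h1 : a ≤ 0 := by nlinarith [mul_self_nonneg a]
    have h2 : -1 ≤ a := by nlinarith
    omega
  · exfalso
    have : a * a ≤ 0 := by linarith
    have : a = 0 := by nlinarith [mul_self_nonneg a]
    exact ha0 this
  · left
    have : a * a ≤ a := by linarith
    have h1 : 0 ≤ a := by nlinarith [mul_self_nonneg a]
    have h2 : a ≤ 1 := by nlinarith
    omega

end APPX

end Cfsg.Agent.Helper5.TL
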