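import Mathlib
import Cfsg.Prelude.Def_Blocks
import Cfsg.Agent.Lib.Helper24.CharOrtho
import Cfsg.Agent.Lib.Helper24.CharComplete
import Cfsg.Agent.Lib.Helper24.CharIntegral
import Cfsg.Agent.Lib.Helper24.TLBR

/-!
# S4441 PIECE TLC (core): character form of the Thompson lemma, with the pieces J, GT, TL as
explicit hypotheses.
-/

set_option autoImplicit false

namespace Cfsg.Agent.Helper5.TL

open scoped Padic

variable (p : ℕ) [Fact p.Prime]

section TLC

variable {G : Type*} [Group G] [Fintype G] [Fintype (Cfsg.IrrCharacter G)] [DecidableEq G]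

omit [DecidableEq G] in
/-- the irreducible characters are linearly independent (pointwise form) -/
theorem coeff_eq_zero_of_sum (a : Cfsg.IrrCharacter G → ℂ)
    (h : ∀ g, ∑ ψ : Cfsg.IrrCharacter G, a ψ * (ψ : G → ℂ) g = 0) : ∀ ψ, a ψ = 0 := by
  have hli := Cfsg.Agent.Helper24.irr_linearIndependent (G := G)
  rw [Fintype.linearIndependent_iff] at hli
  apply hli a
  funext g
  simp only [Finset.sum_apply, Pi.smul_apply, smul_eq_mul, Pi.zero_apply]
  exact h g

/-- the class sum of `x` in a lattice representation -/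
noncomputable def latClassSum {n : ℕ} (ρ : Representation ℤ_[p] G (Fin n → ℤ_[p])) (x : G) :
    Module.End ℤ_[p] (Fin n → ℤ_[p]) :=
  ∑ b ∈ Finset.univ.filter (IsConj x), ρ b

theorem latClassSum_commute {n : ℕ} (ρ : Representation ℤ_[p] G (Fin n → ℤ_[p])) (x g : G) :
    Commute (latClassSum p ρ x) (ρ g) := by
  show latClassSum p ρ x * ρ g = ρ g * latClassSum p ρ x
  simp only [latClassSum, Finset.sum_mul, Finset.mul_sum]
  refine Finset.sum_bij (fun b _ => g⁻¹ * b * g) ?_ ?_ ?_ ?_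
  · intro b hb
    simp only [Finset.mem_filter, Finset.mem_univ, true_and] at hb ⊢
    refine hb.trans ?_
    rw [isConj_iff]
    exact ⟨g⁻¹, by group⟩
  · intro b₁ _ b₂ _ h
    have := congrArg (fun z => g * z * g⁻¹) h
    simpa [mul_assoc] using this
  · intro b hb
    refine ⟨g * b * g⁻¹, ?_, by group⟩
    simp only [Finset.mem_filter, Finset.mem_univ, true_and] at hb ⊢
    refine hb.trans ?_
    rw [isConj_iff]
    exact ⟨g, rfl⟩
  · intro b _
    rw [← map_mul, ← map_mul]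
    congr 1
    group

/-- the key trace formula for powers of `B = d κ - c` -/
theorem trace_pow_formula {n : ℕ} (j : ℤ_[p] →+* ℂ)
    (ρ : Representation ℤ_[p] G (Fin n → ℤ_[p])) (mult : Cfsg.IrrCharacter G → ℕ)
    (hch : ∀ g, j (LinearMap.trace ℤ_[p] (Fin n → ℤ_[p]) (ρ g)) =
      ∑ ψ : Cfsg.IrrCharacter G, (mult ψ : ℂ) * (ψ : G → ℂ) g)
    (x : G) (d c : ℤ_[p]) (m : ℕ) (g : G) :
    j (LinearMap.trace ℤ_[p] (Fin n → ℤ_[p])
        (ρ g * (d • latClassSum p ρ x - c • (1 : Module.End ℤ_[p] (Fin n → ℤ_[p]))) ^ m)) =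
      ∑ ψ : Cfsg.IrrCharacter G, (mult ψ : ℂ) *
        (j d * Cfsg.centralChar (ψ : G → ℂ) x - j c) ^ m * (ψ : G → ℂ) g := by
  induction m generalizing g with
  | zero =>
    simp only [pow_zero, mul_one]
    exact hch g
  | succ m ih =>
    set B := d • latClassSum p ρ x - c • (1 : Module.End ℤ_[p] (Fin n → ℤ_[p])) with hB
    have h1 : ρ g * B ^ (m + 1) =
        d • ∑ b ∈ Finset.univ.filter (IsConj x), ρ (g * b) * B ^ m - c • (ρ g * B ^ m) := by
      rw [pow_succ', ← mul_assoc]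
      have : ρ g * B = d • ∑ b ∈ Finset.univ.filter (IsConj x), ρ (g * b) - c • ρ g := by
        rw [hB, mul_sub, mul_smul_comm, mul_smul_comm, mul_one, latClassSum, Finset.mul_sum]
        congr 2
        refine Finset.sum_congr rfl fun b _ => ?_
        rw [map_mul]
      rw [this, sub_mul, smul_mul_assoc, smul_mul_assoc, Finset.sum_mul]
    rw [h1, map_sub, map_smul, map_smul, map_sum, smul_eq_mul, smul_eq_mul, map_sub, map_mul,
      map_mul, map_sum]
    simp only [ih]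
    rw [Finset.sum_comm, Finset.mul_sum, Finset.mul_sum, ← Finset.sum_sub_distrib]
    refine Finset.sum_congr rfl fun ψ _ => ?_
    have h2 := Cfsg.Agent.Helper24.centralChar_mul_eq_sum ψ.2 x g
    rw [← Finset.mul_sum, ← h2]
    ring

theorem det_ne_zero_of_injective {n : ℕ} (B : Module.End ℤ_[p] (Fin n → ℤ_[p]))
    (hB : Function.Injective B) : LinearMap.det B ≠ 0 := by
  intro hdet
  have h1 : (LinearMap.toMatrix' B).det = 0 := by
    rw [LinearMap.det_toMatrix']; exact hdet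
  obtain ⟨v, hv, hv0⟩ := Matrix.exists_mulVec_eq_zero_iff.mpr h1
  rw [LinearMap.toMatrix'_mulVec] at hv0
  exact hv (hB (by rw [hv0, map_zero]))

/-- the central character clause -/
theorem central_clause {n : ℕ} (j : ℤ_[p] →+* ℂ) (hj : Function.Injective j)
    (ρ : Representation ℤ_[p] G (Fin n → ℤ_[p])) (mult : Cfsg.IrrCharacter G → ℕ)
    (hcomm : ∀ lam : Module.End ℤ_[p] (Fin n → ℤ_[p]), (∀ g, Commute lam (ρ g)) →
        lam = 0 ∨ Function.Injective lam)
    (hch : ∀ g, j (LinearMap.trace ℤ_[p] (Fin n → ℤ_[p]) (ρ g)) =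
      ∑ ψ : Cfsg.IrrCharacter G, (mult ψ : ℂ) * (ψ : G → ℂ) g)
    (x : G) (ψ ψ' : Cfsg.IrrCharacter G) (hψ : 0 < mult ψ) (hψ' : 0 < mult ψ')
    (r : ℚ) (hr : Cfsg.centralChar (ψ : G → ℂ) x = (r : ℂ)) :
    Cfsg.centralChar (ψ' : G → ℂ) x = Cfsg.centralChar (ψ : G → ℂ) x := by
  classical
  set d : ℤ_[p] := (r.den : ℤ_[p]) with hd
  set c : ℤ_[p] := (r.num : ℤ_[p]) with hc
  have hjd : j d = (r.den : ℂ) := by rw [hd, map_natCast]
  have hjc : j c = (r.num : ℂ) := by rw [hc, map_intCast]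
  have hden : (r.den : ℂ) ≠ 0 := by exact_mod_cast r.den_nz
  have hrel : (r.den : ℂ) * (r : ℂ) = (r.num : ℂ) := by
    have := Rat.den_mul_eq_num r
    exact_mod_cast this
  set B : Module.End ℤ_[p] (Fin n → ℤ_[p]) :=
    d • latClassSum p ρ x - c • (1 : Module.End ℤ_[p] (Fin n → ℤ_[p])) with hB
  have hBcomm : ∀ g, Commute B (ρ g) := by
    intro g
    rw [hB]
    refine Commute.sub_left ?_ ?_
    · exact (latClassSum_commute p ρ x g).smul_left d
    · exact (Commute.one_left _).smul_left c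
  have hform := trace_pow_formula p j ρ mult hch x d c
  have hμψ : j d * Cfsg.centralChar (ψ : G → ℂ) x - j c = 0 := by
    rw [hjd, hjc, hr, hrel, sub_self]
  have hmψ : (mult ψ : ℂ) ≠ 0 := by exact_mod_cast hψ.ne'
  have hmψ' : (mult ψ' : ℂ) ≠ 0 := by exact_mod_cast hψ'.ne'
  rcases hcomm B hBcomm with h0 | hinj
  · -- B = 0
    have h1 : ∀ g, ∑ ψ'' : Cfsg.IrrCharacter G, ((mult ψ'' : ℂ) *
        (j d * Cfsg.centralChar (ψ'' : G → ℂ) x - j c)) * (ψ'' : G → ℂ) g = 0 := by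
      intro g
      have := hform 1 g
      rw [← hB, h0, pow_one, mul_zero, map_zero, map_zero] at this
      rw [this]
      refine Finset.sum_congr rfl fun ψ'' _ => ?_
      rw [pow_one]
    have h2 := coeff_eq_zero_of_sum _ h1 ψ'
    rcases mul_eq_zero.mp h2 with h3 | h3
    · exact absurd h3 hmψ'
    · rw [hjd, hjc] at h3
      rw [hr]
      have h4 : (r.den : ℂ) * Cfsg.centralChar (ψ' : G → ℂ) x = (r.den : ℂ) * (r : ℂ) := by
        rw [hrel]; exact sub_eq_zero.mp h3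
      exact mul_left_cancel₀ hden h4
  · -- B injective: impossible
    exfalso
    have hdet := det_ne_zero_of_injective p B hinj
    have hCH := LinearMap.aeval_self_charpoly B
    rw [Polynomial.aeval_eq_sum_range] at hCH
    set q := B.charpoly with hq
    have h1 : ∀ g, ∑ ψ'' : Cfsg.IrrCharacter G, ((mult ψ'' : ℂ) *
        ∑ i ∈ Finset.range (q.natDegree + 1), j (q.coeff i) *
          (j d * Cfsg.centralChar (ψ'' : G → ℂ) x - j c) ^ i) * (ψ'' : G → ℂ) g = 0 := by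
      intro g
      have h2 : j (LinearMap.trace ℤ_[p] (Fin n → ℤ_[p])
          (ρ g * ∑ i ∈ Finset.range (q.natDegree + 1), q.coeff i • B ^ i)) = 0 := by
        rw [hCH, mul_zero, map_zero, map_zero]
      rw [Finset.mul_sum, map_sum, map_sum] at h2
      have h3 : ∀ i ∈ Finset.range (q.natDegree + 1),
          j (LinearMap.trace ℤ_[p] (Fin n → ℤ_[p]) (ρ g * q.coeff i • B ^ i)) =
          j (q.coeff i) * ∑ ψ'' : Cfsg.IrrCharacter G, (mult ψ'' : ℂ) *
            (j d * Cfsg.centralChar (ψ'' : G → ℂ) x - j c) ^ i * (ψ'' : G → ℂ) g := by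
        intro i _
        rw [mul_smul_comm, map_smul, smul_eq_mul, map_mul, hB, hform i g]
      rw [Finset.sum_congr rfl h3] at h2
      rw [← h2]
      simp only [Finset.mul_sum, Finset.sum_mul]
      rw [Finset.sum_comm]
      refine Finset.sum_congr rfl fun i _ => Finset.sum_congr rfl fun ψ'' _ => ?_
      ring
    have h2 := coeff_eq_zero_of_sum _ h1 ψ
    rcases mul_eq_zero.mp h2 with h3 | h3
    · exact hmψ h3
    · rw [hμψ] at h3
      rw [Finset.sum_eq_single 0] at h3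
      · rw [pow_zero, mul_one] at h3
        have h4 : q.coeff 0 = 0 := hj (by rw [h3, map_zero])
        apply hdet
        rw [LinearMap.det_eq_sign_charpoly_coeff, ← hq, h4, mul_zero]
      · intro i _ hi
        rw [zero_pow hi, mul_zero]
      · intro h
        exact absurd (Finset.mem_range.mpr (Nat.succ_pos _)) h

end TLC

section Core

variable {G : Type*} [Group G] [Finite G]

/-- PIECE TLC, with the pieces J, GT and TL as hypotheses. -/
theorem tl_char_core (P : Sylow p G) (hP : Nat.card P = p) (χ : Cfsg.IrrCharacter G)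
    (x : G) (hx : x ∈ (P : Subgroup G)) (hx1 : x ≠ 1)
    (hJ : ∃ j : ℤ_[p] →+* ℂ, Function.Injective j)
    (hGT : ∃ (K : Subgroup G) (n₀ : G),
      (∀ y : G, y ∈ K ↔ (y ∈ Subgroup.centralizer ((P : Subgroup G) : Set G) ∧ ¬ p ∣ orderOf y)) ∧
      ¬ p ∣ Nat.card K ∧
      (∀ n ∈ Subgroup.normalizer ((P : Subgroup G) : Set G), ∀ k ∈ K, n * k * n⁻¹ ∈ K) ∧
      (∀ c : G, (∀ u ∈ (P : Subgroup G), c * u = u * c) →
        ∃ u k : G, u ∈ (P : Subgroup G) ∧ k ∈ K ∧ c = u * k) ∧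
      n₀ ∈ Subgroup.normalizer ((P : Subgroup G) : Set G) ∧
      (∀ n ∈ Subgroup.normalizer ((P : Subgroup G) : Set G),
        ∃ (i : ℕ) (c : G), (∀ u ∈ (P : Subgroup G), c * u = u * c) ∧ n = n₀ ^ i * c))
    (hTL : ∀ (n : ℕ) (ρ : Representation ℤ_[p] G (Fin n → ℤ_[p])),
      (∀ ε : Module.End ℤ_[p] (Fin n → ℤ_[p]), (∀ g, Commute ε (ρ g)) → ε * ε = ε →
        ε = 0 ∨ ε = 1) →
      ∀ (K : Subgroup G), ¬ p ∣ Nat.card K →
      (∀ k ∈ K, ∀ u ∈ (P : Subgroup G), k * u = u * k) →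
      (∀ n ∈ Subgroup.normalizer ((P : Subgroup G) : Set G), ∀ k ∈ K, n * k * n⁻¹ ∈ K) →
      (∀ c : G, (∀ u ∈ (P : Subgroup G), c * u = u * c) →
        ∃ u k : G, u ∈ (P : Subgroup G) ∧ k ∈ K ∧ c = u * k) →
      ∀ (n₀ : G), n₀ ∈ Subgroup.normalizer ((P : Subgroup G) : Set G) →
      (∀ n ∈ Subgroup.normalizer ((P : Subgroup G) : Set G),
        ∃ (i : ℕ) (c : G), (∀ u ∈ (P : Subgroup G), c * u = u * c) ∧ n = n₀ ^ i * c) →
      ∃ t : ℤ, (t = -1 ∨ t = 0 ∨ t = 1) ∧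
        ∑ᶠ y ∈ (K : Set G), LinearMap.trace ℤ_[p] (Fin n → ℤ_[p]) (ρ (x * y)) =
          (Nat.card K : ℤ_[p]) * (t : ℤ_[p])) :
    ∃ mult : Cfsg.IrrCharacter G → ℕ, 1 ≤ mult χ ∧
      (∀ ψ ψ' : Cfsg.IrrCharacter G, 0 < mult ψ → 0 < mult ψ' →
        (∃ r : ℚ, Cfsg.centralChar (ψ : G → ℂ) x = (r : ℂ)) →
          Cfsg.centralChar (ψ' : G → ℂ) x = Cfsg.centralChar (ψ : G → ℂ) x) ∧
      ∃ t : ℤ, (t = -1 ∨ t = 0 ∨ t = 1) ∧
        ∑ᶠ ψ : Cfsg.IrrCharacter G, (mult ψ : ℂ) *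
          ∑ᶠ y ∈ {y : G | y ∈ Subgroup.centralizer ((P : Subgroup G) : Set G) ∧ ¬ p ∣ orderOf y},
            (ψ : G → ℂ) (x * y) =
        (Nat.card {y : G | y ∈ Subgroup.centralizer ((P : Subgroup G) : Set G) ∧ ¬ p ∣ orderOf y} : ℂ)
          * (t : ℂ) := by
  classical
  haveI : Fintype G := Fintype.ofFinite G
  haveI : Fintype (Cfsg.IrrCharacter G) := Cfsg.Agent.Helper24.irrFintype
  obtain ⟨j, hj⟩ := hJ
  obtain ⟨n, ρ, mult, hcomm, hch, hχ⟩ := exists_lattice p j hj χ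
  have hch' : ∀ g, j (LinearMap.trace ℤ_[p] (Fin n → ℤ_[p]) (ρ g)) =
      ∑ ψ : Cfsg.IrrCharacter G, (mult ψ : ℂ) * (ψ : G → ℂ) g := by
    intro g
    rw [hch g, finsum_eq_sum_of_fintype]
  obtain ⟨K, n₀, hK1, hK2, hK3, hK4, hK5, hK6⟩ := hGT
  have hirr : ∀ ε : Module.End ℤ_[p] (Fin n → ℤ_[p]), (∀ g, Commute ε (ρ g)) → ε * ε = ε →
      ε = 0 ∨ ε = 1 := by
    intro ε hε hidem
    rcases hcomm ε hε with h | h
    · exact Or.inl h
    · right
      refine LinearMap.ext fun v => ?_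
      apply h
      have := congrArg (fun T : Module.End ℤ_[p] (Fin n → ℤ_[p]) => T v) hidem
      simpa using this
  have hKC : ∀ k ∈ K, ∀ u ∈ (P : Subgroup G), k * u = u * k := by
    intro k hk u hu
    have := ((hK1 k).mp hk).1
    rw [Subgroup.mem_centralizer_iff] at this
    exact (this u hu).symm
  obtain ⟨t, ht, hsum⟩ := hTL n ρ hirr K hK2 hKC hK3 hK4 n₀ hK5 hK6
  refine ⟨mult, hχ, ?_, t, ht, ?_⟩
  · intro ψ ψ' hψ hψ' ⟨r, hr⟩
    exact central_clause p j hj ρ mult hcomm hch' x ψ ψ' hψ hψ' r hr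
  · have hset : {y : G | y ∈ Subgroup.centralizer ((P : Subgroup G) : Set G) ∧ ¬ p ∣ orderOf y} =
        (K : Set G) := by
      ext y
      exact (hK1 y).symm
    rw [hset]
    have h1 := congrArg j hsum
    rw [map_mul, map_natCast, map_intCast] at h1
    have hcardK : Nat.card ((K : Set G) : Type _) = Nat.card K := rfl
    rw [hcardK, ← h1, finsum_eq_sum_of_fintype]
    rw [finsum_mem_eq_finite_toFinset_sum _ (Set.toFinite (K : Set G)), map_sum]
    have h2 : ∀ ψ : Cfsg.IrrCharacter G,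
        ∑ᶠ y ∈ (K : Set G), (ψ : G → ℂ) (x * y) =
          ∑ y ∈ (Set.toFinite (K : Set G)).toFinset, (ψ : G → ℂ) (x * y) := by
      intro ψ
      rw [finsum_mem_eq_finite_toFinset_sum _ (Set.toFinite (K : Set G))]
    simp only [h2, hch', Finset.mul_sum]
    rw [Finset.sum_comm]

end Core

end Cfsg.Agent.Helper5.TL
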