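import Mathlib
import Cfsg.Prelude.Def_Blocks
import Cfsg.Agent.S0942
import Cfsg.Agent.Lib.Helper24.CharOrtho

/-!
# S4441 PIECE TLP (core): principal-block form of the Thompson lemma, with GT, SM and TLC as
explicit hypotheses.
-/

set_option autoImplicit false

namespace Cfsg.Agent.Helper5.TL

variable (p : ℕ) [Fact p.Prime]

section TLP

variable {G : Type*} [Group G] [Finite G]

/-- the p-regular elements of `C_G(P)` lie in `O_{p'}(C_G(x))` -/
theorem mem_centralizerPPrimeCore_of_pcore (P : Sylow p G) (hP : Nat.card P = p)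
    (x : G) (hx : x ∈ (P : Subgroup G)) (hx1 : x ≠ 1) (K : Subgroup G)
    (hK1 : ∀ y : G, y ∈ K ↔ (y ∈ Subgroup.centralizer ((P : Subgroup G) : Set G) ∧ ¬ p ∣ orderOf y))
    (hK2 : ¬ p ∣ Nat.card K)
    (hK3 : ∀ n ∈ Subgroup.normalizer ((P : Subgroup G) : Set G), ∀ k ∈ K, n * k * n⁻¹ ∈ K)
    (y : G) (hy : y ∈ K) : y ∈ Cfsg.centralizerPPrimeCore p x := by
  classical
  have hpp : p.Prime := Fact.out
  set C := Subgroup.centralizer ({x} : Set G) with hC
  -- every element of P is a power of x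
  have hpow : ∀ u ∈ (P : Subgroup G), ∃ k : ℕ, x ^ k = u := by
    intro u hu
    have h1 : (⟨u, hu⟩ : (P : Subgroup G)) ∈ Subgroup.zpowers (⟨x, hx⟩ : (P : Subgroup G)) :=
      mem_zpowers_of_prime_card (G := (P : Subgroup G)) hP
        (by intro h; exact hx1 (by simpa using congrArg Subtype.val h))
    rw [← mem_powers_iff_mem_zpowers] at h1
    obtain ⟨k, hk⟩ := h1
    exact ⟨k, by simpa using congrArg Subtype.val hk⟩
  -- C_G(x) centralizes P, hence normalizes it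
  have hCP : ∀ c ∈ C, ∀ u ∈ (P : Subgroup G), c * u = u * c := by
    intro c hc u hu
    obtain ⟨k, rfl⟩ := hpow u hu
    rw [hC, Subgroup.mem_centralizer_iff] at hc
    have h1 : x * c = c * x := hc x (Set.mem_singleton x)
    have : Commute c x := h1.symm
    exact (this.pow_right k).eq
  have hCN : ∀ c ∈ C, c ∈ Subgroup.normalizer ((P : Subgroup G) : Set G) := by
    intro c hc
    rw [Subgroup.mem_normalizer_iff]
    intro u
    constructor
    · intro hu
      have := hCP c hc u hu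
      have h2 : c * u * c⁻¹ = u := by rw [this]; group
      rw [h2]; exact hu
    · intro hu
      have := hCP c hc _ hu
      have h2 : u = c * u * c⁻¹ := by
        have h3 : c * (c * u * c⁻¹) = c * u := by rw [this]; group
        exact (mul_left_cancel h3).symm
      rw [h2]; exact hu
  have hKC : K ≤ C := by
    intro k hk
    have h1 := ((hK1 k).mp hk).1
    rw [Subgroup.mem_centralizer_iff] at h1
    rw [hC, Subgroup.mem_centralizer_iff]
    intro z hz
    rw [Set.mem_singleton_iff] at hz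
    subst hz
    exact h1 z hx
  have hnorm : (K.subgroupOf C).Normal := by
    constructor
    intro k hk c
    rw [Subgroup.mem_subgroupOf] at hk ⊢
    have := hK3 c (hCN c c.2) k hk
    simpa using this
  have hcop : (Nat.card (K.subgroupOf C)).Coprime p := by
    have h1 : Nat.card (K.subgroupOf C) = Nat.card K :=
      Nat.card_congr (Subgroup.subgroupOfEquivOfLe hKC).toEquiv
    rw [h1, Nat.coprime_comm]
    exact (Nat.Prime.coprime_iff_not_dvd hpp).mpr hK2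
  have hle : K.subgroupOf C ≤ Cfsg.pPrimeCore p C := le_sSup ⟨hnorm, hcop⟩
  refine ⟨⟨y, hKC hy⟩, hle ?_, rfl⟩
  rw [Subgroup.mem_subgroupOf]
  exact hy

/-- PIECE TLP with GT, SM, TLC as hypotheses. -/
theorem tl_principal_core (M : Ideal Cfsg.AlgInt) (hM : Cfsg.IsPModular p M) (P : Sylow p G)
    (hP : Nat.card P = p) (χ : Cfsg.IrrCharacter G)
    (x : G) (hx : x ∈ (P : Subgroup G)) (hx1 : x ≠ 1)
    (hGT : ∃ (K : Subgroup G) (n₀ : G),
      (∀ y : G, y ∈ K ↔ (y ∈ Subgroup.centralizer ((P : Subgroup G) : Set G) ∧ ¬ p ∣ orderOf y)) ∧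
      ¬ p ∣ Nat.card K ∧
      (∀ n ∈ Subgroup.normalizer ((P : Subgroup G) : Set G), ∀ k ∈ K, n * k * n⁻¹ ∈ K) ∧
      (∀ c : G, (∀ u ∈ (P : Subgroup G), c * u = u * c) →
        ∃ u k : G, u ∈ (P : Subgroup G) ∧ k ∈ K ∧ c = u * k) ∧
      n₀ ∈ Subgroup.normalizer ((P : Subgroup G) : Set G) ∧
      (∀ n ∈ Subgroup.normalizer ((P : Subgroup G) : Set G),
        ∃ (i : ℕ) (c : G), (∀ u ∈ (P : Subgroup G), c * u = u * c) ∧ n = n₀ ^ i * c))
    (hSM : ∀ ψ : Cfsg.IrrCharacter G, ψ ∉ Cfsg.principalBlock M G →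
      ∑ᶠ y ∈ {y : G | y ∈ Subgroup.centralizer ((P : Subgroup G) : Set G) ∧ ¬ p ∣ orderOf y},
        (ψ : G → ℂ) (x * y) = 0)
    (hTLC : ∃ mult : Cfsg.IrrCharacter G → ℕ, 1 ≤ mult χ ∧
      (∀ ψ ψ' : Cfsg.IrrCharacter G, 0 < mult ψ → 0 < mult ψ' →
        (∃ r : ℚ, Cfsg.centralChar (ψ : G → ℂ) x = (r : ℂ)) →
          Cfsg.centralChar (ψ' : G → ℂ) x = Cfsg.centralChar (ψ : G → ℂ) x) ∧
      ∃ t : ℤ, (t = -1 ∨ t = 0 ∨ t = 1) ∧
        ∑ᶠ ψ : Cfsg.IrrCharacter G, (mult ψ : ℂ) *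
          ∑ᶠ y ∈ {y : G | y ∈ Subgroup.centralizer ((P : Subgroup G) : Set G) ∧ ¬ p ∣ orderOf y},
            (ψ : G → ℂ) (x * y) =
        (Nat.card {y : G | y ∈ Subgroup.centralizer ((P : Subgroup G) : Set G) ∧ ¬ p ∣ orderOf y} : ℂ)
          * (t : ℂ)) :
    ∃ mult : Cfsg.IrrCharacter G → ℕ, 1 ≤ mult χ ∧
      (∀ ψ ψ' : Cfsg.IrrCharacter G, 0 < mult ψ → 0 < mult ψ' →
        (∃ r : ℚ, Cfsg.centralChar (ψ : G → ℂ) x = (r : ℂ)) →
          Cfsg.centralChar (ψ' : G → ℂ) x = Cfsg.centralChar (ψ : G → ℂ) x) ∧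
      ∃ t : ℤ, (t = -1 ∨ t = 0 ∨ t = 1) ∧
        ∑ᶠ ψ ∈ Cfsg.principalBlock M G, (mult ψ : ℂ) * (ψ : G → ℂ) x = (t : ℂ) := by
  classical
  haveI : Fintype G := Fintype.ofFinite G
  haveI : Fintype (Cfsg.IrrCharacter G) := Cfsg.Agent.Helper24.irrFintype
  have hpp : p.Prime := Fact.out
  obtain ⟨mult, hχ, hclause, t, ht, hsum⟩ := hTLC
  obtain ⟨K, n₀, hK1, hK2, hK3, -, -, -⟩ := hGT
  refine ⟨mult, hχ, hclause, t, ht, ?_⟩
  set S : Set G := {y : G | y ∈ Subgroup.centralizer ((P : Subgroup G) : Set G) ∧ ¬ p ∣ orderOf y}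
    with hS
  have hSK : S = (K : Set G) := by
    ext y
    exact (hK1 y).symm
  have hord : ∃ k : ℕ, orderOf x = p ^ k := by
    refine ⟨1, ?_⟩
    rw [pow_one]
    have h1 : orderOf (⟨x, hx⟩ : (P : Subgroup G)) ∣ p := by
      have := orderOf_dvd_natCard (⟨x, hx⟩ : (P : Subgroup G))
      rwa [hP] at this
    rw [Subgroup.orderOf_mk] at h1
    rcases (Nat.dvd_prime hpp).mp h1 with h | h
    · exact absurd (orderOf_eq_one_iff.mp h) hx1
    · exact h
  -- the inner sums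
  have hin : ∀ ψ : Cfsg.IrrCharacter G,
      ∑ᶠ y ∈ S, (ψ : G → ℂ) (x * y) =
        if ψ ∈ Cfsg.principalBlock M G then (Nat.card S : ℂ) * (ψ : G → ℂ) x else 0 := by
    intro ψ
    by_cases hψ : ψ ∈ Cfsg.principalBlock M G
    · rw [if_pos hψ]
      have h1 : ∀ y ∈ S, (ψ : G → ℂ) (x * y) = (ψ : G → ℂ) x := by
        intro y hy
        rw [hSK] at hy
        have hmem := mem_centralizerPPrimeCore_of_pcore p P hP x hx hx1 K hK1 hK2 hK3 y hy
        exact Cfsg.Agent.S0942.result p M hM x hord y hmem ψ hψ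
      rw [finsum_mem_congr rfl h1, finsum_mem_eq_finite_toFinset_sum _ (Set.toFinite S),
        Finset.sum_const, nsmul_eq_mul]
      congr 2
      rw [Nat.card_eq_card_finite_toFinset (Set.toFinite S)]
    · rw [if_neg hψ]
      exact hSM ψ hψ
  have hcard : (Nat.card S : ℂ) ≠ 0 := by
    have h1 : (1 : G) ∈ S := by
      rw [hSK]; exact K.one_mem
    have : 0 < Nat.card S := Nat.card_pos_iff.mpr ⟨⟨⟨1, h1⟩⟩, inferInstance⟩
    exact_mod_cast this.ne'
  rw [finsum_eq_sum_of_fintype] at hsum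
  simp only [hin] at hsum
  have h2 : ∑ᶠ ψ ∈ Cfsg.principalBlock M G, (mult ψ : ℂ) * (ψ : G → ℂ) x =
      ∑ ψ : Cfsg.IrrCharacter G,
        if ψ ∈ Cfsg.principalBlock M G then (mult ψ : ℂ) * (ψ : G → ℂ) x else 0 := by
    rw [finsum_mem_eq_finite_toFinset_sum _ (Set.toFinite _), Finset.sum_ite]
    simp only [Finset.sum_const_zero, add_zero]
    refine Finset.sum_congr ?_ fun _ _ => rfl
    ext ψ
    simp
  rw [h2]
  have h3 : (Nat.card S : ℂ) * ∑ ψ : Cfsg.IrrCharacter G,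
      (if ψ ∈ Cfsg.principalBlock M G then (mult ψ : ℂ) * (ψ : G → ℂ) x else 0) =
      (Nat.card S : ℂ) * (t : ℂ) := by
    rw [← hsum, Finset.mul_sum]
    refine Finset.sum_congr rfl fun ψ _ => ?_
    split_ifs
    · ring
    · ring
  exact mul_left_cancel₀ hcard h3

end TLP

end Cfsg.Agent.Helper5.TL
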