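import Mathlib
import Cfsg.Prelude.Def_Blocks
import Cfsg.Agent.Lib.Helper5.TLRDefs
import Cfsg.Agent.Lib.Helper24.CharOrtho
import Cfsg.Agent.Lib.Helper24.CharComplete
import Cfsg.Agent.Lib.Helper24.TLBR

/-!
# S4442 lattice side, LAYER B, PIECE BR-R (helper24): every irreducible complex character is a
constituent of the (complexified) character of an `R`-lattice whose commutant has no zero divisors,
for any principal ideal domain `R` embedded in `ℂ` (port of `Helper24/TLBR.lean` from `ℤ_[p]`).
-/

set_option autoImplicit false
set_option linter.style.haveILetI false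
set_option linter.unusedSectionVars false

namespace Cfsg.Agent.Helper5.TLR

namespace BRR

variable {R : Type*} [CommRing R] [IsDomain R] [IsPrincipalIdealRing R]
variable {G : Type*} [Group G]


/-- the complexified character of a lattice -/
noncomputable def latChar {M : Type*} [AddCommGroup M] [Module R M] (j : R →+* ℂ)
    (ρ : Representation R G M) : G → ℂ :=
  fun g => j (LinearMap.trace R M (ρ g))

/-- the restriction of a lattice representation to an invariant sublattice -/
noncomputable def latSub {M : Type*} [AddCommGroup M] [Module R M]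
    (ρ : Representation R G M) (W : Submodule R M) (hW : ∀ g, ∀ v ∈ W, ρ g v ∈ W) :
    Representation R G W where
  toFun g := (ρ g).restrict (hW g)
  map_one' := by
    ext v
    simp
  map_mul' a b := by
    ext v
    simp

/-- transport of a lattice representation along a linear equivalence -/
noncomputable def latTransport {M N : Type*} [AddCommGroup M] [Module R M]
    [AddCommGroup N] [Module R N]
    (ρ : Representation R G M) (e : M ≃ₗ[R] N) : Representation R G N where
  toFun g := e.conj (ρ g)
  map_one' := by
    ext v
    simp [LinearEquiv.conj_apply]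
  map_mul' a b := by
    ext v
    simp [LinearEquiv.conj_apply]

theorem latChar_transport {M N : Type*} [AddCommGroup M] [Module R M]
    [AddCommGroup N] [Module R N] [Module.Free R M] [Module.Finite R M]
    (j : R →+* ℂ) (ρ : Representation R G M) (e : M ≃ₗ[R] N) :
    latChar j (latTransport ρ e) = latChar j ρ := by
  funext g
  show j (LinearMap.trace R N (e.conj (ρ g))) = j (LinearMap.trace R M (ρ g))
  rw [LinearMap.trace_conj']

/-- a lattice representation can be moved to a coordinate lattice -/
theorem exists_fin_model {M : Type*} [AddCommGroup M] [Module R M]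
    [Module.Free R M] [Module.Finite R M] (j : R →+* ℂ)
    (ρ : Representation R G M) :
    ∃ ρ' : Representation R G (Fin (Module.finrank R M) → R),
      latChar j ρ' = latChar j ρ :=
  ⟨latTransport ρ (Module.finBasis R M).equivFun, latChar_transport j ρ _⟩

/-- the complexified character of a lattice is a character -/
theorem isCharacter_latChar {n : ℕ} (j : R →+* ℂ)
    (ρ : Representation R G (Fin n → R)) : Cfsg.IsCharacter G (latChar j ρ) := by
  classical
  let ρ' : Representation ℂ G (Fin n → ℂ) :=
    { toFun := fun g => Matrix.toLin' ((LinearMap.toMatrix' (ρ g)).map j)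
      map_one' := by
        rw [map_one]
        have : (LinearMap.toMatrix' (1 : Module.End R (Fin n → R))) = 1 :=
          LinearMap.toMatrix'_one
        rw [this, Matrix.map_one _ (map_zero j) (map_one j), Matrix.toLin'_one]
        rfl
      map_mul' := by
        intro a b
        rw [map_mul]
        have : LinearMap.toMatrix' (ρ a * ρ b) =
            LinearMap.toMatrix' (ρ a) * LinearMap.toMatrix' (ρ b) :=
          LinearMap.toMatrix'_mul _ _
        rw [this, Matrix.map_mul, Matrix.toLin'_mul]
        rfl }
  refine ⟨n, ρ', ?_⟩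
  funext g
  show LinearMap.trace ℂ (Fin n → ℂ) (Matrix.toLin' ((LinearMap.toMatrix' (ρ g)).map j)) =
    j (LinearMap.trace R (Fin n → R) (ρ g))
  rw [Matrix.trace_toLin'_eq]
  have h1 : LinearMap.trace R (Fin n → R) (ρ g) =
      Matrix.trace (LinearMap.toMatrix' (ρ g)) := by
    rw [LinearMap.trace_eq_matrix_trace R (Pi.basisFun R (Fin n)),
      LinearMap.toMatrix_eq_toMatrix']
  rw [h1]
  simp only [Matrix.trace, Matrix.diag_apply, Matrix.map_apply, map_sum]

variable (R) in
/-- the regular lattice -/
noncomputable def latReg (G : Type*) [Group G] : Representation R G (G → R) where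
  toFun h :=
    { toFun := fun φ x => φ (h⁻¹ * x)
      map_add' := fun _ _ => rfl
      map_smul' := fun _ _ => rfl }
  map_one' := by ext φ x; simp
  map_mul' a b := by ext φ x; simp [mul_assoc]

theorem latChar_latReg [Fintype G] [DecidableEq G] (j : R →+* ℂ) (h : G) :
    latChar j (latReg R G) h = if h = 1 then (Fintype.card G : ℂ) else 0 := by
  classical
  show j (LinearMap.trace R (G → R) (latReg R G h)) = _
  rw [LinearMap.trace_eq_matrix_trace R (Pi.basisFun R G)]
  simp only [Matrix.trace, Matrix.diag_apply, LinearMap.toMatrix_apply, Pi.basisFun_apply,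
    Pi.basisFun_repr]
  have hterm : ∀ x : G, (latReg R G h) (Pi.single x (1 : R)) x =
      if h = 1 then (1 : R) else 0 := by
    intro x
    show (Pi.single x (1 : R) : G → R) (h⁻¹ * x) = _
    by_cases hh : h = 1
    · subst hh
      simp
    · rw [if_neg hh, Pi.single_apply, if_neg]
      intro hx
      apply hh
      have : h⁻¹ = 1 := by
        have := mul_right_cancel (b := x) (a := h⁻¹) (c := 1) (by rw [one_mul]; exact hx)
        exact this
      simpa using this
  rw [Finset.sum_congr rfl (fun x _ => hterm x)]
  by_cases hh : h = 1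
  · simp [hh]
  · simp [hh]


end BRR

section BR

variable {R : Type*} [CommRing R] [IsDomain R] [IsPrincipalIdealRing R]
variable {G : Type*} [Group G] [Finite G]

open BRR in
/-- PIECE BR: every irreducible complex character is a constituent of the (complexified)
character of a `ℚ_p`-irreducible `ℤ_p`-lattice. -/
theorem exists_lattice (j : R →+* ℂ) (hj : Function.Injective j)
    (χ : Cfsg.IrrCharacter G) :
    ∃ (n : ℕ) (ρ : Representation R G (Fin n → R)) (mult : Cfsg.IrrCharacter G → ℕ),
      (∀ lam : Module.End R (Fin n → R), (∀ g, Commute lam (ρ g)) →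
        lam = 0 ∨ Function.Injective lam) ∧
      (∀ g, j (LinearMap.trace R (Fin n → R) (ρ g)) =
        ∑ᶠ ψ : Cfsg.IrrCharacter G, (mult ψ : ℂ) * (ψ : G → ℂ) g) ∧
      1 ≤ mult χ := by
  classical
  haveI : Fintype G := Fintype.ofFinite G
  haveI : Fintype (Cfsg.IrrCharacter G) := Cfsg.Agent.Helper24.irrFintype
  let Good : ℕ → Prop := fun n =>
    ∃ ρ : Representation R G (Fin n → R),
      Cfsg.classInner (latChar j ρ) (χ : G → ℂ) ≠ 0
  have hex : ∃ n, Good n := by
    obtain ⟨ρ', hρ'⟩ := exists_fin_model j (latReg R G)
    refine ⟨_, ρ', ?_⟩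
    rw [hρ']
    obtain ⟨d, hd, hd1⟩ := Cfsg.Agent.Helper24.irr_one_eq χ.2
    have hcard : (Nat.card G : ℂ) ≠ 0 := by
      rw [Nat.card_eq_fintype_card]
      exact_mod_cast Fintype.card_ne_zero
    rw [Cfsg.classInner]
    rw [Finset.sum_eq_single (1 : G)]
    · rw [latChar_latReg (R := R), if_pos rfl, hd1]
      simp only [map_natCast]
      have hd0 : (d : ℂ) ≠ 0 := by exact_mod_cast hd.ne'
      rw [Nat.card_eq_fintype_card] at hcard
      rw [Nat.card_eq_fintype_card]
      exact mul_ne_zero (inv_ne_zero hcard) (mul_ne_zero hcard hd0)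
    · intro g _ hg
      rw [latChar_latReg (R := R), if_neg hg, zero_mul]
    · intro h
      exact absurd (Finset.mem_univ _) h
  obtain ⟨ρ, hρ⟩ := Nat.find_spec hex
  have hmin : ∀ m, m < Nat.find hex → ¬ Good m := fun m hm => Nat.find_min hex hm
  have hchar := isCharacter_latChar j ρ
  obtain ⟨hm, hsum⟩ := Cfsg.Agent.Helper24.isCharacter_decomp hchar
  choose mult hmult using hm
  refine ⟨Nat.find hex, ρ, mult, ?_, ?_, ?_⟩
  · intro lam hlam
    by_contra hcon
    push Not at hcon
    obtain ⟨h0, hinj⟩ := hcon
    set M := Fin (Nat.find hex) → R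
    set W := LinearMap.ker lam
    set Rg := LinearMap.range lam
    haveI : Module.Free R W :=
      Module.Free.of_basis (Submodule.basisOfPid (Pi.basisFun R (Fin (Nat.find hex))) W).2
    haveI : Module.Free R Rg :=
      Module.Free.of_basis (Submodule.basisOfPid (Pi.basisFun R (Fin (Nat.find hex))) Rg).2
    have hW : ∀ g, ∀ v ∈ W, ρ g v ∈ W := by
      intro g v hv
      rw [LinearMap.mem_ker] at hv ⊢
      have := congrArg (fun T : Module.End R M => T v) (hlam g).eq
      simp only [Module.End.mul_apply] at this
      rw [this, hv, map_zero]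
    have hR : ∀ g, ∀ v ∈ Rg, ρ g v ∈ Rg := by
      rintro g v ⟨w, rfl⟩
      refine ⟨ρ g w, ?_⟩
      have := congrArg (fun T : Module.End R M => T w) (hlam g).eq
      simpa only [Module.End.mul_apply] using this
    have hsplit : latChar j ρ = latChar j (latSub ρ W hW) + latChar j (latSub ρ Rg hR) := by
      funext g
      show j (LinearMap.trace R M (ρ g)) = j _ + j _
      rw [← map_add]
      congr 1
      exact Cfsg.Agent.Helper5.TL.trace_eq_add_of_commute lam (ρ g) (hlam g)
    obtain ⟨ρ₁, hρ₁⟩ := exists_fin_model j (latSub ρ W hW)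
    obtain ⟨ρ₂, hρ₂⟩ := exists_fin_model j (latSub ρ Rg hR)
    have hrank : Module.finrank R Rg + Module.finrank R W = Nat.find hex := by
      have h1 := Submodule.finrank_quotient_add_finrank (R := R) (M := M) W
      have h2 := lam.quotKerEquivRange.finrank_eq
      rw [← h2, h1]
      simp [M]
    have hWpos : 0 < Module.finrank R W := by
      rw [Module.finrank_pos_iff_exists_ne_zero]
      have : W ≠ ⊥ := by
        intro h
        exact hinj (LinearMap.ker_eq_bot.mp h)
      obtain ⟨v, hv, hv0⟩ := (Submodule.ne_bot_iff W).mp this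
      exact ⟨⟨v, hv⟩, fun h => hv0 (congrArg Subtype.val h)⟩
    have hRpos : 0 < Module.finrank R Rg := by
      rw [Module.finrank_pos_iff_exists_ne_zero]
      have : Rg ≠ ⊥ := by
        intro h
        exact h0 (LinearMap.range_eq_bot.mp h)
      obtain ⟨v, hv, hv0⟩ := (Submodule.ne_bot_iff Rg).mp this
      exact ⟨⟨v, hv⟩, fun h => hv0 (congrArg Subtype.val h)⟩
    have h1 : ¬ Good (Module.finrank R W) := hmin _ (by omega)
    have h2 : ¬ Good (Module.finrank R Rg) := hmin _ (by omega)
    have h1' : Cfsg.classInner (latChar j (latSub ρ W hW)) (χ : G → ℂ) = 0 := by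
      by_contra h
      exact h1 ⟨ρ₁, by rw [hρ₁]; exact h⟩
    have h2' : Cfsg.classInner (latChar j (latSub ρ Rg hR)) (χ : G → ℂ) = 0 := by
      by_contra h
      exact h2 ⟨ρ₂, by rw [hρ₂]; exact h⟩
    apply hρ
    rw [hsplit, Cfsg.Agent.Helper24.classInner_add_left, h1', h2', add_zero]
  · intro g
    rw [finsum_eq_sum_of_fintype]
    have := congrFun hsum g
    simp only [Finset.sum_apply, Pi.smul_apply, smul_eq_mul] at this
    rw [show j (LinearMap.trace R (Fin (Nat.find hex) → R) (ρ g)) = latChar j ρ g from rfl,
      this]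
    refine Finset.sum_congr rfl fun ψ _ => ?_
    rw [hmult ψ]
  · have h1 := hmult χ
    by_contra hlt
    have : mult χ = 0 := by omega
    rw [this, Nat.cast_zero] at h1
    exact hρ h1

end BR

end Cfsg.Agent.Helper5.TLR
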