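import Mathlib
import Cfsg.Prelude.Def_Blocks
import Cfsg.Agent.Lib.Helper24.CharInduced
import Cfsg.Agent.Lib.Helper24.CharHom
import Cfsg.Agent.Lib.Helper24.CharLinear
import Cfsg.Agent.Lib.Helper24.CharAbelian
import Cfsg.Agent.Lib.Helper24.CharIntegral
import Cfsg.Agent.Lib.Helper5.Clifford
import Cfsg.Agent.Lib.Helper18.CliffordCorr

/-!
# Groups with two character degrees: basic lemmas (helper24's shared library)

`CdSub G m`: every irreducible character of `G` has degree `1` or `m`.
-/

set_option autoImplicit false
set_option linter.style.haveILetI false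
set_option linter.unusedSectionVars false

namespace Cfsg.Agent.Helper24.Cd2

open Cfsg Cfsg.Agent.Helper24 Cfsg.Agent.Helper5 Cfsg.Agent.Helper18
open scoped ComplexConjugate

universe u

variable {G : Type u} [Group G] [Finite G]

/-- Every irreducible character has degree `1` or `m`. -/
def CdSub (G : Type u) [Group G] (m : ℕ) : Prop :=
  ∀ χ : G → ℂ, IsIrrCharacter G χ → charDegree χ = 1 ∨ charDegree χ = m

theorem charDegree_comp {H : Type u} [Group H] (f : G →* H) (χ : H → ℂ) :
    charDegree (χ ∘ f) = charDegree χ := by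
  unfold charDegree
  simp

theorem CdSub.of_surjective {m : ℕ} {H : Type u} [Group H] (f : G →* H)
    (hf : Function.Surjective f) (h : CdSub G m) : CdSub H m := by
  intro χ hχ
  have := h (χ ∘ f) (isIrrCharacter_comp_of_surjective f hf hχ)
  rwa [charDegree_comp] at this

theorem CdSub.quotient {m : ℕ} (N : Subgroup G) [N.Normal] (h : CdSub G m) : CdSub (G ⧸ N) m :=
  h.of_surjective (QuotientGroup.mk' N) (QuotientGroup.mk'_surjective N)

/-- The group is abelian iff all irreducible characters are linear. -/
theorem comm_of_forall_linear (h : ∀ χ : G → ℂ, IsIrrCharacter G χ → charDegree χ = 1) (a b : G) :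
    a * b = b * a := by
  classical
  letI : Fintype G := Fintype.ofFinite G
  letI := irrFintype (G := G)
  exact comm_of_forall_charDegree_eq_one (fun χ => h χ χ.2) a b

theorem linear_of_comm (hc : ∀ a b : G, a * b = b * a) {χ : G → ℂ} (hχ : IsIrrCharacter G χ) :
    charDegree χ = 1 := by
  classical
  letI : Fintype G := Fintype.ofFinite G
  letI := irrFintype (G := G)
  exact charDegree_eq_one_of_comm hc hχ

/-- If `G` is nonabelian it has a nonlinear irreducible character. -/
theorem exists_nonlinear (h : ∃ a b : G, a * b ≠ b * a) :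
    ∃ χ : G → ℂ, IsIrrCharacter G χ ∧ charDegree χ ≠ 1 := by
  by_contra hcon
  push Not at hcon
  obtain ⟨a, b, hab⟩ := h
  exact hab (comm_of_forall_linear hcon a b)

/-- The degree of an irreducible character is at most the index of an abelian subgroup. -/
theorem degree_le_index_of_abelian (A : Subgroup G) (hA : ∀ a ∈ A, ∀ b ∈ A, a * b = b * a)
    {χ : G → ℂ} (hχ : IsIrrCharacter G χ) : charDegree χ ≤ A.index := by
  classical
  letI : Fintype G := Fintype.ofFinite G
  letI : Fintype A := Fintype.ofFinite A
  have hχc := isCharacter_of_isIrrCharacter hχ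
  have hχA : IsCharacter A (fun a : A => χ a) := isCharacter_restrict A hχc
  have h0 : (fun a : A => χ a) ≠ 0 := by
    intro h
    have h1 := congrFun h 1
    have h2 := irr_one_eq_charDegree hχ
    have h3 := charDegree_pos hχ
    simp only [Pi.zero_apply, OneMemClass.coe_one] at h1
    rw [h1] at h2
    have : (charDegree χ : ℂ) ≠ 0 := by exact_mod_cast h3.ne'
    exact this h2.symm
  letI := irrFintype (G := A)
  obtain ⟨μ, hμ, hμc⟩ := exists_constituent hχA h0
  have hμ1 : charDegree μ = 1 :=
    linear_of_comm (fun a b => Subtype.ext (hA a a.2 b b.2)) hμ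
  have hμchar := isCharacter_of_isIrrCharacter hμ
  have hind : IsCharacter G (indFun A μ) := isCharacter_indFun A hμchar
  have hrec : classInner (indFun A μ) χ ≠ 0 := by
    rw [frobenius_reciprocity A μ (isClassFunction_of_isCharacter hχc),
      classInner_char_comm hμchar hχA]
    exact hμc
  obtain ⟨ρ, hρ, hsum⟩ := exists_add_of_constituent hind hχ hrec
  have h1 := congrFun hsum 1
  rw [indFun_one, Pi.add_apply, irr_one_eq_charDegree hχ, irr_one_eq_charDegree hμ, hμ1,
    char_one_eq_charDegree hρ] at h1
  have h2 : (A.index : ℂ) = ((charDegree χ + charDegree ρ : ℕ) : ℂ) := by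
    rw [Nat.cast_one, mul_one] at h1
    rw [h1]; push_cast; ring
  have h3 : A.index = charDegree χ + charDegree ρ := by exact_mod_cast h2
  omega

/-- The degree of a constituent of the restriction to a normal subgroup divides the degree. -/
theorem degree_dvd_of_constituent (N : Subgroup G) [N.Normal] [Fintype N] {χ : G → ℂ}
    (hχ : IsIrrCharacter G χ) {ϑ : N → ℂ} (hϑ : IsIrrCharacter N ϑ)
    (hcon : classInner (fun n : N => χ n) ϑ ≠ 0) : charDegree ϑ ∣ charDegree χ := by
  classical
  letI : Fintype G := Fintype.ofFinite G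
  letI := irrFintype (G := N)
  have h1 := degree_eq_of_constituent N hχ hϑ hcon
  have hχN : IsCharacter N (fun n : N => χ n) :=
    isCharacter_restrict N (isCharacter_of_isIrrCharacter hχ)
  obtain ⟨e, he⟩ := classInner_char_nat hχN (isCharacter_of_isIrrCharacter hϑ)
  rw [he, irr_one_eq_charDegree hχ, irr_one_eq_charDegree hϑ] at h1
  have h2 : charDegree χ = e * (inertia N ϑ).index * charDegree ϑ := by exact_mod_cast h1
  rw [h2]
  exact dvd_mul_left _ _

/-- Every irreducible character of a normal subgroup lies under an irreducible character. -/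
theorem exists_over (N : Subgroup G) [Fintype N] {ϑ : N → ℂ} (hϑ : IsIrrCharacter N ϑ) :
    ∃ χ : G → ℂ, IsIrrCharacter G χ ∧ classInner (fun n : N => χ n) ϑ ≠ 0 := by
  classical
  letI : Fintype G := Fintype.ofFinite G
  letI := irrFintype (G := N)
  have hϑc := isCharacter_of_isIrrCharacter hϑ
  have hind : IsCharacter G (indFun N ϑ) := isCharacter_indFun N hϑc
  have h0 : indFun N ϑ ≠ 0 := by
    intro h
    have h1 := congrFun h 1
    rw [indFun_one, irr_one_eq_charDegree hϑ] at h1
    have h3 := charDegree_pos hϑ
    have : (N.index : ℂ) * (charDegree ϑ : ℂ) ≠ 0 := by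
      have hi : N.index ≠ 0 := Subgroup.index_ne_zero_of_finite
      have : N.index * charDegree ϑ ≠ 0 := Nat.mul_ne_zero hi h3.ne'
      exact_mod_cast this
    exact this h1
  obtain ⟨χ, hχ, hc⟩ := exists_constituent hind h0
  refine ⟨χ, hχ, ?_⟩
  have hχc := isCharacter_of_isIrrCharacter hχ
  rw [frobenius_reciprocity N ϑ (isClassFunction_of_isCharacter hχc)] at hc
  rw [classInner_char_comm (isCharacter_restrict N hχc) hϑc]
  exact hc

end Cfsg.Agent.Helper24.Cd2
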