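import Mathlib
import Cfsg.Prelude.Def_Blocks
import Cfsg.Agent.Lib.Helper24.CharQuotient
import Cfsg.Agent.Lib.Helper24.CharBrauerPerm

/-!
# Irreducible characters vanishing on all but two conjugacy classes (Gagola)
(helper24's shared library)
-/

set_option autoImplicit false

namespace Cfsg.Agent.Helper24

open Cfsg Module

universe u

open scoped ComplexConjugate

section Separation

variable {G : Type u} [Group G] [Finite G]

/-- Irreducible characters separate the identity: if every irreducible character takes the value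
`ψ 1` at `h` then `h = 1`. -/
theorem eq_one_of_forall_irr_eq {h : G}
    (hall : ∀ ψ : IrrCharacter G, (ψ : G → ℂ) h = (ψ : G → ℂ) 1) : h = 1 := by
  classical
  haveI : Fintype G := Fintype.ofFinite G
  letI : Fintype (IrrCharacter G) := irrFintype
  have hso := second_orthogonality' (1 : G) h
  have h1 : ∑ ψ : IrrCharacter G, (ψ : G → ℂ) 1 * conj ((ψ : G → ℂ) h) = (Nat.card G : ℂ) := by
    have : ∀ ψ : IrrCharacter G, (ψ : G → ℂ) 1 * conj ((ψ : G → ℂ) h) =
        ((charDegree (ψ : G → ℂ) ^ 2 : ℕ) : ℂ) := by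
      intro ψ
      rw [hall ψ, irr_one_eq_charDegree ψ.2, Complex.conj_natCast]
      push_cast
      ring
    rw [Finset.sum_congr rfl (fun ψ _ => this ψ), ← Nat.cast_sum, sum_charDegree_sq]
  rw [h1] at hso
  by_contra hne
  have hnc : ¬ IsConj h 1 := by
    intro hc
    exact hne (isConj_one_left.mp hc)
  rw [if_neg hnc] at hso
  have : (Nat.card G : ℂ) ≠ 0 := by exact_mod_cast (Nat.card_pos (α := G)).ne'
  exact this hso

end Separation

section Gagola

variable {G : Type u} [Group G] [Finite G]

/-- `χ` is an irreducible character which is nonzero exactly on `{1}` and the class of `x ≠ 1`. -/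
structure TwoClass (χ : G → ℂ) (x : G) : Prop where
  irr : IsIrrCharacter G χ
  x_ne : x ≠ 1
  x_nz : χ x ≠ 0
  supp : ∀ g, χ g ≠ 0 → g = 1 ∨ IsConj x g

omit [Finite G] in
theorem exists_twoClass (χ : IrrCharacter G)
    (hχ : Nat.card {C : ConjClasses G // ∃ g ∈ C.carrier, (χ : G → ℂ) g ≠ 0} = 2) :
    ∃ x, TwoClass (χ : G → ℂ) x := by
  have h1 : (χ : G → ℂ) 1 ≠ 0 := by
    rw [irr_one_eq_charDegree χ.2]
    exact_mod_cast (charDegree_pos χ.2).ne'
  let C₁ : {C : ConjClasses G // ∃ g ∈ C.carrier, (χ : G → ℂ) g ≠ 0} :=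
    ⟨ConjClasses.mk 1, 1, ConjClasses.mem_carrier_mk, h1⟩
  obtain ⟨C₂, hC₂, huniq⟩ := (Nat.card_eq_two_iff' C₁).mp hχ
  obtain ⟨⟨c, x, hxc, hx⟩, rfl⟩ : ∃ y, y = C₂ := ⟨C₂, rfl⟩
  rw [ConjClasses.mem_carrier_iff_mk_eq] at hxc
  refine ⟨x, χ.2, ?_, hx, ?_⟩
  · rintro rfl
    apply hC₂
    apply Subtype.ext
    exact hxc.symm
  · intro g hg
    by_cases hg1 : g = 1
    · exact Or.inl hg1
    · right
      let Cg : {C : ConjClasses G // ∃ g ∈ C.carrier, (χ : G → ℂ) g ≠ 0} :=
        ⟨ConjClasses.mk g, g, ConjClasses.mem_carrier_mk, hg⟩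
      have hCg : Cg ≠ C₁ := by
        intro h
        have := congrArg Subtype.val h
        simp only [Cg, C₁] at this
        rw [ConjClasses.mk_eq_mk_iff_isConj, isConj_one_left] at this
        exact hg1 this
      have := huniq Cg hCg
      have h2 := congrArg Subtype.val this
      simp only [Cg] at h2
      rw [← hxc, ConjClasses.mk_eq_mk_iff_isConj] at h2
      exact h2.symm

variable {χ : G → ℂ} {x : G}

/-- Sums against `conj χ` only see the two classes. -/
theorem TwoClass.sum_mul_conj [Fintype G] (h : TwoClass χ x) {f : G → ℂ}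
    (hf : IsClassFunction G f) :
    ∑ g : G, f g * conj (χ g) =
      f 1 * conj (χ 1) +
        ((Subgroup.centralizer ({x} : Set G)).index : ℂ) * (f x * conj (χ x)) := by
  classical
  have hcf := isClassFunction_of_isIrrCharacter h.irr
  have h1 : ∀ g ∈ (Finset.univ : Finset G),
      g ∉ insert (1 : G) (Finset.univ.filter (IsConj x)) → f g * conj (χ g) = 0 := by
    intro g _ hg
    rw [Finset.mem_insert, Finset.mem_filter] at hg
    have : χ g = 0 := by
      by_contra hne
      rcases h.supp g hne with h' | h'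
      · exact hg (Or.inl h')
      · exact hg (Or.inr ⟨Finset.mem_univ _, h'⟩)
    rw [this, map_zero, mul_zero]
  rw [← Finset.sum_subset (Finset.subset_univ _) h1, Finset.sum_insert]
  · congr 1
    have h2 : ∀ g ∈ Finset.univ.filter (IsConj x), f g * conj (χ g) = f x * conj (χ x) := by
      intro g hg
      rw [Finset.mem_filter] at hg
      rw [classFunction_eq_of_isConj hf hg.2, classFunction_eq_of_isConj hcf hg.2]
    rw [Finset.sum_congr rfl h2, Finset.sum_const, nsmul_eq_mul, card_filter_isConj]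
  · rw [Finset.mem_filter]
    rintro ⟨-, hc⟩
    exact h.x_ne (isConj_one_left.mp hc)

/-- `χ` is not the principal character when `|G| > 2`. -/
theorem TwoClass.ne_one (h : TwoClass χ x) (hG : 2 < Nat.card G) : χ ≠ fun _ => (1 : ℂ) := by
  classical
  haveI : Fintype G := Fintype.ofFinite G
  intro hχ
  -- every nonidentity element is conjugate to x
  have hall : ∀ g : G, g ≠ 1 → IsConj x g := by
    intro g hg
    rcases h.supp g (by rw [hχ]; exact one_ne_zero) with h' | h'
    · exact absurd h' hg
    · exact h'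
  have hcard : (Finset.univ.filter (IsConj x)).card = Nat.card G - 1 := by
    have : Finset.univ.filter (IsConj x) = Finset.univ.erase (1 : G) := by
      ext g
      simp only [Finset.mem_filter, Finset.mem_univ, true_and, Finset.mem_erase, and_true]
      constructor
      · intro hc hg
        rw [hg, isConj_one_left] at hc
        exact h.x_ne hc
      · exact hall g
    rw [this, Finset.card_erase_of_mem (Finset.mem_univ _), Finset.card_univ,
      Nat.card_eq_fintype_card]
  rw [card_filter_isConj] at hcard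
  have hdvd : Nat.card G - 1 ∣ Nat.card G := by
    rw [← hcard]
    exact Subgroup.index_dvd_card _
  have h2 : Nat.card G - 1 ∣ 1 := by
    have : Nat.card G = (Nat.card G - 1) + 1 := by omega
    rw [this] at hdvd
    exact (Nat.dvd_add_right (dvd_refl _)).mp hdvd
  have := Nat.dvd_one.mp h2
  omega

/-- The key relation `c * conj (χ x) = - χ 1`. -/
theorem TwoClass.index_mul (h : TwoClass χ x) (hG : 2 < Nat.card G) :
    ((Subgroup.centralizer ({x} : Set G)).index : ℂ) * conj (χ x) = - conj (χ 1) := by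
  haveI : Fintype G := Fintype.ofFinite G
  have h1 := irr_orthogonality (isIrrCharacter_one (G := G)) h.irr
  rw [if_neg (fun h' => h.ne_one hG h'.symm)] at h1
  unfold classInner at h1
  rw [h.sum_mul_conj (isClassFunction_of_isIrrCharacter isIrrCharacter_one)] at h1
  have hcard : (Nat.card G : ℂ) ≠ 0 := by exact_mod_cast (Nat.card_pos (α := G)).ne'
  have h2 := (mul_eq_zero.mp h1).resolve_left (inv_ne_zero hcard)
  simp only [one_mul] at h2
  linear_combination h2

/-- Every other irreducible character has `x` in its kernel. -/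
theorem TwoClass.other_ker (h : TwoClass χ x) (hG : 2 < Nat.card G) {ψ : G → ℂ}
    (hψ : IsIrrCharacter G ψ) (hne : ψ ≠ χ) : ψ x = ψ 1 := by
  haveI : Fintype G := Fintype.ofFinite G
  have h1 := irr_orthogonality hψ h.irr
  rw [if_neg hne] at h1
  unfold classInner at h1
  rw [h.sum_mul_conj (isClassFunction_of_isIrrCharacter hψ)] at h1
  have hcard : (Nat.card G : ℂ) ≠ 0 := by exact_mod_cast (Nat.card_pos (α := G)).ne'
  have h2 := (mul_eq_zero.mp h1).resolve_left (inv_ne_zero hcard)
  have h3 := h.index_mul hG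
  have h4 : ψ 1 * conj (χ 1) - ψ x * conj (χ 1) = 0 := by
    linear_combination h2 - ψ x * h3
  have hd : conj (χ 1) ≠ 0 := by
    rw [irr_one_eq_charDegree h.irr, Complex.conj_natCast]
    exact_mod_cast (charDegree_pos h.irr).ne'
  have h5 : (ψ 1 - ψ x) * conj (χ 1) = 0 := by rw [sub_mul]; exact h4
  have := (mul_eq_zero.mp h5).resolve_right hd
  exact (sub_eq_zero.mp this).symm

/-- `χ` is faithful. -/
theorem TwoClass.faithful (h : TwoClass χ x) (hG : 2 < Nat.card G) {g : G} (hg : χ g = χ 1) :
    g = 1 := by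
  have h1 : χ 1 ≠ 0 := by
    rw [irr_one_eq_charDegree h.irr]
    exact_mod_cast (charDegree_pos h.irr).ne'
  rcases h.supp g (by rw [hg]; exact h1) with h' | h'
  · exact h'
  · exfalso
    have hcf := isClassFunction_of_isIrrCharacter h.irr
    have hx : χ x = χ 1 := by rw [classFunction_eq_of_isConj hcf h', hg]
    have h3 := h.index_mul hG
    rw [hx, irr_one_eq_charDegree h.irr, Complex.conj_natCast] at h3
    have hd : (0 : ℝ) < charDegree χ := by exact_mod_cast charDegree_pos h.irr
    have h4 : (((Subgroup.centralizer ({x} : Set G)).index : ℝ) * charDegree χ : ℝ) =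
        - (charDegree χ : ℝ) := by exact_mod_cast h3
    have h5 : (0 : ℝ) ≤ ((Subgroup.centralizer ({x} : Set G)).index : ℝ) := Nat.cast_nonneg _
    nlinarith

/-- `χ` is the only faithful irreducible character. -/
theorem TwoClass.unique_faithful (h : TwoClass χ x) (hG : 2 < Nat.card G) {ψ : G → ℂ}
    (hψ : IsIrrCharacter G ψ) (hf : ∀ g, ψ g = ψ 1 → g = 1) : ψ = χ := by
  by_contra hne
  exact h.x_ne (hf x (h.other_ker hG hψ hne))

/-- `|G| = χ(1)² + c |χ(x)|²`. -/
theorem TwoClass.card_eq (h : TwoClass χ x) :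
    (Nat.card G : ℂ) = χ 1 * conj (χ 1) +
      ((Subgroup.centralizer ({x} : Set G)).index : ℂ) * (χ x * conj (χ x)) := by
  haveI : Fintype G := Fintype.ofFinite G
  have h1 := irr_orthogonality h.irr h.irr
  rw [if_pos rfl] at h1
  unfold classInner at h1
  rw [h.sum_mul_conj (isClassFunction_of_isIrrCharacter h.irr)] at h1
  have hcard : (Nat.card G : ℂ) ≠ 0 := by exact_mod_cast (Nat.card_pos (α := G)).ne'
  field_simp at h1
  rw [← h1]
  ring

/-- Characterisation of the support of `χ` through the kernels of the other characters. -/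
theorem TwoClass.nz_iff (h : TwoClass χ x) (hG : 2 < Nat.card G) (g : G) :
    χ g ≠ 0 ↔ ∀ ψ : G → ℂ, IsIrrCharacter G ψ → ψ ≠ χ → ψ g = ψ 1 := by
  classical
  haveI : Fintype G := Fintype.ofFinite G
  letI : Fintype (IrrCharacter G) := irrFintype
  constructor
  · intro hg ψ hψ hne
    rcases h.supp g hg with h' | h'
    · rw [h']
    · rw [← classFunction_eq_of_isConj (isClassFunction_of_isIrrCharacter hψ) h']
      exact h.other_ker hG hψ hne
  · intro hall
    by_cases hg1 : g = 1
    · rw [hg1, irr_one_eq_charDegree h.irr]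
      exact_mod_cast (charDegree_pos h.irr).ne'
    · intro hg0
      have hso := second_orthogonality' g (1 : G)
      have hnc : ¬ IsConj (1 : G) g := fun hc => hg1 (isConj_one_right.mp hc)
      rw [if_neg hnc] at hso
      rw [← Finset.add_sum_erase Finset.univ _ (Finset.mem_univ (⟨χ, h.irr⟩ : IrrCharacter G))]
        at hso
      simp only at hso
      rw [hg0, zero_mul, zero_add] at hso
      have h2 : ∑ ψ ∈ Finset.univ.erase (⟨χ, h.irr⟩ : IrrCharacter G),
          (ψ : G → ℂ) g * conj ((ψ : G → ℂ) 1) =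
          ∑ ψ ∈ Finset.univ.erase (⟨χ, h.irr⟩ : IrrCharacter G),
            (ψ : G → ℂ) 1 * conj ((ψ : G → ℂ) 1) := by
        refine Finset.sum_congr rfl fun ψ hψ => ?_
        rw [Finset.mem_erase] at hψ
        rw [hall ψ ψ.2 (fun h' => hψ.1 (Subtype.ext h'))]
      rw [h2] at hso
      have h3 := second_orthogonality' (1 : G) (1 : G)
      rw [if_pos (IsConj.refl 1)] at h3
      rw [← Finset.add_sum_erase Finset.univ _ (Finset.mem_univ (⟨χ, h.irr⟩ : IrrCharacter G)),
        hso, add_zero] at h3
      simp only at h3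
      have hc1 : Nat.card (Subgroup.centralizer ({1} : Set G)) = Nat.card G := by
        have : Subgroup.centralizer ({1} : Set G) = ⊤ := by
          ext y
          simp [Subgroup.mem_centralizer_iff]
        rw [this, Subgroup.card_top]
      rw [hc1, h.card_eq] at h3
      have h4 : ((Subgroup.centralizer ({x} : Set G)).index : ℂ) * (χ x * conj (χ x)) = 0 := by
        linear_combination -h3
      have hidx : ((Subgroup.centralizer ({x} : Set G)).index : ℂ) ≠ 0 := by
        have : (Subgroup.centralizer ({x} : Set G)).index ≠ 0 := Subgroup.index_ne_zero_of_finite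
        exact_mod_cast this
      rcases mul_eq_zero.mp h4 with h5 | h5
      · exact hidx h5
      · rcases mul_eq_zero.mp h5 with h6 | h6
        · exact h.x_nz h6
        · exact h.x_nz ((map_eq_zero _).mp h6)

/-- The support of `χ`, as a subgroup. -/
def TwoClass.support (h : TwoClass χ x) (hG : 2 < Nat.card G) : Subgroup G where
  carrier := {g | χ g ≠ 0}
  one_mem' := by
    show χ 1 ≠ 0
    rw [irr_one_eq_charDegree h.irr]
    exact_mod_cast (charDegree_pos h.irr).ne'
  mul_mem' := by
    intro a b ha hb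
    simp only [Set.mem_ofPred_eq] at ha hb ⊢
    rw [h.nz_iff hG] at ha hb ⊢
    intro ψ hψ hne
    have hc := isCharacter_of_isIrrCharacter hψ
    have ha' : a ∈ charKer hc := ha ψ hψ hne
    have hb' : b ∈ charKer hc := hb ψ hψ hne
    exact (charKer hc).mul_mem ha' hb'
  inv_mem' := by
    intro a ha
    simp only [Set.mem_ofPred_eq] at ha ⊢
    rw [h.nz_iff hG] at ha ⊢
    intro ψ hψ hne
    have hc := isCharacter_of_isIrrCharacter hψ
    have ha' : a ∈ charKer hc := ha ψ hψ hne
    exact (charKer hc).inv_mem ha'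

theorem TwoClass.mem_support (h : TwoClass χ x) (hG : 2 < Nat.card G) (g : G) :
    g ∈ h.support hG ↔ χ g ≠ 0 := Iff.rfl

theorem TwoClass.mem_support_iff (h : TwoClass χ x) (hG : 2 < Nat.card G) (g : G) :
    g ∈ h.support hG ↔ g = 1 ∨ IsConj x g := by
  rw [h.mem_support]
  constructor
  · exact h.supp g
  · rintro (rfl | hc)
    · exact (h.support hG).one_mem
    · rw [← classFunction_eq_of_isConj (isClassFunction_of_isIrrCharacter h.irr) hc]
      exact h.x_nz

theorem TwoClass.support_normal (h : TwoClass χ x) (hG : 2 < Nat.card G) :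
    (h.support hG).Normal := by
  constructor
  intro n hn g
  rw [h.mem_support] at hn ⊢
  rw [isClassFunction_of_isIrrCharacter h.irr n g]
  exact hn

theorem TwoClass.support_ne_bot (h : TwoClass χ x) (hG : 2 < Nat.card G) :
    h.support hG ≠ ⊥ := by
  intro hb
  have : x ∈ h.support hG := h.x_nz
  rw [hb, Subgroup.mem_bot] at this
  exact h.x_ne this

/-- The support is contained in every nontrivial normal subgroup. -/
theorem TwoClass.support_le (h : TwoClass χ x) (hG : 2 < Nat.card G) (K : Subgroup G)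
    (hK : K.Normal) (hK1 : K ≠ ⊥) : h.support hG ≤ K := by
  haveI := hK
  have hxK : x ∈ K := by
    rw [← QuotientGroup.eq_one_iff (N := K)]
    apply eq_one_of_forall_irr_eq
    intro ψ'
    have hψ : IsIrrCharacter G ((ψ' : G ⧸ K → ℂ) ∘ (QuotientGroup.mk : G → G ⧸ K)) :=
      isIrrCharacter_inflate K ψ'.2
    have hne : ((ψ' : G ⧸ K → ℂ) ∘ (QuotientGroup.mk : G → G ⧸ K)) ≠ χ := by
      intro heq
      obtain ⟨k, hkK, hk1⟩ := (Subgroup.ne_bot_iff_exists_ne_one.mp hK1 |>
        fun ⟨k, hk⟩ => ⟨(k : G), k.2, fun h' => hk (Subtype.ext h')⟩ : ∃ k ∈ K, k ≠ 1)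
      apply hk1
      apply h.faithful hG
      rw [← heq]
      simp only [Function.comp_apply]
      rw [(QuotientGroup.eq_one_iff k).mpr hkK, QuotientGroup.mk_one]
    have := h.other_ker hG hψ hne
    simpa using this
  intro g hg
  rcases (h.mem_support_iff hG g).mp hg with rfl | hc
  · exact K.one_mem
  · obtain ⟨c, rfl⟩ := isConj_iff.mp hc
    exact hK.conj_mem x hxK c

omit [Finite G] in
theorem orderOf_eq_of_isConj' {a b : G} (h : IsConj a b) : orderOf a = orderOf b := by
  obtain ⟨c, rfl⟩ := isConj_iff.mp h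
  exact ((MulAut.conj c).orderOf_eq a).symm

/-- All nonidentity elements of the support have the same prime order. -/
theorem TwoClass.exists_prime_order (h : TwoClass χ x) (hG : 2 < Nat.card G) :
    ∃ p : ℕ, p.Prime ∧ ∀ g ∈ h.support hG, g ≠ 1 → orderOf g = p := by
  have hn1 : orderOf x ≠ 1 := fun h' => h.x_ne (orderOf_eq_one_iff.mp h')
  have hn0 : orderOf x ≠ 0 := (orderOf_pos x).ne'
  have hp : (orderOf x).minFac.Prime := Nat.minFac_prime hn1
  have hy : orderOf (x ^ (orderOf x / (orderOf x).minFac)) = (orderOf x).minFac :=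
    orderOf_pow_orderOf_div hn0 (Nat.minFac_dvd _)
  have hymem : x ^ (orderOf x / (orderOf x).minFac) ∈ h.support hG :=
    (h.support hG).pow_mem h.x_nz _
  have hy1 : x ^ (orderOf x / (orderOf x).minFac) ≠ 1 := by
    intro h'
    rw [h', orderOf_one] at hy
    exact hp.ne_one hy.symm
  have hx : orderOf x = (orderOf x).minFac := by
    rcases (h.mem_support_iff hG _).mp hymem with h' | h'
    · exact absurd h' hy1
    · rw [← hy]
      exact orderOf_eq_of_isConj' h'
  refine ⟨(orderOf x).minFac, hp, fun g hg hg1 => ?_⟩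
  rcases (h.mem_support_iff hG g).mp hg with h' | h'
  · exact absurd h' hg1
  · rw [← orderOf_eq_of_isConj' h', ← hx]

/-- The support is abelian. -/
theorem TwoClass.support_comm (h : TwoClass χ x) (hG : 2 < Nat.card G) :
    ∀ a ∈ h.support hG, ∀ b ∈ h.support hG, a * b = b * a := by
  obtain ⟨p, hp, hord⟩ := h.exists_prime_order hG
  haveI : Fact p.Prime := ⟨hp⟩
  set N := h.support hG with hN
  haveI hNn : N.Normal := h.support_normal hG
  have hpg : IsPGroup p N := by
    intro g
    by_cases hg : g = 1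
    · exact ⟨0, by rw [hg]; simp⟩
    · refine ⟨1, ?_⟩
      have h1 : (g : G) ≠ 1 := fun h' => hg (Subtype.ext h')
      have := hord g g.2 h1
      apply Subtype.ext
      rw [pow_one, Subgroup.coe_pow, Subgroup.coe_one, ← this]
      exact pow_orderOf_eq_one _
  haveI : Nontrivial N := by
    rw [Subgroup.nontrivial_iff_ne_bot]
    exact h.support_ne_bot hG
  haveI := hpg.center_nontrivial
  obtain ⟨z, hz⟩ := exists_ne (1 : Subgroup.center N)
  have hzN : ((z : N) : G) ∈ N := (z : N).2
  have hz1 : ((z : N) : G) ≠ 1 := by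
    intro h'
    apply hz
    apply Subtype.ext
    apply Subtype.ext
    exact h'
  have hzc : ∀ n : N, (z : N) * n = n * (z : N) := by
    intro n
    exact (Subgroup.mem_center_iff.mp z.2 n).symm
  -- x is conjugate to z
  have hxz : IsConj x ((z : N) : G) := by
    rcases (h.mem_support_iff hG _).mp hzN with h' | h'
    · exact absurd h' hz1
    · exact h'
  -- every element of the support commutes with every conjugate of x
  have key : ∀ g : G, IsConj x g → ∀ b ∈ N, g * b = b * g := by
    intro g hg b hb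
    have hzg : IsConj ((z : N) : G) g := hxz.symm.trans hg
    obtain ⟨c, hc⟩ := isConj_iff.mp hzg
    have hb' : c⁻¹ * b * c ∈ N := by
      have := hNn.conj_mem b hb c⁻¹
      simpa using this
    have h1 := congrArg (Subtype.val : N → G) (hzc ⟨c⁻¹ * b * c, hb'⟩)
    simp only [Subgroup.coe_mul] at h1
    rw [← hc]
    calc c * ((z : N) : G) * c⁻¹ * b = c * (((z : N) : G) * (c⁻¹ * b * c)) * c⁻¹ := by group
      _ = c * ((c⁻¹ * b * c) * ((z : N) : G)) * c⁻¹ := by rw [h1]
      _ = b * (c * ((z : N) : G) * c⁻¹) := by group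
  intro a ha b hb
  rcases (h.mem_support_iff hG a).mp ha with rfl | hc
  · simp
  · exact key a hc b hb

omit [Finite G] in
theorem dvd_of_isIntegral_div {a b : ℕ} (hb : b ≠ 0) (h : IsIntegral ℤ ((a : ℂ) / (b : ℂ))) :
    b ∣ a := by
  have hb0 : (b : ℚ) ≠ 0 := by exact_mod_cast hb
  have h2 : ((a : ℂ) / (b : ℂ)) = algebraMap ℚ ℂ ((a : ℚ) / (b : ℚ)) := by simp
  rw [h2, isIntegral_algebraMap_iff (algebraMap ℚ ℂ).injective] at h
  obtain ⟨m, hm⟩ := IsIntegrallyClosed.isIntegral_iff.mp h
  have h3 : (m : ℚ) * b = a := by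
    have : (algebraMap ℤ ℚ m) = (m : ℚ) := rfl
    rw [this] at hm
    rw [hm]
    field_simp
  have h4 : (m * (b : ℤ)) = (a : ℤ) := by exact_mod_cast h3
  have h5 : (b : ℤ) ∣ (a : ℤ) := ⟨m, by rw [← h4]; ring⟩
  exact_mod_cast h5

/-- The class size of `x` divides the degree of `χ`. -/
theorem TwoClass.index_dvd_degree (h : TwoClass χ x) (hG : 2 < Nat.card G) :
    (Subgroup.centralizer ({x} : Set G)).index ∣ charDegree χ := by
  have h1 := h.index_mul hG
  have hidx : (Subgroup.centralizer ({x} : Set G)).index ≠ 0 := Subgroup.index_ne_zero_of_finite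
  have hidx' : ((Subgroup.centralizer ({x} : Set G)).index : ℂ) ≠ 0 := by exact_mod_cast hidx
  apply dvd_of_isIntegral_div hidx
  have hc := isCharacter_of_isIrrCharacter h.irr
  have h2 : IsIntegral ℤ (conj (χ x)) := by
    rw [← irr_inv hc]
    exact isIntegral_of_isCharacter hc _
  have h3 : (charDegree χ : ℂ) / ((Subgroup.centralizer ({x} : Set G)).index : ℂ) =
      - conj (χ x) := by
    rw [irr_one_eq_charDegree h.irr, Complex.conj_natCast] at h1
    field_simp
    linear_combination h1
  rw [h3]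
  exact h2.neg

/-- `χ x = -m` with `m = χ(1) / c`. -/
theorem TwoClass.value (h : TwoClass χ x) (hG : 2 < Nat.card G) :
    χ x = -((charDegree χ / (Subgroup.centralizer ({x} : Set G)).index : ℕ) : ℂ) := by
  obtain ⟨m, hm⟩ := h.index_dvd_degree hG
  have hidx : (Subgroup.centralizer ({x} : Set G)).index ≠ 0 := Subgroup.index_ne_zero_of_finite
  have hidx' : ((Subgroup.centralizer ({x} : Set G)).index : ℂ) ≠ 0 := by exact_mod_cast hidx
  rw [hm, Nat.mul_div_cancel_left m (Nat.pos_of_ne_zero hidx)]
  have h1 := h.index_mul hG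
  rw [irr_one_eq_charDegree h.irr, Complex.conj_natCast, hm] at h1
  push_cast at h1
  have h2 : conj (χ x) = -(m : ℂ) := by
    apply mul_left_cancel₀ hidx'
    rw [h1]
    ring
  have h3 := congrArg conj h2
  rw [Complex.conj_conj, map_neg, Complex.conj_natCast] at h3
  exact h3

/-- `|G| = m² c (c + 1)` where `c` is the class size of `x` and `m = χ(1) / c`. -/
theorem TwoClass.card_formula (h : TwoClass χ x) (hG : 2 < Nat.card G) :
    Nat.card G = (charDegree χ / (Subgroup.centralizer ({x} : Set G)).index) ^ 2 *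
      (Subgroup.centralizer ({x} : Set G)).index *
        ((Subgroup.centralizer ({x} : Set G)).index + 1) := by
  have h1 := h.card_eq
  rw [h.value hG, irr_one_eq_charDegree h.irr] at h1
  obtain ⟨m, hm⟩ := h.index_dvd_degree hG
  have hidx : (Subgroup.centralizer ({x} : Set G)).index ≠ 0 := Subgroup.index_ne_zero_of_finite
  rw [hm, Nat.mul_div_cancel_left m (Nat.pos_of_ne_zero hidx)] at h1 ⊢
  simp only [map_neg, Complex.conj_natCast] at h1
  have : (Nat.card G : ℂ) = ((m ^ 2 * (Subgroup.centralizer ({x} : Set G)).index *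
        ((Subgroup.centralizer ({x} : Set G)).index + 1) : ℕ) : ℂ) := by
    rw [h1]
    push_cast
    ring
  exact_mod_cast this

/-- The order of the support is `c + 1`. -/
theorem TwoClass.card_support (h : TwoClass χ x) (hG : 2 < Nat.card G) :
    Nat.card (h.support hG) = (Subgroup.centralizer ({x} : Set G)).index + 1 := by
  classical
  haveI : Fintype G := Fintype.ofFinite G
  rw [Nat.card_eq_fintype_card, Fintype.card_subtype, ← card_filter_isConj x]
  have : Finset.univ.filter (fun g => g ∈ h.support hG) =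
      insert (1 : G) (Finset.univ.filter (IsConj x)) := by
    ext g
    simp only [Finset.mem_filter, Finset.mem_univ, true_and, Finset.mem_insert]
    exact h.mem_support_iff hG g
  rw [this, Finset.card_insert_of_notMem]
  rw [Finset.mem_filter]
  rintro ⟨-, hc⟩
  exact h.x_ne (isConj_one_left.mp hc)

/-- A Sylow `q`-subgroup for a prime `q` different from the prime of the support has order
dividing `χ(1)`. -/
theorem TwoClass.sylow_card_dvd_degree (h : TwoClass χ x) (hG : 2 < Nat.card G) {p q : ℕ}
    [Fact p.Prime] [Fact q.Prime] (hpq : q ≠ p) (hNp : IsPGroup p (h.support hG))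
    (Q : Sylow q G) : Nat.card Q ∣ charDegree χ := by
  classical
  haveI : Fintype (Q : Subgroup G) := Fintype.ofFinite _
  letI : Fintype (IrrCharacter (Q : Subgroup G)) := irrFintype
  have hvanish : ∀ k : (Q : Subgroup G), k ≠ 1 → χ (k : G) = 0 := by
    intro k hk
    by_contra hne
    apply hk
    have hkN : (k : G) ∈ h.support hG := hne
    obtain ⟨a, ha⟩ := hNp ⟨(k : G), hkN⟩
    obtain ⟨b, hb⟩ := Q.isPGroup' k
    have ha' : (k : G) ^ (p ^ a) = 1 := by
      have := congrArg (Subtype.val : (h.support hG) → G) ha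
      simpa using this
    have hb' : (k : G) ^ (q ^ b) = 1 := by
      have := Subtype.ext_iff.mp hb
      simpa using this
    have h1 := orderOf_dvd_of_pow_eq_one ha'
    have h2 := orderOf_dvd_of_pow_eq_one hb'
    have hcop : Nat.Coprime (p ^ a) (q ^ b) :=
      Nat.Coprime.pow _ _ ((Nat.coprime_primes (Fact.out) (Fact.out)).mpr hpq.symm)
    have h3 : orderOf (k : G) = 1 := Nat.eq_one_of_dvd_coprimes hcop h1 h2
    apply Subtype.ext
    exact orderOf_eq_one_iff.mp h3
  have hres : IsCharacter (Q : Subgroup G) (fun k : (Q : Subgroup G) => χ (k : G)) :=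
    isCharacter_restrict (Q : Subgroup G) (isCharacter_of_isIrrCharacter h.irr)
  obtain ⟨n, hn⟩ := classInner_char_nat hres (isCharacter_one (G := (Q : Subgroup G)))
  unfold classInner at hn
  have hsum : ∑ k : (Q : Subgroup G), χ (k : G) * conj (1 : ℂ) = χ 1 := by
    rw [Finset.sum_eq_single (1 : (Q : Subgroup G))]
    · simp
    · intro k _ hk
      rw [hvanish k hk, zero_mul]
    · intro hn'
      exact absurd (Finset.mem_univ _) hn'
  rw [hsum, irr_one_eq_charDegree h.irr] at hn
  have hQ : (Nat.card (Q : Subgroup G) : ℂ) ≠ 0 := by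
    exact_mod_cast (Nat.card_pos (α := (Q : Subgroup G))).ne'
  have h4 : (charDegree χ : ℂ) = ((n * Nat.card (Q : Subgroup G) : ℕ) : ℂ) := by
    push_cast
    rw [← hn]
    field_simp
  have h5 : charDegree χ = n * Nat.card (Q : Subgroup G) := by exact_mod_cast h4
  exact ⟨n, by rw [h5, mul_comm]⟩

/-- `m = χ(1) / c` is a power of `p`. -/
theorem TwoClass.quot_eq_pow (h : TwoClass χ x) (hG : 2 < Nat.card G) {p : ℕ}
    [Fact p.Prime] (hNp : IsPGroup p (h.support hG)) :
    ∃ k : ℕ, charDegree χ / (Subgroup.centralizer ({x} : Set G)).index = p ^ k := by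
  obtain ⟨m, hm⟩ := h.index_dvd_degree hG
  have hidx : (Subgroup.centralizer ({x} : Set G)).index ≠ 0 := Subgroup.index_ne_zero_of_finite
  have hcard := h.card_formula hG
  rw [hm, Nat.mul_div_cancel_left m (Nat.pos_of_ne_zero hidx)] at hcard ⊢
  have hm0 : m ≠ 0 := by
    rintro rfl
    rw [mul_zero] at hm
    exact (charDegree_pos h.irr).ne' hm
  refine ⟨_, Nat.eq_prime_pow_of_unique_prime_dvd hm0 ?_⟩
  intro q hq hqm
  by_contra hqp
  haveI : Fact q.Prime := ⟨hq⟩
  obtain Q : Sylow q G := default
  have h1 := h.sylow_card_dvd_degree hG hqp hNp Q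
  rw [Sylow.card_eq_multiplicity, hm] at h1
  set c := (Subgroup.centralizer ({x} : Set G)).index with hc
  have hc1 : c + 1 ≠ 0 := Nat.succ_ne_zero c
  have h2 : (Nat.card G).factorization q ≤ (c * m).factorization q :=
    (hq.pow_dvd_iff_le_factorization (Nat.mul_ne_zero hidx hm0)).mp h1
  rw [hcard, Nat.factorization_mul (Nat.mul_ne_zero (pow_ne_zero 2 hm0) hidx) hc1,
    Nat.factorization_mul (pow_ne_zero 2 hm0) hidx, Nat.factorization_pow,
    Nat.factorization_mul hidx hm0] at h2
  simp only [Finsupp.add_apply, Finsupp.smul_apply, smul_eq_mul] at h2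
  have h3 : 1 ≤ m.factorization q := by
    have := (hq.pow_dvd_iff_le_factorization hm0 (k := 1)).mp (by simpa using hqm)
    exact this
  omega

/-- Numerical summary: there are `k a` with `a ≥ 1`, `|N| = p^a`, class size `c = p^a - 1`,
`|C_G(x)| = p^(2k+a)` and `|G| = p^(2k+a) (p^a - 1)`. -/
theorem TwoClass.numerics (h : TwoClass χ x) (hG : 2 < Nat.card G) {p : ℕ}
    [Fact p.Prime] (hNp : IsPGroup p (h.support hG)) :
    ∃ k a : ℕ, 0 < a ∧ Nat.card (h.support hG) = p ^ a ∧
      (Subgroup.centralizer ({x} : Set G)).index + 1 = p ^ a ∧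
      Nat.card (Subgroup.centralizer ({x} : Set G)) = p ^ (2 * k + a) ∧
      charDegree χ = p ^ k * (Subgroup.centralizer ({x} : Set G)).index ∧
      Nat.card G = p ^ (2 * k + a) * (Subgroup.centralizer ({x} : Set G)).index := by
  obtain ⟨k, hk⟩ := h.quot_eq_pow hG hNp
  obtain ⟨a, ha⟩ := IsPGroup.iff_card.mp hNp
  have hcs := h.card_support hG
  have hcf := h.card_formula hG
  have hidx : (Subgroup.centralizer ({x} : Set G)).index ≠ 0 := Subgroup.index_ne_zero_of_finite
  have ha0 : 0 < a := by
    rcases Nat.eq_zero_or_pos a with h0 | h0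
    · exfalso
      rw [h0, pow_zero] at ha
      rw [ha] at hcs
      omega
    · exact h0
  have hcm := Subgroup.card_mul_index (Subgroup.centralizer ({x} : Set G))
  rw [hk, ← hcs, ha] at hcf
  obtain ⟨m, hm⟩ := h.index_dvd_degree hG
  refine ⟨k, a, ha0, ha, by rw [← hcs, ha], ?_, ?_, ?_⟩
  · have : Nat.card (Subgroup.centralizer ({x} : Set G)) *
        (Subgroup.centralizer ({x} : Set G)).index =
        p ^ (2 * k + a) * (Subgroup.centralizer ({x} : Set G)).index := by
      rw [hcm, hcf]
      ring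
    exact Nat.eq_of_mul_eq_mul_right (Nat.pos_of_ne_zero hidx) this
  · rw [hm, Nat.mul_div_cancel_left m (Nat.pos_of_ne_zero hidx)] at hk
    rw [hm, hk, mul_comm]
  · rw [hcf]
    ring

/-- The centralizer of a nonidentity element of the support is a Sylow `p`-subgroup. -/
theorem TwoClass.centralizer_sylow (h : TwoClass χ x) (hG : 2 < Nat.card G) {p : ℕ}
    [Fact p.Prime] (hNp : IsPGroup p (h.support hG)) {y : G} (hy : y ∈ h.support hG)
    (hy1 : y ≠ 1) : ∃ P : Sylow p G, Subgroup.centralizer ({y} : Set G) = P := by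
  obtain ⟨k, a, ha0, -, hc1, hcard, -, -⟩ := h.numerics hG hNp
  have hconj : IsConj x y := by
    rcases (h.mem_support_iff hG y).mp hy with h' | h'
    · exact absurd h' hy1
    · exact h'
  have h1 : IsPGroup p (Subgroup.centralizer ({y} : Set G)) := by
    apply IsPGroup.of_card (n := 2 * k + a)
    rw [← card_centralizer_eq_of_isConj hconj, hcard]
  have h2 : ¬ p ∣ (Subgroup.centralizer ({y} : Set G)).index := by
    rw [← index_centralizer_eq_of_isConj hconj]
    intro hdvd
    have h3 : p ∣ (Subgroup.centralizer ({x} : Set G)).index + 1 := by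
      rw [hc1]
      exact dvd_pow_self p ha0.ne'
    have h4 : p ∣ 1 := (Nat.dvd_add_right hdvd).mp h3
    exact (Fact.out : p.Prime).one_lt.ne' (Nat.dvd_one.mp h4)
  exact ⟨h1.toSylow h2, (h1.toSylow_coe h2).symm⟩

/-- Outside the support, centralizer orders in `G` and in `G ⧸ N` agree. -/
theorem TwoClass.card_centralizer_quot (h : TwoClass χ x) (hG : 2 < Nat.card G)
    (N : Subgroup G) [N.Normal] (hN : ∀ g : G, g ∈ N ↔ χ g ≠ 0) {g : G} (hg : g ∉ N) :
    Nat.card (Subgroup.centralizer ({g} : Set G)) =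
      Nat.card (Subgroup.centralizer ({(g : G ⧸ N)} : Set (G ⧸ N))) := by
  classical
  haveI : Fintype G := Fintype.ofFinite G
  letI : Fintype (IrrCharacter G) := irrFintype
  haveI : Fintype (G ⧸ N) := Fintype.ofFinite _
  letI : Fintype (IrrCharacter (G ⧸ N)) := irrFintype
  have hg0 : χ g = 0 := by
    by_contra hne
    exact hg ((hN g).mpr hne)
  have h1 := second_orthogonality' g g
  rw [if_pos (IsConj.refl g)] at h1
  have h2 := second_orthogonality' (g : G ⧸ N) (g : G ⧸ N)
  rw [if_pos (IsConj.refl _)] at h2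
  rw [← Fintype.sum_subtype_add_sum_subtype
    (fun ψ : IrrCharacter G => ∀ n ∈ N, (ψ : G → ℂ) n = (ψ : G → ℂ) 1)
    (fun ψ => (ψ : G → ℂ) g * conj ((ψ : G → ℂ) g))] at h1
  have h3 : ∑ ψ : {ψ : IrrCharacter G // ¬ ∀ n ∈ N, (ψ : G → ℂ) n = (ψ : G → ℂ) 1},
      ((ψ.1 : IrrCharacter G) : G → ℂ) g * conj (((ψ.1 : IrrCharacter G) : G → ℂ) g) = 0 := by
    apply Finset.sum_eq_zero
    rintro ⟨ψ, hψ⟩ _
    simp only
    have : (ψ : G → ℂ) = χ := by
      by_contra hne
      apply hψ
      intro n hn
      exact (h.nz_iff hG n).mp ((hN n).mp hn) ψ ψ.2 hne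
    rw [this, hg0, zero_mul]
  rw [h3, add_zero, ← Equiv.sum_comp (inflateEquiv N)] at h1
  have h4 : ∑ ψ : IrrCharacter (G ⧸ N),
      (((inflateEquiv N ψ).1 : IrrCharacter G) : G → ℂ) g *
        conj ((((inflateEquiv N ψ).1 : IrrCharacter G) : G → ℂ) g) =
      ∑ ψ : IrrCharacter (G ⧸ N), (ψ : G ⧸ N → ℂ) (g : G ⧸ N) *
        conj ((ψ : G ⧸ N → ℂ) (g : G ⧸ N)) := by
    refine Finset.sum_congr rfl fun ψ _ => ?_
    rw [inflateEquiv_coe]
    rfl
  rw [h4, h2] at h1
  exact_mod_cast h1.symm

end Gagola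

end Cfsg.Agent.Helper24
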