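import Mathlib
import Cfsg.Agent.Lib.Helper24.Cd2Basic
import Cfsg.Agent.Lib.Helper24.Gagola
import Cfsg.Agent.S0176

/-!
# Two character degrees: the nilpotent case, Taketa's argument (helper24's shared library)

A nilpotent group (more generally an M-group) with `cd(G) ⊆ {1, m}` has abelian commutator subgroup.
-/

set_option autoImplicit false
set_option linter.style.haveILetI false
set_option linter.unusedSectionVars false

namespace Cfsg.Agent.Helper24.Cd2

open Cfsg Cfsg.Agent.Helper24 Cfsg.Agent.Helper5 Cfsg.Agent.Helper18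
open scoped commutatorElement ComplexConjugate

universe u

/-- Linear characters are trivial on the commutator subgroup. -/
theorem linear_eq_one_on_commutator {G : Type u} [Group G] {χ : G → ℂ} (hχ : IsIrrCharacter G χ)
    (h1 : charDegree χ = 1) {x : G} (hx : x ∈ commutator G) : χ x = 1 := by
  have hχc := isCharacter_of_isIrrCharacter hχ
  have h1' : χ 1 = 1 := (charDegree_eq_one_iff hχ).mp h1
  have := Abelianization.commutator_subset_ker (linHom hχc h1') hx
  rw [MonoidHom.mem_ker] at this
  have h2 := congrArg (fun u : ℂˣ => (u : ℂ)) this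
  simpa using h2

theorem extendByZero_one_apply {G : Type u} [Group G] (H : Subgroup G) [DecidablePred (· ∈ H)]
    (u : G) : extendByZero H (fun _ : H => (1 : ℂ)) u = if u ∈ H then 1 else 0 := by
  split_ifs with h
  · rw [extendByZero_of_mem H _ h]
  · rw [extendByZero_of_not_mem H _ h]

/-- If the permutation character on the cosets of `H` takes its degree at `x`, then `x ∈ H`. -/
theorem mem_of_perm_eq {G : Type u} [Group G] [Fintype G] (H : Subgroup G) {x : G}
    (h : indFun H (fun _ : H => (1 : ℂ)) x = (H.index : ℂ)) : x ∈ H := by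
  classical
  by_contra hx
  rw [indFun_apply] at h
  simp only [extendByZero_one_apply] at h
  rw [Finset.sum_boole] at h
  set k := (Finset.univ.filter (fun g : G => g⁻¹ * x * g ∈ H)).card with hk
  have hklt : k < Fintype.card G := by
    rw [hk]
    apply Finset.card_lt_univ_of_notMem (x := (1 : G))
    rw [Finset.mem_filter]
    rintro ⟨-, h1⟩
    apply hx
    simpa using h1
  have hH0 : (Nat.card H : ℂ) ≠ 0 := by
    exact_mod_cast (Nat.card_pos (α := H)).ne'
  have h2 : (k : ℂ) = (Nat.card H : ℂ) * (H.index : ℂ) := by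
    rw [← h]
    field_simp
  have h3 : k = Nat.card H * H.index := by exact_mod_cast h2
  rw [H.card_mul_index, Nat.card_eq_fintype_card] at h3
  omega

/-- A subgroup of index `m` contains the commutator subgroup, when `cd(G) ⊆ {1, m}`. -/
theorem commutator_le_of_index {G : Type u} [Group G] [Fintype G] {m : ℕ} (hcd : CdSub G m)
    (hm1 : m ≠ 1) (H : Subgroup G) (hidx : H.index = m) : commutator G ≤ H := by
  classical
  letI : Fintype (IrrCharacter G) := irrFintype
  letI : Fintype H := Fintype.ofFinite H
  set ρ : G → ℂ := indFun H (fun _ : H => (1 : ℂ)) with hρdef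
  have hρ : IsCharacter G ρ := isCharacter_indFun H isCharacter_one
  have hone : IsIrrCharacter G (fun _ : G => (1 : ℂ)) := isIrrCharacter_one
  have hρ1 : ρ 1 = (m : ℂ) := by
    rw [hρdef, indFun_one, hidx, mul_one]
  have hinner : classInner ρ (fun _ : G => (1 : ℂ)) = 1 := by
    rw [hρdef, frobenius_reciprocity H _ (isClassFunction_of_isIrrCharacter hone)]
    have := irr_orthogonality (G := H) isIrrCharacter_one isIrrCharacter_one
    rw [if_pos rfl] at this
    exact this
  obtain ⟨ρ₁, hρ₁, hsum⟩ := exists_add_of_constituent hρ hone (by rw [hinner]; exact one_ne_zero)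
  -- all constituents are linear
  have hlin : ∀ χ : IrrCharacter G, classInner ρ (χ : G → ℂ) ≠ 0 → charDegree (χ : G → ℂ) = 1 := by
    intro χ hχne
    rcases hcd χ.1 χ.2 with h1 | h1
    · exact h1
    · exfalso
      have hne : (fun _ : G => (1 : ℂ)) ≠ (χ : G → ℂ) := by
        intro heq
        have h2 := irr_one_eq_charDegree χ.2
        rw [h1, ← heq] at h2
        apply hm1
        have h2' : (1 : ℂ) = (m : ℂ) := h2
        exact_mod_cast h2'.symm
      have horth : classInner (fun _ : G => (1 : ℂ)) (χ : G → ℂ) = 0 := by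
        rw [irr_orthogonality hone χ.2, if_neg hne]
      have h3 : classInner ρ₁ (χ : G → ℂ) ≠ 0 := by
        rw [hsum, classInner_add_left, horth, zero_add] at hχne
        exact hχne
      obtain ⟨ρ₂, hρ₂, hsum₂⟩ := exists_add_of_constituent hρ₁ χ.2 h3
      have h4 := congrFun hsum 1
      rw [hρ1, Pi.add_apply, hsum₂, Pi.add_apply, irr_one_eq_charDegree χ.2, h1,
        char_one_eq_charDegree hρ₂] at h4
      have h5 : m = 1 + (m + charDegree ρ₂) := by exact_mod_cast h4
      omega
  intro x hx
  apply mem_of_perm_eq H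
  rw [hidx]
  show ρ x = m
  rw [← hρ1]
  have hdec := (isCharacter_decomp hρ).2
  rw [hdec]
  simp only [Finset.sum_apply, Pi.smul_apply, smul_eq_mul]
  apply Finset.sum_congr rfl
  intro χ _
  by_cases h0 : classInner ρ (χ : G → ℂ) = 0
  · rw [h0, zero_mul, zero_mul]
  · have hl := hlin χ h0
    rw [linear_eq_one_on_commutator χ.2 hl hx,
      linear_eq_one_on_commutator χ.2 hl (Subgroup.one_mem _)]

/-- **Taketa's argument**: a nilpotent group with `cd(G) ⊆ {1, m}` is metabelian. -/
theorem comm_of_nilpotent {G : Type u} [Group G] [Finite G] [hn : Group.IsNilpotent G] {m : ℕ}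
    (hcd : CdSub G m) (hm1 : m ≠ 1) :
    ∀ a ∈ commutator G, ∀ b ∈ commutator G, a * b = b * a := by
  classical
  letI : Fintype G := Fintype.ofFinite G
  intro a ha b hb
  set y : G := a * b * a⁻¹ * b⁻¹ with hy
  have hyc : y ∈ commutator G := by
    rw [commutator_def]
    have : y = ⁅a, b⁆ := by rw [commutatorElement_def]
    rw [this]
    exact Subgroup.commutator_mem_commutator (Subgroup.mem_top _) (Subgroup.mem_top _)
  suffices hy1 : y = 1 by
    calc a * b = y * (b * a) := by rw [hy]; group
      _ = b * a := by rw [hy1, one_mul]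
  apply eq_one_of_forall_irr_eq
  intro ψ
  rcases hcd ψ.1 ψ.2 with h1 | h1
  · rw [linear_eq_one_on_commutator ψ.2 h1 hyc,
      linear_eq_one_on_commutator ψ.2 h1 (Subgroup.one_mem _)]
  · obtain ⟨H, lam, hψ⟩ := Cfsg.Agent.S0176.result ψ.1 ψ.2
    have hidx : H.index = m := by
      have h2 := irr_one_eq_charDegree ψ.2
      rw [h1, hψ, indFun_one, map_one, Units.val_one, mul_one] at h2
      exact_mod_cast h2
    have hle := commutator_le_of_index hcd hm1 H hidx
    haveI hcn : (commutator G).Normal := inferInstance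
    have hterm : ∀ g : G, extendByZero H (fun h => ((lam h : ℂˣ) : ℂ)) (g⁻¹ * y * g) =
        extendByZero H (fun h => ((lam h : ℂˣ) : ℂ)) (g⁻¹ * 1 * g) := by
      intro g
      have ha' : g⁻¹ * a * g ∈ H := hle (by
        have := hcn.conj_mem a ha g⁻¹
        simpa using this)
      have hb' : g⁻¹ * b * g ∈ H := hle (by
        have := hcn.conj_mem b hb g⁻¹
        simpa using this)
      have e1 : g⁻¹ * y * g = (g⁻¹ * a * g) * (g⁻¹ * b * g) * (g⁻¹ * a * g)⁻¹ * (g⁻¹ * b * g)⁻¹ := by
        rw [hy]
        group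
      have hmem : g⁻¹ * y * g ∈ H := by
        rw [e1]
        exact H.mul_mem (H.mul_mem (H.mul_mem ha' hb') (H.inv_mem ha')) (H.inv_mem hb')
      have hmem1 : g⁻¹ * 1 * g ∈ H := by
        simp
      rw [extendByZero_of_mem H _ hmem, extendByZero_of_mem H _ hmem1]
      have e2 : (⟨g⁻¹ * y * g, hmem⟩ : H) =
          (⟨_, ha'⟩ : H) * ⟨_, hb'⟩ * (⟨_, ha'⟩ : H)⁻¹ * (⟨_, hb'⟩ : H)⁻¹ := by
        apply Subtype.ext
        exact e1
      have e3 : (⟨g⁻¹ * 1 * g, hmem1⟩ : H) = 1 := by
        apply Subtype.ext
        simp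
      rw [e2, e3, map_mul, map_mul, map_mul, map_inv, map_inv, map_one]
      congr 1
      rw [mul_comm (lam ⟨_, ha'⟩) (lam ⟨_, hb'⟩)]
      group
    show (ψ : G → ℂ) y = (ψ : G → ℂ) 1
    rw [hψ, indFun_apply, indFun_apply]
    congr 1
    exact Finset.sum_congr rfl (fun g _ => hterm g)

end Cfsg.Agent.Helper24.Cd2
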