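import Mathlib
import Cfsg.Prelude.Def_Blocks
import Cfsg.Agent.Lib.Helper24.CharLinear
import Cfsg.Agent.Lib.Helper24.CharInduced
import Cfsg.Agent.Lib.Helper24.CharComplete
import Cfsg.Agent.Lib.Helper24.CharIntegral
import Cfsg.Agent.Lib.Helper10.BR996Defs
import Cfsg.Agent.Lib.Helper21.BTDefs
import Cfsg.Agent.Lib.Helper12.BR996WT
import Cfsg.Agent.Lib.Helper6.BR996GA
import Cfsg.Agent.Lib.Helper25.BR996PERF
import Cfsg.Agent.Lib.Helper2.BRR2
import Cfsg.Agent.S4503

/-!
# S0997 (Brauer–Tuan), PIECE NUMDATA: the numerical shadow   (helper24)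
-/

set_option autoImplicit false
set_option linter.unusedSectionVars false
set_option linter.unusedVariables false

namespace Cfsg.Agent.Helper21.BT

open scoped ComplexConjugate commutatorElement
open Cfsg Cfsg.Agent.Helper24 Cfsg.Agent.Helper10.BR996

universe u

namespace NUMDATA

/-- A simple group that is not cyclic is perfect. -/
theorem perfect_of_simple {G : Type*} [Group G] [IsSimpleGroup G] (hG : ¬ IsCyclic G) :
    commutator G = ⊤ := by
  rcases (inferInstance : (commutator G).Normal).eq_bot_or_eq_top with h | h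
  · exfalso
    apply hG
    have hcomm : ∀ a b : G, a * b = b * a := by
      intro a b
      have h1 : ⁅a, b⁆ ∈ commutator G := by
        rw [commutator_def]
        exact Subgroup.commutator_mem_commutator (Subgroup.mem_top a) (Subgroup.mem_top b)
      rw [h, Subgroup.mem_bot, commutatorElement_eq_one_iff_mul_comm] at h1
      exact h1
    let inst : CommGroup G := { (inferInstance : Group G) with mul_comm := hcomm }
    exact @IsSimpleGroup.isCyclic G inst _
  · exact h

theorem principal_coe {G : Type u} [Group G] :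
    ((principalChar G : IrrCharacter G) : G → ℂ) = fun _ => (1 : ℂ) := rfl

theorem charDegree_principal {G : Type u} [Group G] [Finite G] :
    charDegree ((principalChar G : IrrCharacter G) : G → ℂ) = 1 := by
  apply charDegree_natCast 1
  simp [principal_coe]

variable {G : Type u} [Group G] [Fintype G] [Fintype (IrrCharacter G)]
variable (p : ℕ) [Fact p.Prime] (P : Subgroup G)

/-- a nontrivial element of `P` -/
theorem exists_ne_one (hcard : Nat.card P = p) : ∃ z ∈ P, z ≠ 1 := by
  have hp : p.Prime := Fact.out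
  by_contra hcon
  push Not at hcon
  have hbot : P = ⊥ := by
    rw [eq_bot_iff]
    intro z hz
    rw [Subgroup.mem_bot]
    exact hcon z hz
  rw [hbot, Subgroup.card_bot] at hcard
  exact hp.one_lt.ne' hcard.symm

variable {p P}
variable {w t : ℕ} (D : BTData p P w t)

theorem dsum_of_mem_X (hcard : Nat.card P = p) {χ : IrrCharacter G} (hχ : χ ∈ D.X) :
    dsum P (χ : G → ℂ) = ((p : ℂ) - 1) * (D.sg χ : ℂ) :=
  dsum_const p P hcard _ (D.valX χ hχ)

theorem dsum_of_not_mem (hcard : Nat.card P = p) {χ : IrrCharacter G} (hχ : χ ∉ D.X)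
    (hχ' : χ ∉ D.Y) : dsum P (χ : G → ℂ) = 0 := by
  rw [dsum_const p P hcard 0 (D.valD χ hχ hχ'), mul_zero]

/-- the weights are natural numbers and satisfy the integral weight relations -/
theorem weights (hcard : Nat.card P = p) :
    ∃ a : IrrCharacter G → ℕ, (∀ χ : IrrCharacter G, Aw P (χ : G → ℂ) = (a χ : ℂ)) ∧
      (∀ χ ∈ D.X, (p : ℤ) * a χ = charDegree (χ : G → ℂ) + D.sg χ * ((p : ℤ) - 1)) ∧
      (∀ χ ∈ D.Y, (p : ℤ) * a χ = charDegree (χ : G → ℂ) + D.d0 * w) ∧
      (∀ χ : IrrCharacter G, χ ∉ D.X → χ ∉ D.Y → p * a χ = charDegree (χ : G → ℂ)) := by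
  have h1 : ∀ χ : IrrCharacter G, ∃ a : ℕ, Aw P (χ : G → ℂ) = (a : ℂ) :=
    fun χ => Aw_nat P (isCharacter_of_isIrrCharacter χ.2)
  choose a ha using h1
  have key : ∀ χ : IrrCharacter G,
      (p : ℂ) * (a χ : ℂ) = (charDegree (χ : G → ℂ) : ℂ) + dsum P (χ : G → ℂ) := by
    intro χ
    rw [← ha χ, Aw_eq p P hcard, irr_one_eq_charDegree χ.2]
  refine ⟨a, ha, ?_, ?_, ?_⟩
  · intro χ hχ
    have := key χ
    rw [dsum_of_mem_X D hcard hχ] at this
    have h2 : (((p : ℤ) * a χ : ℤ) : ℂ) =
        ((charDegree (χ : G → ℂ) + D.sg χ * ((p : ℤ) - 1) : ℤ) : ℂ) := by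
      push_cast
      rw [this]
      ring
    exact_mod_cast h2
  · intro χ hχ
    have := key χ
    rw [D.sumY χ hχ] at this
    have h2 : (((p : ℤ) * a χ : ℤ) : ℂ) = ((charDegree (χ : G → ℂ) + D.d0 * w : ℤ) : ℂ) := by
      push_cast
      rw [this]
    exact_mod_cast h2
  · intro χ hχ hχ'
    have := key χ
    rw [dsum_of_not_mem D hcard hχ hχ', add_zero] at this
    exact_mod_cast this

end NUMDATA

section

variable {G : Type u} [Group G] [Fintype G] [Fintype (IrrCharacter G)]
variable (p : ℕ) [Fact p.Prime] (P : Subgroup G)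

local notation "𝒩" => Subgroup.normalizer (P : Set G)

/-- PIECE NUMDATA. -/
theorem exists_num [DecidableEq (IrrCharacter G)] [IsSimpleGroup G] (hG : ¬ IsCyclic G)
    (q b g₀ : ℕ) (hq : q.Prime) (hpq : p ≠ q) (hG' : Nat.card G = p * q ^ b * g₀) (hg : g₀ < p - 1)
    (hcard : Nat.card P = p) (hcent : Subgroup.centralizer (P : Set G) ≤ P)
    (w t : ℕ) (hw : P.relIndex 𝒩 = w) (ht : (p - 1) / w = t) (D : BTData p P w t) :
    ∃ N : Num (IrrCharacter G), N.deg = (fun χ : IrrCharacter G => charDegree (χ : G → ℂ)) ∧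
      (∀ χ : IrrCharacter G, Aw P (χ : G → ℂ) = (N.a χ : ℂ)) ∧
      N.X = D.X ∧ N.Y = D.Y ∧ N.sg = D.sg ∧ N.d0 = D.d0 ∧ N.one = principalChar G ∧
      N.p = p ∧ N.q = q ∧ N.b = b ∧ N.g0 = g₀ ∧ N.w = w ∧ N.t = t ∧ N.r = (𝒩).index := by
  have hp : p.Prime := Fact.out
  have hp2 : 2 ≤ p := hp.two_le
  have hperf : commutator G = ⊤ := NUMDATA.perfect_of_simple hG
  obtain ⟨a, ha, haX, haY, haD⟩ := NUMDATA.weights D hcard
  obtain ⟨n, hn⟩ := exists_index_eq p P hcard hcent
  have hcardG := card_eq p P hcard
  have hwdvd : w ∣ p - 1 := hw ▸ relIndex_dvd p P hcard hcent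
  have hw2 : 2 ≤ w := hw ▸ two_le_relIndex p P hcard hcent hperf
  have hwt : p = w * t + 1 := by
    have h1 : w * ((p - 1) / w) = p - 1 := Nat.mul_div_cancel' hwdvd
    rw [ht] at h1
    omega
  obtain ⟨z, hzP, hz1⟩ := NUMDATA.exists_ne_one p P hcard
  have hpC : (p : ℂ) - 1 ≠ 0 := by
    intro h
    have h' : (p : ℂ) = 1 := by linear_combination h
    have : (p : ℕ) = 1 := by exact_mod_cast h'
    omega
  have hg0pos : 0 < g₀ := by
    rcases Nat.eq_zero_or_pos g₀ with h | h
    · exfalso
      rw [h, mul_zero] at hG'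
      have := Nat.card_pos (α := G)
      omega
    · exact h
  -- `p² ∤ |G|`
  have hsq : ¬ p ^ 2 ∣ Nat.card G := by
    intro h
    rw [hG', pow_two, mul_assoc] at h
    have h1 : p ∣ q ^ b * g₀ := Nat.dvd_of_mul_dvd_mul_left hp.pos h
    rcases (Nat.Prime.dvd_mul hp).1 h1 with h2 | h2
    · have := hp.dvd_of_dvd_pow h2
      exact hpq ((Nat.prime_dvd_prime_iff_eq hp hq).1 this)
    · have := Nat.le_of_dvd hg0pos h2
      omega
  have hdiv : p ∣ Nat.card G := by
    rw [hG', mul_assoc]
    exact dvd_mul_right _ _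
  have hnn : ∀ H : Subgroup G, H.Normal → Nat.card H ≠ p := by
    intro H hH hHc
    rcases hH.eq_bot_or_eq_top with h | h
    · rw [h, Subgroup.card_bot] at hHc
      omega
    · rw [h, Subgroup.card_top] at hHc
      exact hG (isCyclic_of_prime_card hHc)
  refine ⟨{ deg := fun χ => charDegree (χ : G → ℂ)
            a := a
            X := D.X
            Y := D.Y
            sg := D.sg
            d0 := D.d0
            one := principalChar G
            p := p
            q := q
            b := b
            g0 := g₀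
            w := w
            t := t
            r := (𝒩).index
            hp := hp
            hq := hq
            hpq := hpq
            hwt := hwt
            hw := hw2
            hcard := ?_
            hg0 := hg
            hr := ?_
            disj := D.disj
            cardX := D.cardX
            cardY := D.cardY
            sg_pm := D.sg_pm
            d0_pm := D.d0_pm
            one_mem := ?_
            one_memX := D.one_memX
            sg_one := ?_
            deg_one := NUMDATA.charDegree_principal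
            eq_one := fun χ h => eq_principal_of_degree_one hperf χ h
            deg_pos := fun χ => charDegree_pos χ.2
            hwX := haX
            hwY := haY
            hwD := haD
            degY := ?_
            hdvd := ?_
            degeq := ?_
            faith := ?_ }, rfl, ha, rfl, rfl, rfl, rfl, rfl, rfl, rfl, rfl, rfl, rfl, rfl, rfl⟩
  · -- hcard : w * r = q ^ b * g0
    have h1 : p * (w * (𝒩).index) = p * (q ^ b * g₀) := by
      rw [← mul_assoc, ← mul_assoc, ← hG', hcardG, hw]
    exact Nat.eq_of_mul_eq_mul_left hp.pos h1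
  · -- hr
    rw [hn, Nat.add_mul_mod_self_right]
    exact Nat.mod_eq_of_lt hp.one_lt
  · -- one_mem
    by_contra hcon
    rw [Finset.mem_union, not_or] at hcon
    have := D.valD (principalChar G) hcon.1 hcon.2 z hzP hz1
    rw [NUMDATA.principal_coe] at this
    exact one_ne_zero this
  · -- sg_one
    intro hX
    have := D.valX (principalChar G) hX z hzP hz1
    rw [NUMDATA.principal_coe] at this
    have h1 : ((1 : ℤ) : ℂ) = (D.sg (principalChar G) : ℂ) := by
      rw [← this]
      simp
    exact_mod_cast h1.symm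
  · -- degY
    intro i hi j hj
    have h1 : ¬ p ∣ orderOf (1 : G) := by
      rw [orderOf_one]
      intro h
      have := Nat.le_of_dvd one_pos h
      omega
    have := D.regY i hi j hj 1 h1
    rw [irr_one_eq_charDegree i.2, irr_one_eq_charDegree j.2] at this
    exact_mod_cast this
  · -- hdvd
    intro i
    rw [← hG']
    exact charDegree_dvd_card i.2
  · -- degeq
    intro j hj
    have h1 : ¬ p ∣ orderOf (1 : G) := by
      rw [orderOf_one]
      intro h
      have := Nat.le_of_dvd one_pos h
      omega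
    have := D.orth j hj 1 h1
    rw [irr_one_eq_charDegree j.2] at this
    have h2 : ∑ χ ∈ D.X, (D.sg χ : ℂ) * (χ : G → ℂ) 1 =
        ∑ χ ∈ D.X, (D.sg χ : ℂ) * (charDegree (χ : G → ℂ) : ℂ) :=
      Finset.sum_congr rfl fun χ _ => by rw [irr_one_eq_charDegree χ.2]
    rw [h2] at this
    have h3 : ((∑ i ∈ D.X, D.sg i * (charDegree (i : G → ℂ) : ℤ) +
        D.d0 * (charDegree (j : G → ℂ) : ℤ) : ℤ) : ℂ) = ((0 : ℤ) : ℂ) := by
      push_cast
      rw [← this]
      ring
    exact_mod_cast h3
  · -- faith
    intro χ hχ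
    have hK : Cfsg.Agent.Helper2.BRR.kerOf χ = ⊥ := by
      rcases (Cfsg.Agent.Helper2.BRR.kerOf_normal χ).eq_bot_or_eq_top with h | h
      · exact h
      · exfalso
        -- `χ` is constant, hence (irreducible) equal to `1`
        have hconst : ∀ g : G, (χ : G → ℂ) g = (χ : G → ℂ) 1 := by
          intro g
          have hg : g ∈ Cfsg.Agent.Helper2.BRR.kerOf χ := by rw [h]; trivial
          exact (Cfsg.Agent.Helper2.BRR.mem_kerOf χ g).1 hg
        have horth := irr_orthogonality' χ (principalChar G)
        rw [if_neg hχ] at horth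
        unfold classInner at horth
        have hsum : ∑ g : G, (χ : G → ℂ) g * conj (((principalChar G : IrrCharacter G) : G → ℂ) g) =
            (Nat.card G : ℂ) * (χ : G → ℂ) 1 := by
          have : ∀ g : G, (χ : G → ℂ) g * conj (((principalChar G : IrrCharacter G) : G → ℂ) g) =
              (χ : G → ℂ) 1 := by
            intro g
            rw [hconst g]
            show (χ : G → ℂ) 1 * conj (1 : ℂ) = _
            rw [map_one, mul_one]
          rw [Finset.sum_congr rfl (fun g _ => this g), Finset.sum_const, Finset.card_univ,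
            nsmul_eq_mul, Nat.card_eq_fintype_card]
        rw [hsum] at horth
        have hG0 : (Nat.card G : ℂ) ≠ 0 := by exact_mod_cast (Nat.card_pos (α := G)).ne'
        rw [← mul_assoc, inv_mul_cancel₀ hG0, one_mul, irr_one_eq_charDegree χ.2] at horth
        have := charDegree_pos χ.2
        have h0 : charDegree (χ : G → ℂ) = 0 := by exact_mod_cast horth
        omega
    have hfaith : ∀ g : G, (χ : G → ℂ) g = (χ : G → ℂ) 1 → g = 1 := by
      intro g hg
      have : g ∈ Cfsg.Agent.Helper2.BRR.kerOf χ := (Cfsg.Agent.Helper2.BRR.mem_kerOf χ g).2 hg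
      rw [hK, Subgroup.mem_bot] at this
      exact this
    exact Cfsg.Agent.S4503.result (G := G) p hp hdiv hsq hnn (χ : G → ℂ)
      (isCharacter_of_isIrrCharacter χ.2) hfaith

end

end Cfsg.Agent.Helper21.BT
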