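import Mathlib
import Cfsg.Prelude.Def_Local
import Cfsg.Agent.Lib.Helper9.PPrimeCoreSub
import Cfsg.Agent.Lib.Helper14.Basic
import Cfsg.Agent.Lib.Helper16.Solvable2
import Cfsg.Agent.S1464

/-!
# BG Theorem 10.1, part A (helper24): a quadratic-action lemma in solvable groups of odd order

If `O_{p',p}(H) = O_{p'}(H) X` for a normal `p`-subgroup `X` of a solvable group `H` of odd order,
then every `p`-subgroup `A` with `[X, A, A] = 1` lies in `O_{p',p}(H)`.
-/

set_option autoImplicit false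
set_option linter.style.haveILetI false
set_option linter.unusedSectionVars false

namespace Cfsg.Agent.Helper24.BG101

open Cfsg

variable {H : Type*} [Group H] [Finite H] (p : ℕ) [Fact p.Prime]

instance pPrimePCore_normal' : (pPrimePCore p H).Normal := by
  unfold pPrimePCore
  exact Subgroup.Normal.comap inferInstance _

theorem pPrimeCore_le_pPrimePCore : pPrimeCore p H ≤ pPrimePCore p H := by
  intro x hx
  unfold pPrimePCore
  rw [Subgroup.mem_comap]
  have : QuotientGroup.mk' (pPrimeCore p H) x = 1 := by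
    rw [QuotientGroup.mk'_apply, QuotientGroup.eq_one_iff]
    exact hx
  rw [this]
  exact Subgroup.one_mem _

/-- a normal subgroup whose elements have `p`-power order modulo `O_{p'}` lies in `O_{p',p}`. -/
theorem le_pPrimePCore_of_pow_mem (R : Subgroup H) [hR : R.Normal]
    (h : ∀ r ∈ R, ∃ k : ℕ, r ^ (p ^ k) ∈ pPrimeCore p H) : R ≤ pPrimePCore p H := by
  intro r hr
  unfold pPrimePCore
  rw [Subgroup.mem_comap]
  have hn : (R.map (QuotientGroup.mk' (pPrimeCore p H))).Normal :=
    Subgroup.Normal.map hR _ (QuotientGroup.mk'_surjective _)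
  have hpg : IsPGroup p (R.map (QuotientGroup.mk' (pPrimeCore p H))) := by
    rintro ⟨y, hy⟩
    obtain ⟨r', hr', rfl⟩ := hy
    obtain ⟨k, hk⟩ := h r' hr'
    refine ⟨k, ?_⟩
    apply Subtype.ext
    simp only [Subgroup.coe_pow, Subgroup.coe_one]
    rw [← map_pow, QuotientGroup.mk'_apply, QuotientGroup.eq_one_iff]
    exact hk
  exact Cfsg.Agent.Helper14.le_pCore hn hpg ⟨r, hr, rfl⟩

theorem exists_pow_mem_pPrimeCore {x : H} (hx : x ∈ pPrimePCore p H) :
    ∃ k : ℕ, x ^ (p ^ k) ∈ pPrimeCore p H := by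
  unfold pPrimePCore at hx
  rw [Subgroup.mem_comap] at hx
  obtain ⟨k, hk⟩ := Cfsg.Agent.Helper14.pCore_isPGroup p (H ⧸ pPrimeCore p H) ⟨_, hx⟩
  refine ⟨k, ?_⟩
  have h1 := congrArg Subtype.val hk
  simp only [Subgroup.coe_pow, Subgroup.coe_one] at h1
  rw [← map_pow, QuotientGroup.mk'_apply, QuotientGroup.eq_one_iff] at h1
  exact h1

/-- Hall--Higman 1.2.3 in the form needed: `C_H(X) ≤ O_{p',p}(H)` when `O_{p',p}(H) = O_{p'}(H) X`. -/
theorem centralizer_le_pPrimePCore (hsolv : Group.IsSolvable H) (X : Subgroup H)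
    (hX : pPrimePCore p H = pPrimeCore p H ⊔ X) :
    Subgroup.centralizer (X : Set H) ≤ pPrimePCore p H := by
  intro c hc
  have hbot : pPrimeCore p (H ⧸ pPrimeCore p H) = ⊥ :=
    Cfsg.Agent.Helper9.pPrimeCore_quotient_eq_bot p
  have hsolvq : Group.IsSolvable (H ⧸ pPrimeCore p H) :=
    Group.isSolvable_of_surjective (QuotientGroup.mk'_surjective (pPrimeCore p H))
  have hHH := Cfsg.Agent.Helper16.centralizer_pCore_le_of_isSolvable p hsolvq hbot
  unfold pPrimePCore
  rw [Subgroup.mem_comap]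
  apply hHH
  rw [Subgroup.mem_centralizer_iff]
  intro y hy
  -- y ∈ pCore p (H/K): y = mk z with z ∈ pPrimePCore = K ⊔ X
  obtain ⟨z, rfl⟩ := QuotientGroup.mk'_surjective (pPrimeCore p H) y
  have hz : z ∈ pPrimePCore p H := by
    unfold pPrimePCore
    rw [Subgroup.mem_comap]
    exact hy
  rw [hX] at hz
  -- z = k * x
  have hz' : z ∈ (pPrimeCore p H ⊔ X : Subgroup H) := hz
  rw [Subgroup.mem_sup_of_normal_left] at hz'
  obtain ⟨k, hk, x, hx, rfl⟩ := hz'
  have hk1 : QuotientGroup.mk' (pPrimeCore p H) k = 1 := by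
    rw [QuotientGroup.mk'_apply, QuotientGroup.eq_one_iff]
    exact hk
  rw [map_mul, hk1, one_mul, ← map_mul, ← map_mul]
  rw [Subgroup.mem_centralizer_iff] at hc
  rw [hc x hx]

/-- the quadratic-action lemma (uses `p`-stability, S1464). -/
theorem le_pPrimePCore_of_quadratic (hodd : Odd (Nat.card H)) (hsolv : Group.IsSolvable H)
    (hp2 : p ≠ 2) (X A : Subgroup H) [hXn : X.Normal] (hXp : IsPGroup p X)
    (hX : pPrimePCore p H = pPrimeCore p H ⊔ X) (hA : IsPGroup p A)
    (hquad : ⁅⁅X, A⁆, A⁆ = ⊥) : A ≤ pPrimePCore p H := by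
  haveI := hsolv
  have hPn : (pPrimeCore p H ⊔ X).Normal := by
    rw [← hX]; infer_instance
  have hNtop : Subgroup.normalizer (X : Set H) = ⊤ := Subgroup.normalizer_eq_top_iff.mpr hXn
  have hAN : A ≤ Subgroup.normalizer (X : Set H) := by rw [hNtop]; exact le_top
  have key := Cfsg.Agent.S1464.result hodd p hp2 X A hXp hPn hA hAN hquad
  -- the normal subgroup R
  let R : Subgroup H := ((pCore p (↥(Subgroup.normalizer (X : Set H)) ⧸
      (Subgroup.centralizer (X : Set H)).subgroupOf (Subgroup.normalizer (X : Set H)))).comap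
      (QuotientGroup.mk' ((Subgroup.centralizer (X : Set H)).subgroupOf
        (Subgroup.normalizer (X : Set H))))).map (Subgroup.normalizer (X : Set H)).subtype
  have hsurj : Function.Surjective (Subgroup.normalizer (X : Set H)).subtype := by
    intro h
    exact ⟨⟨h, by rw [hNtop]; exact Subgroup.mem_top h⟩, rfl⟩
  haveI hRn : R.Normal :=
    Subgroup.Normal.map (Subgroup.Normal.comap inferInstance _) _ hsurj
  have hCle := centralizer_le_pPrimePCore p hsolv X hX
  have hR : R ≤ pPrimePCore p H := by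
    apply le_pPrimePCore_of_pow_mem
    rintro r ⟨n, hn, rfl⟩
    rw [SetLike.mem_coe, Subgroup.mem_comap] at hn
    obtain ⟨k, hk⟩ := Cfsg.Agent.Helper14.pCore_isPGroup p _ ⟨_, hn⟩
    have h1 := congrArg Subtype.val hk
    simp only [Subgroup.coe_pow, Subgroup.coe_one] at h1
    rw [← map_pow, QuotientGroup.mk'_apply, QuotientGroup.eq_one_iff] at h1
    -- n^(p^k) ∈ C'
    have h2 : ((n ^ p ^ k : ↥(Subgroup.normalizer (X : Set H))) : H) ∈
        Subgroup.centralizer (X : Set H) := by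
      rw [Subgroup.mem_subgroupOf] at h1
      exact h1
    obtain ⟨j, hj⟩ := exists_pow_mem_pPrimeCore p (hCle h2)
    refine ⟨k + j, ?_⟩
    rw [pow_add, pow_mul]
    simpa using hj
  refine le_trans ?_ hR
  intro a ha
  refine ⟨⟨a, hAN ha⟩, ?_, rfl⟩
  rw [SetLike.mem_coe, Subgroup.mem_comap]
  apply key
  exact ⟨⟨a, hAN ha⟩, by rw [SetLike.mem_coe, Subgroup.mem_subgroupOf]; exact ha, rfl⟩

end Cfsg.Agent.Helper24.BG101
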