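import Mathlib
import Cfsg.Prelude.Def_Local
import Cfsg.Agent.Lib.Helper24.BG101A
import Cfsg.Agent.Lib.Helper22.PPrimeCore

/-!
# BG Theorem 10.1, part B (helper24): Frattini argument for `O_{p',p}`
-/

set_option autoImplicit false
set_option linter.style.haveILetI false
set_option linter.unusedSectionVars false

namespace Cfsg.Agent.Helper24.BG101

open Cfsg

variable {H : Type*} [Group H] [Finite H] (p : ℕ) [Fact p.Prime]

omit [Finite H] in
/-- `|QL : Q| = |L : Q ∩ L|` for `L` normal. -/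
theorem relIndex_sup_of_normal_right [Finite H] (Q L : Subgroup H) [L.Normal] :
    Q.relIndex (Q ⊔ L) = Q.relIndex L := by
  have h1 : Nat.card ↥(Q ⊓ L) * (Q ⊓ L).relIndex Q = Nat.card Q := by
    have := Subgroup.relIndex_mul_relIndex (⊥ : Subgroup H) (Q ⊓ L) Q bot_le inf_le_left
    rwa [Subgroup.relIndex_bot_left, Subgroup.relIndex_bot_left] at this
  have h2 : Nat.card ↥(Q ⊓ L) * (Q ⊓ L).relIndex L = Nat.card L := by
    have := Subgroup.relIndex_mul_relIndex (⊥ : Subgroup H) (Q ⊓ L) L bot_le inf_le_right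
    rwa [Subgroup.relIndex_bot_left, Subgroup.relIndex_bot_left] at this
  have h3 : Nat.card L * L.relIndex (Q ⊔ L) = Nat.card ↥(Q ⊔ L) := by
    have := Subgroup.relIndex_mul_relIndex (⊥ : Subgroup H) L (Q ⊔ L) bot_le le_sup_right
    rwa [Subgroup.relIndex_bot_left, Subgroup.relIndex_bot_left] at this
  have h4 : Nat.card Q * Q.relIndex (Q ⊔ L) = Nat.card ↥(Q ⊔ L) := by
    have := Subgroup.relIndex_mul_relIndex (⊥ : Subgroup H) Q (Q ⊔ L) bot_le le_sup_left
    rwa [Subgroup.relIndex_bot_left, Subgroup.relIndex_bot_left] at this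
  have h5 : L.relIndex (Q ⊔ L) = (Q ⊓ L).relIndex Q := by
    rw [Subgroup.relIndex_sup_right, inf_comm, Subgroup.inf_relIndex_right]
  have h6 : (Q ⊓ L).relIndex L = Q.relIndex L := Subgroup.inf_relIndex_right Q L
  rw [← h6]
  have hpos : 0 < Nat.card Q := Nat.card_pos
  apply Nat.eq_of_mul_eq_mul_left hpos
  rw [h4, ← h3, ← h2, h5, ← h1]
  ring

/-- `Q ⊓ L` has `p'`-index in the normal subgroup `L`, for a Sylow `p`-subgroup `Q`. -/
theorem not_dvd_relIndex_inf (Q : Sylow p H) (L : Subgroup H) [L.Normal] :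
    ¬ p ∣ ((Q : Subgroup H) ⊓ L).relIndex L := by
  rw [Subgroup.inf_relIndex_right, ← relIndex_sup_of_normal_right]
  intro hdvd
  have h2 : (Q : Subgroup H).relIndex ((Q : Subgroup H) ⊔ L) ∣ (Q : Subgroup H).index :=
    Subgroup.relIndex_dvd_index_of_le le_sup_left
  exact Q.not_dvd_index (hdvd.trans h2)

/-- `Q ⊓ L`, as a Sylow `p`-subgroup of `L`. -/
theorem isPGroup_inf_subgroupOf (Q : Sylow p H) (L : Subgroup H) :
    IsPGroup p ↥(((Q : Subgroup H) ⊓ L).subgroupOf L) :=
  (Q.isPGroup'.to_le inf_le_left).comap_of_injective L.subtype L.subtype_injective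

noncomputable def infSylow (Q : Sylow p H) (L : Subgroup H) [L.Normal] : Sylow p ↥L :=
  IsPGroup.toSylow (P := ((Q : Subgroup H) ⊓ L).subgroupOf L)
    (isPGroup_inf_subgroupOf p Q L) (not_dvd_relIndex_inf p Q L)

theorem infSylow_coe (Q : Sylow p H) (L : Subgroup H) [L.Normal] :
    ((infSylow p Q L : Sylow p ↥L) : Subgroup ↥L) = ((Q : Subgroup H) ⊓ L).subgroupOf L := rfl

theorem infSylow_map (Q : Sylow p H) (L : Subgroup H) [L.Normal] :
    ((infSylow p Q L : Sylow p ↥L) : Subgroup ↥L).map L.subtype = (Q : Subgroup H) ⊓ L := by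
  rw [infSylow_coe, Subgroup.map_subgroupOf_eq_of_le inf_le_right]

theorem frattini_inf (Q : Sylow p H) (L : Subgroup H) [L.Normal] :
    Subgroup.normalizer ((((Q : Subgroup H) ⊓ L : Subgroup H)) : Set H) ⊔ L = ⊤ := by
  have := Sylow.normalizer_sup_eq_top (infSylow p Q L)
  rwa [infSylow_map] at this

/-- `O_{p',p}(H) = O_{p'}(H) (Q ∩ O_{p',p}(H))`. -/
theorem pPrimePCore_eq_sup (Q : Sylow p H) :
    pPrimePCore p H = pPrimeCore p H ⊔ ((Q : Subgroup H) ⊓ pPrimePCore p H) := by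
  have hp : p.Prime := Fact.out
  apply le_antisymm _ (sup_le (pPrimeCore_le_pPrimePCore p) inf_le_right)
  set K := pPrimeCore p H with hK
  set L := pPrimePCore p H with hL
  set T := (Q : Subgroup H) ⊓ L with hT
  have hle : K ⊔ T ≤ L := sup_le (pPrimeCore_le_pPrimePCore p) inf_le_right
  -- relIndex (K ⊔ T) L divides both a p-power and a p'-number
  have h1 : (K ⊔ T).relIndex L ∣ T.relIndex L := Subgroup.relIndex_dvd_of_le_left L le_sup_right
  have h2 : (K ⊔ T).relIndex L ∣ K.relIndex L := Subgroup.relIndex_dvd_of_le_left L le_sup_left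
  have h3 : ¬ p ∣ T.relIndex L := not_dvd_relIndex_inf p Q L
  have h4 : ∃ n : ℕ, K.relIndex L = p ^ n := by
    have hker : K = (⊥ : Subgroup (H ⧸ K)).comap (QuotientGroup.mk' K) := by
      exact (QuotientGroup.ker_mk' K).symm
    have e1 : K.relIndex L = (⊥ : Subgroup (H ⧸ K)).relIndex (L.map (QuotientGroup.mk' K)) := by
      conv_lhs => rw [hker]
      exact Subgroup.relIndex_comap _ _ _
    rw [e1, Subgroup.relIndex_bot_left]
    have e2 : L.map (QuotientGroup.mk' K) = pCore p (H ⧸ K) := by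
      rw [hL]
      unfold pPrimePCore
      exact Subgroup.map_comap_eq_self_of_surjective (QuotientGroup.mk'_surjective K) _
    rw [e2]
    exact (Cfsg.Agent.Helper14.pCore_isPGroup p (H ⧸ K)).exists_card_eq
  obtain ⟨n, hn⟩ := h4
  have h5 : (K ⊔ T).relIndex L = 1 := by
    rw [hn] at h2
    obtain ⟨j, -, hj⟩ := (Nat.dvd_prime_pow hp).mp h2
    rcases Nat.eq_zero_or_pos j with h0 | hpos
    · rw [hj, h0, pow_zero]
    · exfalso
      apply h3
      refine dvd_trans ?_ h1
      rw [hj]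
      exact dvd_pow_self p hpos.ne'
  exact Subgroup.relIndex_eq_one.mp h5

/-- Frattini decomposition `h = n * k` with `n ∈ N_H(Q ∩ O_{p',p}(H))`, `k ∈ O_{p'}(H)`. -/
theorem exists_mul_of_frattini (Q : Sylow p H) (h : H) :
    ∃ n ∈ Subgroup.normalizer ((((Q : Subgroup H) ⊓ pPrimePCore p H : Subgroup H)) : Set H),
      ∃ k ∈ pPrimeCore p H, h = n * k := by
  set T := (Q : Subgroup H) ⊓ pPrimePCore p H with hT
  have h1 : h ∈ (Subgroup.normalizer (T : Set H) ⊔ pPrimePCore p H : Subgroup H) := by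
    rw [frattini_inf p Q (pPrimePCore p H)]; exact Subgroup.mem_top h
  rw [Subgroup.mem_sup_of_normal_right] at h1
  obtain ⟨n, hn, l, hl, rfl⟩ := h1
  have h2 : l ∈ (pPrimeCore p H ⊔ T : Subgroup H) := by
    rw [← pPrimePCore_eq_sup p Q]; exact hl
  rw [Subgroup.mem_sup_of_normal_left] at h2
  obtain ⟨k, hk, t, ht, rfl⟩ := h2
  -- n * (k * t) = (n * t) * (t⁻¹ k t)
  refine ⟨n * t, Subgroup.mul_mem _ hn (Subgroup.le_normalizer ht), t⁻¹ * k * t, ?_, by group⟩
  have := (pPrimeCore_normal p H).conj_mem k hk t⁻¹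
  simpa using this

end Cfsg.Agent.Helper24.BG101
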