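import Mathlib
import Cfsg.Prelude.Def_Local
import Cfsg.Agent.Lib.Helper12.FrattiniAct
import Cfsg.Agent.Lib.Helper22.ClassTwo
import Cfsg.Agent.Lib.Helper23.PSolvable
import Cfsg.Agent.Lib.Helper10.Cores
import Cfsg.Agent.Lib.Helper22.PPrimeCore

/-!
# The quadratic trick for Gross's theorem (helper24)

If `C_X(O_2(X)) ≤ O_2(X)` and `g` acts quadratically on `O_2(X)` (`[u,g,g] = 1` for all `u ∈ O_2(X)`), then
`g ^ 2 ∈ O_2(X)`: indeed `g² u g⁻² u⁻¹` is a conjugate of the square `[u⁻¹... ]²`, hence lies in the Frattini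
subgroup of `O_2(X)`, so `g²` acts trivially on the Frattini quotient of `O_2(X)`.
-/

set_option autoImplicit false
set_option linter.style.haveILetI false
open Cfsg

namespace Cfsg.Agent.Helper24.GrossQuad

variable {X : Type*} [Group X]

/-- the key computation: if `c = g v g⁻¹ v⁻¹` commutes with `g` then `g² v g⁻² v⁻¹ = c²`... in the form
`g^2 * v * (g^2)⁻¹ * v⁻¹ = c * c` with `c := g * v * g⁻¹ * v⁻¹`. -/
theorem conj_sq_eq (g v : X) (h : g * (g * v * g⁻¹ * v⁻¹) = (g * v * g⁻¹ * v⁻¹) * g) :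
    g ^ 2 * v * (g ^ 2)⁻¹ * v⁻¹ = (g * v * g⁻¹ * v⁻¹) * (g * v * g⁻¹ * v⁻¹) := by
  have h1 : g * (g * v * g⁻¹ * v⁻¹) * g⁻¹ = g * v * g⁻¹ * v⁻¹ := by
    rw [h]; group
  calc g ^ 2 * v * (g ^ 2)⁻¹ * v⁻¹
      = (g * (g * v * g⁻¹ * v⁻¹) * g⁻¹) * (g * v * g⁻¹ * v⁻¹) := by rw [pow_two]; group
    _ = (g * v * g⁻¹ * v⁻¹) * (g * v * g⁻¹ * v⁻¹) := by rw [h1]

variable [Finite X]

/-- **Quadratic trick.** If `C_X(O_2(X)) ≤ O_2(X)` and `g` is quadratic on `O_2(X)`, then `g² ∈ O_2(X)`. -/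
theorem quad_sq_mem
    (hC : Subgroup.centralizer (pCore 2 X : Set X) ≤ pCore 2 X) (g : X)
    (hq : ∀ u ∈ pCore 2 X, g * (g * u * g⁻¹ * u⁻¹) = (g * u * g⁻¹ * u⁻¹) * g) :
    g ^ 2 ∈ pCore 2 X := by
  haveI : Fact (Nat.Prime 2) := ⟨Nat.prime_two⟩
  have hQp : IsPGroup 2 ↥(pCore 2 X) := Cfsg.Agent.Helper10.pCore_isPGroup 2
  haveI hQn : (pCore 2 X).Normal := Cfsg.Agent.Helper10.pCore_normal 2
  apply Cfsg.Agent.Helper12.FA.ker_rho_le (p := 2) hC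
  rw [MonoidHom.mem_ker]
  apply MulEquiv.ext
  intro w
  induction w using QuotientGroup.induction_on with
  | H q =>
    rw [Cfsg.Agent.Helper12.FA.rho_mk]
    show _ = QuotientGroup.mk q
    rw [QuotientGroup.eq]
    -- `(g² q g⁻²)⁻¹ * q ∈ Φ`
    have hcQ : g * (q : X) * g⁻¹ * (q : X)⁻¹ ∈ pCore 2 X :=
      mul_mem (hQn.conj_mem _ q.2 g) (inv_mem q.2)
    set c : ↥(pCore 2 X) := ⟨g * (q : X) * g⁻¹ * (q : X)⁻¹, hcQ⟩ with hc
    have h1 := conj_sq_eq g (q : X) (hq _ q.2)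
    have h2 : (MulAut.conjNormal (g ^ 2) q)⁻¹ * q = (q⁻¹ * c⁻¹ * q) ^ 2 := by
      apply Subtype.ext
      have h3 : ((MulAut.conjNormal (g ^ 2) q : ↥(pCore 2 X)) : X) = g ^ 2 * (q : X) * (g ^ 2)⁻¹ := by
        rw [MulAut.conjNormal_apply]
      have h4 : g ^ 2 * (q : X) * (g ^ 2)⁻¹ = (c : X) * (c : X) * (q : X) := by
        have : g ^ 2 * (q : X) * (g ^ 2)⁻¹ = (g ^ 2 * (q : X) * (g ^ 2)⁻¹ * (q : X)⁻¹) * (q : X) := by
          rw [pow_two]; group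
        rw [this, h1]
      push_cast
      rw [h3, h4, pow_two]
      group
    rw [h2]
    exact Cfsg.Agent.Helper22.pow_prime_mem_frattini hQp _

/-- **Quadratic trick, `O_{2',2}` form.** `H` finite `2`-solvable, `g ∈ H` quadratic on `O_{2',2}(H)` modulo
`O_{2'}(H)`: for every `u ∈ O_{2',2}(H)` the commutator `c = g u g⁻¹ u⁻¹` commutes with `g` modulo `O_{2'}(H)`.
Then `g² ∈ O_{2',2}(H)`. -/
theorem quad_sq_mem_pPrimePCore {H : Type*} [Group H] [Finite H] (hsol : IsPSolvable 2 H) (g : H)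
    (hq : ∀ u ∈ pPrimePCore 2 H,
      (g * (g * u * g⁻¹ * u⁻¹)) * ((g * u * g⁻¹ * u⁻¹) * g)⁻¹ ∈ pPrimeCore 2 H) :
    g ^ 2 ∈ pPrimePCore 2 H := by
  haveI : Fact (Nat.Prime 2) := ⟨Nat.prime_two⟩
  haveI hKn : (pPrimeCore 2 H).Normal := Cfsg.Agent.Helper22.pPrimeCore_normal 2
  have hsolQ : IsPSolvable 2 (H ⧸ pPrimeCore 2 H) :=
    Cfsg.Agent.Helper23.PSolv.isPSolvable_quotient _ hsol
  have hOQ : pPrimeCore 2 (H ⧸ pPrimeCore 2 H) = ⊥ :=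
    Cfsg.Agent.Helper23.PSolv.pPrimeCore_quotient_pPrimeCore 2
  have hC := Cfsg.Agent.Helper23.PSolv.centralizer_pCore_le hsolQ hOQ
  unfold pPrimePCore
  rw [Subgroup.mem_comap, map_pow]
  apply quad_sq_mem hC
  intro ub hub
  obtain ⟨u, rfl⟩ := QuotientGroup.mk'_surjective (pPrimeCore 2 H) ub
  have hu : u ∈ pPrimePCore 2 H := by
    unfold pPrimePCore
    rw [Subgroup.mem_comap]; exact hub
  have h1 := hq u hu
  have h2 : QuotientGroup.mk' (pPrimeCore 2 H) ((g * (g * u * g⁻¹ * u⁻¹)) * ((g * u * g⁻¹ * u⁻¹) * g)⁻¹) = 1 :=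
    (QuotientGroup.eq_one_iff _).2 h1
  rw [map_mul, map_inv, mul_inv_eq_one] at h2
  simpa only [map_mul, map_inv] using h2

/-- **Quadratic trick, Sylow form.** `H` finite `2`-solvable, `T ≤ H` with `O_{2',2}(H) ≤ O_{2'}(H) T`
(e.g. `T` a Sylow `2`-subgroup of `O_{2',2}(H)`), `g ∈ H` with `[t,g,g] = 1` for all `t ∈ T` (in the form:
`c = g t g⁻¹ t⁻¹` commutes with `g`). Then `g² ∈ O_{2',2}(H)`. -/
theorem quad_sq_mem_of_sylow {H : Type*} [Group H] [Finite H] (hsol : IsPSolvable 2 H) (g : H)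
    (T : Subgroup H)
    (hT : ∀ u ∈ pPrimePCore 2 H, ∃ k ∈ pPrimeCore 2 H, ∃ t ∈ T, u = k * t)
    (hq : ∀ t ∈ T, g * (g * t * g⁻¹ * t⁻¹) = (g * t * g⁻¹ * t⁻¹) * g) :
    g ^ 2 ∈ pPrimePCore 2 H := by
  haveI : Fact (Nat.Prime 2) := ⟨Nat.prime_two⟩
  haveI hKn : (pPrimeCore 2 H).Normal := Cfsg.Agent.Helper22.pPrimeCore_normal 2
  apply quad_sq_mem_pPrimePCore hsol
  intro u hu
  obtain ⟨k, hk, t, ht, rfl⟩ := hT u hu
  rw [← QuotientGroup.eq_one_iff (N := pPrimeCore 2 H)]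
  have hk1 : ((k : H) : H ⧸ pPrimeCore 2 H) = 1 := (QuotientGroup.eq_one_iff k).2 hk
  have h2 := congrArg (fun x : H => (x : H ⧸ pPrimeCore 2 H)) (hq t ht)
  simp only [QuotientGroup.mk_mul, QuotientGroup.mk_inv] at h2 ⊢
  rw [hk1]
  simp only [one_mul, inv_one, mul_one]
  rw [h2]
  group

end Cfsg.Agent.Helper24.GrossQuad
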