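import Mathlib
import Cfsg.Prelude.Def_OddOrderLocal
import Cfsg.Agent.Lib.Helper19.PGroupBasic
import Cfsg.Agent.Lib.Helper15.Basic

/-!
# BG Theorem 10.1, part C (helper24): `p`-group facts and Sylow facts for `p ∈ σ(M)`
-/

set_option autoImplicit false
set_option linter.style.haveILetI false
set_option linter.unusedSectionVars false

namespace Cfsg.Agent.Helper24.BG101

open Cfsg

section PGroup

variable {P : Type*} [Group P] [Finite P] {p : ℕ} [Fact p.Prime]

theorem relIndex_eq_card_map_mk (K : Subgroup P) [K.Normal] (L : Subgroup P) :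
    K.relIndex L = Nat.card (L.map (QuotientGroup.mk' K)) := by
  have hker : K = (⊥ : Subgroup (P ⧸ K)).comap (QuotientGroup.mk' K) := by
    exact (QuotientGroup.ker_mk' K).symm
  have e1 : K.relIndex L = (⊥ : Subgroup (P ⧸ K)).relIndex (L.map (QuotientGroup.mk' K)) := by
    conv_lhs => rw [hker]
    exact Subgroup.relIndex_comap _ _ _
  rw [e1, Subgroup.relIndex_bot_left]

/-- a normal subgroup of order `p` of a `p`-group is central -/
theorem le_center_of_card_prime (hP : IsPGroup p P) (N : Subgroup P) [N.Normal]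
    (hN : Nat.card N = p) : N ≤ Subgroup.center P := by
  have hp : p.Prime := Fact.out
  have hne : N ≠ ⊥ := by
    intro h
    rw [h, Subgroup.card_bot] at hN
    exact hp.one_lt.ne hN
  have h1 := Cfsg.Agent.Helper19.normal_inf_center_ne_bot hP N hne
  have h2 : Nat.card ↥(N ⊓ Subgroup.center P) ∣ p := by
    rw [← hN]; exact Subgroup.card_dvd_of_le inf_le_left
  rcases (Nat.dvd_prime hp).mp h2 with h3 | h3
  · exact absurd (Subgroup.card_eq_one.mp h3) h1
  · have : N ⊓ Subgroup.center P = N :=
      Subgroup.eq_of_le_of_card_ge inf_le_left (by rw [h3, hN])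
    rw [← this]; exact inf_le_right

/-- commutators with a normal subgroup of order `p ^ 2` of a `p`-group are central -/
theorem comm_mem_center_of_card_sq (hP : IsPGroup p P) (U : Subgroup P) [hUn : U.Normal]
    (hU : Nat.card U = p ^ 2) (u : P) (hu : u ∈ U) (s : P) :
    s * u * s⁻¹ * u⁻¹ ∈ U ⊓ Subgroup.center P := by
  have hp : p.Prime := Fact.out
  have hUne : U ≠ ⊥ := by
    intro h
    rw [h, Subgroup.card_bot] at hU
    have : 1 < p ^ 2 := Nat.one_lt_pow (by norm_num) hp.one_lt
    omega
  set W := U ⊓ Subgroup.center P with hW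
  have hWne : W ≠ ⊥ := Cfsg.Agent.Helper19.normal_inf_center_ne_bot hP U hUne
  have hsU : s * u * s⁻¹ * u⁻¹ ∈ U := U.mul_mem (hUn.conj_mem u hu s) (U.inv_mem hu)
  have hWd : Nat.card W ∣ p ^ 2 := by
    rw [← hU]; exact Subgroup.card_dvd_of_le inf_le_left
  obtain ⟨j, hj2, hj⟩ := (Nat.dvd_prime_pow hp).mp hWd
  have hj0 : j ≠ 0 := by
    intro h0
    rw [h0, pow_zero] at hj
    exact hWne (Subgroup.card_eq_one.mp hj)
  rcases (by omega : j = 1 ∨ j = 2) with h1 | h2
  · -- |W| = p
    rw [h1, pow_one] at hj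
    haveI hWn : W.Normal := inferInstance
    have hrel : W.relIndex U = p := by
      have h3 := Subgroup.relIndex_mul_relIndex (⊥ : Subgroup P) W U bot_le inf_le_left
      rw [Subgroup.relIndex_bot_left, Subgroup.relIndex_bot_left, hj, hU, pow_two] at h3
      exact Nat.eq_of_mul_eq_mul_left hp.pos h3
    have hcard : Nat.card (U.map (QuotientGroup.mk' W)) = p := by
      rw [← relIndex_eq_card_map_mk, hrel]
    haveI : (U.map (QuotientGroup.mk' W)).Normal :=
      Subgroup.Normal.map hUn _ (QuotientGroup.mk'_surjective W)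
    have hPq : IsPGroup p (P ⧸ W) := hP.to_quotient W
    have hcen := le_center_of_card_prime hPq (U.map (QuotientGroup.mk' W)) hcard
    have hmem : QuotientGroup.mk' W u ∈ Subgroup.center (P ⧸ W) := hcen ⟨u, hu, rfl⟩
    rw [Subgroup.mem_center_iff] at hmem
    have h4 := hmem (QuotientGroup.mk' W s)
    -- mk (s u s⁻¹ u⁻¹) = 1
    have h5 : QuotientGroup.mk' W (s * u * s⁻¹ * u⁻¹) = 1 := by
      rw [map_mul, map_mul, map_mul, map_inv, map_inv, h4]
      group
    rw [QuotientGroup.mk'_apply, QuotientGroup.eq_one_iff] at h5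
    exact h5
  · -- W = U: U central
    rw [h2] at hj
    have hWU : W = U := Subgroup.eq_of_le_of_card_ge inf_le_left (by rw [hj, hU])
    have huc : u ∈ Subgroup.center P := by
      have : u ∈ W := by rw [hWU]; exact hu
      exact (Subgroup.mem_inf.mp this).2
    rw [Subgroup.mem_center_iff] at huc
    have : s * u * s⁻¹ * u⁻¹ = 1 := by
      rw [huc s]; group
    rw [this]; exact Subgroup.one_mem _

end PGroup

section Sigma

universe u

variable {G : Type u} [Group G] [Finite G] {p : ℕ} [Fact p.Prime] {M : Subgroup G}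

open scoped Pointwise in
theorem smul_eq_map_conj (g : G) (X : Subgroup G) :
    MulAut.conj g • X = X.map (MulAut.conj g).toMonoidHom := rfl

/-- `p ∈ σ(M)` gives a Sylow `p`-subgroup of `G` inside `M` with normalizer in `M`. -/
theorem exists_sylow_of_mem_sigma (hp : p ∈ sigma M) :
    ∃ S0 : Sylow p G, (S0 : Subgroup G) ≤ M ∧
      Subgroup.normalizer ((S0 : Subgroup G) : Set G) ≤ M := by
  obtain ⟨-, -, P, hP⟩ := hp
  set P0 : Subgroup G := (P : Subgroup M).map M.subtype with hP0
  have hP0M : P0 ≤ M := Subgroup.map_subtype_le _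
  have hP0p : IsPGroup p P0 := P.isPGroup'.map M.subtype
  obtain ⟨S, hS⟩ := hP0p.exists_le_sylow
  have key : (S : Subgroup G) = P0 := by
    apply Cfsg.Agent.Helper15.eq_of_inf_normalizer_eq S.isPGroup' hS
    apply le_antisymm _ (le_inf hS Subgroup.le_normalizer)
    -- S ⊓ N(P0) is a p-subgroup of M containing P0
    set Y := (S : Subgroup G) ⊓ Subgroup.normalizer (P0 : Set G) with hY
    have hYM : Y ≤ M := inf_le_right.trans hP
    have hYp : IsPGroup p Y := S.isPGroup'.to_le inf_le_left
    have hPY : (P : Subgroup M) ≤ Y.subgroupOf M := by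
      intro x hx
      rw [Subgroup.mem_subgroupOf]
      exact le_inf hS Subgroup.le_normalizer ⟨x, hx, rfl⟩
    have hYp' : IsPGroup p (Y.subgroupOf M) :=
      hYp.comap_of_injective M.subtype M.subtype_injective
    have := P.is_maximal' hYp' hPY
    intro y hy
    have hy' : (⟨y, hYM hy⟩ : M) ∈ Y.subgroupOf M := by
      rw [Subgroup.mem_subgroupOf]; exact hy
    rw [this] at hy'
    exact ⟨⟨y, hYM hy⟩, hy', rfl⟩
  refine ⟨S, ?_, ?_⟩
  · rw [key]; exact hP0M
  · rw [key]; exact hP

end Sigma

end Cfsg.Agent.Helper24.BG101
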