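import Mathlib
import Cfsg.Prelude.Def_OddOrderLocal
import Cfsg.Agent.Lib.Helper24.BG101C

/-!
# BG Theorem 10.1, part D (helper24): Sylow subgroups of `G` inside `M`, for `p ∈ σ(M)`
-/

set_option autoImplicit false
set_option linter.style.haveILetI false
set_option linter.unusedSectionVars false

namespace Cfsg.Agent.Helper24.BG101

open Cfsg
open scoped Pointwise

universe u

variable {G : Type u} [Group G] [Finite G] {p : ℕ} [Fact p.Prime] {M : Subgroup G}

theorem mem_map_conj_iff {X : Subgroup G} {g y : G} :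
    y ∈ X.map (MulAut.conj g).toMonoidHom ↔ g⁻¹ * y * g ∈ X := by
  constructor
  · rintro ⟨x, hx, rfl⟩
    have : g⁻¹ * ((MulAut.conj g).toMonoidHom x) * g = x := by
      simp [MulAut.conj_apply]; group
    rw [this]; exact hx
  · intro h
    refine ⟨g⁻¹ * y * g, h, ?_⟩
    simp [MulAut.conj_apply]; group

theorem map_conj_le_of_mem {X : Subgroup G} {g : G} (hg : g ∈ M) (hX : X ≤ M) :
    X.map (MulAut.conj g).toMonoidHom ≤ M := by
  rintro _ ⟨x, hx, rfl⟩
  simp only [MulEquiv.coe_toMonoidHom, MulAut.conj_apply]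
  exact M.mul_mem (M.mul_mem hg (hX hx)) (M.inv_mem hg)

theorem map_conj_map_conj (X : Subgroup G) (a b : G) :
    (X.map (MulAut.conj a).toMonoidHom).map (MulAut.conj b).toMonoidHom =
      X.map (MulAut.conj (b * a)).toMonoidHom := by
  rw [Subgroup.map_map]
  congr 1
  ext x
  simp [MulAut.conj_apply, mul_assoc]

theorem map_conj_one (X : Subgroup G) : X.map (MulAut.conj (1 : G)).toMonoidHom = X := by
  ext y
  rw [mem_map_conj_iff]; simp

theorem card_map_conj (X : Subgroup G) (g : G) :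
    Nat.card ↥(X.map (MulAut.conj g).toMonoidHom) = Nat.card X :=
  Subgroup.card_map_of_injective (MulAut.conj g).injective

theorem isPGroup_map_conj {X : Subgroup G} (hX : IsPGroup p X) (g : G) :
    IsPGroup p ↥(X.map (MulAut.conj g).toMonoidHom) := hX.map _

theorem sylow_smul_coe (S : Sylow p G) (g : G) :
    ((g • S : Sylow p G) : Subgroup G) = (S : Subgroup G).map (MulAut.conj g).toMonoidHom := by
  rw [Sylow.coe_subgroup_smul]; rfl

/-- every `p`-subgroup is conjugate into a given Sylow `p`-subgroup -/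
theorem exists_map_conj_le_sylow (S0 : Sylow p G) {Y : Subgroup G} (hY : IsPGroup p Y) :
    ∃ h : G, Y.map (MulAut.conj h).toMonoidHom ≤ S0 := by
  obtain ⟨S', hS'⟩ := hY.exists_le_sylow
  obtain ⟨g, hg⟩ := MulAction.exists_smul_eq G S' S0
  refine ⟨g, ?_⟩
  have h1 : Y.map (MulAut.conj g).toMonoidHom ≤ (S' : Subgroup G).map (MulAut.conj g).toMonoidHom :=
    Subgroup.map_mono hS'
  rw [← sylow_smul_coe, hg] at h1
  exact h1

/-- two Sylow `p`-subgroups of `G` inside `M` are conjugate under `M` -/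
theorem exists_smul_eq_of_le (S S' : Sylow p G) (hS : (S : Subgroup G) ≤ M)
    (hS' : (S' : Subgroup G) ≤ M) : ∃ m : G, m ∈ M ∧ m • S = S' := by
  obtain ⟨m, hm⟩ := MulAction.exists_smul_eq ↥M (S.subtype hS) (S'.subtype hS')
  refine ⟨(m : G), m.2, ?_⟩
  rw [Sylow.smul_subtype] at hm
  have := Sylow.subtype_injective hm
  exact this

theorem normalizer_sylow_le (S0 : Sylow p G) (h0 : (S0 : Subgroup G) ≤ M)
    (hN0 : Subgroup.normalizer ((S0 : Subgroup G) : Set G) ≤ M) (S : Sylow p G)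
    (hS : (S : Subgroup G) ≤ M) : Subgroup.normalizer ((S : Subgroup G) : Set G) ≤ M := by
  obtain ⟨m, hmM, hm⟩ := exists_smul_eq_of_le S0 S h0 hS
  intro x hx
  have hx' : x • S = S := Sylow.smul_eq_iff_mem_normalizer.mpr hx
  have h1 : (m⁻¹ * x * m) • S0 = S0 := by
    rw [mul_smul, mul_smul, hm, hx', ← hm, smul_smul, inv_mul_cancel, one_smul]
  have h2 : m⁻¹ * x * m ∈ M := hN0 (Sylow.smul_eq_iff_mem_normalizer.mp h1)
  have : x = m * (m⁻¹ * x * m) * m⁻¹ := by group
  rw [this]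
  exact M.mul_mem (M.mul_mem hmM h2) (M.inv_mem hmM)

/-- every `p`-subgroup of `M` lies in a Sylow `p`-subgroup of `G` inside `M` -/
theorem exists_sylow_ge (S0 : Sylow p G) (h0 : (S0 : Subgroup G) ≤ M) {Y : Subgroup G}
    (hY : IsPGroup p Y) (hYM : Y ≤ M) : ∃ S : Sylow p G, Y ≤ S ∧ (S : Subgroup G) ≤ M := by
  have hY' : IsPGroup p (Y.subgroupOf M) :=
    hY.comap_of_injective M.subtype M.subtype_injective
  obtain ⟨P', hP'⟩ := hY'.exists_le_sylow
  obtain ⟨m, hm⟩ := MulAction.exists_smul_eq ↥M (S0.subtype h0) P'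
  rw [Sylow.smul_subtype] at hm
  refine ⟨(m : G) • S0, ?_, Sylow.smul_le h0 m⟩
  intro y hy
  have h1 : (⟨y, hYM hy⟩ : M) ∈ (P' : Subgroup M) := hP' (by rw [Subgroup.mem_subgroupOf]; exact hy)
  rw [← hm, Sylow.coe_subtype, Subgroup.mem_subgroupOf] at h1
  exact h1

/-- if a Sylow `p`-subgroup `S ≤ M` of `G` has a conjugate in `M`, the conjugating element is
in `M` (given `N(S) ≤ M`) -/
theorem mem_of_map_conj_sylow_le (S : Sylow p G) (hS : (S : Subgroup G) ≤ M)
    (hNS : Subgroup.normalizer ((S : Subgroup G) : Set G) ≤ M) (g : G)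
    (hg : (S : Subgroup G).map (MulAut.conj g).toMonoidHom ≤ M) : g ∈ M := by
  have hgS : ((g • S : Sylow p G) : Subgroup G) ≤ M := by rw [sylow_smul_coe]; exact hg
  obtain ⟨m, hmM, hm⟩ := exists_smul_eq_of_le S (g • S) hS hgS
  have h1 : (m⁻¹ * g) • S = S := by
    rw [mul_smul, ← hm, smul_smul, inv_mul_cancel, one_smul]
  have h2 : m⁻¹ * g ∈ M := hNS (Sylow.smul_eq_iff_mem_normalizer.mp h1)
  have : g = m * (m⁻¹ * g) := by group
  rw [this]
  exact M.mul_mem hmM h2

end Cfsg.Agent.Helper24.BG101
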