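import Mathlib
import Cfsg.Prelude.Def_OddOrderLocal
import Cfsg.Agent.Lib.Helper24.BG101A
import Cfsg.Agent.Lib.Helper24.BG101B
import Cfsg.Agent.Lib.Helper24.BG101D
import Cfsg.Agent.Lib.Helper14.BGUniqM
import Cfsg.Agent.S1337
import Cfsg.Agent.S1452

/-!
# BG Theorem 10.1, part E (helper24): the uniqueness subgroup `Z2` of a Sylow subgroup of rank `≥ 3`
-/

set_option autoImplicit false
set_option linter.style.haveILetI false
set_option linter.unusedSectionVars false

namespace Cfsg.Agent.Helper24.BG101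

open Cfsg
open Cfsg.Agent.Helper14.BGUniq

universe u

variable {G : Type u} [Group G] [Finite G] {p : ℕ} [Fact p.Prime]

/-- the statement of the Uniqueness Theorem (S1403), as a hypothesis -/
def UniqHyp (G : Type u) [Group G] : Prop :=
  ∀ K : Subgroup G, K ≠ ⊤ → ¬ RankLE 1 K →
    (¬ RankLE 2 K ∨ ¬ RankLE 2 (Subgroup.centralizer (K : Set G))) → InUniqueMaximal K

theorem exists_Z2 (hU : UniqHyp G) (hp2 : p ≠ 2) (S1 : Subgroup G)
    (hS1 : IsPGroup p S1) (hS1top : S1 ≠ ⊤) (hrk : ¬ PRankLE p 2 ↥S1) :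
    ∃ Z2 : Subgroup G, Z2 ≤ S1 ∧ IsMulCommutative Z2 ∧ InUniqueMaximal Z2 ∧
      ∀ z ∈ Z2, ∀ s ∈ S1, s * z * s⁻¹ * z⁻¹ ∈
        Z2 ⊓ (S1 ⊓ Subgroup.centralizer (S1 : Set G)) := by
  have hp : p.Prime := Fact.out
  obtain ⟨U, hUn, hUe, hU2, -⟩ := Cfsg.Agent.S1337.result (P := ↥S1) p hS1 hrk
  haveI := hUn
  obtain ⟨A, hUA, hAn, hAC, hA3⟩ := Cfsg.Agent.S1452.result (R := ↥S1) p hp2 hS1 hrk U hUe hU2
  have hZ2e : IsElementaryAbelian p (U.map S1.subtype) := by
    refine ⟨?_, ?_⟩
    · haveI := hUe.1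
      exact Subgroup.map_isMulCommutative U S1.subtype
    · rintro _ ⟨a, ha, rfl⟩
      have := hUe.2 a ha
      have h2 := congrArg Subtype.val this
      simpa using h2
  have hZ2card : Nat.card ↥(U.map S1.subtype) = p ^ 2 := by
    rw [Subgroup.card_map_of_injective S1.subtype_injective, hU2]
  have hZ2le : U.map S1.subtype ≤ S1 := Subgroup.map_subtype_le _
  refine ⟨U.map S1.subtype, hZ2le, hZ2e.1, ?_, ?_⟩
  · apply hU
    · intro h
      apply hS1top
      rw [eq_top_iff, ← h]; exact hZ2le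
    · apply not_rankLE_of_lt (le_refl _) hZ2e
      rw [hZ2card, pow_one]
      have h1 : 1 < p := hp.one_lt
      nlinarith
    · right
      obtain ⟨B, hBA, hBe, hBcard⟩ := exists_elemAb_of_not_pRankLE (G := ↥S1) (Z := A) hA3
      have hB1e : IsElementaryAbelian p (B.map S1.subtype) := by
        refine ⟨?_, ?_⟩
        · haveI := hBe.1
          exact Subgroup.map_isMulCommutative B S1.subtype
        · rintro _ ⟨a, ha, rfl⟩
          have := hBe.2 a ha
          have h2 := congrArg Subtype.val this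
          simpa using h2
      have hB1card : p ^ 2 < Nat.card ↥(B.map S1.subtype) := by
        rw [Subgroup.card_map_of_injective S1.subtype_injective]; exact hBcard
      have hB1le : B.map S1.subtype ≤ Subgroup.centralizer ((U.map S1.subtype : Subgroup G) : Set G) := by
        rintro _ ⟨b, hb, rfl⟩
        rw [Subgroup.mem_centralizer_iff]
        rintro _ ⟨u, hu, rfl⟩
        have hbA : b ∈ Subgroup.centralizer (A : Set ↥S1) := by rw [hAC]; exact hBA hb
        rw [Subgroup.mem_centralizer_iff] at hbA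
        have := hbA u (hUA hu)
        have h2 := congrArg Subtype.val this
        simpa using h2
      exact not_rankLE_of_lt hB1le hB1e hB1card
  · rintro _ ⟨u, hu, rfl⟩ s hs
    have key := comm_mem_center_of_card_sq hS1 U hU2 u hu ⟨s, hs⟩
    obtain ⟨hk1, hk2⟩ := Subgroup.mem_inf.mp key
    refine Subgroup.mem_inf.mpr ⟨⟨_, hk1, ?_⟩, Subgroup.mem_inf.mpr ⟨?_, ?_⟩⟩
    · simp
    · have : s * S1.subtype u * s⁻¹ * (S1.subtype u)⁻¹ =
          ((⟨s, hs⟩ * u * (⟨s, hs⟩ : ↥S1)⁻¹ * u⁻¹ : ↥S1) : G) := by simp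
      rw [this]; exact Subtype.property _
    · rw [Subgroup.mem_centralizer_iff]
      intro t ht
      rw [Subgroup.mem_center_iff] at hk2
      have := hk2 ⟨t, ht⟩
      have h2 := congrArg Subtype.val this
      simpa using h2

end Cfsg.Agent.Helper24.BG101
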