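import Mathlib
import Cfsg.Prelude.Def_OddOrderLocal
import Cfsg.Agent.Lib.Helper24.BG101E
import Cfsg.Agent.S1450

/-!
# BG Theorem 10.1, part F (helper24): `N(X) = N_M(X) C(X)` from the inductive hypothesis
-/

set_option autoImplicit false
set_option linter.style.haveILetI false
set_option linter.unusedSectionVars false

namespace Cfsg.Agent.Helper24.BG101

open Cfsg
open Cfsg.Agent.Helper14.BGUniq

universe u

section Abstract

variable {H : Type*} [Group H] [Finite H] (p : ℕ) [Fact p.Prime]

/-- a Sylow `p`-subgroup lies in every normal subgroup of index prime to `p` -/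
theorem sylow_le_of_coprime_index (Q : Sylow p H) (L : Subgroup H) [L.Normal]
    (h : (L.index).Coprime p) : (Q : Subgroup H) ≤ L := by
  have hp : p.Prime := Fact.out
  rw [← Subgroup.relIndex_eq_one]
  have h1 : L.relIndex (Q : Subgroup H) ∣ L.index := Subgroup.relIndex_dvd_index_of_normal L _
  have h2 : L.relIndex (Q : Subgroup H) ∣ Nat.card (Q : Subgroup H) := Subgroup.relIndex_dvd_card L _
  obtain ⟨k, hk⟩ := Q.isPGroup'.exists_card_eq
  rw [hk] at h2
  obtain ⟨j, -, hj⟩ := (Nat.dvd_prime_pow hp).mp h2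
  rcases Nat.eq_zero_or_pos j with h0 | hpos
  · rw [hj, h0, pow_zero]
  · exfalso
    have h3 : p ∣ L.index := dvd_trans (by rw [hj]; exact dvd_pow_self p hpos.ne') h1
    have h4 : p ∣ Nat.gcd L.index p := Nat.dvd_gcd h3 dvd_rfl
    rw [h] at h4
    exact hp.one_lt.ne' (Nat.dvd_one.mp h4)

end Abstract

variable {G : Type u} [Group G] [Finite G] {p : ℕ} [Fact p.Prime] {M : Subgroup G}

theorem star (hG : IsMinSimpleOddOrder G) (hM : IsCoatom M) (hU : UniqHyp G) (hp2 : p ≠ 2)
    (X : Subgroup G) (hXp : IsPGroup p X) (hX1 : X ≠ ⊥) (hXM : X ≤ M)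
    (Q : Sylow p ↥(Subgroup.normalizer (X : Set G)))
    (hQM : (Q : Subgroup ↥(Subgroup.normalizer (X : Set G))).map
      (Subgroup.normalizer (X : Set G)).subtype ≤ M)
    (hQX : Nat.card X < Nat.card (Q : Subgroup ↥(Subgroup.normalizer (X : Set G))))
    (S1 : Sylow p G)
    (hQS1 : (Q : Subgroup ↥(Subgroup.normalizer (X : Set G))).map
      (Subgroup.normalizer (X : Set G)).subtype ≤ S1)
    (IH : ∀ Y : Subgroup G, IsPGroup p Y → Y ≤ M → Nat.card X < Nat.card Y → ∀ g : G,
      Y.map (MulAut.conj g).toMonoidHom ≤ M →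
        ∃ m ∈ M, ∃ c ∈ Subgroup.centralizer (Y : Set G), g = m * c) :
    ∀ n ∈ Subgroup.normalizer (X : Set G),
      ∃ m ∈ M, ∃ c ∈ Subgroup.centralizer (X : Set G), n = m * c := by
  have hp : p.Prime := Fact.out
  have hXtop : X ≠ ⊤ := fun h => hM.1 (eq_top_iff.mpr (h ▸ hXM))
  have hNtop : Subgroup.normalizer (X : Set G) ≠ ⊤ := by
    intro h
    have hn : X.Normal := Subgroup.normalizer_eq_top_iff.mp h
    haveI := hG.2.1
    rcases hn.eq_bot_or_eq_top with h1 | h1
    · exact hX1 h1
    · exact hXtop h1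
  have hsolv : Group.IsSolvable ↥(Subgroup.normalizer (X : Set G)) := hG.2.2.2 _ hNtop
  have hodd : Odd (Nat.card ↥(Subgroup.normalizer (X : Set G))) :=
    Odd.of_dvd_nat hG.1 (Subgroup.card_subgroup_dvd_card _)
  -- X as a normal subgroup of N
  have hXle : X ≤ Subgroup.normalizer (X : Set G) := Subgroup.le_normalizer
  haveI hXNn : (X.subgroupOf (Subgroup.normalizer (X : Set G))).Normal :=
    Subgroup.normal_in_normalizer
  have hXNp : IsPGroup p ↥(X.subgroupOf (Subgroup.normalizer (X : Set G))) :=
    hXp.comap_of_injective _ (Subgroup.subtype_injective _)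
  have hXNcard : Nat.card ↥(X.subgroupOf (Subgroup.normalizer (X : Set G))) = Nat.card X :=
    Nat.card_congr (Subgroup.subgroupOfEquivOfLe hXle).toEquiv
  have hmemXN : ∀ y : ↥(Subgroup.normalizer (X : Set G)),
      y ∈ X.subgroupOf (Subgroup.normalizer (X : Set G)) ↔ (y : G) ∈ X := fun y =>
    Subgroup.mem_subgroupOf
  -- K ≤ C(X)
  have hKcop : (Nat.card ↥(pPrimeCore p ↥(Subgroup.normalizer (X : Set G)))).Coprime
      (Nat.card ↥(X.subgroupOf (Subgroup.normalizer (X : Set G)))) := by
    obtain ⟨k, hk⟩ := hXNp.exists_card_eq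
    rw [hk]
    exact Nat.Coprime.pow_right k (Cfsg.Agent.Helper22.card_pPrimeCore_coprime p)
  have hKX : pPrimeCore p ↥(Subgroup.normalizer (X : Set G)) ⊓
      X.subgroupOf (Subgroup.normalizer (X : Set G)) = ⊥ :=
    (Subgroup.disjoint_of_coprime_natCard hKcop).eq_bot
  have hKC : ∀ k ∈ pPrimeCore p ↥(Subgroup.normalizer (X : Set G)),
      (k : G) ∈ Subgroup.centralizer (X : Set G) := by
    intro k hk
    rw [Subgroup.mem_centralizer_iff]
    intro x hx
    have hKn : (pPrimeCore p ↥(Subgroup.normalizer (X : Set G))).Normal := inferInstance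
    set x' : ↥(Subgroup.normalizer (X : Set G)) := ⟨x, hXle hx⟩ with hx'
    have hx'X : x' ∈ X.subgroupOf (Subgroup.normalizer (X : Set G)) := (hmemXN x').mpr hx
    have h1 : k * x' * k⁻¹ * x'⁻¹ ∈ pPrimeCore p ↥(Subgroup.normalizer (X : Set G)) := by
      have := hKn.conj_mem k⁻¹ (Subgroup.inv_mem _ hk) x'
      have h2 := Subgroup.mul_mem _ hk this
      convert h2 using 1
      group
    have h2 : k * x' * k⁻¹ * x'⁻¹ ∈ X.subgroupOf (Subgroup.normalizer (X : Set G)) :=
      Subgroup.mul_mem _ (hXNn.conj_mem x' hx'X k) (Subgroup.inv_mem _ hx'X)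
    have h3 : k * x' * k⁻¹ * x'⁻¹ = 1 := by
      have : k * x' * k⁻¹ * x'⁻¹ ∈ pPrimeCore p ↥(Subgroup.normalizer (X : Set G)) ⊓
          X.subgroupOf (Subgroup.normalizer (X : Set G)) := Subgroup.mem_inf.mpr ⟨h1, h2⟩
      rw [hKX, Subgroup.mem_bot] at this
      exact this
    have h4 : k * x' = x' * k := by
      calc k * x' = (k * x' * k⁻¹ * x'⁻¹) * x' * k := by group
        _ = x' * k := by rw [h3, one_mul]
    have h5 := congrArg Subtype.val h4
    simp only [Subgroup.coe_mul, hx'] at h5
    exact h5.symm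
  -- XN ≤ Q, XN ≤ L
  have hXNQ : X.subgroupOf (Subgroup.normalizer (X : Set G)) ≤ (Q : Subgroup _) :=
    hXNp.le_sylow_of_normal Q
  have hXNL : X.subgroupOf (Subgroup.normalizer (X : Set G)) ≤
      pPrimePCore p ↥(Subgroup.normalizer (X : Set G)) := by
    apply le_pPrimePCore_of_pow_mem
    intro r hr
    obtain ⟨k, hk⟩ := hXNp ⟨r, hr⟩
    refine ⟨k, ?_⟩
    have h2 := congrArg Subtype.val hk
    simp only [Subgroup.coe_pow, Subgroup.coe_one] at h2
    rw [h2]; exact Subgroup.one_mem _
  have hXNT : X.subgroupOf (Subgroup.normalizer (X : Set G)) ≤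
      (Q : Subgroup _) ⊓ pPrimePCore p ↥(Subgroup.normalizer (X : Set G)) := le_inf hXNQ hXNL
  have hXQ1 : X ≤ (Q : Subgroup ↥(Subgroup.normalizer (X : Set G))).map
      (Subgroup.normalizer (X : Set G)).subtype := by
    intro x hx
    exact ⟨⟨x, hXle hx⟩, hXNQ ((hmemXN _).mpr hx), rfl⟩
  by_cases hT : (Q : Subgroup _) ⊓ pPrimePCore p ↥(Subgroup.normalizer (X : Set G)) =
      X.subgroupOf (Subgroup.normalizer (X : Set G))
  · -- the hard case: `N(X) ≤ M`
    have hL : pPrimePCore p ↥(Subgroup.normalizer (X : Set G)) =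
        pPrimeCore p ↥(Subgroup.normalizer (X : Set G)) ⊔
          X.subgroupOf (Subgroup.normalizer (X : Set G)) := by
      have := pPrimePCore_eq_sup p Q
      rwa [hT] at this
    have hpN : p ∣ Nat.card ↥(Subgroup.normalizer (X : Set G)) := by
      have h1 : Nat.card X ∣ Nat.card ↥(Subgroup.normalizer (X : Set G)) :=
        Subgroup.card_dvd_of_le hXle
      refine dvd_trans ?_ h1
      rcases hXp.card_eq_or_dvd with h2 | h2
      · exact absurd (Subgroup.card_eq_one.mp h2) hX1
      · exact h2
    by_cases hr : PRankLE p 2 ↥(Subgroup.normalizer (X : Set G))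
    · exfalso
      haveI := hsolv
      have h1450 := Cfsg.Agent.S1450.result hodd p hpN hr
      have hcop := h1450.2.2.2.2.2
      have hQL := sylow_le_of_coprime_index p Q _ hcop
      have hQeq : (Q : Subgroup _) = X.subgroupOf (Subgroup.normalizer (X : Set G)) := by
        rw [← hT]; exact (inf_eq_left.mpr hQL).symm
      rw [hQeq, hXNcard] at hQX
      exact lt_irrefl _ hQX
    · -- rank ≥ 3
      suffices hNM : Subgroup.normalizer (X : Set G) ≤ M by
        intro n hn
        exact ⟨n, hNM hn, 1, Subgroup.one_mem _, (mul_one n).symm⟩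
      have hS1p : IsPGroup p ↥(S1 : Subgroup G) := S1.isPGroup'
      -- S1 ⊓ N, as a subgroup of N, equals Q
      have hS1Q : ((S1 : Subgroup G) ⊓ Subgroup.normalizer (X : Set G)).subgroupOf
          (Subgroup.normalizer (X : Set G)) = (Q : Subgroup _) := by
        apply Q.is_maximal'
        · exact (hS1p.to_le inf_le_left).comap_of_injective _ (Subgroup.subtype_injective _)
        · intro y hy
          rw [Subgroup.mem_subgroupOf]
          exact Subgroup.mem_inf.mpr ⟨hQS1 ⟨y, hy, rfl⟩, y.2⟩
      have hmemQ : ∀ s : G, s ∈ (S1 : Subgroup G) → ∀ hs : s ∈ Subgroup.normalizer (X : Set G),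
          (⟨s, hs⟩ : ↥(Subgroup.normalizer (X : Set G))) ∈ (Q : Subgroup _) := by
        intro s hs1 hs
        rw [← hS1Q, Subgroup.mem_subgroupOf]
        exact Subgroup.mem_inf.mpr ⟨hs1, hs⟩
      have hXS1 : X ≤ (S1 : Subgroup G) := hXQ1.trans hQS1
      -- rank of S1
      have hS1rk : ¬ PRankLE p 2 ↥(S1 : Subgroup G) := by
        unfold PRankLE at hr
        push Not at hr
        obtain ⟨E, hEc, hEp, hEcard⟩ := hr
        have hEpg : IsPGroup p E := by
          intro e
          refine ⟨1, ?_⟩
          rw [pow_one]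
          exact Subtype.ext (by simpa using hEp e e.2)
        obtain ⟨h, hh⟩ := exists_map_conj_le_sylow Q hEpg
        set E1 : Subgroup G := (E.map (MulAut.conj h).toMonoidHom).map
          (Subgroup.normalizer (X : Set G)).subtype with hE1
        have hE1S : E1 ≤ (S1 : Subgroup G) := (Subgroup.map_mono hh).trans hQS1
        have hE1e : IsElementaryAbelian p E1 := by
          refine ⟨?_, ?_⟩
          · haveI := hEc
            haveI : IsMulCommutative ↥(E.map (MulAut.conj h).toMonoidHom) :=
              Subgroup.map_isMulCommutative E _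
            exact Subgroup.map_isMulCommutative _ _
          · rintro _ ⟨_, ⟨e, he, rfl⟩, rfl⟩
            have := hEp e he
            rw [← map_pow, ← map_pow, this, map_one, map_one]
        have hE1card : p ^ 2 < Nat.card ↥E1 := by
          rw [hE1, Subgroup.card_map_of_injective (Subgroup.subtype_injective _),
            Subgroup.card_map_of_injective (MulAut.conj h).injective]
          exact hEcard
        exact not_pRankLE_of_le hE1S hE1e hE1card
      have hS1top : (S1 : Subgroup G) ≠ ⊤ := by
        intro h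
        have hsimple := hG.2.1
        have hne := hG.2.2.1
        -- a p-group is solvable, G is not
        have hnil : Group.IsNilpotent ↥(S1 : Subgroup G) := hS1p.isNilpotent
        have hsol : Group.IsSolvable ↥(S1 : Subgroup G) := inferInstance
        have hsolG : Group.IsSolvable G := by
          have e : ↥(⊤ : Subgroup G) ≃* G := Subgroup.topEquiv
          rw [h] at hsol
          exact Group.isSolvable_of_surjective (f := e.toMonoidHom) e.surjective
        haveI := hsimple
        exact hne ⟨⟨IsSimpleGroup.comm_iff_isSolvable.mpr hsolG⟩⟩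
      obtain ⟨Z2, hZ2S, hZ2c, hZ2U, hZ2comm⟩ := exists_Z2 hU hp2 (S1 : Subgroup G) hS1p hS1top hS1rk
      -- C_{S1}(X) ≤ X
      have hCX : ∀ s ∈ (S1 : Subgroup G), s ∈ Subgroup.centralizer (X : Set G) → s ∈ X := by
        intro s hs hsc
        have hsN : s ∈ Subgroup.normalizer (X : Set G) :=
          (Subgroup.centralizer_le_normalizer (X : Set G)) hsc
        have h1 : (⟨s, hsN⟩ : ↥(Subgroup.normalizer (X : Set G))) ∈
            Subgroup.centralizer ((X.subgroupOf (Subgroup.normalizer (X : Set G)) : Subgroup _) :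
              Set ↥(Subgroup.normalizer (X : Set G))) := by
          rw [Subgroup.mem_centralizer_iff]
          intro y hy
          rw [Subgroup.mem_centralizer_iff] at hsc
          exact Subtype.ext (hsc (y : G) ((hmemXN y).mp hy))
        have h2 := centralizer_le_pPrimePCore p hsolv _ hL h1
        have h3 := hmemQ s hs hsN
        have h4 : (⟨s, hsN⟩ : ↥(Subgroup.normalizer (X : Set G))) ∈
            (Q : Subgroup _) ⊓ pPrimePCore p ↥(Subgroup.normalizer (X : Set G)) :=
          Subgroup.mem_inf.mpr ⟨h3, h2⟩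
        rw [hT] at h4
        exact (hmemXN _).mp h4
      -- commutators of X and Z2 lie in X ∩ Z2
      have hcomm : ∀ z ∈ Z2, ∀ x ∈ X, x * z * x⁻¹ * z⁻¹ ∈ Z2 ∧ x * z * x⁻¹ * z⁻¹ ∈ X := by
        intro z hz x hx
        have h1 := hZ2comm z hz x (hXS1 hx)
        obtain ⟨h2, h3⟩ := Subgroup.mem_inf.mp h1
        obtain ⟨h4, h5⟩ := Subgroup.mem_inf.mp h3
        refine ⟨h2, hCX _ h4 ?_⟩
        exact Subgroup.centralizer_le (SetLike.coe_subset_coe.mpr hXS1) h5
      have hconjX : ∀ z ∈ Z2, ∀ x ∈ X, z * x * z⁻¹ ∈ X := by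
        intro z hz x hx
        have h1 := (hcomm z hz x⁻¹ (X.inv_mem hx)).2
        -- x⁻¹ z x z⁻¹ ∈ X, so z x z⁻¹ ∈ X
        have h2 : z * x * z⁻¹ = x * (x⁻¹ * z * x⁻¹⁻¹ * z⁻¹) := by group
        rw [h2]
        exact X.mul_mem hx h1
      have hZ2N : Z2 ≤ Subgroup.normalizer (X : Set G) := by
        intro z hz
        rw [Subgroup.mem_normalizer_iff]
        intro x
        constructor
        · exact hconjX z hz x
        · intro h
          have := hconjX z⁻¹ (Z2.inv_mem hz) _ h
          have h2 : z⁻¹ * (z * x * z⁻¹) * z⁻¹⁻¹ = x := by group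
          rwa [h2] at this
      -- quadratic action
      have hZ2Np : IsPGroup p ↥(Z2.subgroupOf (Subgroup.normalizer (X : Set G))) :=
        (hS1p.to_le hZ2S).comap_of_injective _ (Subgroup.subtype_injective _)
      have hquad : ⁅⁅X.subgroupOf (Subgroup.normalizer (X : Set G)),
          Z2.subgroupOf (Subgroup.normalizer (X : Set G))⁆,
          Z2.subgroupOf (Subgroup.normalizer (X : Set G))⁆ = ⊥ := by
        have h1 : ⁅X.subgroupOf (Subgroup.normalizer (X : Set G)),
            Z2.subgroupOf (Subgroup.normalizer (X : Set G))⁆ ≤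
            Z2.subgroupOf (Subgroup.normalizer (X : Set G)) := by
          rw [Subgroup.commutator_le]
          intro x hx z hz
          rw [Subgroup.mem_subgroupOf]
          have := (hcomm (z : G) (Subgroup.mem_subgroupOf.mp hz) (x : G) ((hmemXN x).mp hx)).1
          rw [commutatorElement_def]
          simpa using this
        have h2 : ⁅Z2.subgroupOf (Subgroup.normalizer (X : Set G)),
            Z2.subgroupOf (Subgroup.normalizer (X : Set G))⁆ = ⊥ := by
          rw [Subgroup.commutator_eq_bot_iff_le_centralizer]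
          intro a ha
          rw [Subgroup.mem_centralizer_iff]
          intro b hb
          apply Subtype.ext
          have hcomm' := hZ2c.is_comm.comm
            (⟨(b : G), Subgroup.mem_subgroupOf.mp hb⟩ : ↥Z2) ⟨(a : G), Subgroup.mem_subgroupOf.mp ha⟩
          have := congrArg Subtype.val hcomm'
          simpa using this
        rw [eq_bot_iff, ← h2]
        exact Subgroup.commutator_mono h1 (le_refl _)
      have hZ2L := le_pPrimePCore_of_quadratic p hodd hsolv hp2 _ _ hXNp hL hZ2Np hquad
      have hZ2X : Z2 ≤ X := by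
        intro z hz
        have hzN := hZ2N hz
        have h1 : (⟨z, hzN⟩ : ↥(Subgroup.normalizer (X : Set G))) ∈
            Z2.subgroupOf (Subgroup.normalizer (X : Set G)) := Subgroup.mem_subgroupOf.mpr hz
        have h2 := hZ2L h1
        have h3 := hmemQ z (hZ2S hz) hzN
        have h4 : (⟨z, hzN⟩ : ↥(Subgroup.normalizer (X : Set G))) ∈
            (Q : Subgroup _) ⊓ pPrimePCore p ↥(Subgroup.normalizer (X : Set G)) :=
          Subgroup.mem_inf.mpr ⟨h3, h2⟩
        rw [hT] at h4
        exact (hmemXN _).mp h4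
      have hXU : InUniqueMaximal X := inUniqueMaximal_of_le hM hXM hZ2X hZ2U
      obtain ⟨M', ⟨hM', hXM'⟩, huniq⟩ := hXU
      have hMM' : M = M' := huniq M ⟨hM, hXM⟩
      apply normalizer_le_of_inUniqueMaximal hG hM hXM
      intro H' hH'
      rw [hMM']
      exact huniq H' hH'
  · -- the Frattini case
    set T' : Subgroup ↥(Subgroup.normalizer (X : Set G)) :=
      (Q : Subgroup _) ⊓ pPrimePCore p ↥(Subgroup.normalizer (X : Set G)) with hT'
    have hTp : IsPGroup p ↥(T'.map (Subgroup.normalizer (X : Set G)).subtype) :=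
      (Q.isPGroup'.to_le inf_le_left).map _
    have hTM : T'.map (Subgroup.normalizer (X : Set G)).subtype ≤ M :=
      (Subgroup.map_mono inf_le_left).trans hQM
    have hXT : X ≤ T'.map (Subgroup.normalizer (X : Set G)).subtype := by
      intro x hx
      exact ⟨⟨x, hXle hx⟩, hXNT ((hmemXN _).mpr hx), rfl⟩
    have hcard : Nat.card X < Nat.card ↥(T'.map (Subgroup.normalizer (X : Set G)).subtype) := by
      rw [Subgroup.card_map_of_injective (Subgroup.subtype_injective _), ← hXNcard]
      by_contra hle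
      push Not at hle
      exact hT (Subgroup.eq_of_le_of_card_ge hXNT hle).symm
    intro n hn
    obtain ⟨n', hn', k, hk, hnk⟩ := exists_mul_of_frattini p Q ⟨n, hn⟩
    have hconj : (T'.map (Subgroup.normalizer (X : Set G)).subtype).map
        (MulAut.conj (n' : G)).toMonoidHom ≤ M := by
      rintro _ ⟨_, ⟨t, ht, rfl⟩, rfl⟩
      apply hTM
      rw [Subgroup.mem_normalizer_iff] at hn'
      refine ⟨n' * t * n'⁻¹, (hn' t).mp ht, ?_⟩
      simp [MulAut.conj_apply]
    obtain ⟨m, hm, c, hc, hmc⟩ := IH _ hTp hTM hcard (n' : G) hconj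
    refine ⟨m, hm, c * (k : G), ?_, ?_⟩
    · exact Subgroup.mul_mem _
        (Subgroup.centralizer_le (SetLike.coe_subset_coe.mpr hXT) hc) (hKC k hk)
    · have := congrArg Subtype.val hnk
      simp only [Subgroup.coe_mul] at this
      rw [this, hmc, mul_assoc]

end Cfsg.Agent.Helper24.BG101
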