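import Mathlib
import Cfsg.Prelude.Def_OddOrderLocal
import Cfsg.Agent.Lib.Helper24.BG101F

/-!
# BG Theorem 10.1, part G (helper24): the induction
-/

set_option autoImplicit false
set_option linter.style.haveILetI false
set_option linter.unusedSectionVars false

namespace Cfsg.Agent.Helper24.BG101

open Cfsg
open Cfsg.Agent.Helper14.BGUniq

universe u

variable {G : Type u} [Group G] [Finite G] {p : ℕ} [Fact p.Prime] {M : Subgroup G}

theorem conj_mem_centralizer_of_mem_normalizer {X : Subgroup G} {a c : G}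
    (ha : a ∈ Subgroup.normalizer (X : Set G)) (hc : c ∈ Subgroup.centralizer (X : Set G)) :
    a⁻¹ * c * a ∈ Subgroup.centralizer (X : Set G) := by
  rw [Subgroup.mem_centralizer_iff] at hc ⊢
  intro x hx
  have h1 : a * x * a⁻¹ ∈ X := (Subgroup.mem_normalizer_iff.mp ha x).mp hx
  have h2 := hc _ h1
  calc x * (a⁻¹ * c * a) = a⁻¹ * ((a * x * a⁻¹) * c) * a := by group
    _ = a⁻¹ * (c * (a * x * a⁻¹)) * a := by rw [h2]
    _ = a⁻¹ * c * a * x := by group

theorem card_lt_card_of_le_of_ne {A B : Subgroup G} (h : A ≤ B) (hne : B ≠ A) :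
    Nat.card A < Nat.card B := by
  by_contra hle
  push Not at hle
  exact hne (Subgroup.eq_of_le_of_card_ge h hle).symm

theorem claim_aux (hG : IsMinSimpleOddOrder G) (hM : IsCoatom M) (hU : UniqHyp G) (hp2 : p ≠ 2)
    (S0 : Sylow p G) (h0 : (S0 : Subgroup G) ≤ M)
    (hN0 : Subgroup.normalizer ((S0 : Subgroup G) : Set G) ≤ M) :
    ∀ (k : ℕ) (X : Subgroup G), Nat.card G - Nat.card X = k → IsPGroup p X → X ≠ ⊥ → X ≤ M →
      ∀ g : G, X.map (MulAut.conj g).toMonoidHom ≤ M →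
        ∃ m ∈ M, ∃ c ∈ Subgroup.centralizer (X : Set G), g = m * c := by
  intro k
  induction k using Nat.strong_induction_on with
  | _ k ih =>
  intro X hk hXp hX1 hXM g hg
  have IH : ∀ Y : Subgroup G, IsPGroup p Y → Y ≤ M → Nat.card X < Nat.card Y → ∀ g' : G,
      Y.map (MulAut.conj g').toMonoidHom ≤ M →
        ∃ m ∈ M, ∃ c ∈ Subgroup.centralizer (Y : Set G), g' = m * c := by
    intro Y hYp hYM hcard g' hg'
    have hY1 : Y ≠ ⊥ := by
      intro h
      rw [h, Subgroup.card_bot] at hcard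
      have := Nat.card_pos (α := X)
      omega
    have hlt : Nat.card G - Nat.card Y < k := by
      have h1 := Subgroup.card_le_card_group Y
      have h2 := Subgroup.card_le_card_group X
      omega
    exact ih _ hlt Y rfl hYp hY1 hYM g' hg'
  obtain ⟨S, hXS, hSM⟩ := exists_sylow_ge S0 h0 hXp hXM
  have hNS := normalizer_sylow_le S0 h0 hN0 S hSM
  by_cases hXeqS : X = (S : Subgroup G)
  · have : g ∈ M := mem_of_map_conj_sylow_le S hSM hNS g (hXeqS ▸ hg)
    exact ⟨g, this, 1, Subgroup.one_mem _, (mul_one g).symm⟩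
  -- `Y = N_S(X) > X`
  have hXle : X ≤ Subgroup.normalizer (X : Set G) := Subgroup.le_normalizer
  have hXY : X ≤ (S : Subgroup G) ⊓ Subgroup.normalizer (X : Set G) := le_inf hXS hXle
  have hYne : (S : Subgroup G) ⊓ Subgroup.normalizer (X : Set G) ≠ X := by
    intro h
    exact hXeqS (Cfsg.Agent.Helper15.eq_of_inf_normalizer_eq S.isPGroup' hXS h).symm
  have hYcard := card_lt_card_of_le_of_ne hXY hYne
  have hYp : IsPGroup p ↥((S : Subgroup G) ⊓ Subgroup.normalizer (X : Set G)) :=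
    S.isPGroup'.to_le inf_le_left
  have hYM : (S : Subgroup G) ⊓ Subgroup.normalizer (X : Set G) ≤ M := inf_le_left.trans hSM
  -- a Sylow subgroup of `N(X)` containing `Y`
  have hYNp : IsPGroup p ↥(((S : Subgroup G) ⊓ Subgroup.normalizer (X : Set G)).subgroupOf
      (Subgroup.normalizer (X : Set G))) :=
    hYp.comap_of_injective _ (Subgroup.subtype_injective _)
  obtain ⟨Q0, hQ0⟩ := hYNp.exists_le_sylow
  have hQ01p : IsPGroup p ↥((Q0 : Subgroup ↥(Subgroup.normalizer (X : Set G))).map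
      (Subgroup.normalizer (X : Set G)).subtype) := Q0.isPGroup'.map _
  have hYQ01 : (S : Subgroup G) ⊓ Subgroup.normalizer (X : Set G) ≤
      (Q0 : Subgroup ↥(Subgroup.normalizer (X : Set G))).map
        (Subgroup.normalizer (X : Set G)).subtype := by
    intro y hy
    have hyN : y ∈ Subgroup.normalizer (X : Set G) := (Subgroup.mem_inf.mp hy).2
    exact ⟨⟨y, hyN⟩, hQ0 (Subgroup.mem_subgroupOf.mpr hy), rfl⟩
  obtain ⟨h, hh⟩ := exists_map_conj_le_sylow S0 hQ01p
  have hYh : ((S : Subgroup G) ⊓ Subgroup.normalizer (X : Set G)).map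
      (MulAut.conj h).toMonoidHom ≤ M := ((Subgroup.map_mono hYQ01).trans hh).trans h0
  obtain ⟨m1, hm1, c1, hc1, hhmc⟩ := IH _ hYp hYM hYcard h hYh
  have hc1X : c1 ∈ Subgroup.centralizer (X : Set G) :=
    Subgroup.centralizer_le (SetLike.coe_subset_coe.mpr hXY) hc1
  have hc1N : c1 ∈ Subgroup.normalizer (X : Set G) :=
    Subgroup.centralizer_le_normalizer (X : Set G) hc1X
  -- `Q = c1 • Q0`
  set Q : Sylow p ↥(Subgroup.normalizer (X : Set G)) :=
    (⟨c1, hc1N⟩ : ↥(Subgroup.normalizer (X : Set G))) • Q0 with hQdef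
  have hQcoe : (Q : Subgroup ↥(Subgroup.normalizer (X : Set G))) =
      (Q0 : Subgroup ↥(Subgroup.normalizer (X : Set G))).map
        (MulAut.conj (⟨c1, hc1N⟩ : ↥(Subgroup.normalizer (X : Set G)))).toMonoidHom :=
    sylow_smul_coe Q0 _
  have hQM : (Q : Subgroup ↥(Subgroup.normalizer (X : Set G))).map
      (Subgroup.normalizer (X : Set G)).subtype ≤ M := by
    rw [hQcoe]
    rintro _ ⟨_, ⟨q0, hq0, rfl⟩, rfl⟩
    have h1 : h * (q0 : G) * h⁻¹ ∈ M := by
      apply h0
      apply hh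
      exact ⟨(q0 : G), ⟨q0, hq0, rfl⟩, by simp [MulAut.conj_apply]⟩
    have h2 : ((Subgroup.normalizer (X : Set G)).subtype
        ((MulAut.conj (⟨c1, hc1N⟩ : ↥(Subgroup.normalizer (X : Set G)))).toMonoidHom q0)) =
        m1⁻¹ * (h * (q0 : G) * h⁻¹) * m1 := by
      rw [hhmc]
      simp [MulAut.conj_apply]
      group
    rw [h2]
    exact M.mul_mem (M.mul_mem (M.inv_mem hm1) h1) hm1
  have hQX : Nat.card X < Nat.card (Q : Subgroup ↥(Subgroup.normalizer (X : Set G))) := by
    rw [hQcoe, card_map_conj]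
    refine lt_of_lt_of_le hYcard ?_
    have h1 : Nat.card ↥(((S : Subgroup G) ⊓ Subgroup.normalizer (X : Set G)).subgroupOf
        (Subgroup.normalizer (X : Set G))) =
        Nat.card ↥((S : Subgroup G) ⊓ Subgroup.normalizer (X : Set G)) :=
      Nat.card_congr (Subgroup.subgroupOfEquivOfLe inf_le_right).toEquiv
    rw [← h1]
    exact Subgroup.card_le_of_le hQ0
  have hQ1p : IsPGroup p ↥((Q : Subgroup ↥(Subgroup.normalizer (X : Set G))).map
      (Subgroup.normalizer (X : Set G)).subtype) := Q.isPGroup'.map _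
  obtain ⟨S1, hQS1, -⟩ := exists_sylow_ge S0 h0 hQ1p hQM
  have hstar := star hG hM hU hp2 X hXp hX1 hXM Q hQM hQX S1 hQS1 IH
  -- now the conjugate `X' = g X g⁻¹`
  have hX'p : IsPGroup p ↥(X.map (MulAut.conj g).toMonoidHom) := hXp.map _
  obtain ⟨S', hX'S', hS'M⟩ := exists_sylow_ge S0 h0 hX'p hg
  have hX'ne : (S' : Subgroup G) ⊓ Subgroup.normalizer
      ((X.map (MulAut.conj g).toMonoidHom : Subgroup G) : Set G) ≠
      X.map (MulAut.conj g).toMonoidHom := by
    intro h'
    have h1 := Cfsg.Agent.Helper15.eq_of_inf_normalizer_eq S'.isPGroup' hX'S' h'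
    -- then |X| = |S'| = |S|
    apply hXeqS
    apply Subgroup.eq_of_le_of_card_ge hXS
    rw [Sylow.card_eq_multiplicity S, ← Sylow.card_eq_multiplicity S', h1, card_map_conj]
  have hX'Y' : X.map (MulAut.conj g).toMonoidHom ≤ (S' : Subgroup G) ⊓ Subgroup.normalizer
      ((X.map (MulAut.conj g).toMonoidHom : Subgroup G) : Set G) :=
    le_inf hX'S' Subgroup.le_normalizer
  have hY'card := card_lt_card_of_le_of_ne hX'Y' hX'ne
  rw [card_map_conj] at hY'card
  have hY'p : IsPGroup p ↥((S' : Subgroup G) ⊓ Subgroup.normalizer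
      ((X.map (MulAut.conj g).toMonoidHom : Subgroup G) : Set G)) := S'.isPGroup'.to_le inf_le_left
  have hY'M : (S' : Subgroup G) ⊓ Subgroup.normalizer
      ((X.map (MulAut.conj g).toMonoidHom : Subgroup G) : Set G) ≤ M := inf_le_left.trans hS'M
  -- `R0 = g⁻¹ Y' g ≤ N(X)`
  have hR0N : ((S' : Subgroup G) ⊓ Subgroup.normalizer
      ((X.map (MulAut.conj g).toMonoidHom : Subgroup G) : Set G)).map
        (MulAut.conj g⁻¹).toMonoidHom ≤ Subgroup.normalizer (X : Set G) := by
    rintro _ ⟨y, hy, rfl⟩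
    have hyN := (Subgroup.mem_inf.mp hy).2
    rw [Subgroup.mem_normalizer_iff] at hyN ⊢
    intro x
    have h1 := hyN (g * x * g⁻¹)
    rw [mem_map_conj_iff, mem_map_conj_iff] at h1
    simp only [MulEquiv.coe_toMonoidHom, MulAut.conj_apply, inv_inv]
    have e1 : g⁻¹ * (g * x * g⁻¹) * g = x := by group
    have e2 : g⁻¹ * (y * (g * x * g⁻¹) * y⁻¹) * g = g⁻¹ * y * g * x * (g⁻¹ * y * g)⁻¹ := by group
    rw [e1, e2] at h1
    exact h1
  have hR0p : IsPGroup p ↥((((S' : Subgroup G) ⊓ Subgroup.normalizer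
      ((X.map (MulAut.conj g).toMonoidHom : Subgroup G) : Set G)).map
        (MulAut.conj g⁻¹).toMonoidHom).subgroupOf (Subgroup.normalizer (X : Set G))) :=
    (hY'p.map _).comap_of_injective _ (Subgroup.subtype_injective _)
  obtain ⟨n, hn⟩ := exists_map_conj_le_sylow Q hR0p
  -- `R = (n g⁻¹) Y' (n g⁻¹)⁻¹`
  set R : Subgroup G := ((S' : Subgroup G) ⊓ Subgroup.normalizer
      ((X.map (MulAut.conj g).toMonoidHom : Subgroup G) : Set G)).map
        (MulAut.conj ((n : G) * g⁻¹)).toMonoidHom with hR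
  have hRp : IsPGroup p ↥R := hY'p.map _
  have hRM : R ≤ M := by
    rintro _ ⟨y, hy, rfl⟩
    apply hQM
    have hr0 : g⁻¹ * y * g ∈ Subgroup.normalizer (X : Set G) := by
      apply hR0N
      exact ⟨y, hy, by simp⟩
    have h1 : (⟨g⁻¹ * y * g, hr0⟩ : ↥(Subgroup.normalizer (X : Set G))) ∈
        (((S' : Subgroup G) ⊓ Subgroup.normalizer
          ((X.map (MulAut.conj g).toMonoidHom : Subgroup G) : Set G)).map
            (MulAut.conj g⁻¹).toMonoidHom).subgroupOf (Subgroup.normalizer (X : Set G)) := by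
      rw [Subgroup.mem_subgroupOf]
      exact ⟨y, hy, by simp⟩
    have h2 := hn ⟨_, h1, rfl⟩
    refine ⟨_, h2, ?_⟩
    simp [MulAut.conj_apply, mul_assoc]
  have hRcard : Nat.card X < Nat.card ↥R := by
    rw [hR, card_map_conj]; exact hY'card
  have hXR : X ≤ R := by
    intro x hx
    rw [hR, mem_map_conj_iff]
    apply hX'Y'
    -- (n g⁻¹)⁻¹ x (n g⁻¹) = g (n⁻¹ x n) g⁻¹
    have hnN : (n : G) ∈ Subgroup.normalizer (X : Set G) := n.2
    have hninv : (n : G)⁻¹ ∈ Subgroup.normalizer (X : Set G) := Subgroup.inv_mem _ hnN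
    have h1 : (n : G)⁻¹ * x * (n : G)⁻¹⁻¹ ∈ X := (Subgroup.mem_normalizer_iff.mp hninv x).mp hx
    refine ⟨(n : G)⁻¹ * x * (n : G)⁻¹⁻¹, h1, ?_⟩
    simp [MulAut.conj_apply]
    group
  have hRconj : R.map (MulAut.conj (g * (n : G)⁻¹)).toMonoidHom ≤ M := by
    rw [hR, map_conj_map_conj]
    have : g * (n : G)⁻¹ * ((n : G) * g⁻¹) = 1 := by group
    rw [this, map_conj_one]
    exact hY'M
  obtain ⟨m', hm', c', hc', hgn⟩ := IH R hRp hRM hRcard _ hRconj
  have hc'X : c' ∈ Subgroup.centralizer (X : Set G) :=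
    Subgroup.centralizer_le (SetLike.coe_subset_coe.mpr hXR) hc'
  obtain ⟨m, hm, c, hc, hnmc⟩ := hstar (n : G) n.2
  have hmN : m ∈ Subgroup.normalizer (X : Set G) := by
    have : m = (n : G) * c⁻¹ := by rw [hnmc]; group
    rw [this]
    exact Subgroup.mul_mem _ n.2 (Subgroup.inv_mem _ (Subgroup.centralizer_le_normalizer _ hc))
  refine ⟨m' * m, M.mul_mem hm' hm, (m⁻¹ * c' * m) * c, ?_, ?_⟩
  · exact Subgroup.mul_mem _ (conj_mem_centralizer_of_mem_normalizer hmN hc'X) hc
  · have : g = (g * (n : G)⁻¹) * (n : G) := by group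
    rw [this, hgn, hnmc]
    group

theorem claim (hG : IsMinSimpleOddOrder G) (hM : IsCoatom M) (hU : UniqHyp G)
    (hp : p ∈ sigma M) (X : Subgroup G) (hXp : IsPGroup p X) (hX1 : X ≠ ⊥) (hXM : X ≤ M) :
    (∀ g : G, X.map (MulAut.conj g).toMonoidHom ≤ M →
        ∃ m ∈ M, ∃ c ∈ Subgroup.centralizer (X : Set G), g = m * c) ∧
      Subgroup.normalizer (X : Set G) =
        (M ⊓ Subgroup.normalizer (X : Set G)) ⊔ Subgroup.centralizer (X : Set G) := by
  have hp2 : p ≠ 2 := by
    intro h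
    have h1 : p ∣ Nat.card M := hp.2.1
    have h2 : p ∣ Nat.card G := h1.trans (Subgroup.card_subgroup_dvd_card M)
    have hodd := hG.1
    rw [h] at h2
    exact (Nat.not_even_iff_odd.mpr hodd) (even_iff_two_dvd.mpr h2)
  obtain ⟨S0, h0, hN0⟩ := exists_sylow_of_mem_sigma hp
  have key := fun g => claim_aux hG hM hU hp2 S0 h0 hN0 _ X rfl hXp hX1 hXM g
  refine ⟨key, ?_⟩
  apply le_antisymm
  · intro n hn
    have hconj : X.map (MulAut.conj n).toMonoidHom ≤ M := by
      rintro _ ⟨x, hx, rfl⟩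
      apply hXM
      simp only [MulEquiv.coe_toMonoidHom, MulAut.conj_apply]
      exact (Subgroup.mem_normalizer_iff.mp hn x).mp hx
    obtain ⟨m, hm, c, hc, hnmc⟩ := key n hconj
    have hcN := Subgroup.centralizer_le_normalizer (X : Set G) hc
    have hmN : m ∈ Subgroup.normalizer (X : Set G) := by
      have : m = n * c⁻¹ := by rw [hnmc]; group
      rw [this]
      exact Subgroup.mul_mem _ hn (Subgroup.inv_mem _ hcN)
    rw [hnmc]
    exact Subgroup.mul_mem _ (Subgroup.mem_sup_left (Subgroup.mem_inf.mpr ⟨hm, hmN⟩))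
      (Subgroup.mem_sup_right hc)
  · exact sup_le inf_le_right (Subgroup.centralizer_le_normalizer (X : Set G))

end Cfsg.Agent.Helper24.BG101
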