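import Mathlib
import Cfsg.Agent.Lib.Helper5.DetChar
import Cfsg.Agent.Lib.Helper24.DetTrace

/-!
# S0978 (no simple group of order 5040), PIECE DET2   (helper24)
-/

set_option autoImplicit false
set_option linter.unusedSectionVars false
set_option linter.unusedVariables false

open Cfsg

namespace Cfsg.Agent.Helper28.Ord5040

open Cfsg.Agent.Helper24.DetTrace Cfsg.Agent.Helper5 Module

namespace DET2

/-- `R t` squares to one. -/
theorem rep_sq {G : Type*} [Group G] {n : ℕ} (R : Representation ℂ G (Fin n → ℂ)) (t : G)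
    (k : ℕ) (ht : t ^ k = 1) : (R t) ^ k = 1 := by
  rw [← map_pow, ht, map_one]

/-- the `-1`-multiplicity of an involution: `2 r = χ 1 - χ t`. -/
theorem two_mul_rank {G : Type*} [Group G] {n : ℕ} (R : Representation ℂ G (Fin n → ℂ)) (t : G)
    (ht : t ^ 2 = 1) :
    2 * (finrank ℂ (LinearMap.range (specIdem (R t) 2 (-1))) : ℂ) =
      R.character 1 - R.character t := by
  have hA : (R t) ^ 2 = 1 := rep_sq R t 2 ht
  have h := finrank_range_specIdem (R t) (n := 2) (by norm_num) hA (ζ := -1) (by norm_num)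
  rw [h, Finset.sum_range_succ, Finset.sum_range_succ, Finset.sum_range_zero]
  simp only [pow_zero, pow_one, zero_add, one_mul]
  have e1 : LinearMap.trace ℂ (Fin n → ℂ) (1 : (Fin n → ℂ) →ₗ[ℂ] (Fin n → ℂ)) = R.character 1 := by
    show _ = LinearMap.trace ℂ (Fin n → ℂ) (R 1)
    rw [show R 1 = 1 from map_one R]
  have e2 : LinearMap.trace ℂ (Fin n → ℂ) (R t) = R.character t := rfl
  rw [e1, e2]
  push_cast
  have : ((-1 : ℂ))⁻¹ = -1 := by norm_num
  rw [this]
  ring

end DET2

/-- PIECE DET2: in a perfect group, `χ(1) - χ(t)` is divisible by 4 for every involution `t`. -/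
theorem inv_value_mod_four {G : Type*} [Group G] [Finite G] (hperf : commutator G = ⊤)
    {χ : G → ℂ} (hχ : IsCharacter G χ) (t : G) (ht : t ^ 2 = 1) :
    ∃ m : ℕ, χ t = χ 1 - 4 * (m : ℂ) := by
  obtain ⟨n, R, hR, hdet⟩ := exists_rep_detChar hχ
  have hA : (R t) ^ 2 = 1 := DET2.rep_sq R t 2 ht
  -- the determinant is `(-1) ^ r`
  have hω : IsPrimitiveRoot (-1 : ℂ) 2 := IsPrimitiveRoot.neg_one 0 (by norm_num)
  have hd := det_eq_prod_specIdem (R t) (n := 2) (by norm_num) hA hω
  rw [Finset.prod_range_succ, Finset.prod_range_succ, Finset.prod_range_zero] at hd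
  rw [show ((-1 : ℂ)) ^ 1 = -1 from pow_one _] at hd
  simp only [pow_zero, one_pow, one_mul] at hd
  -- the determinantal character is trivial
  have hker : (detHom hχ).ker = ⊤ := by
    rw [eq_top_iff, ← hperf]
    exact Abelianization.commutator_subset_ker (detHom hχ)
  have ht1 : detHom hχ t = 1 := by
    have : t ∈ (detHom hχ).ker := by
      rw [hker]
      trivial
    exact this
  have hdt : detChar χ t = 1 := by
    have h1 : ((detHom hχ t : ℂˣ) : ℂ) = detChar χ t := rfl
    rw [← h1, ht1]
    rfl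
  rw [hdet t, hd] at hdt
  -- so `r` is even
  set r := finrank ℂ (LinearMap.range (specIdem (R t) 2 (-1))) with hr
  have heven : Even r := by
    rcases Nat.even_or_odd r with h | h
    · exact h
    · exfalso
      rw [h.neg_one_pow] at hdt
      norm_num at hdt
  obtain ⟨m, hm⟩ := heven
  refine ⟨m, ?_⟩
  have h2 := DET2.two_mul_rank R t ht
  rw [← hr, hR, hm] at h2
  push_cast at h2
  linear_combination h2

end Cfsg.Agent.Helper28.Ord5040
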