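import Mathlib
import Cfsg.Agent.Lib.Helper5.DetChar
import Cfsg.Agent.Lib.Helper24.DetTrace
import Cfsg.Agent.Lib.Helper24.O5040DET2

/-!
# S0978 (no simple group of order 5040), PIECE MULT   (helper24)
-/

set_option autoImplicit false
set_option linter.unusedSectionVars false
set_option linter.unusedVariables false

open Cfsg

namespace Cfsg.Agent.Helper28.Ord5040

open Cfsg.Agent.Helper24.DetTrace Cfsg.Agent.Helper5 Module

/-- PIECE MULT: multiplicity of the eigenvalue pair `(1, -1)` of the commuting pair `(x, t)`. -/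
theorem mult_pair {G : Type*} [Group G] [Finite G] {χ : G → ℂ} (hχ : IsCharacter G χ)
    (x t : G) (hc : Commute x t) (p : ℕ) (hp : 0 < p) (hx : x ^ p = 1) (ht : t ^ 2 = 1) :
    ∃ m : ℕ, (2 * (p : ℂ) * (m : ℂ)) = ∑ i ∈ Finset.range p, (χ (x ^ i) - χ (x ^ i * t)) := by
  obtain ⟨n, R, hR, -⟩ := exists_rep_detChar hχ
  have hA : (R x) ^ p = 1 := DET2.rep_sq R x p hx
  have hB : (R t) ^ 2 = 1 := DET2.rep_sq R t 2 ht
  have hAB : Commute (R x) (R t) := by
    show R x * R t = R t * R x
    rw [← map_mul, ← map_mul, hc.eq]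
  have hp0 : (p : ℂ) ≠ 0 := by exact_mod_cast hp.ne'
  set E1 := specIdem (R x) p 1 with hE1
  set E2 : (Fin n → ℂ) →ₗ[ℂ] (Fin n → ℂ) := (2 : ℂ)⁻¹ • (1 - R t) with hE2
  have hi1 : IsIdempotentElem E1 := isIdempotentElem_specIdem (R x) hp hA (one_pow p)
  have hBB : R t * R t = 1 := by rw [← sq, hB]
  have hi2 : IsIdempotentElem E2 := by
    unfold IsIdempotentElem
    rw [hE2, smul_mul_smul_comm]
    have h1 : (1 - R t) * (1 - R t) = (2 : ℂ) • (1 - R t) := by
      have : (1 - R t) * (1 - R t) = 1 - R t - R t + R t * R t := by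
        rw [mul_sub, mul_one, sub_mul, one_mul]
        abel
      rw [this, hBB, two_smul]
      abel
    rw [h1, smul_smul]
    congr 1
    norm_num
  have hcomm : Commute E1 E2 := by
    rw [hE1, hE2]
    unfold specIdem
    apply Commute.smul_left
    apply Commute.smul_right
    apply Commute.sum_left
    intro i _
    apply Commute.smul_left
    apply Commute.sub_right (Commute.one_right _)
    exact hAB.pow_left i
  have hi : IsIdempotentElem (E1 * E2) := hi1.mul_of_commute hcomm hi2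
  have htr := (LinearMap.IsIdempotentElem.isProj_range _ hi).trace
  refine ⟨finrank ℂ (LinearMap.range (E1 * E2)), ?_⟩
  rw [← htr]
  -- compute the trace
  have hE2' : E2 = (2 : ℂ)⁻¹ • (1 - R t) := hE2
  have hE1' : E1 = (p : ℂ)⁻¹ • ∑ i ∈ Finset.range p, (R x) ^ i := by
    rw [hE1]
    unfold specIdem
    congr 1
    apply Finset.sum_congr rfl
    intro i _
    rw [inv_one, one_pow, one_smul]
  have hprod : E1 * E2 = ((p : ℂ)⁻¹ * (2 : ℂ)⁻¹) •
      ∑ i ∈ Finset.range p, (R (x ^ i) - R (x ^ i * t)) := by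
    rw [hE1', hE2', smul_mul_smul_comm, Finset.sum_mul]
    congr 1
    apply Finset.sum_congr rfl
    intro i _
    rw [mul_sub, mul_one, map_mul, map_pow]
  rw [hprod, map_smul, map_sum, smul_eq_mul]
  have hterm : ∀ i ∈ Finset.range p,
      LinearMap.trace ℂ (Fin n → ℂ) (R (x ^ i) - R (x ^ i * t)) = χ (x ^ i) - χ (x ^ i * t) := by
    intro i _
    rw [map_sub, ← hR]
    rfl
  rw [Finset.sum_congr rfl hterm]
  field_simp

end Cfsg.Agent.Helper28.Ord5040
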