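import Mathlib
import Cfsg.Agent.Lib.Helper17.GLkDefs
import Cfsg.Agent.Lib.Helper23.GLkMON

/-!
# S2478, piece GLK-LOWER (helper24): `q^n - q^(n-1) ≤ k(GL_n(F))`

Every monic polynomial of degree `n` with nonzero constant coefficient is the characteristic
polynomial of an invertible matrix (multiplication by the root on `AdjoinRoot f`), and the
characteristic polynomial is a class function.
-/

set_option autoImplicit false

open Polynomial

namespace Cfsg.Agent.Helper17.GLk

universe u

variable {F : Type u} [Field F]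

/-- every monic polynomial of degree `n` with nonzero constant coefficient is the characteristic
polynomial of an invertible matrix -/
theorem glk_lower_exists (n : ℕ) (f : F[X]) (hf : f ∈ Mon F n) :
    ∃ A : Matrix.GeneralLinearGroup (Fin n) F,
      (A : Matrix (Fin n) (Fin n) F).charpoly = f := by
  obtain ⟨hm, hdeg, h0⟩ := hf
  have hne : f ≠ 0 := hm.ne_zero
  obtain ⟨pb, hpb⟩ : ∃ pb : PowerBasis F (AdjoinRoot f), pb = AdjoinRoot.powerBasis hne :=
    ⟨_, rfl⟩
  have hdim : pb.dim = n := by rw [hpb, AdjoinRoot.powerBasis_dim, hdeg]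
  have hmin : minpoly F pb.gen = f := by
    rw [hpb]; exact AdjoinRoot.minpoly_powerBasis_gen_of_monic hm hne
  have hM₀ : (Algebra.leftMulMatrix pb.basis pb.gen).charpoly = f := by
    rw [charpoly_leftMulMatrix, hmin]
  obtain ⟨M, hMdef⟩ : ∃ M : Matrix (Fin n) (Fin n) F,
      M = Matrix.reindex (finCongr hdim) (finCongr hdim) (Algebra.leftMulMatrix pb.basis pb.gen) :=
    ⟨_, rfl⟩
  have hM : M.charpoly = f := by rw [hMdef, Matrix.charpoly_reindex, hM₀]
  have hdet : M.det ≠ 0 := by
    rw [Matrix.det_eq_sign_charpoly_coeff, hM]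
    exact mul_ne_zero (pow_ne_zero _ (by simp)) h0
  exact ⟨Matrix.GeneralLinearGroup.mkOfDetNeZero M hdet, hM⟩

/-- the characteristic polynomial is a class function on `GL_n(F)` -/
theorem glk_lower_charpoly_conj {n : ℕ} (A B : Matrix.GeneralLinearGroup (Fin n) F)
    (h : IsConj A B) :
    (A : Matrix (Fin n) (Fin n) F).charpoly = (B : Matrix (Fin n) (Fin n) F).charpoly := by
  obtain ⟨c, hc⟩ := isConj_iff.1 h
  rw [← hc]
  have e : ((c * A * c⁻¹ : Matrix.GeneralLinearGroup (Fin n) F) : Matrix (Fin n) (Fin n) F)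
      = (c : Matrix (Fin n) (Fin n) F) * (A : Matrix (Fin n) (Fin n) F)
        * (c : Matrix (Fin n) (Fin n) F)⁻¹ := by
    rw [Units.val_mul, Units.val_mul, Matrix.coe_units_inv]
  rw [e]
  exact (Matrix.charpoly_units_conj c (A : Matrix (Fin n) (Fin n) F)).symm

/-- PIECE GLK-LOWER. -/
theorem lower_bound [Fintype F] (n : ℕ) (hn : 1 ≤ n) :
    Fintype.card F ^ n - Fintype.card F ^ (n - 1)
      ≤ Nat.card (ConjClasses (Matrix.GeneralLinearGroup (Fin n) F)) := by
  classical
  obtain ⟨hfin, hcard⟩ := Mon_finite_ncard (F := F) n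
  have hNw : Nw (Fintype.card F) n = Fintype.card F ^ n - Fintype.card F ^ (n - 1) := by
    obtain ⟨m, rfl⟩ : ∃ m, n = m + 1 := ⟨n - 1, by omega⟩
    simp [Nw]
  rw [← hNw, ← hcard, ← Nat.card_coe_set_eq]
  have : Finite (Matrix.GeneralLinearGroup (Fin n) F) := inferInstance
  have : Finite (ConjClasses (Matrix.GeneralLinearGroup (Fin n) F)) := Quotient.finite _
  refine Nat.card_le_card_of_injective
    (fun f : Mon F n => ConjClasses.mk (Classical.choose (glk_lower_exists n f.1 f.2))) ?_
  intro f g hfg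
  have h1 := Classical.choose_spec (glk_lower_exists n f.1 f.2)
  have h2 := Classical.choose_spec (glk_lower_exists n g.1 g.2)
  have h3 := glk_lower_charpoly_conj _ _ (ConjClasses.mk_eq_mk_iff_isConj.1 hfg)
  apply Subtype.ext
  rw [← h1, ← h2, h3]

end Cfsg.Agent.Helper17.GLk
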