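import Mathlib
import Cfsg.Agent.Lib.Helper17.TSLDefs

/-! # S3366 piece CENT, core form (helper24): `C_R(t) = Z`, with the three dependencies
(ZCENT, FRAT, DECOMP) taken as hypotheses. -/

set_option autoImplicit false

namespace Cfsg.Agent.Helper17.TSL

variable {X : Type*} [Group X] [Finite X] (S : Setup X)

/-- an element of `R` centralised by `t` commutes with every element of `R` inverted by `t` -/
theorem cent_comm_inv (hZc : ∀ g w : X, w ∈ S.Z → g * w = w * g)
    (t : X) (c : X) (hc : c ∈ S.R) (hct : t * c = c * t)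
    (i : X) (hi : i ∈ S.R) (hit : t * i * t⁻¹ = i⁻¹) : c * i = i * c := by
  have hk : c * i * c⁻¹ * i⁻¹ ∈ S.Z := S.comm_mem c hc i hi
  obtain ⟨k, hkdef⟩ : ∃ k, k = c * i * c⁻¹ * i⁻¹ := ⟨_, rfl⟩
  rw [← hkdef] at hk
  have hkR : k ∈ S.R := ((S.mem_Z k).1 hk).1
  have hkc : ∀ r ∈ S.R, r * k = k * r := ((S.mem_Z k).1 hk).2
  have htk : t * k * t⁻¹ = k := by
    rw [hZc t k hk]; group
  have htc : t * c * t⁻¹ = c := by rw [hct]; group
  have htc' : t * c⁻¹ * t⁻¹ = c⁻¹ := by
    have : t * c⁻¹ * t⁻¹ = (t * c * t⁻¹)⁻¹ := by group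
    rw [this, htc]
  have hti' : t * i⁻¹ * t⁻¹ = i := by
    have : t * i⁻¹ * t⁻¹ = (t * i * t⁻¹)⁻¹ := by group
    rw [this, hit, inv_inv]
  have h2 : t * k * t⁻¹ = c * i⁻¹ * c⁻¹ * i := by
    have : t * k * t⁻¹ = (t * c * t⁻¹) * (t * i * t⁻¹) * (t * c⁻¹ * t⁻¹) * (t * i⁻¹ * t⁻¹) := by
      rw [hkdef]; group
    rw [this, htc, hit, htc', hti']
  have h3 : c * i⁻¹ * c⁻¹ * i = k := by rw [← h2, htk]
  -- c i c⁻¹ = k i,  c i⁻¹ c⁻¹ = k i⁻¹
  have e1 : c * i * c⁻¹ = k * i := by rw [hkdef]; group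
  have e2 : c * i⁻¹ * c⁻¹ = k * i⁻¹ := by rw [← h3]; group
  have hki : i * k = k * i := hkc i hi
  have hk2 : k * k = 1 := by
    have : (c * i * c⁻¹) * (c * i⁻¹ * c⁻¹) = 1 := by group
    rw [e1, e2] at this
    calc k * k = k * (i * k) * i⁻¹ := by rw [hki]; group
      _ = k * i * (k * i⁻¹) := by group
      _ = 1 := this
  have hk3 : k ^ 3 = 1 := S.exp_R k hkR
  have hk1 : k = 1 := by
    have : k ^ 3 = k * k * k := by rw [pow_succ, pow_two]
    rw [this, hk2, one_mul] at hk3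
    exact hk3
  have : c * i * c⁻¹ * i⁻¹ = 1 := by rw [← hkdef]; exact hk1
  calc c * i = (c * i * c⁻¹ * i⁻¹) * i * c := by group
    _ = i * c := by rw [this, one_mul]

/-- a subgroup of `R` of order `1`, `3` or `9` is commutative -/
theorem cent_comm_of_card {G : Type*} [Group G] (A : Subgroup G) (n : ℕ) (hn : n ≤ 2)
    (hA : Nat.card A = 3 ^ n) : ∀ a ∈ A, ∀ b ∈ A, a * b = b * a := by
  have : Fact (Nat.Prime 3) := ⟨by norm_num⟩
  intro a ha b hb
  have key : ∀ x y : A, x * y = y * x := by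
    interval_cases n
    · -- card 1
      intro x y
      have hsub : Subsingleton A := (Nat.card_eq_one_iff_unique.1 (by simpa using hA)).1
      rw [Subsingleton.elim x 1, Subsingleton.elim y 1]
    · -- card 3
      haveI : IsCyclic A := isCyclic_of_prime_card (p := 3) (by simpa using hA)
      intro x y
      exact (IsCyclic.commGroup).mul_comm x y
    · -- card 9
      exact IsPGroup.commutative_of_card_eq_prime_sq (p := 3) hA
  have := key ⟨a, ha⟩ ⟨b, hb⟩
  exact congrArg Subtype.val this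

/-- if `t` centralises `R` then `t = 1` -/
theorem cent_t_central_absurd (t : X) (ht : t * t = 1) (hπ : S.π t = negOne)
    (hfrat : ∀ g : X, ∃ r ∈ S.R, (r⁻¹ * g) * t = t * (r⁻¹ * g))
    (hall : ∀ r ∈ S.R, t * r = r * t) : False := by
  -- t is central
  have hcen : ∀ g : X, g * t = t * g := by
    intro g
    obtain ⟨r, hr, h⟩ := hfrat g
    have h1 : t * r = r * t := hall r hr
    calc g * t = r * ((r⁻¹ * g) * t) := by group
      _ = r * (t * (r⁻¹ * g)) := by rw [h]
      _ = (r * t) * (r⁻¹ * g) := by group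
      _ = (t * r) * (r⁻¹ * g) := by rw [h1]
      _ = t * g := by group
  have hN : (Subgroup.zpowers t).Normal := by
    refine ⟨fun n hn g => ?_⟩
    obtain ⟨k, rfl⟩ := Subgroup.mem_zpowers_iff.1 hn
    have : g * t ^ k * g⁻¹ = t ^ k := by
      have hc : Commute g t := hcen g
      have := (hc.zpow_right k).eq
      rw [this]; group
    rw [this]
    exact Subgroup.zpow_mem_zpowers t k
  have hP : IsPGroup 2 (Subgroup.zpowers t) := by
    intro g
    refine ⟨1, ?_⟩
    obtain ⟨g, hg⟩ := g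
    obtain ⟨k, rfl⟩ := Subgroup.mem_zpowers_iff.1 hg
    apply Subtype.ext
    simp only [pow_one, Subgroup.coe_pow, Subgroup.coe_one]
    have ht2 : t ^ 2 = 1 := by rw [pow_two, ht]
    rw [← zpow_natCast, ← zpow_mul, mul_comm, zpow_mul, zpow_natCast, ht2, one_zpow]
  have hbot := S.O2 _ hN hP
  have ht1 : t = 1 := by
    have : t ∈ Subgroup.zpowers t := Subgroup.mem_zpowers t
    rw [hbot] at this
    exact Subgroup.mem_bot.1 this
  rw [ht1, map_one] at hπ
  exact negOne_ne hπ.symm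

/-- CENT, core form -/
theorem cent_t_core (hZc : ∀ g w : X, w ∈ S.Z → g * w = w * g)
    (t : X) (ht : t * t = 1) (hπ : S.π t = negOne)
    (hfrat : ∀ g : X, ∃ r ∈ S.R, (r⁻¹ * g) * t = t * (r⁻¹ * g))
    (hdec : ∀ r ∈ S.R, ∃ c ∈ S.R, ∃ i ∈ S.R, t * c = c * t ∧ t * i * t⁻¹ = i⁻¹ ∧ r = c * i)
    (r : X) (hr : r ∈ S.R) (hc : t * r = r * t) : r ∈ S.Z := by
  classical
  -- A = C_R(t)
  let A : Subgroup X := S.R ⊓ Subgroup.centralizer {t}
  have hmemA : ∀ a : X, a ∈ A ↔ a ∈ S.R ∧ t * a = a * t := by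
    intro a
    constructor
    · rintro ⟨h1, h2⟩
      refine ⟨h1, ?_⟩
      have := Subgroup.mem_centralizer_iff.1 h2 t (Set.mem_singleton t)
      exact this
    · rintro ⟨h1, h2⟩
      refine ⟨h1, ?_⟩
      show a ∈ Subgroup.centralizer {t}
      rw [Subgroup.mem_centralizer_iff]
      intro x hx
      rw [Set.mem_singleton_iff.1 hx]
      exact h2
  have hAle : A ≤ S.R := inf_le_left
  have hdvd : Nat.card A ∣ 27 := by
    rw [← S.card_R]
    exact Subgroup.card_dvd_of_le hAle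
  obtain ⟨n, hn, hAn⟩ := (Nat.dvd_prime_pow (by norm_num : Nat.Prime 3)).1
    (show Nat.card A ∣ 3 ^ 3 by norm_num; exact hdvd)
  have hn' : n ≤ 2 ∨ n = 3 := by omega
  rcases hn' with hn2 | hn3
  · -- A commutative
    have hAcomm := cent_comm_of_card A n hn2 hAn
    rw [S.mem_Z]
    refine ⟨hr, fun s hs => ?_⟩
    obtain ⟨c', hc', i', hi', hc't, hi't, rfl⟩ := hdec s hs
    have h1 : r * c' = c' * r :=
      hAcomm r ((hmemA r).2 ⟨hr, hc⟩) c' ((hmemA c').2 ⟨hc', hc't⟩)
    have h2 : r * i' = i' * r := cent_comm_inv S hZc t r hr hc i' hi' hi't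
    calc c' * i' * r = c' * (i' * r) := by group
      _ = c' * (r * i') := by rw [h2]
      _ = (c' * r) * i' := by group
      _ = (r * c') * i' := by rw [h1]
      _ = r * (c' * i') := by group
  · -- A = R
    exfalso
    have hAR : A = S.R := by
      haveI : Finite S.R := inferInstance
      apply Subgroup.eq_of_le_of_card_ge hAle
      rw [hAn, hn3, S.card_R]; norm_num
    apply cent_t_central_absurd S t ht hπ hfrat
    intro s hs
    have : s ∈ A := by rw [hAR]; exact hs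
    exact ((hmemA s).1 this).2

end Cfsg.Agent.Helper17.TSL
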