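import Mathlib
import Cfsg.Agent.Lib.Helper18.BG13P2
import Cfsg.Agent.Lib.Helper17.BG11T

/-!
# Bender-Glauberman Lemma 12.3 (helper24), part A

`centralizes_core`: a variant of helper18's `centralizes_of_le_normal` for a normal subgroup
`Mπ ≤ M_σ` of `M` of order prime to `p` (instead of `M_σ` itself with `p ∉ σ(M)`).
-/

set_option autoImplicit false

namespace Cfsg.Agent.Helper24.BG123

open Cfsg Subgroup
open scoped commutatorElement
open Cfsg.Agent.Helper14.BGTrans Cfsg.Agent.Helper14.BGUniq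
open Cfsg.Agent.Helper10 (IsPiNum)
open Cfsg.Agent.Helper15 (IsSylowIn isSylowIn_of_sylow_le isSylowIn_map_subtype isSylowIn_top
  map_conj_eq_of_mem_normalizer map_conj_map_conj card_map_conj map_conj_one
  map_conj_map_conj_inv map_conj_inv_map_conj isPGroup_map_conj map_conj_mono
  map_conj_eq_self_of_mem exists_isSylowIn_ge exists_isSylowIn isSylowIn_of_not_dvd_relIndex)
open Cfsg.Agent.Helper22.BG13
open Cfsg.Agent.Helper20.MinInv (comm_le_of_le_normalizer le_centralizer_of_comm_comm_eq_bot)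
open Cfsg.Agent.Helper18.BG13P

universe u

variable {G : Type u} [Group G] [Finite G]

/-- a `p`-subgroup `P₁` of `M ∩ K` centralizes `Mπ ∩ H`, where `H` is not conjugate to `M`,
`Mπ ≤ M_σ` is normal in `M` of order prime to `p`, and `K` is a normal subgroup of `H` with a
normal `q`-complement for every `q ∉ β(H)` -/
theorem centralizes_core (hG : IsMinSimpleOddOrder G) (h1403 : Hyp1403 G)
    (h1414 : Hyp1414 G) {M H : Subgroup G} (hM : IsCoatom M) (hH : IsCoatom H)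
    (hconj : ∀ g : G, H ≠ M.map (MulAut.conj g).toMonoidHom)
    {K : Subgroup G} (hKH : K ≤ H) (hHK : H ≤ normalizer (K : Set G))
    (hK : ∀ q : ℕ, q.Prime → q ∣ Nat.card ↥H → q ∉ beta H → HasNormalPComplement q ↥K)
    {p : ℕ} [Fact p.Prime] {Mπ : Subgroup G} (hπσ : Mπ ≤ sigmaCore M)
    (hπN : M ≤ normalizer (Mπ : Set G)) (hpπ : ¬ p ∣ Nat.card ↥Mπ)
    {P₁ : Subgroup G} (hP₁ : IsPGroup p ↥P₁) (hP₁M : P₁ ≤ M) (hP₁K : P₁ ≤ K) :
    Mπ ⊓ H ≤ centralizer (P₁ : Set G) := by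
  have hp : p.Prime := Fact.out
  set D := Mπ ⊓ H with hD
  have hDπ : D ≤ Mπ := inf_le_left
  have hDσ : D ≤ sigmaCore M := hDπ.trans hπσ
  have hDH : D ≤ H := inf_le_right
  have hP₁H : P₁ ≤ H := hP₁K.trans hKH
  have hP₁σ : P₁ ≤ normalizer ((sigmaCore M : Subgroup G) : Set G) :=
    hP₁M.trans (le_normalizer_sigmaCore M)
  have hP₁π : P₁ ≤ normalizer ((Mπ : Subgroup G) : Set G) := hP₁M.trans hπN
  have hP₁D : P₁ ≤ normalizer (D : Set G) :=
    le_normalizer_inf_of_le hP₁π (hP₁H.trans Subgroup.le_normalizer)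
  have hpD : (Nat.card ↥D).Coprime p := by
    rw [Nat.coprime_comm]
    exact (Nat.Prime.coprime_iff_not_dvd hp).mpr
      (fun h => hpπ (h.trans (Subgroup.card_dvd_of_le hDπ)))
  obtain ⟨k, hk⟩ := hP₁.exists_card_eq
  have hcop : (Nat.card ↥P₁).Coprime (Nat.card ↥D) := by
    rw [hk]; exact (Nat.Coprime.pow_right k hpD).symm
  apply le_centralizer_of_comm_comm_eq_bot hcop hP₁D
  set W := ⁅D, P₁⁆ with hW
  have hWD : W ≤ D := comm_le_of_le_normalizer hP₁D
  have hWK : W ≤ K := by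
    rw [hW, Subgroup.commutator_le]
    intro d hd x hx
    have h2 : d * x * d⁻¹ ∈ K :=
      (Subgroup.mem_normalizer_iff.mp (hHK (hDH hd)) x).mp (hP₁K hx)
    rw [commutatorElement_def]
    exact K.mul_mem h2 (K.inv_mem (hP₁K hx))
  have hWσ : ⁅W, P₁⁆ ≤ sigmaCore M :=
    (Subgroup.commutator_mono (hWD.trans hDσ) le_rfl).trans (comm_le_of_le_normalizer hP₁σ)
  have hWπ : ⁅W, P₁⁆ ≤ Mπ :=
    (Subgroup.commutator_mono (hWD.trans hDπ) le_rfl).trans (comm_le_of_le_normalizer hP₁π)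
  have hWWK : ⁅W, P₁⁆ ≤ K :=
    (Subgroup.commutator_mono hWK hP₁K).trans (commutator_self_le K)
  rw [eq_bot_iff]
  intro z hz
  rw [Subgroup.mem_bot]
  by_contra hz1
  have hoz : orderOf z ≠ 1 := fun h => hz1 (orderOf_eq_one_iff.mp h)
  obtain ⟨q, hq, hqz⟩ := Nat.exists_prime_and_dvd hoz
  haveI : Fact q.Prime := ⟨hq⟩
  have hqσ : q ∈ sigma M :=
    isPiNum_card_sigmaCore M q hq (hqz.trans (orderOf_dvd_card_of_mem (hWσ hz)))
  have hqH : q ∣ Nat.card ↥H := hqz.trans (orderOf_dvd_card_of_mem (hKH (hWWK hz)))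
  have hpq : p ≠ q := by
    intro h
    apply hpπ
    rw [h]
    exact hqz.trans (orderOf_dvd_card_of_mem (hWπ hz))
  by_cases hqβ : q ∈ beta H
  · have hhall := (h1414 H hH).1
    have hqHβ : q ∣ Nat.card ↥(piCoreOf (beta H) H) := by
      have h1 := Cfsg.Agent.Helper7.relIndex_mul_card_of_le hhall.1
      rw [← h1] at hqH
      rcases (Nat.Prime.dvd_mul hq).mp hqH with h | h
      · exact absurd h (hhall.2.2 q hq hqβ)
      · exact h
    exact not_dvd_card_betaCore hG h1403 hM hH hconj q hqσ hqHβ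
  · obtain ⟨N, hN, hNq, hNmem⟩ := exists_normal_of_hasNormalPComplement (hK q hq hqH hqβ)
    have h5 : ⁅W, P₁⁆ ≤ N.map K.subtype := by
      rw [Subgroup.commutator_le]
      intro w hw x hx
      have hxN : (⟨x, hP₁K hx⟩ : ↥K) ∈ N := by
        apply hNmem
        rw [Subgroup.orderOf_mk]
        obtain ⟨i, hi⟩ := orderOf_eq_pow_of_isPGroup hP₁ hx
        rw [hi]
        exact Nat.Coprime.pow_left i ((Nat.coprime_primes hp hq).mpr hpq)
      refine ⟨⁅(⟨w, hWK hw⟩ : ↥K), ⟨x, hP₁K hx⟩⁆, ?_, ?_⟩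
      · rw [commutatorElement_def]
        exact N.mul_mem (hN.conj_mem _ hxN _) (N.inv_mem hxN)
      · simp [commutatorElement_def]
    obtain ⟨z', hz'N, hz'z⟩ := h5 hz
    have h6 : orderOf z' ∣ Nat.card ↥N := orderOf_dvd_card_of_mem hz'N
    have h7 : orderOf z = orderOf z' := by
      rw [← hz'z]; exact Subgroup.orderOf_coe z'
    have h8 : q ∣ Nat.card ↥N := (h7 ▸ hqz).trans h6
    exact (Nat.Prime.coprime_iff_not_dvd hq).mp hNq.symm h8

end Cfsg.Agent.Helper24.BG123
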