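import Mathlib
import Cfsg.Agent.Lib.Helper24.BG123A
import Cfsg.Agent.S1350
import Cfsg.Agent.S1403
import Cfsg.Agent.S1404
import Cfsg.Agent.S1405
import Cfsg.Agent.S1414

/-!
# Bender-Glauberman Lemma 12.3 (helper24), part B

BG 12.3 modulo BG 11.7 (`Hyp117`) and the weak form of BG 11.4 (`Hyp114`).
-/

set_option autoImplicit false

namespace Cfsg.Agent.Helper24.BG123

open Cfsg Subgroup
open scoped commutatorElement
open Cfsg.Agent.Helper14.BGTrans Cfsg.Agent.Helper14.BGUniq
open Cfsg.Agent.Helper10 (IsPiNum)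
open Cfsg.Agent.Helper15 (IsSylowIn isSylowIn_of_sylow_le isSylowIn_map_subtype isSylowIn_top
  map_conj_eq_of_mem_normalizer map_conj_map_conj card_map_conj map_conj_one
  map_conj_map_conj_inv map_conj_inv_map_conj isPGroup_map_conj map_conj_mono
  map_conj_eq_self_of_mem exists_isSylowIn_ge exists_isSylowIn isSylowIn_of_not_dvd_relIndex)
open Cfsg.Agent.Helper22.BG13
open Cfsg.Agent.Helper20.MinInv (comm_le_of_le_normalizer le_centralizer_of_comm_comm_eq_bot)
open Cfsg.Agent.Helper18.BG13P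
open Cfsg.Agent.Helper17.BG11 (Exc)

universe u

variable {G : Type u} [Group G] [Finite G]

/-- BG 11.7 for exceptional maximal subgroups, as a hypothesis -/
def Hyp117 (G : Type u) [Group G] : Prop :=
  ∀ (M : Subgroup G) (p : ℕ) [Fact p.Prime] (A A0 : Subgroup G), Exc M p A A0 →
    M ≤ normalizer ((sigmaCore M ⊔ A : Subgroup G) : Set G)

/-- the weak form of BG 11.4 for exceptional maximal subgroups, as a hypothesis -/
def Hyp114 (G : Type u) [Group G] : Prop :=
  ∀ (M : Subgroup G) (p : ℕ) [Fact p.Prime] (A A0 : Subgroup G), Exc M p A A0 →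
    ∀ H : Subgroup G, IsCoatom H → A ≤ H → sigmaCore H ⊓ sigmaCore M ≠ ⊥ → H = M

/-- the common core of BG 12.3 (a) and (b) -/
theorem lemma_12_3_core (hG : IsMinSimpleOddOrder G) (h117 : Hyp117 G) (h114 : Hyp114 G)
    {M Mstar : Subgroup G} (hM : IsCoatom M) (hMs : IsCoatom Mstar) (hne : Mstar ≠ M)
    {p : ℕ} [Fact p.Prime] {A A0 : Subgroup G} (hAM : A ≤ M) (hA : IsElementaryAbelian p A)
    (hcard : Nat.card A = p ^ 2) (hA0 : A0 ≤ A) (hcard0 : Nat.card A0 = p)
    (hN : normalizer (A0 : Set G) ≤ Mstar)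
    {Mπ : Subgroup G} (hπσ : Mπ ≤ sigmaCore M) (hπN : M ≤ normalizer (Mπ : Set G))
    (hpπ : ¬ p ∣ Nat.card ↥Mπ) :
    A ≤ centralizer ((Mπ ⊓ Mstar : Subgroup G) : Set G) := by
  have hp : p.Prime := Fact.out
  have h1403 : Hyp1403 G := fun K hK hK2 hK3 => Cfsg.Agent.S1403.result hG K hK hK2 hK3
  have h1414 : Hyp1414 G := fun M hM => Cfsg.Agent.S1414.result hG M hM
  have h1350 : Hyp1350 G := fun M hM => Cfsg.Agent.S1350.result hG M hM
  have hAc : A ≤ centralizer (A0 : Set G) :=
    (le_centralizer_iff_isMulCommutative.mpr hA.1).trans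
      (centralizer_le (SetLike.coe_subset_coe.mpr hA0))
  have hC0 : centralizer (A0 : Set G) ≤ Mstar := (centralizer_le_normalizer _).trans hN
  have hAMs : A ≤ Mstar := hAc.trans hC0
  have hAp : IsPGroup p ↥A := IsPGroup.of_card hcard
  by_cases hps : p ∈ sigma Mstar
  · by_cases hconj : ∃ g : G, Mstar = M.map (MulAut.conj g).toMonoidHom
    · exfalso
      obtain ⟨g, hg⟩ := hconj
      have hA0M : A0 ≤ M := hA0.trans hAM
      have h1 : A0.map (MulAut.conj g).toMonoidHom ≤ Mstar := by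
        rw [hg]; exact map_conj_mono hA0M g
      have hA0ne : A0 ≠ ⊥ := by
        intro h
        rw [h, Subgroup.card_bot] at hcard0
        exact hp.one_lt.ne hcard0
      have hA0p : IsPGroup p ↥A0 := IsPGroup.of_card (n := 1) (by rw [hcard0, pow_one])
      obtain ⟨m, hm, c, hc, hgmc⟩ :=
        (Cfsg.Agent.S1404.result hG Mstar hMs p hps A0 hA0p hA0ne (hA0.trans hAMs)).1 g h1
      have hgMs : g ∈ Mstar := by
        rw [hgmc]; exact mul_mem hm (hC0 hc)
      apply hne
      have h2 : M = Mstar.map (MulAut.conj g⁻¹).toMonoidHom := by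
        rw [hg, map_conj_inv_map_conj]
      rw [h2, map_conj_eq_self_of_mem (inv_mem hgMs)]
    · push_neg at hconj
      have hAσ : A ≤ sigmaCore Mstar :=
        le_sigmaCore_of_isPiNum h1350 hMs hAMs (isPiNum_of_isPGroup hps hAp)
      have hK : ∀ q : ℕ, q.Prime → q ∣ Nat.card ↥Mstar → q ∉ beta Mstar →
          HasNormalPComplement q ↥(sigmaCore Mstar) :=
        fun q hq hqd hqb => ((h1414 Mstar hMs).2.2.2.2 q hq hqd hqb).2.1
      have h3 := centralizes_core hG h1403 h1414 hM hMs hconj (sigmaCore_le Mstar)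
        (le_normalizer_sigmaCore Mstar) hK hπσ hπN hpπ hAp hAM hAσ
      exact le_centralizer_iff.mp h3
  · have hE : Exc Mstar p A A0 := ⟨hMs, hps, hAMs, hA, hcard, hA0, hcard0, hN⟩
    have hnorm := h117 Mstar p A A0 hE
    set D := Mπ ⊓ Mstar with hD
    have hDπ : D ≤ Mπ := inf_le_left
    have hDMs : D ≤ Mstar := inf_le_right
    have hAD : A ≤ normalizer (D : Set G) :=
      le_normalizer_inf_of_le (hAM.trans hπN) (hAMs.trans Subgroup.le_normalizer)
    set W := ⁅D, A⁆ with hW
    have hWD : W ≤ D := comm_le_of_le_normalizer hAD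
    have hWN : W ≤ sigmaCore Mstar ⊔ A := by
      rw [hW, Subgroup.commutator_le]
      intro d hd a ha
      have haN : a ∈ sigmaCore Mstar ⊔ A := Subgroup.mem_sup_right ha
      have h2 : d * a * d⁻¹ ∈ sigmaCore Mstar ⊔ A :=
        (Subgroup.mem_normalizer_iff.mp (hnorm (hDMs hd)) a).mp haN
      rw [commutatorElement_def]
      exact mul_mem h2 (inv_mem haN)
    have hAN : A ≤ normalizer ((sigmaCore Mstar : Subgroup G) : Set G) :=
      hAMs.trans (le_normalizer_sigmaCore Mstar)
    have hcardW : Nat.card ↥W ∣ Nat.card ↥(sigmaCore Mstar) := by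
      have h1 : Nat.card ↥W ∣ Nat.card ↥(sigmaCore Mstar) * Nat.card ↥A :=
        (Subgroup.card_dvd_of_le hWN).trans
          (Cfsg.Agent.Helper7.card_sup_dvd_mul_of_le_normalizer hAN)
      have h2 : (Nat.card ↥W).Coprime (Nat.card ↥A) := by
        rw [hcard]
        apply Nat.Coprime.pow_right
        rw [Nat.coprime_comm]
        exact (Nat.Prime.coprime_iff_not_dvd hp).mpr
          (fun h => hpπ (h.trans (Subgroup.card_dvd_of_le (hWD.trans hDπ))))
      exact h2.dvd_of_dvd_mul_right h1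
    have hWσs : W ≤ sigmaCore Mstar :=
      le_sigmaCore_of_isPiNum h1350 hMs (hWD.trans hDMs)
        (IsPiNum.of_dvd hcardW (isPiNum_card_sigmaCore Mstar))
    have hWbot : W = ⊥ := by
      by_contra hW1
      apply hne
      symm
      apply h114 Mstar p A A0 hE M hM hAM
      intro h
      apply hW1
      rw [eq_bot_iff, ← h]
      exact le_inf (hWD.trans (hDπ.trans hπσ)) hWσs
    have h4 : D ≤ centralizer (A : Set G) :=
      Subgroup.commutator_eq_bot_iff_le_centralizer.mp hWbot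
    exact le_centralizer_iff.mp h4

/-- BG Lemma 12.3, both parts -/
theorem lemma_12_3 (hG : IsMinSimpleOddOrder G) (h117 : Hyp117 G) (h114 : Hyp114 G)
    (M Mstar : Subgroup G) (hM : IsCoatom M) (hMs : IsCoatom Mstar) (hne : Mstar ≠ M)
    (p : ℕ) [Fact p.Prime] (A A0 : Subgroup G) (hAM : A ≤ M) (hA : IsElementaryAbelian p A)
    (hcard : Nat.card A = p ^ 2) (hA0 : A0 ≤ A) (hcard0 : Nat.card A0 = p)
    (hN : normalizer (A0 : Set G) ≤ Mstar) :
    (p ∉ sigma M → A ≤ centralizer ((sigmaCore M ⊓ Mstar : Subgroup G) : Set G)) ∧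
      (p ∉ alpha M → A ≤ centralizer ((alphaCore M ⊓ Mstar : Subgroup G) : Set G)) := by
  have hp : p.Prime := Fact.out
  constructor
  · intro hpσ
    exact lemma_12_3_core hG h117 h114 hM hMs hne hAM hA hcard hA0 hcard0 hN le_rfl
      (le_normalizer_sigmaCore M) (fun h => hpσ (isPiNum_card_sigmaCore M p hp h))
  · intro hpα
    have h5 := Cfsg.Agent.S1405.result hG M hM
    have hαN : M ≤ normalizer ((alphaCore M : Subgroup G) : Set G) :=
      le_normalizer_piCoreOf (alpha M) M
    have hαc : ¬ p ∣ Nat.card ↥(alphaCore M) :=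
      fun h => hpα (card_piCoreOf (alpha M) M p hp h)
    exact lemma_12_3_core hG h117 h114 hM hMs hne hAM hA hcard hA0 hcard0 hN h5.2.2.1 hαN hαc

end Cfsg.Agent.Helper24.BG123
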