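import Mathlib
import Cfsg.Agent.Lib.Helper24.BG123B
import Cfsg.Agent.S1410

/-!
# Bender-Glauberman Theorem 12.5 (helper24)

The statement of S1417 from S1416 and the results of BG section 11 (taken as hypotheses).
-/

set_option autoImplicit false

namespace Cfsg.Agent.Helper24.BG125

open Cfsg Subgroup
open scoped commutatorElement
open Cfsg.Agent.Helper15 (mem_map_conj_iff conj_mem_map_conj map_conj_map_conj map_conj_one
  map_conj_inv_map_conj map_conj_map_conj_inv map_conj_mono card_map_conj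
  map_conj_eq_of_mem_normalizer map_conj_le_of_mem)
open Cfsg.Agent.Helper22.BG13 (Hyp1416)
open Cfsg.Agent.Helper17.BG11
open Cfsg.Agent.Helper24.BG123 (Hyp117 Hyp114)

universe u

variable {G : Type u} [Group G] [Finite G]

/-- BG 11.5 (Sylow `p`-subgroups of an exceptional maximal subgroup are abelian) -/
def Hyp115 (G : Type u) [Group G] : Prop :=
  ∀ (M : Subgroup G) (p : ℕ) [Fact p.Prime] (A A0 : Subgroup G), Exc M p A A0 →
    ∀ P : Sylow p M, IsMulCommutative (P : Subgroup M)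

/-- Lemma W (BG 11.6(b) is the case `T = A`) -/
def HypW (G : Type u) [Group G] : Prop :=
  ∀ (M : Subgroup G), IsCoatom M → ∀ (q : ℕ) [Fact q.Prime], q ∉ sigma M →
    ∀ T : Subgroup G, T ≤ M → IsElementaryAbelian q T → Nat.card T = q ^ 2 →
      centralizer (T : Set G) ≤ M → sigmaCore M ⊓ centralizer (T : Set G) = ⊥

/-- BG 12.5(e) for exceptional maximal subgroups -/
def Hyp125e (G : Type u) [Group G] : Prop :=
  ∀ (M : Subgroup G) (p : ℕ) [Fact p.Prime] (A A0 : Subgroup G), Exc M p A A0 →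
    ∀ Mstar : Subgroup G, IsCoatom Mstar → Mstar ≠ M → A ≤ Mstar → sigmaCore M ⊓ Mstar = ⊥

theorem h1410 (hG : IsMinSimpleOddOrder G) : H1410 G :=
  fun p _ H hH => Cfsg.Agent.S1410.result hG p H hH

/-- a maximal subgroup with `p ∈ τ₂(M)` is exceptional -/
theorem exists_exc (hG : IsMinSimpleOddOrder G) (h1416 : Hyp1416 G) {M : Subgroup G}
    (hM : IsCoatom M) {p : ℕ} [Fact p.Prime] (hp : p ∈ tau2 M) {A : Subgroup G}
    (hA : A ≤ M ∧ IsElementaryAbelian p A ∧ Nat.card A = p ^ 2) :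
    ∃ A0 : Subgroup G, Exc M p A A0 := by
  by_contra hcon
  have h1 := (h1416 M hM p A hA).2 (by
    intro A0 hA0 hc h
    exact hcon ⟨A0, ⟨hM, hp.2.1, hA.1, hA.2.1, hA.2.2, hA0, hc, h.1⟩⟩)
  exact hp.2.1 h1.1

/-- BG 12.5(e) from 12.3, weak 11.4, 11.7 and Lemma W -/
theorem lemma_12_5e (hG : IsMinSimpleOddOrder G) (h1416 : Hyp1416 G) (h117 : Hyp117 G)
    (h114 : Hyp114 G) (hW : HypW G) : Hyp125e G := by
  intro M p _ A A0 hE Mstar hMs hne hAMs
  have hp : p.Prime := Fact.out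
  have h1350 : Cfsg.Agent.Helper22.BG13.Hyp1350 G :=
    fun M hM => Cfsg.Agent.S1350.result hG M hM
  have h1403 : Cfsg.Agent.Helper22.BG13.Hyp1403 G :=
    fun K hK hK2 hK3 => Cfsg.Agent.S1403.result hG K hK hK2 hK3
  have hfix : sigmaCore M ⊓ centralizer (A : Set G) = ⊥ :=
    hW M hE.hM p hE.hp A hE.hAM hE.hA hE.hcard hE.cent_le
  suffices h : A ≤ centralizer ((sigmaCore M ⊓ Mstar : Subgroup G) : Set G) by
    rw [eq_bot_iff, ← hfix]
    exact le_inf inf_le_left (le_centralizer_iff.mp h)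
  by_cases hps : p ∈ sigma Mstar
  · have hAσ : A ≤ sigmaCore Mstar :=
      Cfsg.Agent.Helper22.BG13.le_sigmaCore_of_isPiNum h1350 hMs hAMs
        (Cfsg.Agent.Helper22.BG13.isPiNum_of_isPGroup hps hE.isPGroup)
    have hbot : sigmaCore Mstar ⊓ sigmaCore M = ⊥ := by
      by_contra h
      exact hne (h114 M p A A0 hE Mstar hMs hAMs h)
    set D := sigmaCore M ⊓ Mstar with hD
    have hAD : A ≤ normalizer (D : Set G) :=
      Cfsg.Agent.Helper18.BG13P.le_normalizer_inf_of_le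
        (hE.hAM.trans (le_normalizer_sigmaCore M)) (hAMs.trans Subgroup.le_normalizer)
    have hW1 : ⁅D, A⁆ ≤ D := Cfsg.Agent.Helper20.MinInv.comm_le_of_le_normalizer hAD
    have hW2 : ⁅D, A⁆ ≤ sigmaCore Mstar := by
      rw [Subgroup.commutator_le]
      intro d hd a ha
      have h1 : d * a * d⁻¹ ∈ sigmaCore Mstar :=
        (mem_normalizer_iff.mp (le_normalizer_sigmaCore Mstar
          ((inf_le_right : D ≤ Mstar) hd)) a).mp (hAσ ha)
      rw [commutatorElement_def]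
      exact mul_mem h1 (inv_mem (hAσ ha))
    have h3 : ⁅D, A⁆ = ⊥ := by
      rw [eq_bot_iff, ← hbot]
      exact le_inf hW2 (hW1.trans inf_le_left)
    exact le_centralizer_iff.mp (Subgroup.commutator_eq_bot_iff_le_centralizer.mp h3)
  · have hr2 : PRankLE p 2 ↥Mstar := by
      by_contra h
      exact hps (Cfsg.Agent.Helper23.BG10.alpha_subset_sigma hG h1403 hMs ⟨hp, h⟩)
    have hpp : p < p ^ 2 := by
      have := hp.one_lt
      nlinarith
    have hr1 : ¬ PRankLE p 1 ↥Mstar :=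
      Cfsg.Agent.Helper14.BGUniq.not_pRankLE_of_le hAMs hE.hA
        (by rw [hE.hcard, pow_one]; exact hpp)
    have hτ : p ∈ tau2 Mstar := ⟨hp, hps, hr2, hr1⟩
    obtain ⟨B0, hEs⟩ := exists_exc hG h1416 hMs hτ ⟨hAMs, hE.hA, hE.hcard⟩
    exact (Cfsg.Agent.Helper24.BG123.lemma_12_3 hG h117 h114 M Mstar hE.hM hMs hne p A B0
      hE.hAM hE.hA hE.hcard hEs.hA0 hEs.hcard0 hEs.hN).1 hE.hp

/-- BG Theorem 12.5 = the statement of S1417 -/
theorem theorem_12_5 (hG : IsMinSimpleOddOrder G) (h1416 : Hyp1416 G) (h115 : Hyp115 G)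
    (h117 : Hyp117 G) (hW : HypW G) (h125e : Hyp125e G)
    (M : Subgroup G) (hM : IsCoatom M) (p : ℕ) [Fact p.Prime] (hp : p ∈ tau2 M)
    (A : Subgroup G) (hA : A ≤ M ∧ IsElementaryAbelian p A ∧ Nat.card A = p ^ 2) :
    Group.IsNilpotent (sigmaCore M) ∧
      (∀ P : Sylow p M, IsMulCommutative (P : Subgroup M) ∧
        (A ≤ (P : Subgroup M).map M.subtype →
          (∀ x ∈ (P : Subgroup M).map M.subtype, x ^ p = 1 ↔ x ∈ A) ∧
          ¬ normalizer ((((P : Subgroup M).map M.subtype : Subgroup G)) : Set G) ≤ M)) ∧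
      M ≤ normalizer ((sigmaCore M ⊔ A : Subgroup G) : Set G) ∧
      sigmaCore M ⊓ centralizer (A : Set G) = ⊥ ∧
      (∀ Mstar : Subgroup G, IsCoatom Mstar → Mstar ≠ M → A ≤ Mstar →
        sigmaCore M ⊓ Mstar = ⊥) ∧
      ∃ A₁ : Subgroup G, A₁ ≤ A ∧ Nat.card A₁ = p ∧
        sigmaCore M ⊓ centralizer (A₁ : Set G) = ⊥ := by
  have hpp : p.Prime := Fact.out
  obtain ⟨A0, hE⟩ := exists_exc hG h1416 hM hp hA
  have h10 := h1410 hG
  -- elements of order dividing `p` in an abelian Sylow subgroup over `A` lie in `A`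
  have hkey : ∀ P : Sylow p M, A ≤ (P : Subgroup M).map M.subtype →
      ∀ x ∈ (P : Subgroup M).map M.subtype, x ^ p = 1 → x ∈ A := by
    intro P hAP x hx hxp
    have hab : IsMulCommutative (P : Subgroup M) := h115 M p A A0 hE P
    apply hE.mem_of_cent hG _ hxp
    rw [mem_centralizer_iff]
    intro a ha
    obtain ⟨x', hx', rfl⟩ := hx
    obtain ⟨a', ha', rfl⟩ := hAP ha
    have h1 : (⟨a', ha'⟩ : (P : Subgroup M)) * ⟨x', hx'⟩ = ⟨x', hx'⟩ * ⟨a', ha'⟩ :=
      hab.is_comm.comm _ _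
    have h2 : a' * x' = x' * a' := congrArg Subtype.val h1
    exact congrArg Subtype.val h2
  refine ⟨theorem_11_3 hG h10 hE, ?_, h117 M p A A0 hE, ?_, h125e M p A A0 hE, ?_⟩
  · intro P
    refine ⟨h115 M p A A0 hE P, fun hAP => ⟨?_, ?_⟩⟩
    · intro x hx
      exact ⟨hkey P hAP x hx, fun h => hE.hA.2 x h⟩
    · intro h
      exact hE.hp ⟨hpp, hE.p_dvd_card, P, h⟩
  · exact hW M hM p hE.hp A hE.hAM hE.hA hE.hcard hE.cent_le
  · obtain ⟨P, g, hAP, hgN, hgM⟩ := hE.exists_normalizer_not_mem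
    have hPM : (P : Subgroup M).map M.subtype ≤ M := map_subtype_le _
    have hAg : A ≤ M.map (MulAut.conj g).toMonoidHom := by
      have h1 : (P : Subgroup M).map M.subtype ≤ M.map (MulAut.conj g).toMonoidHom := by
        have := map_conj_mono hPM g
        rwa [map_conj_eq_of_mem_normalizer hgN] at this
      exact hAP.trans h1
    refine ⟨A0.map (MulAut.conj g).toMonoidHom, ?_, ?_, lemma_11_2b hG h10 hE hgM hAg⟩
    · intro y hy
      rw [mem_map_conj_iff] at hy
      have h1 : g⁻¹ * y * g ∈ (P : Subgroup M).map M.subtype := hAP (hE.hA0 hy)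
      have h2 : y ∈ (P : Subgroup M).map M.subtype := by
        have h3 := (mem_normalizer_iff.mp hgN (g⁻¹ * y * g)).mp h1
        have h4 : g * (g⁻¹ * y * g) * g⁻¹ = y := by group
        rwa [h4] at h3
      apply hkey P hAP y h2
      have h5 : (g⁻¹ * y * g) ^ p = 1 := hE.hA.2 _ (hE.hA0 hy)
      have h6 : y = g * (g⁻¹ * y * g) * g⁻¹ := by group
      rw [h6, conj_pow, h5]
      group
    · rw [card_map_conj, hE.hcard0]

end Cfsg.Agent.Helper24.BG125
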