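import Mathlib
import Cfsg.Agent.Lib.Helper24.BG125
import Cfsg.Agent.Lib.Helper18.BG13P4

/-!
# Assembly lemmas for BG 12.3 - 12.5 (helper24)

The weak form of BG 11.4 without the hypothesis `p ∉ σ(H)`.
-/

set_option autoImplicit false

namespace Cfsg.Agent.Helper24.BG125

open Cfsg Subgroup
open Cfsg.Agent.Helper22.BG13 (Hyp1403 Hyp1414 Hyp1350)
open Cfsg.Agent.Helper17.BG11
open Cfsg.Agent.Helper24.BG123 (Hyp117 Hyp114)

universe u

variable {G : Type u} [Group G] [Finite G]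

/-- the weak form of BG 11.4 under the extra hypothesis `p ∉ σ(H)` -/
def Hyp114w (G : Type u) [Group G] : Prop :=
  ∀ (M : Subgroup G) (p : ℕ) [Fact p.Prime] (A A0 : Subgroup G), Exc M p A A0 →
    ∀ H : Subgroup G, IsCoatom H → A ≤ H → p ∉ sigma H →
      sigmaCore H ⊓ sigmaCore M ≠ ⊥ → H = M

theorem hyp114_of (hG : IsMinSimpleOddOrder G) (hw : Hyp114w G) (hW : HypW G) : Hyp114 G := by
  intro M p _ A A0 hE H hH hAH hne
  by_cases hpH : p ∈ sigma H
  · exfalso
    have h1403 : Hyp1403 G := fun K hK hK2 hK3 => Cfsg.Agent.S1403.result hG K hK hK2 hK3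
    have h1414 : Hyp1414 G := fun M hM => Cfsg.Agent.S1414.result hG M hM
    have h1350 : Hyp1350 G := fun M hM => Cfsg.Agent.S1350.result hG M hM
    have hconj : ∀ g : G, H ≠ M.map (MulAut.conj g).toMonoidHom := by
      intro g hg
      rw [hg] at hpH
      exact hE.hp (Cfsg.Agent.Helper18.BG13P.mem_sigma_of_map_conj hpH)
    have hAσ : A ≤ sigmaCore H :=
      Cfsg.Agent.Helper22.BG13.le_sigmaCore_of_isPiNum h1350 hH hAH
        (Cfsg.Agent.Helper22.BG13.isPiNum_of_isPGroup hpH hE.isPGroup)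
    have hK : ∀ q : ℕ, q.Prime → q ∣ Nat.card ↥H → q ∉ beta H →
        HasNormalPComplement q ↥(sigmaCore H) :=
      fun q hq hqd hqb => ((h1414 H hH).2.2.2.2 q hq hqd hqb).2.1
    have h3 := Cfsg.Agent.Helper18.BG13P.centralizes_of_le_normal hG h1403 h1414 hE.hM hH hconj
      (Cfsg.Agent.Helper22.BG13.sigmaCore_le H)
      (Cfsg.Agent.Helper22.BG13.le_normalizer_sigmaCore H) hK hE.hp hE.isPGroup hE.hAM hAσ
    have hfix : sigmaCore M ⊓ centralizer (A : Set G) = ⊥ :=
      hW M hE.hM p hE.hp A hE.hAM hE.hA hE.hcard hE.cent_le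
    apply hne
    rw [eq_bot_iff, ← hfix]
    refine le_inf inf_le_right ?_
    exact (le_inf inf_le_right (inf_le_left.trans (Cfsg.Agent.Helper22.BG13.sigmaCore_le H))).trans h3
  · exact hw M p A A0 hE H hH hAH hpH hne

end Cfsg.Agent.Helper24.BG125
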