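import Mathlib
import Cfsg.Agent.Lib.Helper24.BG12Asm
import Cfsg.Agent.Lib.Helper17.BG11W

/-!
# The weak form of BG 11.4 (helper24; proof due to helper12)

`M` exceptional for `(p, A₀, A)`, `H` a maximal subgroup containing `A` with `p ∉ σ(H)` and
`H_σ ∩ M_σ ≠ 1`.  Then `H = M`.
-/

set_option autoImplicit false
set_option linter.style.haveILetI false

namespace Cfsg.Agent.Helper24.BG125

open Cfsg Subgroup
open Cfsg.Agent.Helper15 (mem_map_conj_iff conj_mem_map_conj map_conj_map_conj map_conj_one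
  map_conj_inv_map_conj map_conj_map_conj_inv map_conj_mono card_map_conj
  map_conj_eq_of_mem_normalizer map_conj_le_of_mem isSylowIn_map_subtype isSylowIn_of_sylow_le)
open Cfsg.Agent.Helper17.BG11

universe u

variable {G : Type u} [Group G] [Finite G]

theorem weak11_4 (hG : IsMinSimpleOddOrder G) : Hyp114w G := by
  intro M p _ A A0 hE H hH hAH hpH hne
  have h10 := h1410 hG
  obtain ⟨D, hDdef⟩ : ∃ D : Subgroup G, D = sigmaCore H ⊓ sigmaCore M := ⟨_, rfl⟩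
  rw [← hDdef] at hne
  have hDσ : D ≤ sigmaCore M := hDdef ▸ inf_le_right
  have hDH : D ≤ sigmaCore H := hDdef ▸ inf_le_left
  obtain ⟨hσ, hσG⟩ := sigmaHall hG hE.hM
  obtain ⟨hσH, hσHG⟩ := sigmaHall hG hH
  have hcardD : Nat.card D ≠ 1 := fun h => hne (card_eq_one.mp h)
  obtain ⟨q, hqp, hqD⟩ := Nat.exists_prime_and_dvd hcardD
  haveI := Fact.mk hqp
  have hqσ : q ∈ sigma M := prime_mem_sigma_of_dvd_card M hDσ hqp hqD
  have hqσH : q ∈ sigma H := prime_mem_sigma_of_dvd_card H hDH hqp hqD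
  have hAσ : A ≤ normalizer (sigmaCore M : Set G) := hE.hAM.trans (le_normalizer_sigmaCore M)
  have hAσH : A ≤ normalizer (sigmaCore H : Set G) := hAH.trans (le_normalizer_sigmaCore H)
  have hAD : A ≤ normalizer (D : Set G) := by
    rw [hDdef]
    exact Cfsg.Agent.Helper18.BG13P.le_normalizer_inf_of_le hAσH hAσ
  have hsolvA := hE.isSolvable
  have hcopH : (Nat.card A).Coprime (Nat.card (sigmaCore H)) := by
    rw [hE.hcard]
    apply Nat.Coprime.pow_left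
    rw [Nat.Prime.coprime_iff_not_dvd Fact.out]
    intro h
    exact hpH (prime_mem_sigma_of_dvd_card H le_rfl Fact.out h)
  obtain ⟨P, hP⟩ := Cfsg.Agent.Helper1.exists_invariant_sylow (p := q) (K := D) A hAD
    (hE.coprime_card hDσ) (Or.inl hsolvA)
  obtain ⟨Dq, hDq⟩ : ∃ Dq : Subgroup G, Dq = (P : Subgroup D).map D.subtype := ⟨_, rfl⟩
  rw [← hDq] at hP
  have hDqp : IsPGroup q Dq := hDq ▸ P.isPGroup'.map _
  have hDq1 : Dq ≠ ⊥ := by
    intro h
    have h1 : Nat.card Dq = 1 := by rw [h]; exact card_bot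
    rw [hDq, card_map_of_injective D.subtype_injective, P.card_eq_multiplicity] at h1
    have hk : 0 < (Nat.card D).factorization q :=
      hqp.factorization_pos_of_dvd Nat.card_pos.ne' hqD
    exact absurd h1 (Nat.one_lt_pow hk.ne' hqp.one_lt).ne'
  have hDqD : Dq ≤ D := hDq ▸ map_subtype_le _
  have hDqσ : Dq ≤ sigmaCore M := hDqD.trans hDσ
  have hDqH : Dq ≤ sigmaCore H := hDqD.trans hDH
  -- the Sylow subgroup `Q1` of `G` in `M_σ`
  obtain ⟨P1, hP1, hAP1⟩ := Cfsg.Agent.S0025.result A (sigmaCore M) hAσ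
    (hE.coprime_card le_rfl) (Or.inl hsolvA) q Dq hDqσ hDqp hP
  obtain ⟨Q1, hQ1⟩ := exists_sylow_eq_of_sylow_hall (sigmaCore M) (hσG.2 q hqp hqσ) P1
  -- the Sylow subgroup `Q2` of `G` in `H_σ`
  obtain ⟨P2, hP2, hAP2⟩ := Cfsg.Agent.S0025.result A (sigmaCore H) hAσH
    hcopH (Or.inl hsolvA) q Dq hDqH hDqp hP
  obtain ⟨Q2, hQ2⟩ := exists_sylow_eq_of_sylow_hall (sigmaCore H) (hσHG.2 q hqp hqσH) P2
  have hQ1M : (Q1 : Subgroup G) ≤ M := by
    rw [hQ1]
    exact (map_subtype_le _).trans (sigmaCore_le M)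
  have hQ2H : (Q2 : Subgroup G) ≤ H := by
    rw [hQ2]
    exact (map_subtype_le _).trans (sigmaCore_le H)
  have hDqM : Dq ≤ M := hDqσ.trans (sigmaCore_le M)
  have hqp' : q ≠ p := fun h => hE.hp (h ▸ hqσ)
  have hqA : ¬ q ∣ Nat.card A := by
    rw [hE.hcard]
    intro h
    exact hqp' ((Nat.prime_dvd_prime_iff_eq Fact.out Fact.out).mp
      ((Fact.out : q.Prime).dvd_of_dvd_pow h))
  have hm1 : M ⊓ (Q1 : Subgroup G) ≠ ⊥ := by
    intro h
    apply hDq1
    rw [eq_bot_iff, ← h]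
    exact le_inf hDqM (hQ1 ▸ hP1)
  have hm2 : M ⊓ (Q2 : Subgroup G) ≠ ⊥ := by
    intro h
    apply hDq1
    rw [eq_bot_iff, ← h]
    exact le_inf hDqM (hQ2 ▸ hP2)
  obtain ⟨k, hk, hQ⟩ := Cfsg.Agent.S1392.result hG A (hE.transHyp hG h10) q Fact.out hqA
    (Q1 : Subgroup G) (Q2 : Subgroup G) (sylow_mem_maxInv A Q1 (hQ1 ▸ hAP1))
    (sylow_mem_maxInv A Q2 (hQ2 ▸ hAP2)) M hE.hM.1 hE.hAM hm1 hm2
  have hkC : k ∈ centralizer (A : Set G) := Cfsg.Agent.Helper14.BGTrans.piCoreOf_le _ _ hk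
  have hkM : k ∈ M := hE.cent_le hkC
  -- `Q1` is normal in `M`
  have hnil : Group.IsNilpotent (sigmaCore M) := theorem_11_3 hG h10 hE
  have hMQ1 : M ≤ normalizer ((Q1 : Subgroup G) : Set G) := by
    rw [hQ1]
    exact Cfsg.Agent.Helper22.BG13.le_normalizer_sylow_of_nilpotent_normal
      (le_normalizer_sigmaCore M) hnil (isSylowIn_map_subtype P1)
  have hQ21 : (Q2 : Subgroup G) = (Q1 : Subgroup G) := by
    rw [hQ]
    exact map_conj_eq_of_mem_normalizer (hMQ1 hkM)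
  have hN2 : normalizer ((Q2 : Subgroup G) : Set G) ≤ H :=
    Cfsg.Agent.Helper22.BG13.normalizer_le_of_mem_sigma hqσH (isSylowIn_of_sylow_le Q2 hQ2H)
  have hMH : M ≤ H := by
    rw [← hQ21] at hMQ1
    exact hMQ1.trans hN2
  exact (Cfsg.Agent.Helper22.BG13.eq_of_isCoatom_le hE.hM hH hMH).symm

end Cfsg.Agent.Helper24.BG125
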