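import Mathlib
import Cfsg.Agent.Lib.Helper24.BG114
import Cfsg.Agent.Lib.Helper17.BG11Z
import Cfsg.Agent.Lib.Helper5.BG124D

/-!
# Final assembly lemmas for S1416 / S1417 (helper24)

Everything in BG 11.x / 12.3 - 12.5 modulo BG 11.5 (`Hyp115`).
-/

set_option autoImplicit false

namespace Cfsg.Agent.Helper24.BG125

open Cfsg Subgroup
open Cfsg.Agent.Helper22.BG13 (Hyp1416)
open Cfsg.Agent.Helper17.BG11
open Cfsg.Agent.Helper24.BG123 (Hyp117 Hyp114)

universe u

variable {G : Type u} [Group G] [Finite G]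

/-- Lemma W (helper17) in the `HypW` shape -/
theorem hypW (hG : IsMinSimpleOddOrder G) : HypW G :=
  fun M hM q _ hq T hTM hT hc hC => lemma_W hG ⟨hM, hq, hTM, hT, hc, hC⟩

/-- the weak form of BG 11.4 -/
theorem hyp114 (hG : IsMinSimpleOddOrder G) : Hyp114 G :=
  hyp114_of hG (weak11_4 hG) (hypW hG)

/-- BG 11.7 from 11.5 (helper17 + helper25 + helper23) -/
theorem hyp117_of (hG : IsMinSimpleOddOrder G) (h115 : Hyp115 G) : Hyp117 G :=
  fun M p _ A A0 hE => sec11_7 hG hE (h115 M p A A0 hE)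

/-- BG 12.3 in helper5's shape -/
theorem lemma123_of (hG : IsMinSimpleOddOrder G) (h115 : Hyp115 G) :
    Cfsg.Agent.Helper5.BG124.Lemma123 G :=
  fun M Ms hM hMs hne p _ A A0 h1 h2 h3 h4 h5 h6 =>
    Cfsg.Agent.Helper24.BG123.lemma_12_3 hG (hyp117_of hG h115) (hyp114 hG) M Ms hM hMs hne p
      A A0 h1 h2 h3 h4 h5 h6

/-- the statement of S1416 from BG 11.5 -/
theorem hyp1416_of (hG : IsMinSimpleOddOrder G) (h115 : Hyp115 G) : Hyp1416 G :=
  fun M hM p _ A hA => Cfsg.Agent.Helper5.BG124.prop_12_4 hG (lemma123_of hG h115) M hM p A hA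

/-- BG 12.5(e) from BG 11.5 -/
theorem hyp125e_of (hG : IsMinSimpleOddOrder G) (h115 : Hyp115 G) : Hyp125e G :=
  lemma_12_5e hG (hyp1416_of hG h115) (hyp117_of hG h115) (hyp114 hG) (hypW hG)

end Cfsg.Agent.Helper24.BG125
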