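import Mathlib
import Cfsg.Agent.Lib.Helper3.BSWArithDefs

/-!
# S3282 ARITH piece SUPP (helper24): integer vectors of norm 1, 2, 3
-/

set_option autoImplicit false
set_option linter.unusedSectionVars false

namespace Cfsg.Agent.Helper3.BSW

variable {ι J : Type*} [Fintype ι] [Fintype J] [DecidableEq ι] [DecidableEq J]

namespace SUPP

/-- extract one entry `±1` from a sum of squares equal to `n ∈ {1,2,3}` -/
theorem step (s : Finset ι) (v : ι → ℤ) (n : ℤ) (h1 : 1 ≤ n) (h3 : n ≤ 3)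
    (h : ∑ i ∈ s, v i ^ 2 = n) :
    ∃ A ∈ s, (v A = 1 ∨ v A = -1) ∧ ∑ i ∈ s.erase A, v i ^ 2 = n - 1 := by
  have hex : ∃ A ∈ s, v A ≠ 0 := by
    by_contra hno
    push Not at hno
    have : ∑ i ∈ s, v i ^ 2 = 0 := by
      apply Finset.sum_eq_zero
      intro i hi
      rw [hno i hi]
      norm_num
    omega
  obtain ⟨A, hA, hvA⟩ := hex
  have hsplit : v A ^ 2 + ∑ i ∈ s.erase A, v i ^ 2 = ∑ i ∈ s, v i ^ 2 :=
    Finset.add_sum_erase s (fun i => v i ^ 2) hA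
  have hnn : 0 ≤ ∑ i ∈ s.erase A, v i ^ 2 := Finset.sum_nonneg (fun i _ => sq_nonneg (v i))
  have hle : v A ^ 2 ≤ 3 := by linarith
  have hb1 : v A ≤ 1 := by
    by_contra hc
    push Not at hc
    nlinarith
  have hb2 : -1 ≤ v A := by
    by_contra hc
    push Not at hc
    nlinarith
  have hcases : v A = 1 ∨ v A = -1 := by omega
  refine ⟨A, hA, hcases, ?_⟩
  have hsq : v A ^ 2 = 1 := by
    rcases hcases with h' | h' <;> rw [h'] <;> norm_num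
  linarith

/-- a vanishing sum of squares -/
theorem zero (s : Finset ι) (v : ι → ℤ) (h : ∑ i ∈ s, v i ^ 2 = 0) : ∀ i ∈ s, v i = 0 := by
  intro i hi
  have := (Finset.sum_eq_zero_iff_of_nonneg (fun j _ => sq_nonneg (v j))).mp h i hi
  exact pow_eq_zero_iff (by norm_num) |>.mp this

end SUPP

/-- PIECE SUPP. -/
theorem supp_one (v : ι → ℤ) (h : ∑ i, v i ^ 2 = 1) :
    ∃ A : ι, (v A = 1 ∨ v A = -1) ∧ ∀ i, i ≠ A → v i = 0 := by
  obtain ⟨A, _, hA, hr⟩ := SUPP.step Finset.univ v 1 (by norm_num) (by norm_num) h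
  refine ⟨A, hA, ?_⟩
  intro i hi
  have hr' : ∑ i ∈ Finset.univ.erase A, v i ^ 2 = 0 := by rw [hr]; norm_num
  apply SUPP.zero _ v hr' i
  simp [hi]

/-- PIECE SUPP. -/
theorem supp_two (v : ι → ℤ) (h : ∑ i, v i ^ 2 = 2) :
    ∃ A B : ι, A ≠ B ∧ (v A = 1 ∨ v A = -1) ∧ (v B = 1 ∨ v B = -1) ∧
      ∀ i, i ≠ A → i ≠ B → v i = 0 := by
  obtain ⟨A, _, hA, hr⟩ := SUPP.step Finset.univ v 2 (by norm_num) (by norm_num) h
  obtain ⟨B, hBm, hB, hr2⟩ := SUPP.step (Finset.univ.erase A) v 1 (by norm_num) (by norm_num)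
    (by rw [hr]; norm_num)
  have hBA : B ≠ A := (Finset.mem_erase.mp hBm).1
  refine ⟨A, B, hBA.symm, hA, hB, ?_⟩
  intro i hiA hiB
  have hr' : ∑ i ∈ (Finset.univ.erase A).erase B, v i ^ 2 = 0 := by rw [hr2]; norm_num
  apply SUPP.zero _ v hr' i
  simp [hiA, hiB]

/-- PIECE SUPP. -/
theorem supp_three (v : ι → ℤ) (h : ∑ i, v i ^ 2 = 3) :
    ∃ A B C : ι, A ≠ B ∧ A ≠ C ∧ B ≠ C ∧ (v A = 1 ∨ v A = -1) ∧ (v B = 1 ∨ v B = -1) ∧
      (v C = 1 ∨ v C = -1) ∧ ∀ i, i ≠ A → i ≠ B → i ≠ C → v i = 0 := by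
  obtain ⟨A, _, hA, hr⟩ := SUPP.step Finset.univ v 3 (by norm_num) (by norm_num) h
  obtain ⟨B, hBm, hB, hr2⟩ := SUPP.step (Finset.univ.erase A) v 2 (by norm_num) (by norm_num)
    (by rw [hr]; norm_num)
  obtain ⟨C, hCm, hC, hr3⟩ := SUPP.step ((Finset.univ.erase A).erase B) v 1 (by norm_num)
    (by norm_num) (by rw [hr2]; norm_num)
  have hBA : B ≠ A := (Finset.mem_erase.mp hBm).1
  have hCB : C ≠ B := (Finset.mem_erase.mp hCm).1
  have hCA : C ≠ A := (Finset.mem_erase.mp (Finset.mem_erase.mp hCm).2).1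
  refine ⟨A, B, C, hBA.symm, hCA.symm, hCB.symm, hA, hB, hC, ?_⟩
  intro i hiA hiB hiC
  have hr' : ∑ i ∈ ((Finset.univ.erase A).erase B).erase C, v i ^ 2 = 0 := by rw [hr3]; norm_num
  apply SUPP.zero _ v hr' i
  simp [hiA, hiB, hiC]

end Cfsg.Agent.Helper3.BSW
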