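import Mathlib
import Cfsg.Agent.Lib.Helper3.BSWArithDefs
import Cfsg.Agent.Lib.Helper24.BSWSUPP

/-!
# S3282 ARITH piece PAIR (helper24): `b j = e_o + e_{X j} - e_{Y j}` for `j ≠ j0`
-/

set_option autoImplicit false
set_option linter.unusedSectionVars false
set_option linter.unusedVariables false

namespace Cfsg.Agent.Helper3.BSW

variable {ι J : Type*} [Fintype ι] [Fintype J] [DecidableEq ι] [DecidableEq J]

namespace PAIR

theorem ind_self (X : ι) : ind X X = 1 := by simp [ind]

theorem ind_ne {X i : ι} (h : i ≠ X) : ind X i = 0 := by simp [ind, h]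

theorem sum_mul_ind (f : ι → ℤ) (X : ι) : ∑ i, f i * ind X i = f X := by
  simp [ind]

theorem sum_ind_mul (f : ι → ℤ) (X : ι) : ∑ i, ind X i * f i = f X := by
  simp [ind]

theorem ind_sq (X i : ι) : ind X i ^ 2 = ind X i := by
  unfold ind
  split_ifs <;> norm_num

theorem sum_ind (X : ι) : ∑ i, ind X i = 1 := by
  simp [ind]

/-- uniqueness of a difference of two indicator vectors -/
theorem ind_sub_unique {x y x' y' : ι} (hxy : x ≠ y) (hxy' : x' ≠ y')
    (h : ∀ i, ind x i - ind y i = ind x' i - ind y' i) : x = x' ∧ y = y' := by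
  have h1 := h x
  have h2 := h y
  rw [ind_self, ind_ne hxy] at h1
  rw [ind_self, ind_ne hxy.symm] at h2
  constructor
  · by_contra hne
    rw [ind_ne hne] at h1
    unfold ind at h1
    split_ifs at h1 <;> omega
  · by_contra hne
    rw [ind_ne hne] at h2
    unfold ind at h2
    split_ifs at h2 <;> omega

variable {k g : ℕ} {o : ι} {inv : J → J} {j0 : J} {sgn : J → ℤ} {b : J → ι → ℤ} {deg a1 : ι → ℤ}

theorem inv_ne_self (H : ArithHyp k g o inv j0 sgn b deg a1) {j : J} (hj : j ≠ j0) : inv j ≠ j :=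
  fun h => hj ((H.inv_fix j).mp h)

theorem inv_ne_j0 (H : ArithHyp k g o inv j0 sgn b deg a1) {j : J} (hj : j ≠ j0) : inv j ≠ j0 := by
  intro h
  apply hj
  have h0 : inv j0 = j0 := (H.inv_fix j0).mpr rfl
  have := H.inv_inv j
  rw [h, h0] at this
  exact this.symm

theorem gram_self (H : ArithHyp k g o inv j0 sgn b deg a1) {j : J} (hj : j ≠ j0) :
    ∑ i, b j i * b j i = 3 := by
  rw [H.gram j j, if_pos rfl, if_neg (fun h => inv_ne_self H hj h.symm)]
  norm_num

/-- the shape of `b j`, `j ≠ j0` -/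
theorem exists_xy (H : ArithHyp k g o inv j0 sgn b deg a1) {j : J} (hj : j ≠ j0) :
    ∃ x y : ι, x ≠ o ∧ y ≠ o ∧ x ≠ y ∧ (∀ i, b j i = ind o i + ind x i - ind y i) ∧
      deg y = deg x + 1 := by
  set v : ι → ℤ := fun i => b j i - ind o i with hv
  have hnorm : ∑ i, v i ^ 2 = 2 := by
    have e : ∀ i, v i ^ 2 = b j i * b j i - 2 * (b j i * ind o i) + ind o i := by
      intro i
      have := ind_sq o i
      simp only [hv]
      nlinarith
    rw [Finset.sum_congr rfl (fun i _ => e i), Finset.sum_add_distrib, Finset.sum_sub_distrib,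
      ← Finset.mul_sum, sum_mul_ind, gram_self H hj, H.b_o j, sum_ind]
    norm_num
  obtain ⟨A, B, hAB, hA, hB, hrest⟩ := supp_two v hnorm
  have hvo : v o = 0 := by
    simp only [hv]
    rw [H.b_o j, ind_self]
    norm_num
  have hAo : A ≠ o := by
    intro h
    rw [h] at hA
    rw [hvo] at hA
    omega
  have hBo : B ≠ o := by
    intro h
    rw [h] at hB
    rw [hvo] at hB
    omega
  have hvi : ∀ i, v i = v A * ind A i + v B * ind B i := by
    intro i
    by_cases hiA : i = A
    · rw [hiA, ind_self, ind_ne hAB]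
      ring
    · by_cases hiB : i = B
      · rw [hiB, ind_self, ind_ne hAB.symm]
        ring
      · rw [hrest i hiA hiB, ind_ne hiA, ind_ne hiB]
        ring
  have hbi : ∀ i, b j i = ind o i + v A * ind A i + v B * ind B i := by
    intro i
    have := hvi i
    simp only [hv] at this ⊢
    linarith
  have hdeg : deg o + v A * deg A + v B * deg B = 0 := by
    have hs := H.deg_sum j
    have e : ∀ i, b j i * deg i = ind o i * deg i + v A * (ind A i * deg i) + v B * (ind B i * deg i) := by
      intro i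
      rw [hbi i]
      ring
    rw [Finset.sum_congr rfl (fun i _ => e i), Finset.sum_add_distrib, Finset.sum_add_distrib,
      ← Finset.mul_sum, ← Finset.mul_sum, sum_ind_mul, sum_ind_mul, sum_ind_mul] at hs
    exact hs
  rw [H.deg_o] at hdeg
  have hdA := H.deg_pos A
  have hdB := H.deg_pos B
  rcases hA with hA | hA <;> rcases hB with hB | hB
  · rw [hA, hB] at hdeg
    omega
  · refine ⟨A, B, hAo, hBo, hAB, ?_, ?_⟩
    · intro i
      rw [hbi i, hA, hB]
      ring
    · rw [hA, hB] at hdeg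
      omega
  · refine ⟨B, A, hBo, hAo, hAB.symm, ?_, ?_⟩
    · intro i
      rw [hbi i, hA, hB]
      ring
    · rw [hA, hB] at hdeg
      omega
  · rw [hA, hB] at hdeg
    omega

end PAIR

variable {k g : ℕ} {o : ι} {inv : J → J} {j0 : J} {sgn : J → ℤ} {b : J → ι → ℤ} {deg a1 : ι → ℤ}

/-- PIECE PAIR (A1). -/
theorem pair_data (H : ArithHyp k g o inv j0 sgn b deg a1) :
    ∃ X Y : J → ι, PairData o inv j0 b deg X Y := by
  classical
  have hex : ∀ j : J, ∃ xy : ι × ι, j ≠ j0 → (xy.1 ≠ o ∧ xy.2 ≠ o ∧ xy.1 ≠ xy.2 ∧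
      (∀ i, b j i = ind o i + ind xy.1 i - ind xy.2 i) ∧ deg xy.2 = deg xy.1 + 1) := by
    intro j
    by_cases hj : j = j0
    · exact ⟨(o, o), fun h => absurd hj h⟩
    · obtain ⟨x, y, h1, h2, h3, h4, h5⟩ := PAIR.exists_xy H hj
      exact ⟨(x, y), fun _ => ⟨h1, h2, h3, h4, h5⟩⟩
  choose f hf using hex
  refine ⟨fun j => (f j).1, fun j => (f j).2, ?_⟩
  have hXinvYinv : ∀ j, j ≠ j0 → (f (inv j)).1 = (f j).1 ∧ (f (inv j)).2 = (f j).2 := by
    intro j hj
    have hj' := PAIR.inv_ne_j0 H hj
    obtain ⟨_, _, h3, h4, _⟩ := hf j hj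
    obtain ⟨_, _, h3', h4', _⟩ := hf (inv j) hj'
    apply PAIR.ind_sub_unique h3' h3
    intro i
    have e1 := h4 i
    have e2 := h4' i
    rw [H.b_inv j i] at e2
    linarith
  constructor
  · intro j hj
    exact (hf j hj).1
  · intro j hj
    exact (hf j hj).2.1
  · intro j hj
    exact (hf j hj).2.2.1
  · intro j hj
    exact (hf j hj).2.2.2.1
  · intro j hj
    exact (hf j hj).2.2.2.2
  · intro j hj
    exact (hXinvYinv j hj).1
  · intro j hj
    exact (hXinvYinv j hj).2
  · intro j j' hj hj' hX hY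
    have hb : ∀ i, b j' i = b j i := by
      intro i
      rw [(hf j hj).2.2.2.1 i, (hf j' hj').2.2.2.1 i]
      have hX' : (f j).1 = (f j').1 := hX
      have hY' : (f j).2 = (f j').2 := hY
      rw [hX', hY']
    have hg := H.gram j j'
    have hs : ∑ i, b j i * b j' i = 3 := by
      rw [← PAIR.gram_self H hj]
      apply Finset.sum_congr rfl
      intro i _
      rw [hb i]
    rw [hs] at hg
    by_cases h1 : j = j'
    · left
      exact h1.symm
    · by_cases h2 : j = inv j'
      · right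
        rw [h2, H.inv_inv]
      · rw [if_neg h1, if_neg h2] at hg
        omega

end Cfsg.Agent.Helper3.BSW
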