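import Mathlib
import Cfsg.Agent.Lib.Helper3.BSWArithDefs
import Cfsg.Agent.Lib.Helper24.BSWPAIR

/-!
# S3282 ARITH piece PN (helper24): the entries of `b j0` at `X j`, `Y j`
-/

set_option autoImplicit false
set_option linter.unusedSectionVars false
set_option linter.unusedVariables false

namespace Cfsg.Agent.Helper3.BSW

variable {ι J : Type*} [Fintype ι] [Fintype J] [DecidableEq ι] [DecidableEq J]
variable {k g : ℕ} {o : ι} {inv : J → J} {j0 : J} {sgn : J → ℤ} {b : J → ι → ℤ} {deg a1 : ι → ℤ}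

namespace PN

theorem gram_j0 (H : ArithHyp k g o inv j0 sgn b deg a1) : ∑ i, b j0 i * b j0 i = 4 := by
  rw [H.gram j0 j0, if_pos rfl, if_pos ((H.inv_fix j0).mpr rfl).symm]
  norm_num

/-- three distinct entries of a vector: their squares are bounded by the norm -/
theorem three_le (v : ι → ℤ) {a c d : ι} (hac : a ≠ c) (had : a ≠ d) (hcd : c ≠ d) :
    v a * v a + v c * v c + v d * v d ≤ ∑ i, v i * v i := by
  have hsub : ({a, c, d} : Finset ι) ⊆ Finset.univ := Finset.subset_univ _
  have h := Finset.sum_le_sum_of_subset_of_nonneg hsub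
    (f := fun i => v i * v i) (fun i _ _ => mul_self_nonneg (v i))
  have e : ∑ i ∈ ({a, c, d} : Finset ι), v i * v i = v a * v a + v c * v c + v d * v d := by
    rw [Finset.sum_insert (by simp [hac, had]), Finset.sum_insert (by simp [hcd]),
      Finset.sum_singleton]
    ring
  rw [e] at h
  exact h

/-- the inner product of any vector with `b j`, `j ≠ j0` -/
theorem sum_mul_bj {X Y : J → ι} (D : PairData o inv j0 b deg X Y) {j : J} (hj : j ≠ j0)
    (f : ι → ℤ) : ∑ i, f i * b j i = f o + f (X j) - f (Y j) := by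
  have e : ∀ i, f i * b j i = f i * ind o i + f i * ind (X j) i - f i * ind (Y j) i := by
    intro i
    rw [D.bj j hj i]
    ring
  rw [Finset.sum_congr rfl (fun i _ => e i), Finset.sum_sub_distrib, Finset.sum_add_distrib,
    PAIR.sum_mul_ind, PAIR.sum_mul_ind, PAIR.sum_mul_ind]

end PN

/-- PIECE PN. -/
theorem pn_type (H : ArithHyp k g o inv j0 sgn b deg a1) {X Y : J → ι}
    (D : PairData o inv j0 b deg X Y) {j : J} (hj : j ≠ j0) :
    (b j0 (X j) = 1 ∧ b j0 (Y j) = 0) ∨ (b j0 (X j) = 0 ∧ b j0 (Y j) = -1) := by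
  have hg := H.gram j0 j
  rw [if_neg (fun h => hj h.symm), if_neg (fun h => PAIR.inv_ne_j0 H hj h.symm),
    PN.sum_mul_bj D hj (b j0), H.b_o j0] at hg
  have h3 := PN.three_le (b j0) (D.Xo j hj).symm (D.Yo j hj).symm (D.XY j hj)
  rw [PN.gram_j0 H, H.b_o j0] at h3
  set p := b j0 (X j)
  set q := b j0 (Y j)
  have hpq : p = q + 1 := by linarith
  have hq1 : q ≤ 0 := by
    by_contra hc
    push Not at hc
    nlinarith
  have hq2 : -1 ≤ q := by
    by_contra hc
    push Not at hc
    nlinarith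
  have : q = 0 ∨ q = -1 := by omega
  rcases this with h | h
  · left
    exact ⟨by rw [hpq, h]; norm_num, h⟩
  · right
    exact ⟨by rw [hpq, h]; norm_num, h⟩

end Cfsg.Agent.Helper3.BSW
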