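import Mathlib
import Cfsg.Prelude.Def_Blocks
import Cfsg.Prelude.Def_Solvable
import Cfsg.Prelude.Def_Local

/-!
# Derived length of Sylow `p`-subgroups and characters of degree divisible by `p` (helper24)

Definitions shared by the pieces of S4768.
-/

set_option autoImplicit false

namespace Cfsg.Agent.Helper24.DlSyl

universe u

/-- The number of irreducible characters of degree divisible by `p`. -/
noncomputable def nP (p : ℕ) (G : Type u) [Group G] : ℕ :=
  Nat.card {χ : Cfsg.IrrCharacter G // p ∣ Cfsg.charDegree (χ : G → ℂ)}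

/-- Every irreducible character of `G` that is nontrivial on `N` has degree prime to `p`. -/
def PPrimeOver (p : ℕ) {G : Type u} [Group G] (N : Subgroup G) : Prop :=
  ∀ χ : Cfsg.IrrCharacter G, (∃ x ∈ N, (χ : G → ℂ) x ≠ (χ : G → ℂ) 1) →
    ¬ p ∣ Cfsg.charDegree (χ : G → ℂ)

end Cfsg.Agent.Helper24.DlSyl
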