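import Mathlib
import Cfsg.Agent.Lib.Helper10.MannDefs

/-!
# S4009 (Mann's bound), piece MANN-CL2 (helper24)

`comm_le_zpowers_sup` (class-2 two-generator computation modulo `R`) and `comm_self_le_of_cyclic`.
-/

set_option autoImplicit false

namespace Cfsg.Agent.Helper10.Mann

open scoped commutatorElement

variable {G : Type*} [Group G]

/-- if commutators of elements of `H` are central in the image of `H`, then `b ↦ ⁅π a, π b⁆` has
values in `Z` as soon as it has on generators of `H` -/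
theorem cl2_aux {Q : Type*} [Group Q] (π : G →* Q) (H : Subgroup G) (S : Set G)
    (hS : H = Subgroup.closure S) (Z : Subgroup Q)
    (hcen : ∀ a ∈ H, ∀ b ∈ H, ∀ d ∈ H, π d * ⁅π a, π b⁆ = ⁅π a, π b⁆ * π d)
    (a : G) (ha : a ∈ H) (hgen : ∀ g ∈ S, ⁅π a, π g⁆ ∈ Z) :
    ∀ b ∈ H, ⁅π a, π b⁆ ∈ Z := by
  intro b hb
  have hSH : S ⊆ H := by rw [hS]; exact Subgroup.subset_closure
  have key : ∀ b ∈ Subgroup.closure S, b ∈ H ∧ ⁅π a, π b⁆ ∈ Z := by
    intro b hb
    induction hb using Subgroup.closure_induction with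
    | mem g hg => exact ⟨hSH hg, hgen g hg⟩
    | one => exact ⟨H.one_mem, by simp⟩
    | mul b b' _ _ ih ih' =>
      refine ⟨H.mul_mem ih.1 ih'.1, ?_⟩
      have e : ⁅π a, π (b * b')⁆ = ⁅π a, π b⁆ * ⁅π a, π b'⁆ := by
        rw [map_mul]
        have h1 := hcen a ha b' ih'.1 b ih.1
        have h2 : ⁅π a, π b * π b'⁆ = ⁅π a, π b⁆ * (π b * ⁅π a, π b'⁆ * (π b)⁻¹) := by
          simp only [commutatorElement_def]; group
        rw [h2, h1, mul_inv_cancel_right]
      rw [e]; exact Z.mul_mem ih.2 ih'.2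
    | inv b _ ih =>
      refine ⟨H.inv_mem ih.1, ?_⟩
      have e : ⁅π a, π b⁻¹⁆ = (⁅π a, π b⁆)⁻¹ := by
        rw [map_inv]
        have hc : Commute (π b) ⁅π a, π b⁆ := hcen a ha b ih.1 b ih.1
        have h2 : ⁅π a, (π b)⁻¹⁆ = (π b)⁻¹ * (⁅π a, π b⁆)⁻¹ * π b := by
          simp only [commutatorElement_def]; group
        rw [h2, mul_assoc, ← hc.inv_right.eq, inv_mul_cancel_left]
      rw [e]; exact Z.inv_mem ih.2
  exact (key b (hS ▸ hb)).2

/-- PIECE MANN-CL2 (1). -/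
theorem comm_le_zpowers_sup (H M R : Subgroup G) [R.Normal] (x y : G) (hx : x ∈ H) (hy : y ∈ H)
    (hgen : H = Subgroup.closure {x, y} ⊔ M) (hNM : ⁅H, H⁆ ≤ M) (hHM : ⁅H, M⁆ ≤ R) :
    ⁅H, H⁆ ≤ Subgroup.zpowers ⁅x, y⁆ ⊔ R := by
  obtain ⟨π, hπ⟩ : ∃ π : G →* G ⧸ R, π = QuotientGroup.mk' R := ⟨_, rfl⟩
  have hker : π.ker = R := by rw [hπ, QuotientGroup.ker_mk']
  have hT : Subgroup.zpowers ⁅x, y⁆ ⊔ R = (Subgroup.zpowers (π ⁅x, y⁆)).comap π := by
    rw [← MonoidHom.map_zpowers, Subgroup.comap_map_eq, hker]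
  have hS : H = Subgroup.closure (({x, y} : Set G) ∪ (M : Set G)) := by
    rw [Subgroup.closure_union, Subgroup.closure_eq]; exact hgen
  have hMH : M ≤ H := by rw [hgen]; exact le_sup_right
  -- elements of `M` are central in the image of `H`
  have hcent : ∀ h ∈ H, ∀ m ∈ M, π h * π m = π m * π h := by
    intro h hh m hm
    have h0 : ⁅h, m⁆ ∈ R := hHM (Subgroup.commutator_mem_commutator hh hm)
    have h1 : π ⁅h, m⁆ = 1 := by
      rw [← MonoidHom.mem_ker, hker]; exact h0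
    rw [map_commutatorElement, commutatorElement_eq_one_iff_mul_comm] at h1
    exact h1
  have hcen : ∀ a ∈ H, ∀ b ∈ H, ∀ d ∈ H, π d * ⁅π a, π b⁆ = ⁅π a, π b⁆ * π d := by
    intro a ha b hb d hd
    have := hcent d hd ⁅a, b⁆ (hNM (Subgroup.commutator_mem_commutator ha hb))
    rwa [map_commutatorElement] at this
  obtain ⟨Z, hZ⟩ : ∃ Z : Subgroup (G ⧸ R), Z = Subgroup.zpowers (π ⁅x, y⁆) := ⟨_, rfl⟩
  have hcZ : ⁅π x, π y⁆ ∈ Z := by
    rw [hZ, map_commutatorElement]; exact Subgroup.mem_zpowers _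
  have hcZ' : ⁅π y, π x⁆ ∈ Z := by
    rw [← commutatorElement_inv]; exact Z.inv_mem hcZ
  -- commutators with elements of `M` are trivial
  have hMr : ∀ a ∈ H, ∀ m ∈ M, ⁅π a, π m⁆ ∈ Z := by
    intro a ha m hm
    rw [commutatorElement_eq_one_iff_mul_comm.2 (hcent a ha m hm)]
    exact Z.one_mem
  have hMl : ∀ m ∈ M, ∀ a ∈ H, ⁅π m, π a⁆ ∈ Z := by
    intro m hm a ha
    rw [commutatorElement_eq_one_iff_mul_comm.2 (hcent a ha m hm).symm]
    exact Z.one_mem
  -- generator against generator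
  have hgg : ∀ a ∈ (({x, y} : Set G) ∪ (M : Set G)), ∀ g ∈ (({x, y} : Set G) ∪ (M : Set G)),
      ⁅π a, π g⁆ ∈ Z := by
    intro a ha g hg
    have haH : a ∈ H := by rw [hS]; exact Subgroup.subset_closure ha
    have hgH : g ∈ H := by rw [hS]; exact Subgroup.subset_closure hg
    rcases hg with hg | hg
    · rcases ha with ha | ha
      · rcases ha with rfl | ha
        · rcases hg with rfl | hg
          · rw [commutatorElement_self]; exact Z.one_mem
          · rw [Set.mem_singleton_iff] at hg; subst hg; exact hcZ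
        · rw [Set.mem_singleton_iff] at ha; subst ha
          rcases hg with rfl | hg
          · exact hcZ'
          · rw [Set.mem_singleton_iff] at hg; subst hg
            rw [commutatorElement_self]; exact Z.one_mem
      · exact hMl a ha g hgH
    · exact hMr a haH g hg
  -- generator against everything
  have hga : ∀ a ∈ (({x, y} : Set G) ∪ (M : Set G)), ∀ b ∈ H, ⁅π a, π b⁆ ∈ Z := by
    intro a ha
    have haH : a ∈ H := by rw [hS]; exact Subgroup.subset_closure ha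
    exact cl2_aux π H _ hS Z hcen a haH (hgg a ha)
  -- everything against everything
  have hall : ∀ a ∈ H, ∀ b ∈ H, ⁅π a, π b⁆ ∈ Z := by
    intro a ha b hb
    rw [← commutatorElement_inv]
    apply Z.inv_mem
    refine cl2_aux π H _ hS Z hcen b hb ?_ a ha
    intro g hg
    rw [← commutatorElement_inv]
    exact Z.inv_mem (hga g hg b hb)
  rw [hT, Subgroup.commutator_le]
  intro a ha b hb
  rw [Subgroup.mem_comap]
  have h := hall a ha b hb
  rw [hZ] at h
  rwa [← map_commutatorElement] at h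

/-- PIECE MANN-CL2 (2): if `H = ⟨x⟩ H₁` with `H₁` normal then `[H,H] ≤ [H,H₁]`. -/
theorem comm_self_le_of_cyclic (H H₁ : Subgroup G) [H.Normal] [H₁.Normal] (x : G)
    (hgen : H = Subgroup.zpowers x ⊔ H₁) : ⁅H, H⁆ ≤ ⁅H, H₁⁆ := by
  have hTn : (⁅H, H₁⁆).Normal := inferInstance
  obtain ⟨π, hπ⟩ : ∃ π : G →* G ⧸ ⁅H, H₁⁆, π = QuotientGroup.mk' ⁅H, H₁⁆ := ⟨_, rfl⟩
  have hker : π.ker = ⁅H, H₁⁆ := by rw [hπ, QuotientGroup.ker_mk']
  have hxH : Subgroup.zpowers x ≤ H := by rw [hgen]; exact le_sup_left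
  have h1H : H₁ ≤ H := by rw [hgen]; exact le_sup_right
  have hc1 : ∀ h ∈ H, ∀ z ∈ H₁, Commute (π h) (π z) := by
    intro h hh z hz
    have h0 : ⁅h, z⁆ ∈ ⁅H, H₁⁆ := Subgroup.commutator_mem_commutator hh hz
    have h1 : π ⁅h, z⁆ = 1 := by
      rw [← MonoidHom.mem_ker, hker]; exact h0
    rw [map_commutatorElement, commutatorElement_eq_one_iff_mul_comm] at h1
    exact h1
  rw [Subgroup.commutator_le]
  intro a ha b hb
  rw [← hker, MonoidHom.mem_ker, map_commutatorElement, commutatorElement_eq_one_iff_mul_comm]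
  rw [hgen, ← SetLike.mem_coe, Subgroup.mul_normal] at ha hb
  obtain ⟨u, hu, z, hz, rfl⟩ := Set.mem_mul.1 ha
  obtain ⟨u', hu', z', hz', rfl⟩ := Set.mem_mul.1 hb
  have huu' : Commute (π u) (π u') := by
    obtain ⟨k, rfl⟩ := Subgroup.mem_zpowers_iff.1 hu
    obtain ⟨l, rfl⟩ := Subgroup.mem_zpowers_iff.1 hu'
    rw [map_zpow, map_zpow]
    exact (Commute.refl (π x)).zpow_zpow k l
  have e1 : Commute (π u) (π z') := hc1 u (hxH hu) z' hz'
  have e2 : Commute (π z) (π u') := (hc1 u' (hxH hu') z hz).symm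
  have e3 : Commute (π z) (π z') := hc1 z (h1H hz) z' hz'
  have : Commute (π u * π z) (π u' * π z') :=
    Commute.mul_left (Commute.mul_right huu' e1) (Commute.mul_right e2 e3)
  rw [map_mul, map_mul]
  exact this.eq

end Cfsg.Agent.Helper10.Mann
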