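import Mathlib
import Cfsg.Agent.Lib.Helper10.MannDefs

/-!
# S4009 (Mann's bound), piece MANN-BOOK (helper24): the bookkeeping, with `level` as a hypothesis
-/

set_option autoImplicit false

namespace Cfsg.Agent.Helper10.Mann

open scoped commutatorElement

/-- the bookkeeping invariant along the derived series -/
theorem mann_book_inv {P : Type*} [Group P] [Finite P] (p : ℕ) [Fact p.Prime] (n k : ℕ)
    (hcard : Nat.card P = p ^ n)
    (hlevel : ∀ (H : Subgroup P) [H.Normal] (e : ℕ),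
      H ≤ (⊤ : Subgroup P).lowerCentralSeries e → ⁅H, H⁆ ≠ ⊥ →
      p ^ (e + 2) ∣ (⁅H, H⁆).relIndex H ∧
      ((⁅H, H⁆).relIndex H = p ^ (e + 2) → CycTop ⁅H, H⁆) ∧
      (CycTop H → ⁅H, H⁆ ≤ (⊤ : Subgroup P).lowerCentralSeries (2 * e + 2)) ∧
      ⁅H, H⁆ ≤ (⊤ : Subgroup P).lowerCentralSeries (2 * e + 1))
    (hk : derivedSeries P k ≠ ⊥) (j : ℕ) (hj : j ≤ k) :
    ∃ e s c d : ℕ, c ≤ 1 ∧ d ≤ 1 ∧ (d = 1 ↔ CycTop (derivedSeries P j)) ∧
      derivedSeries P j ≤ (⊤ : Subgroup P).lowerCentralSeries e ∧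
      (derivedSeries P j).index = p ^ s ∧ 2 ^ j + c ≤ e + 1 ∧
      2 ^ j + 2 * j ≤ s + c + d + 1 := by
  classical
  have hp : p.Prime := Fact.out
  induction j with
  | zero =>
    by_cases h0 : CycTop (derivedSeries P 0)
    · exact ⟨0, 0, 0, 1, by omega, le_refl _, ⟨fun _ => h0, fun _ => rfl⟩, by simp, by simp,
        by simp, by simp⟩
    · exact ⟨0, 0, 0, 0, by omega, by omega, ⟨fun h => absurd h (by omega), fun h => absurd h h0⟩,
        by simp, by simp, by simp, by simp⟩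
  | succ j ih =>
    obtain ⟨e, s, c, d, hc, hd, hdc, hle, hidx, h1, h2⟩ := ih (by omega)
    have hnorm : (derivedSeries P j).Normal := derivedSeries_normal P j
    have hsucc : derivedSeries P (j + 1) = ⁅derivedSeries P j, derivedSeries P j⁆ :=
      derivedSeries_succ P j
    have hne : ⁅derivedSeries P j, derivedSeries P j⁆ ≠ ⊥ := by
      intro h
      apply hk
      have := derivedSeries_antitone (G := P) hj
      rw [hsucc, h] at this
      exact le_bot_iff.1 this
    obtain ⟨l1, l2, l3, l4⟩ := hlevel (derivedSeries P j) e hle hne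
    rw [← hsucc] at l1 l2 l3 l4
    have hle' : derivedSeries P (j + 1) ≤ derivedSeries P j :=
      derivedSeries_antitone (G := P) (Nat.le_succ j)
    -- the relative index is a power of `p`
    have hdvd : (derivedSeries P (j + 1)).relIndex (derivedSeries P j) ∣ p ^ n := by
      rw [← hcard]
      exact (Subgroup.relIndex_dvd_card _ _).trans (Subgroup.card_subgroup_dvd_card _)
    obtain ⟨a, _, ha⟩ := (Nat.dvd_prime_pow hp).1 hdvd
    rw [ha] at l1 l2
    have hae : e + 2 ≤ a := (Nat.pow_dvd_pow_iff_le_right hp.one_lt).1 l1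
    have hidx' : (derivedSeries P (j + 1)).index = p ^ (s + a) := by
      rw [← Subgroup.relIndex_mul_index hle', ha, hidx, pow_add, mul_comm]
    have hpow : 2 ^ (j + 1) = 2 * 2 ^ j := by rw [pow_succ]; ring
    by_cases hd' : CycTop (derivedSeries P (j + 1))
    · refine ⟨2 * e + 1 + d, s + a, d, 1, hd, le_refl _, ⟨fun _ => hd', fun _ => rfl⟩, ?_, hidx', ?_, ?_⟩
      · rcases Nat.le_one_iff_eq_zero_or_eq_one.1 hd with rfl | rfl
        · exact l4
        · exact l3 (hdc.1 rfl)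
      · omega
      · omega
    · refine ⟨2 * e + 1 + d, s + a, d, 0, hd, by omega,
        ⟨fun h => absurd h (by omega), fun h => absurd h hd'⟩, ?_, hidx', ?_, ?_⟩
      · rcases Nat.le_one_iff_eq_zero_or_eq_one.1 hd with rfl | rfl
        · exact l4
        · exact l3 (hdc.1 rfl)
      · omega
      · have : a ≠ e + 2 := by
          intro h
          apply hd'
          exact l2 (by rw [h])
        omega

/-- PIECE MANN-BOOK, with `level` as a hypothesis. -/
theorem mann_bound_core {P : Type*} [Group P] [Finite P] (p : ℕ) [Fact p.Prime] (n k : ℕ)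
    (hcard : Nat.card P = p ^ n)
    (hlevel : ∀ (H : Subgroup P) [H.Normal] (e : ℕ),
      H ≤ (⊤ : Subgroup P).lowerCentralSeries e → ⁅H, H⁆ ≠ ⊥ →
      p ^ (e + 2) ∣ (⁅H, H⁆).relIndex H ∧
      ((⁅H, H⁆).relIndex H = p ^ (e + 2) → CycTop ⁅H, H⁆) ∧
      (CycTop H → ⁅H, H⁆ ≤ (⊤ : Subgroup P).lowerCentralSeries (2 * e + 2)) ∧
      ⁅H, H⁆ ≤ (⊤ : Subgroup P).lowerCentralSeries (2 * e + 1))
    (hk : derivedSeries P k ≠ ⊥) : 2 ^ k + 2 * k ≤ n + 2 := by
  have hp : p.Prime := Fact.out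
  obtain ⟨e, s, c, d, hc, hd, _, _, hidx, _, h2⟩ :=
    mann_book_inv p n k hcard hlevel hk k (le_refl k)
  have hmul := Subgroup.card_mul_index (derivedSeries P k)
  rw [hcard, hidx] at hmul
  have hdvd : Nat.card (derivedSeries P k) ∣ p ^ n := ⟨_, hmul.symm⟩
  obtain ⟨b, _, hb⟩ := (Nat.dvd_prime_pow hp).1 hdvd
  have hb1 : 1 ≤ b := by
    rcases Nat.eq_zero_or_pos b with rfl | h
    · exfalso
      apply hk
      rw [pow_zero] at hb
      exact (Subgroup.card_eq_one).1 hb
    · exact h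
  rw [hb, ← pow_add] at hmul
  have : b + s = n := Nat.pow_right_injective hp.two_le hmul
  omega

end Cfsg.Agent.Helper10.Mann
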