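import Mathlib
import Cfsg.Agent.Lib.Helper10.PUDefs
import Cfsg.Agent.Lib.Helper5.EOSTAR2

/-!
# S2263 PART U, PIECE PU-DAG2 (helper24): `dagger` is multiplicative and preserves irreducibility
-/

set_option autoImplicit false

namespace Cfsg.Agent.Helper10.PU

open Polynomial Matrix
open Cfsg.Agent.Helper10.EO (star)

section poly
variable {F : Type*} [Field F]

/-- PIECE PU-DAG2. -/
theorem dagger_mul_irreducible (σ : F →+* F) (hσσ : ∀ x, σ (σ x) = x) :
    (∀ f g : F[X], f.coeff 0 ≠ 0 → g.coeff 0 ≠ 0 →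
      dagger σ (f * g) = dagger σ f * dagger σ g) ∧
    (∀ f : F[X], f.coeff 0 ≠ 0 → Irreducible f → Irreducible (dagger σ f)) := by
  have hinj : Function.Injective σ := σ.injective
  have hc0 : ∀ f : F[X], f.coeff 0 ≠ 0 → (f.map σ).coeff 0 ≠ 0 := by
    intro f h
    rw [Polynomial.coeff_map]
    intro h'
    exact h (hinj (by rw [h', map_zero]))
  refine ⟨?_, ?_⟩
  · intro f g hf hg
    unfold dagger
    rw [Polynomial.map_mul]
    exact Cfsg.Agent.Helper10.EO.star_mul_irreducible.1 _ _ (hc0 f hf) (hc0 g hg)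
  · intro f h0 hirr
    unfold dagger
    apply Cfsg.Agent.Helper10.EO.star_mul_irreducible.2 _ (hc0 f h0)
    have hbij : Function.Bijective σ := ⟨hinj, fun x => ⟨σ x, hσσ x⟩⟩
    have he : ((RingEquiv.ofBijective σ hbij : F ≃+* F) : F →+* F) = σ := by
      ext x
      rfl
    rw [← he, ← Polynomial.mapEquiv_apply]
    exact (MulEquiv.irreducible_iff (Polynomial.mapEquiv (RingEquiv.ofBijective σ hbij))).mpr hirr

end poly

end Cfsg.Agent.Helper10.PU
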