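import Mathlib
import Cfsg.Agent.Lib.Helper10.PUDefs

/-!
# S2263 PART U, PIECE PU-NUMS0 (helper24): `w(n) ≤ Bnd` for `n ≤ d`
-/

set_option autoImplicit false

namespace Cfsg.Agent.Helper10.PU

open Polynomial Matrix
open Cfsg.Agent.Helper10.EO (star)

/-- PIECE PU-NUMS0.  `w` is monotone, so `w(n) ≤ w(d)`; and `E(d) ≤ q^d + 1 < (q+1) q^(d-1)`, so
`w(d) ≤ q^(d-1) - 1 ≤ Bnd`. -/
theorem num_single_zero (p f d n : ℕ) (hp : p.Prime) (hf : 1 ≤ f) (hd : 3 ≤ d)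
    (h32 : ¬ (d = 3 ∧ p ^ f = 2))
    (hB : (p ^ f) ^ (d - 1) - 1 ≤ Bnd p f d)
    (hdvd : ∀ n, 1 ≤ n → (p ^ f + 1) ∣ Efun (p ^ f) n)
    (hmono : ∀ a b, 1 ≤ a → a ≤ b → Efun (p ^ f) a ≤ Efun (p ^ f) b)
    (hn : 1 ≤ n) (hnd : n ≤ d) :
    wfun (p ^ f) n ≤ Bnd p f d := by
  have hq : 2 ≤ p ^ f := by
    calc 2 ≤ p := hp.two_le
      _ = p ^ 1 := (pow_one p).symm
      _ ≤ p ^ f := Nat.pow_le_pow_right hp.pos hf
  have h1 : wfun (p ^ f) n ≤ wfun (p ^ f) d := Nat.div_le_div_right (hmono n d hn hnd)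
  have h2 : Efun (p ^ f) d < (p ^ f + 1) * (p ^ f) ^ (d - 1) := by
    have hpow : (p ^ f) ^ d = (p ^ f) * (p ^ f) ^ (d - 1) := by
      rw [← pow_succ']
      congr 1
      omega
    have h1lt : 1 < (p ^ f) ^ (d - 1) := Nat.one_lt_pow (by omega) (by omega)
    have hE : Efun (p ^ f) d ≤ (p ^ f) ^ d + 1 := by
      unfold Efun
      split_ifs <;> omega
    calc Efun (p ^ f) d ≤ (p ^ f) ^ d + 1 := hE
      _ < (p ^ f) * (p ^ f) ^ (d - 1) + (p ^ f) ^ (d - 1) := by rw [hpow]; omega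
      _ = (p ^ f + 1) * (p ^ f) ^ (d - 1) := by ring
  have h3 : wfun (p ^ f) d < (p ^ f) ^ (d - 1) := Nat.div_lt_of_lt_mul h2
  omega

end Cfsg.Agent.Helper10.PU
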