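import Mathlib
import Cfsg.Agent.Lib.Helper24.Cd2Basic

/-!
# Isaacs–Passman: `b(G) = b` gives an abelian subgroup of index `≤ (b!)²` (helper24)

Shared definitions and the basic lemmas.
-/

set_option autoImplicit false
set_option linter.style.haveILetI false

namespace Cfsg.Agent.Helper24.IP

open Cfsg Cfsg.Agent.Helper24 Cfsg.Agent.Helper5 Cfsg.Agent.Helper18

universe u

/-- All irreducible character degrees of `G` are at most `b`. -/
def Bdd (G : Type u) [Group G] (b : ℕ) : Prop :=
  ∀ χ : G → ℂ, IsIrrCharacter G χ → charDegree χ ≤ b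

/-- `G` has an abelian subgroup of index at most `n`. -/
def HasAb (G : Type u) [Group G] (n : ℕ) : Prop :=
  ∃ A : Subgroup G, (∀ x ∈ A, ∀ y ∈ A, x * y = y * x) ∧ A.index ≤ n

/-- `Q` is nonabelian and every nontrivial normal subgroup contains the commutator subgroup. -/
structure Mono (Q : Type u) [Group Q] : Prop where
  nab : commutator Q ≠ ⊥
  min : ∀ L : Subgroup Q, L.Normal → L ≠ ⊥ → commutator Q ≤ L

/-- `K` is a normal subgroup maximal subject to `G ⧸ K` being nonabelian. -/
structure MaxNA {G : Type u} [Group G] (K : Subgroup G) : Prop where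
  normal : K.Normal
  nab : ¬ commutator G ≤ K
  max : ∀ L : Subgroup G, L.Normal → K < L → commutator G ≤ L

variable {G : Type u} [Group G] [Finite G]

/-- An irreducible character of a subgroup of the largest possible degree extends. -/
theorem exists_ext {b : ℕ} (hb : Bdd G b) (H : Subgroup G) {η : H → ℂ} (hη : IsIrrCharacter H η)
    (hdeg : charDegree η = b) :
    ∃ χ : G → ℂ, IsIrrCharacter G χ ∧ charDegree χ = b ∧ (fun h : H => χ h) = η := by
  classical
  letI : Fintype G := Fintype.ofFinite G
  letI : Fintype H := Fintype.ofFinite H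
  obtain ⟨χ, hχ, hcon⟩ := Cd2.exists_over H hη
  have hχH : IsCharacter H (fun h : H => χ h) :=
    isCharacter_restrict H (isCharacter_of_isIrrCharacter hχ)
  obtain ⟨ρ, hρ, hsum⟩ := exists_add_of_constituent hχH hη hcon
  have h1 := congrFun hsum 1
  simp only [Pi.add_apply, Subgroup.coe_one] at h1
  rw [irr_one_eq_charDegree hχ, irr_one_eq_charDegree hη, char_one_eq_charDegree hρ, hdeg] at h1
  have h2 : charDegree χ = b + charDegree ρ := by exact_mod_cast h1
  have h3 := hb χ hχ
  have h4 : charDegree ρ = 0 := by omega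
  have hρ1 : ρ 1 = 0 := by rw [char_one_eq_charDegree hρ, h4, Nat.cast_zero]
  have hρ0 := char_eq_zero_of_one_eq_zero hρ hρ1
  refine ⟨χ, hχ, by omega, ?_⟩
  rw [hsum, hρ0, add_zero]

/-- Degrees of subgroups are bounded by the degrees of the group. -/
theorem Bdd.subgroup {b : ℕ} (hb : Bdd G b) (H : Subgroup G) : Bdd H b := by
  classical
  letI : Fintype G := Fintype.ofFinite G
  letI : Fintype H := Fintype.ofFinite H
  intro η hη
  obtain ⟨χ, hχ, hcon⟩ := Cd2.exists_over H hη
  have hχH : IsCharacter H (fun h : H => χ h) :=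
    isCharacter_restrict H (isCharacter_of_isIrrCharacter hχ)
  obtain ⟨ρ, hρ, hsum⟩ := exists_add_of_constituent hχH hη hcon
  have h1 := congrFun hsum 1
  simp only [Pi.add_apply, Subgroup.coe_one] at h1
  rw [irr_one_eq_charDegree hχ, irr_one_eq_charDegree hη, char_one_eq_charDegree hρ] at h1
  have h2 : charDegree χ = charDegree η + charDegree ρ := by exact_mod_cast h1
  have h3 := hb χ hχ
  omega

theorem Bdd.of_surjective {b : ℕ} (hb : Bdd G b) {Q : Type u} [Group Q] (f : G →* Q)
    (hf : Function.Surjective f) : Bdd Q b := by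
  intro χ hχ
  have := hb (χ ∘ f) (isIrrCharacter_comp_of_surjective f hf hχ)
  rwa [Cd2.charDegree_comp] at this

theorem Bdd.quotient {b : ℕ} (hb : Bdd G b) (K : Subgroup G) [K.Normal] : Bdd (G ⧸ K) b :=
  hb.of_surjective (QuotientGroup.mk' K) (QuotientGroup.mk'_surjective K)

theorem Bdd.mono {b c : ℕ} (hb : Bdd G b) (hbc : b ≤ c) : Bdd G c :=
  fun χ hχ => (hb χ hχ).trans hbc

theorem Bdd.one_le {b : ℕ} (hb : Bdd G b) : 1 ≤ b := by
  have := hb (fun _ => (1 : ℂ)) isIrrCharacter_one
  have h1 : charDegree (fun _ : G => (1 : ℂ)) = 1 := charDegree_natCast 1 (by simp)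
  omega

end Cfsg.Agent.Helper24.IP
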