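import Mathlib

/-!
# Splitting a finite nilpotent group as `P × Q` (helper24's shared library)

For a finite nilpotent group `G` and a prime `p`, the Sylow `p`-subgroup `P` has a complement `Q`
centralizing it, and `P × Q ≃* G`.
-/

set_option autoImplicit false

namespace Cfsg.Agent.Helper24

universe u

section Split

variable {G : Type u} [Group G] [Finite G]

/-- In a finite nilpotent group, the centralizer of the Sylow `p`-subgroup has `p`-power index. -/
theorem exists_index_centralizer_sylow_eq_pow [Group.IsNilpotent G] (p : ℕ) [Fact p.Prime]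
    (P : Sylow p G) : ∃ k : ℕ, (Subgroup.centralizer ((P : Subgroup G) : Set G)).index = p ^ k := by
  have hp : p.Prime := Fact.out
  set C := Subgroup.centralizer ((P : Subgroup G) : Set G) with hC
  have hC0 : C.index ≠ 0 := Subgroup.index_ne_zero_of_finite
  refine ⟨_, Nat.eq_prime_pow_of_unique_prime_dvd hC0 ?_⟩
  intro q hq hqdvd
  by_contra hne
  haveI : Fact q.Prime := ⟨hq⟩
  let S : Sylow q G := default
  have hdisj : Disjoint (S : Subgroup G) (P : Subgroup G) := by
    rw [disjoint_iff]
    apply Subgroup.inf_eq_bot_of_coprime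
    obtain ⟨a, ha⟩ := IsPGroup.iff_card.mp S.isPGroup'
    obtain ⟨b, hb⟩ := IsPGroup.iff_card.mp P.isPGroup'
    rw [ha, hb]
    exact Nat.Coprime.pow _ _ ((Nat.coprime_primes hq hp).mpr hne)
  have hle : (S : Subgroup G) ≤ Subgroup.centralizer ((P : Subgroup G) : Set G) := by
    intro s hs
    rw [Subgroup.mem_centralizer_iff]
    intro x hx
    exact (Subgroup.commute_of_normal_of_disjoint _ _ inferInstance inferInstance hdisj s x hs
      hx).symm.eq
  have h1 : C.index ∣ (S : Subgroup G).index := Subgroup.index_dvd_of_le hle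
  exact S.not_dvd_index (hqdvd.trans h1)

/-- In a finite nilpotent group, the Sylow `p`-subgroup has a complement centralizing it. -/
theorem exists_complement_centralizing [Group.IsNilpotent G] (p : ℕ) [Fact p.Prime]
    (P : Sylow p G) :
    ∃ Q : Subgroup G, Subgroup.IsComplement' (P : Subgroup G) Q ∧
      (Nat.card Q).Coprime p ∧ ∀ x ∈ (P : Subgroup G), ∀ y ∈ Q, x * y = y * x := by
  have hp : p.Prime := Fact.out
  obtain ⟨m, hm⟩ := IsPGroup.iff_card.mp P.isPGroup'
  have hcop : Nat.Coprime (Nat.card (P : Subgroup G)) (P : Subgroup G).index := by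
    rw [hm]
    exact Nat.Coprime.pow_left _ ((Nat.Prime.coprime_iff_not_dvd hp).mpr P.not_dvd_index)
  obtain ⟨Q, hQ⟩ := Subgroup.exists_right_complement'_of_coprime hcop
  have hQcard : Nat.card Q = (P : Subgroup G).index := by
    have h1 := hQ.card_mul_card
    have h2 := Subgroup.card_mul_index (P : Subgroup G)
    rw [← h2] at h1
    exact Nat.eq_of_mul_eq_mul_left Nat.card_pos h1
  have hQcop : (Nat.card Q).Coprime p := by
    rw [hQcard]
    exact ((Nat.Prime.coprime_iff_not_dvd hp).mpr P.not_dvd_index).symm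
  refine ⟨Q, hQ, hQcop, ?_⟩
  obtain ⟨k, hk⟩ := exists_index_centralizer_sylow_eq_pow p P
  set C := Subgroup.centralizer ((P : Subgroup G) : Set G) with hC
  have h1 : C.relIndex Q ∣ p ^ k := by
    rw [← hk]; exact Subgroup.relIndex_dvd_index_of_normal C Q
  have h2 : C.relIndex Q ∣ Nat.card Q := Subgroup.relIndex_dvd_card C Q
  have h3 : C.relIndex Q = 1 :=
    Nat.eq_one_of_dvd_coprimes (Nat.Coprime.pow_right k hQcop) h2 h1
  have hle : Q ≤ C := Subgroup.relIndex_eq_one.mp h3
  intro x hx y hy
  have := hle hy
  rw [hC, Subgroup.mem_centralizer_iff] at this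
  exact this x hx

/-- An internal direct product decomposition gives an isomorphism with the product. -/
noncomputable def prodEquivOfComplement (P Q : Subgroup G) (hc : Subgroup.IsComplement' P Q)
    (hcomm : ∀ x ∈ P, ∀ y ∈ Q, x * y = y * x) : (P × Q) ≃* G :=
  MulEquiv.ofBijective
    (MonoidHom.noncommCoprod P.subtype Q.subtype (fun x y => hcomm x x.2 y y.2)) (by
      have h : Function.Bijective
          fun x : ↥(P : Set G) × ↥(Q : Set G) => (x.1 : G) * (x.2 : G) := hc
      exact h)

omit [Finite G] in
theorem prodEquivOfComplement_apply (P Q : Subgroup G) (hc : Subgroup.IsComplement' P Q)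
    (hcomm : ∀ x ∈ P, ∀ y ∈ Q, x * y = y * x) (x : P × Q) :
    prodEquivOfComplement P Q hc hcomm x = (x.1 : G) * (x.2 : G) := rfl

end Split

end Cfsg.Agent.Helper24
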