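import Mathlib
import Cfsg.Agent.Lib.Helper15.S62Defs

/-!
# S2362 piece S62-F2 (helper24): the standard alternating form on `F^2` and a transvection.
-/

set_option autoImplicit false

open Polynomial

namespace Cfsg.Agent.Helper15.S62

universe u

section model

variable {F : Type u} [Field F]

/-- the standard alternating form on `F^2` -/
def s62f2_omega (F : Type u) [Field F] : LinearMap.BilinForm F (Fin 2 → F) :=
  LinearMap.mk₂ F (fun x y => x 0 * y 1 - x 1 * y 0)
    (by intro x x' y; simp only [Pi.add_apply]; ring)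
    (by intro c x y; simp only [Pi.smul_apply, smul_eq_mul]; ring)
    (by intro x y y'; simp only [Pi.add_apply]; ring)
    (by intro c x y; simp only [Pi.smul_apply, smul_eq_mul]; ring)

theorem s62f2_omega_apply (x y : Fin 2 → F) : s62f2_omega F x y = x 0 * y 1 - x 1 * y 0 := rfl

/-- the transvection `(a, b) ↦ (a + b, b)` -/
def s62f2_u (F : Type u) [Field F] : (Fin 2 → F) ≃ₗ[F] (Fin 2 → F) where
  toFun x := ![x 0 + x 1, x 1]
  map_add' x y := by
    ext i
    fin_cases i
    · simp only [Pi.add_apply, Fin.zero_eta, Matrix.cons_val_zero]; ring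
    · simp
  map_smul' c x := by
    ext i
    fin_cases i
    · simp only [Pi.smul_apply, smul_eq_mul, Fin.zero_eta, Matrix.cons_val_zero,
        RingHom.id_apply]; ring
    · simp
  invFun x := ![x 0 - x 1, x 1]
  left_inv x := by
    ext i
    fin_cases i
    · simp
    · simp
  right_inv x := by
    ext i
    fin_cases i
    · simp
    · simp

theorem s62f2_u_apply (x : Fin 2 → F) : s62f2_u F x = ![x 0 + x 1, x 1] := rfl

theorem s62f2_u_pow_apply (j : ℕ) (x : Fin 2 → F) :
    (s62f2_u F ^ j) x = ![x 0 + (j : F) * x 1, x 1] := by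
  induction j with
  | zero =>
    ext i
    fin_cases i
    · simp
    · simp
  | succ j ih =>
    rw [pow_succ', LinearEquiv.mul_apply, ih, s62f2_u_apply]
    ext i
    fin_cases i
    · simp only [Matrix.cons_val_zero, Matrix.cons_val_one, Fin.zero_eta, Nat.cast_succ]; ring
    · simp

/-- PIECE S62-F2 -/
theorem exists_f2 (p : ℕ) [Fact p.Prime] [CharP F p] (h2 : (2 : F) ≠ 0) :
    ∃ (ω : LinearMap.BilinForm F (Fin 2 → F)) (u : (Fin 2 → F) ≃ₗ[F] (Fin 2 → F)),
      (∀ x, ω x x = 0) ∧ (∀ x, (∀ y, ω x y = 0) → x = 0) ∧ (∀ x y, ω (u x) (u y) = ω x y) ∧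
      orderOf u = p ∧ ∀ j : ℕ, ∃ x, (u ^ j) x ≠ -x := by
  refine ⟨s62f2_omega F, s62f2_u F, ?_, ?_, ?_, ?_, ?_⟩
  · intro x
    rw [s62f2_omega_apply]; ring
  · intro x hx
    have h0 := hx ![0, 1]
    have h1 := hx ![1, 0]
    rw [s62f2_omega_apply] at h0 h1
    simp only [Matrix.cons_val_zero, Matrix.cons_val_one, mul_one, mul_zero, sub_zero,
      zero_sub, neg_eq_zero] at h0 h1
    ext i
    fin_cases i
    · simpa using h0
    · simpa using h1
  · intro x y
    rw [s62f2_omega_apply, s62f2_omega_apply, s62f2_u_apply, s62f2_u_apply]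
    simp only [Matrix.cons_val_zero, Matrix.cons_val_one]
    ring
  · apply orderOf_eq_prime
    · ext x i
      rw [s62f2_u_pow_apply, CharP.cast_eq_zero F p]
      fin_cases i
      · simp
      · simp
    · intro h
      have := congrArg (fun f : (Fin 2 → F) ≃ₗ[F] (Fin 2 → F) => f ![0, 1] 0) h
      simp only [s62f2_u_apply, LinearEquiv.coe_one, id_eq, Matrix.cons_val_zero,
        Matrix.cons_val_one, zero_add] at this
      exact one_ne_zero this
  · intro j
    refine ⟨![1, 0], ?_⟩
    rw [s62f2_u_pow_apply]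
    intro h
    have := congrFun h 0
    simp only [Matrix.cons_val_zero, Matrix.cons_val_one, mul_zero, add_zero, Pi.neg_apply] at this
    apply h2
    have h3 : (1 : F) + 1 = 0 := by
      nth_rewrite 1 [this]
      ring
    rw [← h3]; norm_num

end model

end Cfsg.Agent.Helper15.S62
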