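import Mathlib
import Cfsg.Agent.Lib.Helper12.MinIdxDefs

/-!
# S2140 (MINIDX), PIECE HYPP (helper24): over a prime field, a subgroup of index `p` of the row group
is the kernel of a dot product.
-/

set_option autoImplicit false
set_option linter.unusedSectionVars false
set_option linter.unusedVariables false
set_option linter.style.haveILetI false

namespace Cfsg.Agent.Helper12.MinIdx

open Matrix Cfsg.Agent.Helper12 Cfsg.Agent.Helper12.LSL

variable {F : Type*} [Field F] {ι : Type*} [Fintype ι] [DecidableEq ι]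

/-- the dot product with `v` as a functional on `Phi F i₀` -/
def hyppDot (i₀ : ι) (v : ι → F) : Phi F i₀ →ₗ[F] F where
  toFun φ := φ.1 ⬝ᵥ v
  map_add' φ φ' := by simp [add_dotProduct]
  map_smul' c φ := by simp [smul_dotProduct]

theorem hyppDot_apply (i₀ : ι) (v : ι → F) (φ : Phi F i₀) : hyppDot i₀ v φ = φ.1 ⬝ᵥ v := rfl

/-- every functional on `Phi F i₀` is the dot product with some `v ∈ Phi F i₀` -/
theorem hypp_exists_dot (i₀ : ι) (f : Phi F i₀ →ₗ[F] F) :
    ∃ v : Phi F i₀, ∀ φ : Phi F i₀, f φ = φ.1 ⬝ᵥ v.1 := by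
  classical
  -- the projection of `ι → F` onto `Phi F i₀`
  let π : (ι → F) →ₗ[F] Phi F i₀ :=
    LinearMap.codRestrict (Phi F i₀)
      (LinearMap.id - (LinearMap.proj i₀ : (ι → F) →ₗ[F] F).smulRight (Pi.single i₀ (1 : F))) (by
        intro u
        rw [mem_Phi_iff]
        simp)
  have hπ : ∀ φ : Phi F i₀, π φ.1 = φ := by
    intro φ
    apply Subtype.ext
    show φ.1 - (φ.1 i₀) • (Pi.single i₀ (1 : F) : ι → F) = φ.1
    rw [Phi_apply, zero_smul, sub_zero]
  let g : (ι → F) →ₗ[F] F := f ∘ₗ π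
  let w : ι → F := fun i => g (Pi.single i 1)
  have hw0 : w i₀ = 0 := by
    show f (π (Pi.single i₀ 1)) = 0
    have : π (Pi.single i₀ (1 : F)) = 0 := by
      apply Subtype.ext
      show (Pi.single i₀ (1 : F) : ι → F) - ((Pi.single i₀ (1 : F) : ι → F) i₀) • (Pi.single i₀ (1 : F) : ι → F) = 0
      simp
    rw [this, map_zero]
  refine ⟨⟨w, mem_Phi_iff.2 hw0⟩, fun φ => ?_⟩
  have h1 : f φ = g φ.1 := by
    show f φ = f (π φ.1)
    rw [hπ]
  rw [h1, LinearMap.pi_apply_eq_sum_univ g φ.1]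
  simp only [dotProduct, smul_eq_mul]
  refine Finset.sum_congr rfl fun i _ => ?_
  congr 2
  funext j
  rw [Pi.single_apply]
  simp [eq_comm]

/-- the dot product with a nonzero `v ∈ Phi F i₀` is a nonzero functional -/
theorem hyppDot_ne_zero (i₀ : ι) {v : Phi F i₀} (hv : v ≠ 0) : hyppDot i₀ v.1 ≠ 0 := by
  classical
  intro h
  apply hv
  apply Subtype.ext
  funext j
  by_cases hj : j = i₀
  · subst hj
    simp [Phi_apply]
  · have hmem : (Pi.single j (1 : F) : ι → F) ∈ Phi F i₀ := by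
      rw [mem_Phi_iff, Pi.single_apply, if_neg (Ne.symm hj)]
    have := congrArg (fun f : Phi F i₀ →ₗ[F] F => f ⟨_, hmem⟩) h
    simp only [hyppDot_apply, LinearMap.zero_apply, single_dotProduct, one_mul] at this
    simpa using this

/-- a subspace of `Phi F i₀` of index `|F|` is the kernel of a dot product -/
theorem hypp_subspace [Fintype F] (i₀ : ι) (S : Submodule F (Phi F i₀))
    (hcard : Nat.card S * Fintype.card F = Nat.card (Phi F i₀)) :
    ∃ v : Phi F i₀, v ≠ 0 ∧ ∀ φ : Phi F i₀, φ ∈ S ↔ φ.1 ⬝ᵥ v.1 = 0 := by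
  classical
  have hq : 1 < Fintype.card F := Fintype.one_lt_card
  have hS : S < ⊤ := by
    rw [lt_top_iff_ne_top]
    intro h
    rw [h] at hcard
    have h1 : Nat.card (⊤ : Submodule F (Phi F i₀)) = Nat.card (Phi F i₀) :=
      Nat.card_congr (Submodule.topEquiv (R := F) (M := Phi F i₀)).toEquiv
    rw [h1] at hcard
    have hpos : 0 < Nat.card (Phi F i₀) := Nat.card_pos
    nlinarith
  obtain ⟨f, hf, hSf⟩ := Submodule.exists_le_ker_of_lt_top S hS
  obtain ⟨v, hv⟩ := hypp_exists_dot i₀ f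
  have hv0 : v ≠ 0 := by
    rintro rfl
    apply hf
    ext φ
    rw [hv]
    simp
  refine ⟨v, hv0, fun φ => ⟨fun h => ?_, fun h => ?_⟩⟩
  · rw [← hv]
    exact LinearMap.mem_ker.1 (hSf h)
  · -- count: `S = ker f`
    have hsurj : Function.Surjective f := by
      intro c
      obtain ⟨x, hx⟩ : ∃ x, f x ≠ 0 := by
        by_contra hall
        push Not at hall
        exact hf (LinearMap.ext hall)
      exact ⟨(c / f x) • x, by rw [map_smul, smul_eq_mul, div_mul_cancel₀ _ hx]⟩
    have hker : Nat.card (LinearMap.ker f) * Fintype.card F = Nat.card (Phi F i₀) := by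
      have h1 := Submodule.card_eq_card_quotient_mul_card (LinearMap.ker f)
      have h2 : Nat.card ((Phi F i₀) ⧸ LinearMap.ker f) = Fintype.card F := by
        rw [← Nat.card_eq_fintype_card]
        exact Nat.card_congr (f.quotKerEquivOfSurjective hsurj).toEquiv
      rw [h1, h2, mul_comm]
    have hle : Nat.card (LinearMap.ker f) ≤ Nat.card S := by
      have : Nat.card (LinearMap.ker f) * Fintype.card F = Nat.card S * Fintype.card F := by
        rw [hker, hcard]
      exact le_of_eq (Nat.eq_of_mul_eq_mul_right (by omega) this)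
    have heq : S = LinearMap.ker f := by
      apply SetLike.coe_injective
      apply Set.eq_of_subset_of_ncard_le hSf
      · rw [← Nat.card_coe_set_eq, ← Nat.card_coe_set_eq]
        exact hle
    rw [heq, LinearMap.mem_ker, hv, h]

/-- PIECE HYPP. -/
theorem hyperplane_of_prime [Fintype F] (hp : (Fintype.card F).Prime) (i₀ : ι)
    (D : Subgroup (Matrix.SpecialLinearGroup ι F)) (hD : D ≤ rowGrp F i₀)
    (hcard : Nat.card D * Fintype.card F = Nat.card (rowGrp F i₀)) :
    ∃ v : Phi F i₀, v ≠ 0 ∧ ∀ φ : Phi F i₀, xPhi i₀ φ ∈ D ↔ φ.1 ⬝ᵥ v.1 = 0 := by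
  classical
  haveI : Fact (Fintype.card F).Prime := ⟨hp⟩
  -- every scalar is an integer multiple of `1`
  have hscal : ∀ c : F, ∃ k : ℤ, c = (k : F) := by
    intro c
    have h1 : (1 : F) ≠ 0 := one_ne_zero
    have h2 := mem_zmultiples_of_prime_card (G := F) (by rw [Nat.card_eq_fintype_card]) h1 (g' := c)
    obtain ⟨k, hk⟩ := AddSubgroup.mem_zmultiples_iff.1 h2
    exact ⟨k, by rw [← hk]; simp⟩
  -- the additive subgroup of `Phi F i₀`
  let S₀ : AddSubgroup (Phi F i₀) :=
    { carrier := {φ | xPhi i₀ φ ∈ D}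
      zero_mem' := by
        show xPhi i₀ 0 ∈ D
        rw [xPhi_zero]; exact D.one_mem
      add_mem' := by
        intro a b ha hb
        show xPhi i₀ (a + b) ∈ D
        rw [xPhi_add]; exact D.mul_mem ha hb
      neg_mem' := by
        intro a ha
        show xPhi i₀ (-a) ∈ D
        rw [xPhi_neg]; exact D.inv_mem ha }
  let S : Submodule F (Phi F i₀) :=
    { S₀ with
      smul_mem' := by
        intro c φ hφ
        obtain ⟨k, rfl⟩ := hscal c
        have : ((k : F) • φ : Phi F i₀) = k • φ := Int.cast_smul_eq_zsmul F k φ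
        show (k : F) • φ ∈ S₀
        rw [this]
        exact S₀.zsmul_mem hφ k }
  have hmemS : ∀ φ : Phi F i₀, φ ∈ S ↔ xPhi i₀ φ ∈ D := fun φ => Iff.rfl
  -- `|S| = |D|`
  have hSD : Nat.card S = Nat.card D := by
    apply Nat.card_congr
    refine Equiv.ofBijective (fun φ => ⟨xPhi i₀ φ.1, (hmemS φ.1).1 φ.2⟩) ⟨?_, ?_⟩
    · intro φ φ' h
      apply Subtype.ext
      exact xPhi_injective i₀ (congrArg Subtype.val h)
    · rintro ⟨d, hd⟩
      obtain ⟨φ, rfl⟩ := hD hd
      exact ⟨⟨φ, (hmemS φ).2 hd⟩, rfl⟩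
  have hPhi : Nat.card (rowGrp F i₀) = Nat.card (Phi F i₀) :=
    (Nat.card_congr (rowEquiv (F := F) i₀)).symm
  obtain ⟨v, hv0, hv⟩ := hypp_subspace i₀ S (by rw [hSD, hcard, hPhi])
  exact ⟨v, hv0, fun φ => by rw [← hmemS, hv]⟩

end Cfsg.Agent.Helper12.MinIdx
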