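import Mathlib
import Cfsg.Agent.Lib.Helper12.MinIdxDefs
import Cfsg.Agent.Lib.Helper24.MIHYPP

/-!
# S2140 (MINIDX), PIECE F4LINE (helper24): `|ι| = 3`, `|F| = 4`: if all point stabilizers in the row group
have order 4 and all non-identity elements of the row group have 4 fixed points, then the stabilizer of a
point in the row group is the kernel of a dot product.
-/

set_option autoImplicit false
set_option linter.unusedSectionVars false
set_option linter.unusedVariables false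
set_option linter.style.haveILetI false
set_option linter.unusedSimpArgs false

namespace Cfsg.Agent.Helper12.MinIdx

open Matrix Cfsg.Agent.Helper12 Cfsg.Agent.Helper12.LSL

variable {F : Type*} [Field F] {ι : Type*} [Fintype ι] [DecidableEq ι]

/-- the element `1 + w φ₀ᵀ` with `φ₀ ⬝ w = 0` -/
def f4lineL (w φ₀ : ι → F) (h : φ₀ ⬝ᵥ w = 0) : Matrix.SpecialLinearGroup ι F :=
  ⟨1 + Matrix.vecMulVec w φ₀, by
    rw [Matrix.vecMulVec_eq Unit, Matrix.det_one_add_replicateCol_mul_replicateRow, h, add_zero]⟩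

theorem f4lineL_smul (w φ₀ : ι → F) (h : φ₀ ⬝ᵥ w = 0) (v : ι → F) :
    f4lineL w φ₀ h • v = v + (φ₀ ⬝ᵥ v) • w := by
  rw [Matrix.SpecialLinearGroup.smul_def, Matrix.smul_eq_mulVec]
  show (1 + Matrix.vecMulVec w φ₀) *ᵥ v = _
  rw [Matrix.add_mulVec, Matrix.one_mulVec, Matrix.vecMulVec_mulVec, op_smul_eq_smul]

/-- `xPhi φ * l = l * xPhi (φ + (φ ⬝ w) φ₀)` -/
theorem f4line_conj (i₀ : ι) (w : ι → F) (φ₀ φ : Phi F i₀) (h : φ₀.1 ⬝ᵥ w = 0) :
    xPhi i₀ φ * f4lineL w φ₀.1 h = f4lineL w φ₀.1 h * xPhi i₀ (φ + (φ.1 ⬝ᵥ w) • φ₀) := by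
  apply SL_ext_smul
  intro v
  rw [mul_smul, mul_smul, f4lineL_smul, f4lineL_smul, xPhi_smul, xPhi_smul]
  simp only [dotProduct_add, dotProduct_smul, Phi_dotProduct_single, smul_zero, add_zero,
    Submodule.coe_add, Submodule.coe_smul, add_dotProduct, smul_dotProduct, smul_eq_mul, add_smul,
    mul_zero, zero_smul]
  rw [mul_comm (φ₀.1 ⬝ᵥ v) (φ.1 ⬝ᵥ w)]
  abel

/-- the kernel of a nonzero dot product has index `|F|` in `Phi F i₀` -/
theorem f4line_card_ker [Fintype F] (i₀ : ι) {v : Phi F i₀} (hv : v ≠ 0) :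
    Nat.card (LinearMap.ker (hyppDot i₀ v.1)) * Fintype.card F = Nat.card (Phi F i₀) := by
  classical
  set f := hyppDot i₀ v.1 with hf
  have hf0 : f ≠ 0 := hyppDot_ne_zero i₀ hv
  have hsurj : Function.Surjective f := by
    intro c
    obtain ⟨x, hx⟩ : ∃ x, f x ≠ 0 := by
      by_contra hall
      push Not at hall
      exact hf0 (LinearMap.ext hall)
    exact ⟨(c / f x) • x, by rw [map_smul, smul_eq_mul, div_mul_cancel₀ _ hx]⟩
  have h1 := Submodule.card_eq_card_quotient_mul_card (LinearMap.ker f)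
  have h2 : Nat.card ((Phi F i₀) ⧸ LinearMap.ker f) = Fintype.card F := by
    rw [← Nat.card_eq_fintype_card]
    exact Nat.card_congr (f.quotKerEquivOfSurjective hsurj).toEquiv
  rw [h1, h2, mul_comm]

/-- PIECE F4LINE. -/
theorem hyperplane_of_four [Fintype F] {Ω : Type*} [Fintype Ω]
    [MulAction (Matrix.SpecialLinearGroup ι F) Ω] (hι : Fintype.card ι = 3)
    (hF : Fintype.card F = 4) (i₀ : ι)
    (hst : ∀ ω : Ω, Nat.card (rowGrp F i₀ ⊓
      MulAction.stabilizer (Matrix.SpecialLinearGroup ι F) ω : Subgroup _) = 4)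
    (hfix : ∀ a ∈ rowGrp F i₀, a ≠ 1 → Nat.card (MulAction.fixedBy Ω a) = 4) (ω : Ω) :
    ∃ v : Phi F i₀, v ≠ 0 ∧ ∀ φ : Phi F i₀, xPhi i₀ φ • ω = ω ↔ φ.1 ⬝ᵥ v.1 = 0 := by
  classical
  letI : Fintype (Phi F i₀) := Fintype.ofFinite _
  have hPhi : Nat.card (Phi F i₀) = 16 := by
    rw [Nat.card_eq_fintype_card, card_Phi, hF, hι]
    norm_num
  have hE : Nat.card (rowGrp F i₀) = 16 := by
    rw [card_rowGrp, hF, hι]
    norm_num
  -- the set `S` of `φ` with `xPhi φ` fixing `ω`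
  set S : Set (Phi F i₀) := {φ | xPhi i₀ φ • ω = ω} with hS
  have hScard : Nat.card S = 4 := by
    rw [← hst ω]
    apply Nat.card_congr
    refine Equiv.ofBijective (fun φ => ⟨xPhi i₀ φ.1, ⟨xPhi_mem_rowGrp i₀ φ.1, φ.2⟩⟩) ⟨?_, ?_⟩
    · intro φ φ' h
      apply Subtype.ext
      exact xPhi_injective i₀ (congrArg Subtype.val h)
    · rintro ⟨d, ⟨φ, rfl⟩, hd⟩
      exact ⟨⟨φ, hd⟩, rfl⟩
  have hS0 : (0 : Phi F i₀) ∈ S := by
    show xPhi i₀ 0 • ω = ω
    rw [xPhi_zero, one_smul]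
  -- a nonzero element of `S`
  obtain ⟨φ₀, hφ₀S, hφ₀⟩ : ∃ φ₀ ∈ S, φ₀ ≠ 0 := by
    by_contra hall
    push Not at hall
    have : S ⊆ {0} := fun φ hφ => hall φ hφ
    have h1 : Nat.card S ≤ Nat.card ({0} : Set (Phi F i₀)) := Nat.card_mono (Set.finite_singleton _) this
    rw [hScard, Nat.card_eq_fintype_card, Fintype.card_unique] at h1
    omega
  -- a nonzero `u` with `φ₀ ⬝ u = 0`
  obtain ⟨u, hu0, hu⟩ : ∃ u : Phi F i₀, u ≠ 0 ∧ φ₀.1 ⬝ᵥ u.1 = 0 := by
    have h1 := f4line_card_ker i₀ hφ₀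
    rw [hPhi, hF] at h1
    have h2 : Nat.card (LinearMap.ker (hyppDot i₀ φ₀.1)) = 4 := by omega
    haveI : Nontrivial (LinearMap.ker (hyppDot i₀ φ₀.1)) := by
      rw [← Finite.one_lt_card_iff_nontrivial, h2]
      norm_num
    obtain ⟨⟨u, hu⟩, hu0⟩ := exists_ne (0 : LinearMap.ker (hyppDot i₀ φ₀.1))
    refine ⟨u, fun h => hu0 (Subtype.ext h), ?_⟩
    rw [LinearMap.mem_ker, hyppDot_apply] at hu
    rw [dotProduct_comm]
    exact hu
  -- the elements `l c = 1 + c u φ₀ᵀ`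
  have hlc : ∀ c : F, φ₀.1 ⬝ᵥ (c • u.1) = 0 := fun c => by rw [dotProduct_smul, hu, smul_zero]
  set a := xPhi i₀ φ₀ with ha
  have haE : a ∈ rowGrp F i₀ := xPhi_mem_rowGrp i₀ φ₀
  have ha1 : a ≠ 1 := xPhi_ne_one i₀ hφ₀
  have haω : a • ω = ω := hφ₀S
  have hcomm : ∀ c : F, a * f4lineL (c • u.1) φ₀.1 (hlc c) = f4lineL (c • u.1) φ₀.1 (hlc c) * a := by
    intro c
    have := f4line_conj i₀ (c • u.1) φ₀ φ₀ (hlc c)
    rw [hlc c, zero_smul, add_zero] at this
    exact this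
  -- the orbit of `ω` under the row group is the fixed point set of `a`
  have hEcomm : ∀ r ∈ rowGrp F i₀, ∀ φ : Phi F i₀, xPhi i₀ φ * r = r * xPhi i₀ φ := by
    rintro _ ⟨ψ, rfl⟩ φ
    exact (xPhi_commute i₀ φ ψ).eq
  set O : Set Ω := MulAction.orbit (rowGrp F i₀) ω with hO
  have hOfix : O ⊆ MulAction.fixedBy Ω a := by
    rintro _ ⟨r, rfl⟩
    rw [MulAction.mem_fixedBy]
    show a • (r.1 • ω) = r.1 • ω
    rw [← mul_smul, hEcomm r.1 r.2 φ₀, mul_smul, haω]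
  have hOcard : Nat.card O = 4 := by
    have h1 : Nat.card O * Nat.card (MulAction.stabilizer (rowGrp F i₀) ω) = Nat.card (rowGrp F i₀) := by
      have e := MulAction.orbitEquivQuotientStabilizer (rowGrp F i₀) ω
      rw [Nat.card_congr e, mul_comm, mul_comm (Nat.card _) ]
      exact (Subgroup.card_eq_card_quotient_mul_card_subgroup _).symm
    have h2 : Nat.card (MulAction.stabilizer (rowGrp F i₀) ω) = 4 := by
      rw [← hst ω]
      apply Nat.card_congr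
      refine Equiv.ofBijective (fun r => ⟨r.1.1, ⟨r.1.2, r.2⟩⟩) ⟨?_, ?_⟩
      · intro r r' h
        apply Subtype.ext
        apply Subtype.ext
        have h' := congrArg (fun x => x.1) h
        exact h'
      · rintro ⟨d, hdE, hd⟩
        exact ⟨⟨⟨d, hdE⟩, hd⟩, rfl⟩
    rw [h2, hE] at h1
    omega
  have hOeq : O = MulAction.fixedBy Ω a := by
    apply Set.eq_of_subset_of_ncard_le hOfix
    rw [← Nat.card_coe_set_eq, ← Nat.card_coe_set_eq, hOcard, hfix a haE ha1]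
  have hlO : ∀ c : F, ∃ r ∈ rowGrp F i₀, r • ω = f4lineL (c • u.1) φ₀.1 (hlc c) • ω := by
    intro c
    have h1 : f4lineL (c • u.1) φ₀.1 (hlc c) • ω ∈ MulAction.fixedBy Ω a := by
      rw [MulAction.mem_fixedBy, ← mul_smul, hcomm c, mul_smul, haω]
    rw [← hOeq] at h1
    obtain ⟨r, hr⟩ := h1
    exact ⟨r.1, r.2, hr⟩
  -- `S` is invariant under `φ ↦ φ + c (φ ⬝ u) φ₀`
  have hkey : ∀ φ ∈ S, ∀ c : F, φ + (c * (φ.1 ⬝ᵥ u.1)) • φ₀ ∈ S := by
    intro φ hφ c
    obtain ⟨r, hrE, hr⟩ := hlO c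
    have h1 := f4line_conj i₀ (c • u.1) φ₀ φ (hlc c)
    rw [dotProduct_smul, smul_eq_mul] at h1
    have h2 : xPhi i₀ (φ + (c * (φ.1 ⬝ᵥ u.1)) • φ₀) =
        (f4lineL (c • u.1) φ₀.1 (hlc c))⁻¹ * (xPhi i₀ φ * f4lineL (c • u.1) φ₀.1 (hlc c)) := by
      rw [h1, inv_mul_cancel_left]
    show xPhi i₀ (φ + (c * (φ.1 ⬝ᵥ u.1)) • φ₀) • ω = ω
    have hφω : xPhi i₀ φ • ω = ω := hφ
    calc xPhi i₀ (φ + (c * (φ.1 ⬝ᵥ u.1)) • φ₀) • ω
        = (f4lineL (c • u.1) φ₀.1 (hlc c))⁻¹ • (xPhi i₀ φ • (f4lineL (c • u.1) φ₀.1 (hlc c) • ω)) := by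
          rw [h2, mul_smul, mul_smul]
      _ = (f4lineL (c • u.1) φ₀.1 (hlc c))⁻¹ • (xPhi i₀ φ • (r • ω)) := by rw [hr]
      _ = (f4lineL (c • u.1) φ₀.1 (hlc c))⁻¹ • (r • (xPhi i₀ φ • ω)) := by
          rw [← mul_smul (xPhi i₀ φ) r, hEcomm r hrE φ, mul_smul]
      _ = (f4lineL (c • u.1) φ₀.1 (hlc c))⁻¹ • (r • ω) := by rw [hφω]
      _ = ω := by rw [hr, inv_smul_smul]
  -- `S` is contained in the kernel of `· ⬝ u`
  have hSK : ∀ φ ∈ S, φ.1 ⬝ᵥ u.1 = 0 := by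
    intro φ hφ
    by_contra ht
    have hcoset : ∀ c' : F, φ + c' • φ₀ ∈ S := by
      intro c'
      have := hkey φ hφ (c' / (φ.1 ⬝ᵥ u.1))
      rwa [div_mul_cancel₀ _ ht] at this
    let g : Option F → S := fun o =>
      match o with
      | none => ⟨0, hS0⟩
      | some c' => ⟨φ + c' • φ₀, hcoset c'⟩
    have hg : Function.Injective g := by
      rintro (_ | c₁) (_ | c₂) h
      · rfl
      · exfalso
        have h1 : (0 : Phi F i₀) = φ + c₂ • φ₀ := congrArg Subtype.val h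
        have h2 : φ = -(c₂ • φ₀) := by
          rw [eq_neg_iff_add_eq_zero, ← h1]
        apply ht
        rw [h2]
        simp [hu]
      · exfalso
        have h1 : φ + c₁ • φ₀ = (0 : Phi F i₀) := congrArg Subtype.val h
        have h2 : φ = -(c₁ • φ₀) := by
          rw [eq_neg_iff_add_eq_zero, h1]
        apply ht
        rw [h2]
        simp [hu]
      · have h1 : φ + c₁ • φ₀ = φ + c₂ • φ₀ := congrArg Subtype.val h
        exact congrArg some (smul_left_injective F hφ₀ (add_left_cancel h1))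
    have h5 := Nat.card_le_card_of_injective g hg
    rw [hScard, Nat.card_eq_fintype_card, Fintype.card_option, hF] at h5
    omega
  -- conclusion
  have hK : Nat.card (LinearMap.ker (hyppDot i₀ u.1)) = 4 := by
    have h1 := f4line_card_ker i₀ hu0
    rw [hPhi, hF] at h1
    omega
  have hSle : S ⊆ (LinearMap.ker (hyppDot i₀ u.1) : Set (Phi F i₀)) := by
    intro φ hφ
    rw [SetLike.mem_coe, LinearMap.mem_ker, hyppDot_apply]
    exact hSK φ hφ
  have hSeq : S = (LinearMap.ker (hyppDot i₀ u.1) : Set (Phi F i₀)) := by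
    apply Set.eq_of_subset_of_ncard_le hSle
    rw [← Nat.card_coe_set_eq, ← Nat.card_coe_set_eq, hScard]
    exact le_of_eq hK
  refine ⟨u, hu0, fun φ => ?_⟩
  have : φ ∈ S ↔ φ ∈ (LinearMap.ker (hyppDot i₀ u.1) : Set (Phi F i₀)) := by rw [← hSeq]
  rw [SetLike.mem_coe, LinearMap.mem_ker, hyppDot_apply] at this
  exact this

end Cfsg.Agent.Helper12.MinIdx
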