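import Mathlib
import Cfsg.Prelude
import Cfsg.Agent.Lib.Helper13.SylODefs

/-!
# S4613, uniform (B, N)-pair route (helper13): piece SYLO-COMMON, core

`common_opp_core`: the statement of `common_opp` with the statement of piece SYLO-PREV
(`prev_unique`) as a hypothesis.
-/

set_option autoImplicit false

namespace Cfsg.Agent.Helper13.SylO

open Cfsg Cfsg.Agent.Helper2.WordLen Cfsg.Agent.Helper2.BN Cfsg.Agent.Helper17.BNCox

section pure
variable {H : Type*} [Group H] (P : Cfsg.BNPair H)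

/-- the element with all right descents has all left descents and is of maximal length -/
theorem common_longest [Finite H] (w₀ : W P) (hw₀ : ∀ t : P.S, ℓ P (w₀ * σ P t) < ℓ P w₀) :
    (∀ s : P.S, ℓ P (σ P s * w₀) < ℓ P w₀) ∧ (∀ u : W P, ℓ P u ≤ ℓ P w₀) ∧
      (∀ v : W P, (∀ t : P.S, ℓ P (v * σ P t) < ℓ P v) → v = w₀) := by
  have : Finite (W P) := inferInstance
  obtain ⟨w₀', hL', -, -, huR⟩ := exists_longest P
  have hw₀' : w₀ = w₀' := huR w₀ hw₀
  have hL : ∀ s : P.S, ℓ P (σ P s * w₀) < ℓ P w₀ := by rw [hw₀']; exact hL'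
  refine ⟨hL, ?_, fun v hv => (huR v hv).trans hw₀'.symm⟩
  intro u
  have := ℓ_mul_of_allDescL P w₀ hL _ u rfl
  omega

/-- conjugation by the longest element permutes the generators -/
theorem common_conj [Finite H] (w₀ : W P) (hw₀ : ∀ t : P.S, ℓ P (w₀ * σ P t) < ℓ P w₀) (s : P.S) :
    ∃ t : P.S, σ P s * w₀ * σ P t = w₀ ∧ ℓ P (σ P s * w₀) < ℓ P (σ P s * w₀ * σ P t) := by
  obtain ⟨hL, hmaxl, huR⟩ := common_longest P w₀ hw₀
  have hv : σ P s * w₀ ≠ w₀ := by
    intro h
    have := hL s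
    rw [h] at this
    exact lt_irrefl _ this
  have hex : ∃ t : P.S, ℓ P (σ P s * w₀) < ℓ P (σ P s * w₀ * σ P t) := by
    by_contra hcon
    push Not at hcon
    exact hv (huR _ (fun t => by
      have h1 := hcon t
      have h2 := ℓ_mul_gen_ne P t (σ P s * w₀)
      omega))
  obtain ⟨t, ht⟩ := hex
  refine ⟨t, ?_, ht⟩
  apply huR
  intro t'
  have h1 := ℓ_le_gen_mul P s w₀
  have h2 := hmaxl (σ P s * w₀ * σ P t)
  have h3 := hmaxl (σ P s * w₀ * σ P t * σ P t')
  have h4 := ℓ_mul_gen_ne P t' (σ P s * w₀ * σ P t)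
  omega

/-- PIECE SYLO-COMMON, with the statement of SYLO-PREV as a hypothesis. -/
theorem common_opp_core [Finite H]
    (hPREV : ∀ (w : W P) (t : P.S), ℓ P w < ℓ P (w * σ P t) → ∀ g g₁ g₂ : H,
      g₁ ∈ C P w → g₂ ∈ C P w → g₁⁻¹ * g ∈ C P (σ P t) → g₂⁻¹ * g ∈ C P (σ P t) →
      g₁⁻¹ * g₂ ∈ P.B)
    (w₀ : W P) (hw₀ : ∀ t : P.S, ℓ P (w₀ * σ P t) < ℓ P w₀) (g : H) :
    ∃ h : H, h ∈ C P w₀ ∧ g⁻¹ * h ∈ C P w₀ := by
  have key : ∀ k : ℕ, ∀ g : H, ℓ P (cell P g) = k →
      ∃ h : H, h ∈ C P w₀ ∧ g⁻¹ * h ∈ C P w₀ := by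
    intro k
    induction k with
    | zero =>
      intro g hg
      have hgB : g ∈ P.B := (cell_eq_one_iff P g).1 ((ℓ_eq_zero_iff P _).1 hg)
      obtain ⟨n₀, hn₀⟩ := π_surj P w₀
      refine ⟨(n₀ : H), ?_, ?_⟩
      · rw [← hn₀]; exact mem_C_self P n₀
      · apply B_mul_C P (P.B.inv_mem hgB)
        rw [← hn₀]; exact mem_C_self P n₀
    | succ k ih =>
      intro g hg
      obtain ⟨s, w', hww', hw'⟩ := len_succ_left (σ P) (wp_surj P) hg
      obtain ⟨n, hn⟩ := π_surj P (cell P g)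
      have hgC : g ∈ C P (π P n) := by rw [hn]; exact mem_C_cell P g
      rw [mem_C_iff] at hgC
      obtain ⟨b, hb, b', hb', hgeq⟩ := hgC
      have hπ : π P ((⟨s, P.subset s.2⟩ : P.N)⁻¹ * n) = w' := by
        rw [map_mul, map_inv, hn, hww']
        show (σ P s)⁻¹ * (σ P s * w') = w'
        group
      obtain ⟨g', hg'⟩ : ∃ g' : H, g' = (((⟨s, P.subset s.2⟩ : P.N)⁻¹ * n : P.N) : H) * b' :=
        ⟨_, rfl⟩
      have hg'C : g' ∈ C P w' := by
        rw [← hπ, hg']
        exact C_mul_B P (mem_C_self P _) hb'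
      have hgg' : g = b * (s : H) * g' := by
        rw [hgeq, hg']
        simp [mul_assoc]
      have hcell : ℓ P (cell P g') = k := by rw [cell_eq P hg'C]; exact hw'
      obtain ⟨h', hh', hy⟩ := ih g' hcell
      rcases L1 P s hh' with hsh | hsh
      · -- `s h'` drops to the cell of `σ s * w₀`
        obtain ⟨t, htw, htl⟩ := common_conj P w₀ hw₀ s
        obtain ⟨β₁, hβ₁, hβ₁not⟩ := exists_not_mem P t
        -- for every `β ∈ B`, `b s h' β t` is in the big cell
        have hbig : ∀ β ∈ P.B, b * ((s : H) * h' * β * (t : H)) ∈ C P w₀ := by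
          intro β hβ
          apply B_mul_C P hb
          have h1 : (s : H) * h' * β ∈ C P (σ P s * w₀) := C_mul_B P hsh hβ
          have h2 := mul_gen_mem_C P htl h1
          rwa [htw] at h2
        have hrel : ∀ β : H, g⁻¹ * (b * ((s : H) * h' * β * (t : H))) = g'⁻¹ * h' * β * (t : H) := by
          intro β
          rw [hgg']
          group
        -- one of `β = 1`, `β = β₁` works
        have hy1 : g'⁻¹ * h' * 1 ∈ C P w₀ := by simpa using hy
        have hyβ : g'⁻¹ * h' * β₁ ∈ C P w₀ := C_mul_B P hy hβ₁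
        rcases L1r P t hy1 with h1 | h1
        · rcases L1r P t hyβ with h2 | h2
          · exfalso
            have hlt : ℓ P (w₀ * σ P t) < ℓ P (w₀ * σ P t * σ P t) := by
              rw [mul_σ_cancel]
              exact hw₀ t
            have htinv : (t : H)⁻¹ ∈ C P (σ P t) := by
              have := C_inv P (gen_mem_C P t)
              rwa [σ_inv] at this
            have e1 : (g'⁻¹ * h' * 1 * (t : H))⁻¹ * (g'⁻¹ * h') = (t : H)⁻¹ := by group
            have e2 : (g'⁻¹ * h' * β₁ * (t : H))⁻¹ * (g'⁻¹ * h') = (t : H)⁻¹ * β₁⁻¹ := by group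
            have h3 := hPREV (w₀ * σ P t) t hlt (g'⁻¹ * h') _ _ h1 h2
              (by rw [e1]; exact htinv)
              (by rw [e2]; exact C_mul_B P htinv (P.B.inv_mem hβ₁))
            have e3 : (g'⁻¹ * h' * 1 * (t : H))⁻¹ * (g'⁻¹ * h' * β₁ * (t : H)) =
                (t : H)⁻¹ * β₁ * (t : H) := by group
            rw [e3] at h3
            apply hβ₁not
            have e4 : (t : H) * β₁ * (t : H) = ((t : H) * (t : H)) * ((t : H)⁻¹ * β₁ * (t : H)) := by
              group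
            rw [e4]
            exact P.B.mul_mem (P.sq_mem t t.2) h3
          · exact ⟨_, hbig β₁ hβ₁, by rw [hrel]; exact h2⟩
        · exact ⟨_, hbig 1 P.B.one_mem, by rw [hrel]; exact h1⟩
      · -- `s h'` stays in the big cell
        refine ⟨b * ((s : H) * h'), B_mul_C P hb hsh, ?_⟩
        have e : g⁻¹ * (b * ((s : H) * h')) = g'⁻¹ * h' := by
          rw [hgg']
          group
        rw [e]
        exact hy
  exact key _ g rfl

end pure

end Cfsg.Agent.Helper13.SylO
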