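import Mathlib
import Cfsg.Prelude
import Cfsg.Agent.Lib.Helper13.SylODefs
import Cfsg.Agent.Lib.Helper24.SylOCOMMONCore
import Cfsg.Agent.Lib.Helper5.SylOPREV

/-!
# S4613, uniform (B, N)-pair route (helper13): piece SYLO-COMMON (exact skeleton signature)
-/

set_option autoImplicit false

namespace Cfsg.Agent.Helper13.SylO

open Cfsg Cfsg.Agent.Helper2.WordLen Cfsg.Agent.Helper2.BN Cfsg.Agent.Helper17.BNCox

section pure
variable {H : Type*} [Group H] (P : Cfsg.BNPair H)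

/-- PIECE SYLO-COMMON. -/
theorem common_opp [Finite H] (w₀ : W P) (hw₀ : ∀ t : P.S, ℓ P (w₀ * σ P t) < ℓ P w₀) (g : H) :
    ∃ h : H, h ∈ C P w₀ ∧ g⁻¹ * h ∈ C P w₀ :=
  common_opp_core P (prev_unique P) w₀ hw₀ g

end pure

end Cfsg.Agent.Helper13.SylO
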