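import Mathlib
import Cfsg.Prelude
import Cfsg.Agent.Lib.Helper13.SylODefs

/-!
# S4613, uniform (B, N)-pair route (helper13): piece SYLO-CARD, core

`card_cell_lt_core`: the statement of `card_cell_lt` with the statement of piece SYLO-TWO
(`two_mul_card_cell_le`) as a hypothesis.
-/

set_option autoImplicit false

namespace Cfsg.Agent.Helper13.SylO

open Cfsg Cfsg.Agent.Helper2.WordLen Cfsg.Agent.Helper2.BN Cfsg.Agent.Helper17.BNCox

section pure
variable {H : Type*} [Group H] (P : Cfsg.BNPair H)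

/-- every cell contains a coset -/
theorem card_cell_nonempty (v : W P) : Nonempty {c : H ⧸ P.B // cellQ P c = v} := by
  obtain ⟨n, rfl⟩ := π_surj P v
  exact ⟨⟨((n : H) : H ⧸ P.B), by rw [cellQ_mk, cell_coe]⟩⟩

/-- an element other than the one with all right descents has a right ascent -/
theorem card_exists_ascent [Finite H] (w₀ : W P) (hw₀ : ∀ t : P.S, ℓ P (w₀ * σ P t) < ℓ P w₀)
    (v : W P) (hv : v ≠ w₀) : ∃ t : P.S, ℓ P v < ℓ P (v * σ P t) := by
  have : Finite (W P) := inferInstance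
  obtain ⟨w₀', -, -, -, huR⟩ := exists_longest P
  have hw₀' : w₀ = w₀' := huR w₀ hw₀
  by_contra hcon
  push Not at hcon
  have h1 : v = w₀' := huR v (fun t => by
    have h1 := hcon t
    have h2 := ℓ_mul_gen_ne P t v
    omega)
  exact hv (h1.trans hw₀'.symm)

/-- PIECE SYLO-CARD, with the statement of SYLO-TWO as a hypothesis. -/
theorem card_cell_lt_core [Finite H]
    (hTWO : ∀ (w : W P) (t : P.S), ℓ P w < ℓ P (w * σ P t) →
      2 * Nat.card {c : H ⧸ P.B // cellQ P c = w} ≤
        Nat.card {c : H ⧸ P.B // cellQ P c = w * σ P t})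
    (w₀ : W P) (hw₀ : ∀ t : P.S, ℓ P (w₀ * σ P t) < ℓ P w₀)
    (w : W P) (hw : w ≠ w₀) :
    Nat.card {c : H ⧸ P.B // cellQ P c = w} < Nat.card {c : H ⧸ P.B // cellQ P c = w₀} := by
  have : Finite (W P) := inferInstance
  obtain ⟨wm, hmax⟩ := Finite.exists_max (fun w : W P => ℓ P w)
  have key : ∀ k : ℕ, ∀ v : W P, ℓ P wm - ℓ P v = k → v ≠ w₀ →
      Nat.card {c : H ⧸ P.B // cellQ P c = v} < Nat.card {c : H ⧸ P.B // cellQ P c = w₀} := by
    intro k
    induction k using Nat.strong_induction_on with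
    | _ k ih =>
      intro v hk hv
      obtain ⟨t, ht⟩ := card_exists_ascent P w₀ hw₀ v hv
      have h2 := hTWO v t ht
      have hpos : 0 < Nat.card {c : H ⧸ P.B // cellQ P c = v} := by
        have := card_cell_nonempty P v
        exact Nat.card_pos
      by_cases hvt : v * σ P t = w₀
      · rw [hvt] at h2
        omega
      · have hm : ℓ P (v * σ P t) ≤ ℓ P wm := hmax (v * σ P t)
        have hm' : ℓ P v ≤ ℓ P wm := hmax v
        have := ih (ℓ P wm - ℓ P (v * σ P t)) (by omega) (v * σ P t) rfl hvt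
        omega
  exact key _ w rfl hw

end pure

end Cfsg.Agent.Helper13.SylO
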