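import Mathlib
import Cfsg.Prelude.Def_JComponents
import Cfsg.Agent.Lib.Helper13.JCFFDefs
import Cfsg.Agent.Lib.Helper13.JCF1
import Cfsg.Agent.Lib.Helper13.JCF2
import Cfsg.Agent.Lib.Helper15.JCSUBNCore
import Cfsg.Agent.Lib.Helper3.Thompson
import Cfsg.Agent.Lib.Helper10.Cores

/-!
# KS12 / JCFF, piece F4 (helper24): the splitting `J ⊓ C ≤ Q`

`Q = O₂(X)`, `V = VX X`, `C = C_X(V)`, `J = J(X)`, `M = ⨆ O_i`.

Proof (different from the skeleton's sketch, no lifting of the `S₃`'s):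
* (inversion) an element of `D_i \ O_i` inverts `O_i / C`: every `g ∈ D_i` induces a permutation of the four-group
  `W_i` fixing `1`, so `g² ` or `g³` centralizes `W_i`, i.e. lies in `C` (`cent_W`);
* in `X ⧸ Q` the images of the `O_i ⊓ J` and of `J ⊓ C` commute pairwise (`[u, v] = c` is central in the image of `J`
  and is inverted by an inverting element of `J`, and has odd order);
* `J / (M ⊓ J)` has exponent 2;
* the transfer of the image of `J` into the (abelian, odd order) image of `M ⊓ J` kills all involutions, so it is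
  trivial, and it maps the central element `z ∈ J ⊓ C` to `z ^ (2 ^ n)`.
-/

set_option autoImplicit false
set_option linter.unusedVariables false
set_option linter.unusedSectionVars false
set_option linter.style.haveILetI false

namespace Cfsg.Agent.Helper13.JCFF

open Cfsg
open scoped commutatorElement

variable {X : Type*} [Group X] [Finite X]

/-- a permutation of a 4-element set with a fixed point has order dividing 2 or 3 -/
theorem f4_perm4 {α : Type*} [Finite α] (hα : Nat.card α = 4) (σ : Equiv.Perm α) (a : α) (ha : σ a = a) :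
    (∀ x, σ (σ x) = x) ∨ (∀ x, σ (σ (σ x)) = x) := by
  have e : α ≃ Fin 4 := Finite.equivFinOfCardEq hα
  have key : ∀ τ : Equiv.Perm (Fin 4), ∀ x, τ x = x → (∀ y, τ (τ y) = y) ∨ (∀ y, τ (τ (τ y)) = y) := by
    decide
  have h1 := key (e.permCongr σ) (e a) (by simp [Equiv.permCongr_apply, ha])
  rcases h1 with h1 | h1
  · left
    intro x
    have := h1 (e x)
    simpa [Equiv.permCongr_apply] using this
  · right
    intro x
    have := h1 (e x)
    simpa [Equiv.permCongr_apply] using this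

/-- an element normalizing a subgroup `W` of order 4: its square or its cube centralizes `W` -/
theorem f4_sq_or_cube {W : Subgroup X} (hW4 : Nat.card W = 4) {g : X} (hg : g ∈ Subgroup.normalizer (W : Set X)) :
    g * g ∈ Subgroup.centralizer (W : Set X) ∨ g * g * g ∈ Subgroup.centralizer (W : Set X) := by
  rw [Subgroup.mem_normalizer_iff] at hg
  let σ : Equiv.Perm W :=
    { toFun := fun w => ⟨g * w * g⁻¹, (hg w).1 w.2⟩
      invFun := fun w => ⟨g⁻¹ * w * g, (hg _).2 (by simpa [mul_assoc] using w.2)⟩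
      left_inv := fun w => by ext; simp [mul_assoc]
      right_inv := fun w => by ext; simp [mul_assoc] }
  have hσ : ∀ w : W, ((σ w : W) : X) = g * w * g⁻¹ := fun w => rfl
  have h1 : σ 1 = 1 := by ext; simp [hσ]
  rcases f4_perm4 hW4 σ 1 h1 with h2 | h2
  · left
    rw [Subgroup.mem_centralizer_iff]
    intro w hw
    have := congrArg (fun w : W => (w : X)) (h2 ⟨w, hw⟩)
    simp only [hσ] at this
    calc w * (g * g) = (g * (g * w * g⁻¹) * g⁻¹) * (g * g) := by rw [this]
      _ = g * g * w := by group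
  · right
    rw [Subgroup.mem_centralizer_iff]
    intro w hw
    have := congrArg (fun w : W => (w : X)) (h2 ⟨w, hw⟩)
    simp only [hσ] at this
    calc w * (g * g * g) = (g * (g * (g * w * g⁻¹) * g⁻¹) * g⁻¹) * (g * g * g) := by rw [this]
      _ = g * g * g * w := by group

/-- `D` normalizes `⁅V, D⁆` when `V` is normal -/
theorem f4_mem_normalizer_commutator {V D : Subgroup X} [hV : V.Normal] {d : X} (hd : d ∈ D) :
    d ∈ Subgroup.normalizer ((⁅V, D⁆ : Subgroup X) : Set X) := by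
  apply Cfsg.Agent.Helper25.JC.mem_normalizer_of_map_conj_eq
  rw [Subgroup.map_commutator, Cfsg.Agent.Helper25.JC.map_conj_eq_self_of_mem hd,
    f2_map_conj_of_normal hV]

/-- elements of `D_i` square into `O_i` -/
theorem f4_sq_mem_O {V : Subgroup X} (F : FFData X V) (i : Fin F.r) {d : X} (hd : d ∈ F.D i) :
    d * d ∈ F.O i := by
  have h2 : ((F.O i).subgroupOf (F.D i)).index = 2 := F.relIndex_D i
  have := Subgroup.sq_mem_of_index_two h2 (⟨d, hd⟩ : F.D i)
  rw [Subgroup.mem_subgroupOf] at this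
  simpa [pow_two] using this

/-- the square or the cube of an element of `D_i` lies in `C` -/
theorem f4_sq_or_cube_mem {V : Subgroup X} [hV : V.Normal] (F : FFData X V) (i : Fin F.r) {g : X}
    (hg : g ∈ F.D i) :
    g * g ∈ Subgroup.centralizer (V : Set X) ∨ g * g * g ∈ Subgroup.centralizer (V : Set X) := by
  rcases f4_sq_or_cube (F.card_W i) (f4_mem_normalizer_commutator (V := V) hg) with h | h
  · left
    rw [← F.cent_W i]
    exact ⟨(F.D i).mul_mem hg hg, h⟩
  · right
    rw [← F.cent_W i]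
    exact ⟨(F.D i).mul_mem ((F.D i).mul_mem hg hg) hg, h⟩

/-- elements of `D_i` outside `O_i` square into `C` -/
theorem f4_sq_mem_C {V : Subgroup X} [hV : V.Normal] (F : FFData X V) (i : Fin F.r) {g : X}
    (hg : g ∈ F.D i) (hg' : g ∉ F.O i) : g * g ∈ Subgroup.centralizer (V : Set X) := by
  rcases f4_sq_or_cube_mem F i hg with h | h
  · exact h
  · exfalso
    apply hg'
    have h1 : g * g * g ∈ F.O i := F.C_le_O i h
    have h2 : g * g ∈ F.O i := f4_sq_mem_O F i hg
    have : g = (g * g * g) * (g * g)⁻¹ := by group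
    rw [this]
    exact (F.O i).mul_mem h1 ((F.O i).inv_mem h2)

/-- (inversion) elements of `D_i` outside `O_i` invert `O_i / C` -/
theorem f4_inverts {V : Subgroup X} [hV : V.Normal] (F : FFData X V) (i : Fin F.r) {a u : X}
    (ha : a ∈ F.D i) (ha' : a ∉ F.O i) (hu : u ∈ F.O i) :
    a * u * a⁻¹ * u ∈ Subgroup.centralizer (V : Set X) := by
  have hCn : (Subgroup.centralizer (V : Set X)).Normal := inferInstance
  have h1 : a * a ∈ Subgroup.centralizer (V : Set X) := f4_sq_mem_C F i ha ha'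
  have hau : a * u ∈ F.D i := (F.D i).mul_mem ha (F.O_le_D i hu)
  have hau' : a * u ∉ F.O i := by
    intro h
    apply ha'
    have : a = (a * u) * u⁻¹ := by group
    rw [this]
    exact (F.O i).mul_mem h ((F.O i).inv_mem hu)
  have h2 : (a * u) * (a * u) ∈ Subgroup.centralizer (V : Set X) := f4_sq_mem_C F i hau hau'
  have h3 : u⁻¹ * (a * a)⁻¹ * u ∈ Subgroup.centralizer (V : Set X) := by
    have := hCn.conj_mem _ (Subgroup.inv_mem _ h1) u⁻¹
    simpa using this
  have : a * u * a⁻¹ * u = ((a * u) * (a * u)) * (u⁻¹ * (a * a)⁻¹ * u) := by group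
  rw [this]
  exact Subgroup.mul_mem _ h2 h3

/-! ### abstract commutator computations -/

theorem f4_comm_drop_left {Γ : Type*} [Group Γ] {z p g : Γ} (hzp : Commute z p) (hzg : Commute z g) :
    ⁅z * p, g⁆ = ⁅p, g⁆ := by
  rw [commutatorElement_mul_left_eq_conj_mul, (commutatorElement_eq_one_iff_commute).2 hzg, mul_one]
  have h : Commute z ⁅p, g⁆ := by
    rw [commutatorElement_def]
    exact ((hzp.mul_right hzg).mul_right hzp.inv_right).mul_right hzg.inv_right
  rw [h.eq, mul_inv_cancel_right]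

theorem f4_comm_drop_right {Γ : Type*} [Group Γ] {z p g : Γ} (hzp : Commute z p) (hzg : Commute z g) :
    ⁅p, z * g⁆ = ⁅p, g⁆ := by
  rw [← commutatorElement_inv (z * g) p, f4_comm_drop_left hzg hzp, commutatorElement_inv]

/-- a central commutator `⁅x, y⁆`, with `a` inverting `x` and centralizing `y` modulo central elements,
is an involution -/
theorem f4_comm_sq {Γ : Type*} [Group Γ] {x y a z₁ z₂ : Γ}
    (h1 : a * x * a⁻¹ = z₁ * x⁻¹) (h2 : a * y * a⁻¹ = z₂ * y)
    (hz1x : Commute z₁ x) (hz1y : Commute z₁ y) (hz12 : Commute z₁ z₂) (hz2x : Commute z₂ x)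
    (hz2y : Commute z₂ y) (hca : Commute ⁅x, y⁆ a) (hcx : Commute ⁅x, y⁆ x) : ⁅x, y⁆ * ⁅x, y⁆ = 1 := by
  have e1 : a * ⁅x, y⁆ * a⁻¹ = ⁅x, y⁆ := by rw [← hca.eq, mul_inv_cancel_right]
  have e2 : a * ⁅x, y⁆ * a⁻¹ = ⁅z₁ * x⁻¹, z₂ * y⁆ := by rw [conjugate_commutatorElement, h1, h2]
  have e3 : ⁅z₁ * x⁻¹, z₂ * y⁆ = ⁅x⁻¹, y⁆ := by
    rw [f4_comm_drop_left hz1x.inv_right (hz12.mul_right hz1y), f4_comm_drop_right hz2x.inv_right hz2y]
  have e4 : ⁅x⁻¹, y⁆ = ⁅x, y⁆⁻¹ := by
    rw [commutatorElement_inv_left, ← commutatorElement_inv x y]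
    have : Commute ⁅x, y⁆⁻¹ x := hcx.inv_left
    rw [mul_assoc, this.eq, inv_mul_cancel_left]
  have e5 : ⁅x, y⁆ = ⁅x, y⁆⁻¹ := by rw [← e4, ← e3, ← e2, e1]
  calc ⁅x, y⁆ * ⁅x, y⁆ = ⁅x, y⁆ * ⁅x, y⁆⁻¹ := by rw [← e5]
    _ = 1 := mul_inv_cancel _

/-- pairwise centralizing subgroups generate a commutative subgroup -/
theorem f4_iSup_le_centralizer {Γ : Type*} [Group Γ] {ι : Sort*} (A : ι → Subgroup Γ)
    (hA : ∀ i j, A i ≤ Subgroup.centralizer (A j : Set Γ)) :
    (⨆ i, A i) ≤ Subgroup.centralizer ((⨆ i, A i : Subgroup Γ) : Set Γ) := by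
  apply iSup_le
  intro i
  rw [Subgroup.le_centralizer_iff]
  apply iSup_le
  intro j
  exact hA j i

theorem f4_commute_of_iSup {Γ : Type*} [Group Γ] {ι : Sort*} (A : ι → Subgroup Γ)
    (hA : ∀ i j, A i ≤ Subgroup.centralizer (A j : Set Γ)) {x y : Γ} (hx : x ∈ ⨆ i, A i)
    (hy : y ∈ ⨆ i, A i) : Commute x y := by
  have := f4_iSup_le_centralizer A hA hy
  rw [Subgroup.mem_centralizer_iff] at this
  exact this x hx

/-- pairwise centralizing subgroups of exponent dividing `n` generate a subgroup of exponent dividing `n` -/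
theorem f4_pow_eq_one_of_iSup {Γ : Type*} [Group Γ] {ι : Sort*} (A : ι → Subgroup Γ)
    (hA : ∀ i j, A i ≤ Subgroup.centralizer (A j : Set Γ)) (n : ℕ) (hn : ∀ i, ∀ a ∈ A i, a ^ n = 1)
    {y : Γ} (hy : y ∈ ⨆ i, A i) : y ^ n = 1 := by
  induction hy using Subgroup.iSup_induction' with
  | hp i a ha => exact hn i a ha
  | h1 => simp
  | hmul a b ha hb iha ihb =>
    rw [(f4_commute_of_iSup A hA ha hb).mul_pow, iha, ihb, mul_one]

/-- the transfer argument: a central element of odd order `n`-torsion, in a group generated by involutions with a normal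
commutative subgroup `H₀` of exponent dividing `n` (odd) and with `G / H₀` of exponent 2, is trivial -/
theorem f4_transfer {G : Type*} [Group G] [Finite G] (H₀ : Subgroup G) [hH₀ : H₀.Normal]
    (hcomm : ∀ a ∈ H₀, ∀ b ∈ H₀, a * b = b * a) (n : ℕ) (hn : Odd n) (hexp : ∀ a ∈ H₀, a ^ n = 1)
    (hsq : ∀ g : G, g * g ∈ H₀) (hgen : Subgroup.closure {t : G | t * t = 1} = ⊤)
    (z : G) (hzc : ∀ g : G, g * z = z * g) (hzn : z ^ n = 1) : z = 1 := by
  letI : CommGroup ↥H₀ :=
    { (inferInstance : Group ↥H₀) with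
      mul_comm := fun a b => Subtype.ext (hcomm a a.2 b b.2) }
  let V : G →* ↥H₀ := MonoidHom.transfer (MonoidHom.id ↥H₀)
  obtain ⟨k, hk⟩ := hn
  have hV1 : ∀ t : G, t * t = 1 → V t = 1 := by
    intro t ht
    have h1 : V t * V t = 1 := by rw [← map_mul, ht, map_one]
    have h2 : (V t) ^ n = 1 := by
      apply Subtype.ext
      rw [Subgroup.coe_pow]
      exact hexp _ (V t).2
    rw [hk, pow_succ, pow_mul, pow_two, h1, one_pow, one_mul] at h2
    exact h2
  have hV : ∀ g : G, V g = 1 := by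
    have h1 : Subgroup.closure {t : G | t * t = 1} ≤ V.ker := by
      rw [Subgroup.closure_le]
      intro t ht
      exact MonoidHom.mem_ker.2 (hV1 t ht)
    intro g
    rw [hgen] at h1
    exact MonoidHom.mem_ker.1 (h1 (Subgroup.mem_top g))
  -- the index of `H₀` is a power of 2
  haveI : Fact (Nat.Prime 2) := ⟨Nat.prime_two⟩
  have hp : IsPGroup 2 (G ⧸ H₀) := by
    intro q
    induction q using QuotientGroup.induction_on with
    | H g =>
      refine ⟨1, ?_⟩
      rw [pow_one, ← QuotientGroup.mk_pow, QuotientGroup.eq_one_iff, pow_two]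
      exact hsq g
  obtain ⟨m, hm⟩ := IsPGroup.iff_card.1 hp
  have hidx : H₀.index = 2 ^ m := by rw [Subgroup.index_eq_card, hm]
  -- the transfer of the central element `z`
  have key : ∀ (k : ℕ) (g₀ : G), g₀⁻¹ * z ^ k * g₀ ∈ H₀ → g₀⁻¹ * z ^ k * g₀ = z ^ k := by
    intro k g₀ _
    have hc : Commute g₀ z := hzc g₀
    have hc' : Commute g₀ (z ^ k) := hc.pow_right k
    rw [mul_assoc, ← hc'.eq, inv_mul_cancel_left]
  have h1 := MonoidHom.transfer_eq_pow (MonoidHom.id ↥H₀) z key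
  have h2 : V z = 1 := hV z
  have h3 : z ^ H₀.index = 1 := by
    have : (V z : G) = z ^ H₀.index := by
      show ((MonoidHom.transfer (MonoidHom.id ↥H₀) z : ↥H₀) : G) = _
      rw [h1]
      rfl
    rw [← this, h2]
    rfl
  rw [hidx] at h3
  have h4 : orderOf z ∣ 2 ^ m := orderOf_dvd_of_pow_eq_one h3
  have h5 : orderOf z ∣ n := orderOf_dvd_of_pow_eq_one hzn
  have h6 : Nat.Coprime (2 ^ m) n := by
    apply Nat.Coprime.pow_left
    rw [hk]
    simp
  have h7 : orderOf z = 1 := Nat.eq_one_of_dvd_coprimes h6 h4 h5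
  exact orderOf_eq_one_iff.1 h7

/-! ### the setting `KS` -/

/-- `C / Q` has odd order: an element of `C` whose square lies in `Q` lies in `Q` -/
theorem KS.f4_mem_of_sq_mem {T : Subgroup X} (h : KS X T) {c : X}
    (hc : c ∈ Subgroup.centralizer (VX X : Set X)) (hcc : c * c ∈ pCore 2 X) : c ∈ pCore 2 X := by
  haveI : (pCore 2 X).Normal := Cfsg.Agent.Helper10.pCore_normal 2
  obtain ⟨k, hk⟩ := h.odd_relIndex
  have h1 : c ^ (pCore 2 X).relIndex (Subgroup.centralizer (VX X : Set X)) ∈ pCore 2 X :=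
    Subgroup.pow_relIndex_mem _ hc
  rw [hk, pow_succ, pow_mul] at h1
  have h2 : (c ^ 2) ^ k ∈ pCore 2 X := Subgroup.pow_mem _ (by simpa [pow_two] using hcc) k
  have : c = ((c ^ 2) ^ k)⁻¹ * ((c ^ 2) ^ k * c) := by group
  rw [this]
  exact Subgroup.mul_mem _ (Subgroup.inv_mem _ h2) h1

/-- an element of `J` in `D_i \ O_i` -/
theorem f4_exists_inverting {V : Subgroup X} [hV : V.Normal] (F : FFData X V) (i : Fin F.r) :
    ∃ a ∈ thompsonSubgroup 2 X, a ∈ F.D i ∧ a ∉ F.O i := by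
  have h1 : ∃ d ∈ F.D i, d ∉ F.O i := by
    by_contra hall
    push Not at hall
    have h2 : F.D i ≤ F.O i := fun d hd => hall d hd
    have h3 := Subgroup.relIndex_eq_one.2 h2
    rw [F.relIndex_D i] at h3
    exact absurd h3 (by norm_num)
  obtain ⟨d, hdD, hdO⟩ := h1
  have h4 := F.D_le i hdD
  rw [Subgroup.mem_sup_of_normal_right] at h4
  obtain ⟨j, hj, c, hc, rfl⟩ := h4
  refine ⟨j, hj, ?_, ?_⟩
  · have : j = (j * c) * c⁻¹ := by group
    rw [this]
    exact (F.D i).mul_mem hdD ((F.D i).inv_mem (F.O_le_D i (F.C_le_O i hc)))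
  · intro hjO
    exact hdO ((F.O i).mul_mem hjO (F.C_le_O i hc))

/-- the images of `O_i ⊓ J` and `O_j ⊓ J` in `X ⧸ Q` commute (`i ≠ j`) -/
theorem KS.f4_pair_ne {T : Subgroup X} (h : KS X T) (F : FFData X (VX X)) {i j : Fin F.r} (hij : i ≠ j)
    {x y : X} (hxO : x ∈ F.O i) (hxJ : x ∈ thompsonSubgroup 2 X) (hyO : y ∈ F.O j)
    (hyJ : y ∈ thompsonSubgroup 2 X) : ⁅x, y⁆ ∈ pCore 2 X := by
  haveI hQn : (pCore 2 X).Normal := Cfsg.Agent.Helper10.pCore_normal 2
  haveI hVn : (VX X).Normal := VX_normal h.hQ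
  haveI hCn : (Subgroup.centralizer (VX X : Set X)).Normal := f2_centralizer_VX_normal h.hQ
  set J := thompsonSubgroup 2 X with hJ
  set π := QuotientGroup.mk' (pCore 2 X) with hπ
  have hker : ∀ g : X, π g = 1 ↔ g ∈ pCore 2 X := fun g => QuotientGroup.eq_one_iff g
  have hcen : ∀ z ∈ Subgroup.centralizer (VX X : Set X), ∀ g ∈ J, Commute (π z) (π g) := by
    intro z hz g hg
    rw [← commutatorElement_eq_one_iff_commute, ← map_commutatorElement, hker]
    exact h.comm_C_J (Subgroup.commutator_mem_commutator hz hg)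
  obtain ⟨a, haJ, haD, haO⟩ := f4_exists_inverting F i
  have hz1C : a * x * a⁻¹ * x ∈ Subgroup.centralizer (VX X : Set X) := f4_inverts F i haD haO hxO
  have hz2C : ⁅a, y⁆ ∈ Subgroup.centralizer (VX X : Set X) :=
    F.comm_DD i j hij (Subgroup.commutator_mem_commutator haD (F.O_le_D j hyO))
  have hcC : ⁅x, y⁆ ∈ Subgroup.centralizer (VX X : Set X) :=
    F.comm_DD i j hij (Subgroup.commutator_mem_commutator (F.O_le_D i hxO) (F.O_le_D j hyO))
  have hz2J : ⁅a, y⁆ ∈ J := by
    rw [commutatorElement_def]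
    exact J.mul_mem (J.mul_mem (J.mul_mem haJ hyJ) (J.inv_mem haJ)) (J.inv_mem hyJ)
  have key : ⁅π x, π y⁆ * ⁅π x, π y⁆ = 1 := by
    apply f4_comm_sq (a := π a) (z₁ := π (a * x * a⁻¹ * x)) (z₂ := π ⁅a, y⁆)
    · simp only [← map_mul, ← map_inv]
      congr 1
      group
    · simp only [← map_mul, ← map_inv]
      congr 1
      rw [commutatorElement_def]
      group
    · exact hcen _ hz1C x hxJ
    · exact hcen _ hz1C y hyJ
    · exact hcen _ hz1C _ hz2J
    · exact hcen _ hz2C x hxJ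
    · exact hcen _ hz2C y hyJ
    · rw [← map_commutatorElement]
      exact hcen _ hcC a haJ
    · rw [← map_commutatorElement]
      exact hcen _ hcC x hxJ
  rw [← map_commutatorElement, ← map_mul, hker] at key
  exact h.f4_mem_of_sq_mem hcC key

/-- the image of `O_i ⊓ J` in `X ⧸ Q` is commutative -/
theorem KS.f4_pair_eq {T : Subgroup X} (h : KS X T) (F : FFData X (VX X)) (i : Fin F.r)
    {x y : X} (hxO : x ∈ F.O i) (hxJ : x ∈ thompsonSubgroup 2 X) (hyO : y ∈ F.O i)
    (hyJ : y ∈ thompsonSubgroup 2 X) : ⁅x, y⁆ ∈ pCore 2 X := by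
  haveI hQn : (pCore 2 X).Normal := Cfsg.Agent.Helper10.pCore_normal 2
  haveI hVn : (VX X).Normal := VX_normal h.hQ
  haveI hCn : (Subgroup.centralizer (VX X : Set X)).Normal := f2_centralizer_VX_normal h.hQ
  set J := thompsonSubgroup 2 X with hJ
  by_cases hxC : x ∈ Subgroup.centralizer (VX X : Set X)
  · exact h.comm_C_J (Subgroup.commutator_mem_commutator hxC hyJ)
  set π := QuotientGroup.mk' (pCore 2 X) with hπ
  have hker : ∀ g : X, π g = 1 ↔ g ∈ pCore 2 X := fun g => QuotientGroup.eq_one_iff g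
  have hcen : ∀ z ∈ Subgroup.centralizer (VX X : Set X), ∀ g ∈ J, Commute (π z) (π g) := by
    intro z hz g hg
    rw [← commutatorElement_eq_one_iff_commute, ← map_commutatorElement, hker]
    exact h.comm_C_J (Subgroup.commutator_mem_commutator hz hg)
  -- `O_i / C` has order 3
  haveI hn : ((Subgroup.centralizer (VX X : Set X)).subgroupOf (F.O i)).Normal :=
    Subgroup.Normal.subgroupOf inferInstance _
  have hidx : ((Subgroup.centralizer (VX X : Set X)).subgroupOf (F.O i)).index = 3 := F.relIndex_O i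
  have hcard : Nat.card (↥(F.O i) ⧸ (Subgroup.centralizer (VX X : Set X)).subgroupOf (F.O i)) = 3 := by
    rw [← Subgroup.index_eq_card]; exact hidx
  haveI : Fact (Nat.Prime 3) := ⟨Nat.prime_three⟩
  have hx1 : (QuotientGroup.mk (⟨x, hxO⟩ : F.O i) :
      ↥(F.O i) ⧸ (Subgroup.centralizer (VX X : Set X)).subgroupOf (F.O i)) ≠ 1 := by
    intro h1
    rw [QuotientGroup.eq_one_iff, Subgroup.mem_subgroupOf] at h1
    exact hxC h1
  have hy1 := mem_zpowers_of_prime_card hcard hx1
    (g' := (QuotientGroup.mk (⟨y, hyO⟩ : F.O i) :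
      ↥(F.O i) ⧸ (Subgroup.centralizer (VX X : Set X)).subgroupOf (F.O i)))
  obtain ⟨k, hk⟩ := Subgroup.mem_zpowers_iff.1 hy1
  rw [← QuotientGroup.mk_zpow, QuotientGroup.eq, Subgroup.mem_subgroupOf] at hk
  have hzC : (x ^ k)⁻¹ * y ∈ Subgroup.centralizer (VX X : Set X) := by
    simpa using hk
  have hy : y = x ^ k * ((x ^ k)⁻¹ * y) := by group
  have hcomm : Commute (π x) (π y) := by
    rw [hy, map_mul, map_zpow]
    exact ((Commute.refl (π x)).zpow_right k).mul_right (hcen _ hzC x hxJ).symm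
  rw [← hker, map_commutatorElement, commutatorElement_eq_one_iff_commute]
  exact hcomm

/-- the images of `O_i ⊓ J` and `O_j ⊓ J` in `X ⧸ Q` commute -/
theorem KS.f4_pair {T : Subgroup X} (h : KS X T) (F : FFData X (VX X)) (i j : Fin F.r)
    {x y : X} (hxO : x ∈ F.O i) (hxJ : x ∈ thompsonSubgroup 2 X) (hyO : y ∈ F.O j)
    (hyJ : y ∈ thompsonSubgroup 2 X) : ⁅x, y⁆ ∈ pCore 2 X := by
  by_cases hij : i = j
  · subst hij
    exact h.f4_pair_eq F i hxO hxJ hyO hyJ
  · exact h.f4_pair_ne F hij hxO hxJ hyO hyJ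

/-- commutators of elements of `D_i` lie in `O_i` (index 2) -/
theorem f4_comm_mem_O {V : Subgroup X} (F : FFData X V) (i : Fin F.r) {d e : X} (hd : d ∈ F.D i)
    (he : e ∈ F.D i) : ⁅d, e⁆ ∈ F.O i := by
  have h2 : ((F.O i).subgroupOf (F.D i)).index = 2 := F.relIndex_D i
  have h3 : ⁅(⟨d, hd⟩ : F.D i), (⟨e, he⟩ : F.D i)⁆ ∈ (F.O i).subgroupOf (F.D i) := by
    rw [commutatorElement_def, mul_assoc, Subgroup.mul_mem_iff_of_index_two h2,
      Subgroup.mul_mem_iff_of_index_two h2, Subgroup.mul_mem_iff_of_index_two h2,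
      Subgroup.inv_mem_iff, Subgroup.inv_mem_iff]
  rw [Subgroup.mem_subgroupOf] at h3
  simpa [commutatorElement_def] using h3

/-- `JC / ⨆ O_i` has exponent 2 -/
theorem f4_sq_mem_iSup_O {V : Subgroup X} [hV : V.Normal] (F : FFData X V) {g : X}
    (hg : g ∈ thompsonSubgroup 2 X ⊔ Subgroup.centralizer (V : Set X)) : g * g ∈ ⨆ i, F.O i := by
  haveI hMn : (⨆ i, F.O i).Normal := subn_iSup_O_normal F
  set M := ⨆ i, F.O i with hM
  set π := QuotientGroup.mk' M with hπ
  have hker : ∀ g : X, π g = 1 ↔ g ∈ M := fun g => QuotientGroup.eq_one_iff g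
  have hOM : ∀ i, F.O i ≤ M := fun i => le_iSup (fun i => F.O i) i
  have hA : ∀ i j, (F.D i).map π ≤ Subgroup.centralizer (((F.D j).map π : Subgroup (X ⧸ M)) : Set (X ⧸ M)) := by
    rintro i j _ ⟨d, hd, rfl⟩
    rw [Subgroup.mem_centralizer_iff]
    rintro _ ⟨e, he, rfl⟩
    have h1 : ⁅e, d⁆ ∈ M := by
      by_cases hij : j = i
      · subst hij
        exact hOM j (f4_comm_mem_O F j he hd)
      · exact hOM j (F.C_le_O j (F.comm_DD j i hij (Subgroup.commutator_mem_commutator he hd)))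
    rw [← hker, map_commutatorElement, commutatorElement_eq_one_iff_mul_comm] at h1
    exact h1
  have hmem : π g ∈ ⨆ i, (F.D i).map π := by
    rw [← Subgroup.map_iSup, F.sup_D]
    exact Subgroup.mem_map_of_mem _ hg
  have h2 := f4_pow_eq_one_of_iSup (fun i => (F.D i).map π) hA 2 (by
    rintro i _ ⟨d, hd, rfl⟩
    rw [← map_pow, hker, pow_two]
    exact hOM i (f4_sq_mem_O F i hd)) hmem
  rw [← map_pow, hker, pow_two] at h2
  exact h2

/-- `(⨆ O_i) ⊓ J = (⨆ (O_i ⊓ J)) (C ⊓ J)` -/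
theorem f4_iSup_O_inf_J_le {V : Subgroup X} [hV : V.Normal] (F : FFData X V) :
    (⨆ i, F.O i) ⊓ thompsonSubgroup 2 X ≤
      (⨆ i, F.O i ⊓ thompsonSubgroup 2 X) ⊔
        (Subgroup.centralizer (V : Set X) ⊓ thompsonSubgroup 2 X) := by
  haveI hCn : (Subgroup.centralizer (V : Set X)).Normal := inferInstance
  set J := thompsonSubgroup 2 X with hJ
  have h1 : (⨆ i, F.O i) ≤ (⨆ i, F.O i ⊓ J) ⊔ Subgroup.centralizer (V : Set X) := by
    apply iSup_le
    intro i x hx
    have h2 := F.D_le i (F.O_le_D i hx)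
    rw [Subgroup.mem_sup_of_normal_right] at h2
    obtain ⟨j, hj, c, hc, rfl⟩ := h2
    rw [Subgroup.mem_sup_of_normal_right]
    refine ⟨j, ?_, c, hc, rfl⟩
    apply Subgroup.mem_iSup_of_mem i
    refine ⟨?_, hj⟩
    have : j = (j * c) * c⁻¹ := by group
    rw [this]
    exact (F.O i).mul_mem hx ((F.O i).inv_mem (F.C_le_O i hc))
  rintro x ⟨hxM, hxJ⟩
  have h3 := h1 hxM
  rw [Subgroup.mem_sup_of_normal_right] at h3
  obtain ⟨y, hy, c, hc, rfl⟩ := h3
  have hyJ : y ∈ J := by
    have h4 : (⨆ i, F.O i ⊓ J) ≤ J := iSup_le fun i => inf_le_right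
    exact h4 hy
  refine Subgroup.mul_mem _ (Subgroup.mem_sup_left hy) (Subgroup.mem_sup_right ⟨hc, ?_⟩)
  have : c = y⁻¹ * (y * c) := by group
  rw [this]
  exact J.mul_mem (J.inv_mem hyJ) hxJ

/-- PIECE F4: the splitting `J ⊓ C ≤ Q`. -/
theorem KS.J_inf_C_le {T : Subgroup X} (h : KS X T) (F : FFData X (VX X)) :
    thompsonSubgroup 2 X ⊓ Subgroup.centralizer (VX X : Set X) ≤ pCore 2 X := by
  rintro z ⟨hzJ, hzC⟩
  haveI hQn : (pCore 2 X).Normal := Cfsg.Agent.Helper10.pCore_normal 2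
  haveI hVn : (VX X).Normal := VX_normal h.hQ
  haveI hCn : (Subgroup.centralizer (VX X : Set X)).Normal := f2_centralizer_VX_normal h.hQ
  haveI hJn : (thompsonSubgroup 2 X).Normal :=
    @Subgroup.normal_of_characteristic _ _ _ (Cfsg.Agent.Helper3.thompsonSubgroup_characteristic 2)
  haveI hMn : (⨆ i, F.O i).Normal := subn_iSup_O_normal F
  set J := thompsonSubgroup 2 X with hJ
  set M := ⨆ i, F.O i with hM
  set π := QuotientGroup.mk' (pCore 2 X) with hπ
  have hker : ∀ g : X, π g = 1 ↔ g ∈ pCore 2 X := fun g => QuotientGroup.eq_one_iff g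
  have hcen : ∀ z ∈ Subgroup.centralizer (VX X : Set X), ∀ g ∈ J, Commute (π z) (π g) := by
    intro z hz g hg
    rw [← commutatorElement_eq_one_iff_commute, ← map_commutatorElement, hker]
    exact h.comm_C_J (Subgroup.commutator_mem_commutator hz hg)
  set m := (pCore 2 X).relIndex (Subgroup.centralizer (VX X : Set X)) with hm
  have hmodd : Odd m := h.odd_relIndex
  have hpowC : ∀ c ∈ Subgroup.centralizer (VX X : Set X), c ^ m ∈ pCore 2 X := fun c hc =>
    Subgroup.pow_relIndex_mem _ hc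
  have hpowO : ∀ i, ∀ u ∈ F.O i, u ^ 3 ∈ Subgroup.centralizer (VX X : Set X) := by
    intro i u hu
    have := Subgroup.pow_relIndex_mem (Subgroup.centralizer (VX X : Set X)) hu
    rwa [F.relIndex_O i] at this
  -- the family of pairwise commuting subgroups of `X ⧸ Q`
  let fam : Option (Fin F.r) → Subgroup (X ⧸ pCore 2 X) := fun o =>
    o.elim ((Subgroup.centralizer (VX X : Set X) ⊓ J).map π) (fun i => (F.O i ⊓ J).map π)
  have hfam : ∀ o o', fam o ≤ Subgroup.centralizer ((fam o' : Subgroup (X ⧸ pCore 2 X)) : Set (X ⧸ pCore 2 X)) := by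
    rintro (_ | i) (_ | j)
    · rintro _ ⟨x, ⟨hxC, hxJ⟩, rfl⟩
      rw [Subgroup.mem_centralizer_iff]
      rintro _ ⟨y, ⟨hyC, hyJ⟩, rfl⟩
      exact ((hcen x hxC y hyJ).eq).symm
    · rintro _ ⟨x, ⟨hxC, hxJ⟩, rfl⟩
      rw [Subgroup.mem_centralizer_iff]
      rintro _ ⟨y, ⟨hyO, hyJ⟩, rfl⟩
      exact ((hcen x hxC y hyJ).eq).symm
    · rintro _ ⟨x, ⟨hxO, hxJ⟩, rfl⟩
      rw [Subgroup.mem_centralizer_iff]
      rintro _ ⟨y, ⟨hyC, hyJ⟩, rfl⟩
      exact (hcen y hyC x hxJ).eq
    · rintro _ ⟨x, ⟨hxO, hxJ⟩, rfl⟩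
      rw [Subgroup.mem_centralizer_iff]
      rintro _ ⟨y, ⟨hyO, hyJ⟩, rfl⟩
      have h1 := h.f4_pair F j i hyO hyJ hxO hxJ
      rw [← hker, map_commutatorElement, commutatorElement_eq_one_iff_mul_comm] at h1
      exact h1
  have hfamexp : ∀ o, ∀ a ∈ fam o, a ^ (3 * m) = 1 := by
    rintro (_ | i)
    · rintro _ ⟨x, ⟨hxC, hxJ⟩, rfl⟩
      rw [← map_pow, hker, mul_comm, pow_mul]
      exact Subgroup.pow_mem _ (hpowC x hxC) 3
    · rintro _ ⟨x, ⟨hxO, hxJ⟩, rfl⟩
      rw [← map_pow, hker, pow_mul]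
      exact hpowC _ (hpowO i x hxO)
  -- the image of `M ⊓ J`
  have hHt_le : (M ⊓ J).map π ≤ ⨆ o, fam o := by
    refine (Subgroup.map_mono (f4_iSup_O_inf_J_le F)).trans ?_
    rw [Subgroup.map_sup, Subgroup.map_iSup, iSup_option, sup_comm]
    exact le_rfl
  haveI hHtn : ((M ⊓ J).map π).Normal :=
    (Subgroup.normal_inf_normal M J).map π (QuotientGroup.mk'_surjective _)
  -- apply the transfer lemma in `G = π J`
  have hzt : π z ∈ J.map π := Subgroup.mem_map_of_mem _ hzJ
  have key : (⟨π z, hzt⟩ : ↥(J.map π)) = 1 := by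
    haveI : (((M ⊓ J).map π).subgroupOf (J.map π)).Normal := Subgroup.Normal.subgroupOf hHtn _
    apply f4_transfer (((M ⊓ J).map π).subgroupOf (J.map π)) ?_ (3 * m) ?_ ?_ ?_ ?_ _ ?_ ?_
    · -- commutative
      intro a ha b hb
      rw [Subgroup.mem_subgroupOf] at ha hb
      apply Subtype.ext
      exact (f4_commute_of_iSup fam hfam (hHt_le ha) (hHt_le hb)).eq
    · -- odd
      exact (by decide : Odd 3).mul hmodd
    · -- exponent
      intro a ha
      rw [Subgroup.mem_subgroupOf] at ha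
      apply Subtype.ext
      rw [Subgroup.coe_pow]
      exact f4_pow_eq_one_of_iSup fam hfam (3 * m) hfamexp (hHt_le ha)
    · -- squares
      rintro ⟨_, ⟨j, hj, rfl⟩⟩
      rw [Subgroup.mem_subgroupOf]
      show π j * π j ∈ (M ⊓ J).map π
      rw [← map_mul]
      exact Subgroup.mem_map_of_mem _
        ⟨f4_sq_mem_iSup_O F (Subgroup.mem_sup_left hj), J.mul_mem hj hj⟩
    · -- generated by involutions
      rw [eq_top_iff]
      have h1 : J ≤ ((Subgroup.closure {t : ↥(J.map π) | t * t = 1}).map (J.map π).subtype).comap π := by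
        rw [hJ]
        unfold thompsonSubgroup
        apply sSup_le
        intro A hA a ha
        rw [Subgroup.mem_comap]
        have haJ : a ∈ J := Cfsg.Agent.Helper3.le_thompsonSubgroup hA ha
        refine ⟨⟨π a, Subgroup.mem_map_of_mem _ haJ⟩, Subgroup.subset_closure ?_, rfl⟩
        show (⟨π a, _⟩ : ↥(J.map π)) * ⟨π a, _⟩ = 1
        apply Subtype.ext
        show π a * π a = 1
        rw [← map_mul, ← pow_two, hA.1.2 a ha, map_one]
      rintro ⟨_, ⟨j, hj, rfl⟩⟩ -
      obtain ⟨s, hs, hs'⟩ := h1 hj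
      have : s = ⟨π j, Subgroup.mem_map_of_mem _ hj⟩ := Subtype.ext hs'
      rwa [this] at hs
    · -- central
      rintro ⟨_, ⟨j, hj, rfl⟩⟩
      apply Subtype.ext
      show π j * π z = π z * π j
      exact ((hcen z hzC j hj).eq).symm
    · -- torsion
      apply Subtype.ext
      rw [Subgroup.coe_pow]
      show π z ^ (3 * m) = 1
      rw [← map_pow, hker, mul_comm, pow_mul]
      exact Subgroup.pow_mem _ (hpowC z hzC) 3
  have := congrArg (fun t : ↥(J.map π) => (t : X ⧸ pCore 2 X)) key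
  simp only [Subgroup.coe_one] at this
  exact (hker z).1 this

end Cfsg.Agent.Helper13.JCFF
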