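import Mathlib
import Cfsg.Prelude.Def_JComponents
import Cfsg.Agent.Lib.Helper13.JCFFDefs
import Cfsg.Agent.Lib.Helper7.JC48A

/-!
# KS12, piece OTWO: a normal 2-subgroup inside `T` normalizes every `J(T)`-component

Proof (helper24, shorter than the one in the skeleton).  `J = J(T)` normalizes `K = ⁅K, J⁆`.
`N₀ = N ⊓ N_X(K)`.  For `x ∈ N`, `a ∈ J`: `⁅x, a⁆ ∈ J ⊓ N ≤ N₀`.  The set
`C = {g ∈ N_X(N₀) | ∀ x ∈ N, ⁅x, g⁆ ∈ N₀}` is a subgroup containing `J` and its `K`-conjugates, hence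
`K = ⁅K, J⁆`.  So for `x ∈ N` and `d ∈ K` of odd order, `x d x⁻¹ = u d` with `u = ⁅x, d⁆ ∈ N₀` a 2-element
normalizing `K`; `(u d)^m = 1` for `m = o(d)` odd gives `u^m ∈ K`, so `u ∈ K`.
-/

set_option autoImplicit false

namespace Cfsg.Agent.Helper13.JCFF

open Cfsg
open scoped commutatorElement

variable {X : Type*} [Group X]

/-- Bezout for membership of powers in a subgroup. -/
theorem otwo_mem_of_pow_mem (N : Subgroup X) (g : X) {a b : ℕ}
    (hab : Nat.Coprime a b) (ha : g ^ a ∈ N) (hb : g ^ b ∈ N) : g ∈ N := by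
  have h := Nat.gcd_eq_gcd_ab a b
  rw [hab.gcd_eq_one] at h
  have : g = (g ^ a) ^ (Nat.gcdA a b) * (g ^ b) ^ (Nat.gcdB a b) := by
    rw [← zpow_natCast, ← zpow_natCast, ← zpow_mul, ← zpow_mul, ← zpow_add, ← h]
    simp
  rw [this]
  exact N.mul_mem (N.zpow_mem ha _) (N.zpow_mem hb _)

/-- `H₂` normalizes `⁅H₁, H₂⁆` -/
theorem otwo_conj_mem_commutator {H₁ H₂ : Subgroup X} {a : X} (ha : a ∈ H₂) {g : X}
    (hg : g ∈ ⁅H₁, H₂⁆) : a * g * a⁻¹ ∈ ⁅H₁, H₂⁆ := by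
  rw [Subgroup.commutator_def] at hg ⊢
  induction hg using Subgroup.closure_induction with
  | mem y hy =>
    obtain ⟨k, hk, b, hb, rfl⟩ := hy
    have h1 : a * ⁅k, b⁆ * a⁻¹ = ⁅k, a⁆⁻¹ * ⁅k, a * b⁆ := by
      simp only [commutatorElement_def]; group
    rw [h1]
    exact Subgroup.mul_mem _ (Subgroup.inv_mem _ (Subgroup.subset_closure ⟨k, hk, a, ha, rfl⟩))
      (Subgroup.subset_closure ⟨k, hk, a * b, H₂.mul_mem ha hb, rfl⟩)
  | one => simp
  | mul y z _ _ ihy ihz =>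
    have : a * (y * z) * a⁻¹ = (a * y * a⁻¹) * (a * z * a⁻¹) := by group
    rw [this]; exact Subgroup.mul_mem _ ihy ihz
  | inv y _ ihy =>
    have : a * y⁻¹ * a⁻¹ = (a * y * a⁻¹)⁻¹ := by group
    rw [this]; exact Subgroup.inv_mem _ ihy

/-- `(u d)^n ∈ u^n K` if `u` normalizes `K` and `d ∈ K` -/
theorem otwo_pow_mul {K : Subgroup X} {u d : X} (hu : ∀ k ∈ K, u⁻¹ * k * u ∈ K) (hd : d ∈ K)
    (n : ℕ) : ∃ k ∈ K, (u * d) ^ n = u ^ n * k := by
  induction n with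
  | zero => exact ⟨1, K.one_mem, by simp⟩
  | succ n ih =>
    obtain ⟨k, hk, hkn⟩ := ih
    refine ⟨u⁻¹ * k * u * d, K.mul_mem (hu k hk) hd, ?_⟩
    rw [pow_succ, hkn, pow_succ]
    group

variable [Finite X]

/-! ### PIECE OTWO -/
theorem comp_normalized_by {T K N : Subgroup X} (hK : IsJComponent T K) (hNn : N.Normal)
    (hN2 : IsPGroup 2 ↥N) (hNT : N ≤ T) : N ≤ Subgroup.normalizer (K : Set X) := by
  obtain ⟨hgen, hKJ, -, -, -, -⟩ := hK
  set J := thompsonSubgroupOf 2 T with hJ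
  -- `J` normalizes `K`
  have hJK : ∀ a ∈ J, ∀ g ∈ K, a * g * a⁻¹ ∈ K := by
    intro a ha g hg
    rw [← hKJ] at hg ⊢
    exact otwo_conj_mem_commutator ha hg
  have hJK' : ∀ a ∈ J, ∀ g, g ∈ K ↔ a * g * a⁻¹ ∈ K := by
    intro a ha g
    refine ⟨hJK a ha g, fun h => ?_⟩
    have := hJK a⁻¹ (J.inv_mem ha) _ h
    have e : a⁻¹ * (a * g * a⁻¹) * a⁻¹⁻¹ = g := by group
    rwa [e] at this
  have hJnorm : J ≤ Subgroup.normalizer (K : Set X) := fun a ha =>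
    Subgroup.mem_normalizer_iff.mpr (hJK' a ha)
  have hKnorm : K ≤ Subgroup.normalizer (K : Set X) := Subgroup.le_normalizer
  -- `N₀`
  set N₀ : Subgroup X := N ⊓ Subgroup.normalizer (K : Set X) with hN₀
  -- elements of `N_X(K)` normalize `N₀`
  have hconjN₀ : ∀ y ∈ Subgroup.normalizer (K : Set X), ∀ x ∈ N₀, y * x * y⁻¹ ∈ N₀ := by
    intro y hy x hx
    exact Subgroup.mem_inf.mpr ⟨hNn.conj_mem x hx.1 y,
      (Subgroup.normalizer (K : Set X)).mul_mem ((Subgroup.normalizer (K : Set X)).mul_mem hy hx.2)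
        ((Subgroup.normalizer (K : Set X)).inv_mem hy)⟩
  -- `⁅x, a⁆ ∈ N₀` for `x ∈ N`, `a ∈ J`
  have hTJ : T ≤ Subgroup.normalizer (J : Set X) := Cfsg.Agent.Helper7.JC48.le_normalizer_J T
  have hxa : ∀ x ∈ N, ∀ a ∈ J, x * a * x⁻¹ * a⁻¹ ∈ N₀ := by
    intro x hx a ha
    have h1 : x * a * x⁻¹ ∈ J := (Subgroup.mem_normalizer_iff.mp (hTJ (hNT hx)) a).mp ha
    refine Subgroup.mem_inf.mpr ⟨?_, hJnorm (J.mul_mem h1 (J.inv_mem ha))⟩
    have : x * a * x⁻¹ * a⁻¹ = x * (a * x⁻¹ * a⁻¹) := by group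
    rw [this]
    exact N.mul_mem hx (hNn.conj_mem _ (N.inv_mem hx) a)
  -- the subgroup `C`
  let C : Subgroup X :=
    { carrier := {g | g ∈ Subgroup.normalizer (K : Set X) ∧ ∀ x ∈ N, x * g * x⁻¹ * g⁻¹ ∈ N₀}
      one_mem' := ⟨Subgroup.one_mem _, fun x _ => by simp [N₀.one_mem]⟩
      mul_mem' := by
        rintro g h ⟨hg, hg'⟩ ⟨hh, hh'⟩
        refine ⟨Subgroup.mul_mem _ hg hh, fun x hx => ?_⟩
        have e : x * (g * h) * x⁻¹ * (g * h)⁻¹ = (x * g * x⁻¹ * g⁻¹) * (g * (x * h * x⁻¹ * h⁻¹) * g⁻¹) := by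
          group
        rw [e]
        exact N₀.mul_mem (hg' x hx) (hconjN₀ g hg _ (hh' x hx))
      inv_mem' := by
        rintro g ⟨hg, hg'⟩
        refine ⟨Subgroup.inv_mem _ hg, fun x hx => ?_⟩
        have e : x * g⁻¹ * x⁻¹ * g⁻¹⁻¹ = g⁻¹ * (x * g * x⁻¹ * g⁻¹)⁻¹ * g⁻¹⁻¹ := by group
        rw [e]
        exact hconjN₀ g⁻¹ (Subgroup.inv_mem _ hg) _ (N₀.inv_mem (hg' x hx)) }
  have hJC : J ≤ C := fun a ha => ⟨hJnorm ha, fun x hx => hxa x hx a ha⟩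
  have hKJC : ∀ k ∈ K, ∀ a ∈ J, k * a * k⁻¹ ∈ C := by
    intro k hk a ha
    refine ⟨Subgroup.mul_mem _ (Subgroup.mul_mem _ (hKnorm hk) (hJnorm ha))
      (Subgroup.inv_mem _ (hKnorm hk)), fun x hx => ?_⟩
    have hx' : k⁻¹ * x * k⁻¹⁻¹ ∈ N := hNn.conj_mem x hx k⁻¹
    have e : x * (k * a * k⁻¹) * x⁻¹ * (k * a * k⁻¹)⁻¹ =
        k * ((k⁻¹ * x * k⁻¹⁻¹) * a * (k⁻¹ * x * k⁻¹⁻¹)⁻¹ * a⁻¹) * k⁻¹ := by group
    rw [e]
    exact hconjN₀ k (hKnorm hk) _ (hxa _ hx' a ha)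
  have hKC : K ≤ C := by
    intro g hg
    rw [← hKJ, Subgroup.commutator_def] at hg
    induction hg using Subgroup.closure_induction with
    | mem y hy =>
      obtain ⟨k, hk, a, ha, rfl⟩ := hy
      have : ⁅k, a⁆ = (k * a * k⁻¹) * a⁻¹ := by simp only [commutatorElement_def]
      rw [this]
      exact C.mul_mem (hKJC k hk a ha) (C.inv_mem (hJC ha))
    | one => exact C.one_mem
    | mul y z _ _ ihy ihz => exact C.mul_mem ihy ihz
    | inv y _ ihy => exact C.inv_mem ihy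
  -- conjugates of odd order elements
  have hodd : ∀ x ∈ N, ∀ d ∈ K, Odd (orderOf d) → x * d * x⁻¹ ∈ K := by
    intro x hx d hd hdodd
    set u := x * d * x⁻¹ * d⁻¹ with hu
    have huN₀ : u ∈ N₀ := (hKC hd).2 x hx
    have huK : ∀ k ∈ K, u⁻¹ * k * u ∈ K := by
      intro k hk
      have := (Subgroup.mem_normalizer_iff.mp ((Subgroup.normalizer (K : Set X)).inv_mem huN₀.2) k).mp hk
      simpa using this
    have hxd : x * d * x⁻¹ = u * d := by rw [hu]; group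
    obtain ⟨k, hk, hkn⟩ := otwo_pow_mul huK hd (orderOf d)
    have h1 : (u * d) ^ orderOf d = 1 := by
      rw [← hxd]
      have : (x * d * x⁻¹) ^ orderOf d = x * d ^ orderOf d * x⁻¹ := by
        rw [← MulAut.conj_apply, ← map_pow, MulAut.conj_apply]
      rw [this, pow_orderOf_eq_one]; group
    have h2 : u ^ orderOf d ∈ K := by
      have : u ^ orderOf d = k⁻¹ := by
        rw [hkn] at h1
        exact eq_inv_of_mul_eq_one_left h1
      rw [this]; exact K.inv_mem hk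
    obtain ⟨j, hj⟩ := hN2 ⟨u, huN₀.1⟩
    have h3 : u ^ 2 ^ j = 1 := by
      have := congrArg (fun y : ↥N => (y : X)) hj
      simpa using this
    have hcop : Nat.Coprime (orderOf d) (2 ^ j) := by
      apply Nat.Coprime.pow_right
      exact Nat.Coprime.symm ((Nat.Prime.coprime_iff_not_dvd Nat.prime_two).mpr (fun h =>
        (Nat.not_even_iff_odd.mpr hdodd) (even_iff_two_dvd.mpr h)))
    have huK' : u ∈ K := otwo_mem_of_pow_mem K u hcop h2 (by rw [h3]; exact K.one_mem)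
    rw [hxd]; exact K.mul_mem huK' hd
  have hall : ∀ x ∈ N, ∀ g ∈ K, x * g * x⁻¹ ∈ K := by
    intro x hx g hg
    rw [← hgen] at hg
    induction hg using Subgroup.closure_induction with
    | mem y hy => exact hodd x hx y hy.1 hy.2
    | one => simp [K.one_mem]
    | mul y z _ _ ihy ihz =>
      have : x * (y * z) * x⁻¹ = (x * y * x⁻¹) * (x * z * x⁻¹) := by group
      rw [this]; exact K.mul_mem ihy ihz
    | inv y _ ihy =>
      have : x * y⁻¹ * x⁻¹ = (x * y * x⁻¹)⁻¹ := by group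
      rw [this]; exact K.inv_mem ihy
  intro x hx
  rw [Subgroup.mem_normalizer_iff]
  intro g
  refine ⟨hall x hx g, fun h => ?_⟩
  have := hall x⁻¹ (N.inv_mem hx) _ h
  have e : x⁻¹ * (x * g * x⁻¹) * x⁻¹⁻¹ = g := by group
  rwa [e] at this

end Cfsg.Agent.Helper13.JCFF
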