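import Mathlib
import Cfsg.Prelude.Def_Blocks
import Cfsg.Prelude.Def_CharExt
import Cfsg.Agent.S0856
import Cfsg.Agent.S0867
import Cfsg.Agent.S0887
import Cfsg.Agent.Lib.Helper18.CliffordCorr
import Cfsg.Agent.Lib.Helper24.CharAbelian
import Cfsg.Agent.Lib.Helper24.CharIntegral
import Cfsg.Agent.Lib.Helper5.DetChar
import Cfsg.Agent.Lib.Helper5.Gallagher

/-!
# Characters of degree prime to the index of a normal Hall subgroup (helper24's shared library)

For `Y ⊲ X` with `(|Y|, |X : Y|) = 1`: the irreducible characters of `X` of degree prime to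
`|X : Y|` are exactly the products `λ · θ̂` with `θ` an `X`-invariant irreducible character of `Y`,
`θ̂` a fixed extension, and `λ` a linear character of `X ⧸ Y`.
-/

set_option autoImplicit false
set_option linter.style.haveILetI false
set_option linter.unusedSectionVars false

namespace Cfsg.Agent.Helper24.CopDeg

open Cfsg Cfsg.Agent.Helper24 Cfsg.Agent.Helper5 Cfsg.Agent.Helper18
open scoped ComplexConjugate

universe u

section

variable {X : Type u} [Group X] [Finite X] (Y : Subgroup X) [hY : Y.Normal]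

/-- Invariance of a function on a normal subgroup under conjugation by the whole group. -/
def Inv (θ : Y → ℂ) : Prop :=
  ∀ (g : X) (n : Y), θ ⟨g * n * g⁻¹, hY.conj_mem (n : X) n.2 g⟩ = θ n

theorem inv_restrict {χ : X → ℂ} (hχ : IsClassFunction X χ) : Inv Y (fun n : Y => χ n) :=
  fun g n => hχ n g

theorem charDegree_congr {A B : Type*} [Group A] [Group B] {α : A → ℂ} {β : B → ℂ}
    (h : α 1 = β 1) : charDegree α = charDegree β := by
  unfold charDegree
  rw [h]

/-- An irreducible character of degree prime to the index of `Y` restricts irreducibly. -/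
theorem restrict_irr_of_coprime {χ : X → ℂ} (hχ : IsIrrCharacter X χ)
    (hc : (charDegree χ).Coprime Y.index) : IsIrrCharacter Y (fun n : Y => χ n) := by
  classical
  letI : Fintype X := Fintype.ofFinite X
  letI : Fintype Y := Fintype.ofFinite Y
  have hχY : IsCharacter Y (fun n : Y => χ n) :=
    isCharacter_restrict Y (isCharacter_of_isIrrCharacter hχ)
  have hpos := charDegree_pos hχ
  have h1 : χ 1 = (charDegree χ : ℂ) := irr_one_eq_charDegree hχ
  have h0 : (fun n : Y => χ n) ≠ 0 := by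
    intro h
    have := congrFun h 1
    simp only [Pi.zero_apply, Subgroup.coe_one] at this
    rw [h1] at this
    have : charDegree χ = 0 := by exact_mod_cast this
    omega
  obtain ⟨θ, hθ, hcon⟩ := exists_constituent hχY h0
  obtain ⟨hdc, hcd⟩ := Cfsg.Agent.S0887.result Y χ hχ θ hθ hcon (charDegree χ) (charDegree θ)
    h1 (irr_one_eq_charDegree hθ)
  have hq : charDegree χ / charDegree θ = 1 := by
    apply Nat.Coprime.eq_one_of_dvd _ hcd
    exact Nat.Coprime.coprime_dvd_left (Nat.div_dvd_of_dvd hdc) hc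
  have heq : charDegree χ = charDegree θ := by
    obtain ⟨k, hk⟩ := hdc
    have hθpos := charDegree_pos hθ
    rw [hk, Nat.mul_div_cancel_left _ hθpos] at hq
    rw [hk, hq, mul_one]
  obtain ⟨ρ, hρ, hsum⟩ := exists_add_of_constituent hχY hθ hcon
  have hρ1 : ρ 1 = 0 := by
    have := congrFun hsum 1
    simp only [Pi.add_apply, Subgroup.coe_one] at this
    rw [h1, irr_one_eq_charDegree hθ, heq] at this
    linear_combination -this
  have hρ0 := char_eq_zero_of_one_eq_zero hρ hρ1
  rw [hsum, hρ0, add_zero]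
  exact hθ

/-- The determinantal order divides the group order. -/
theorem detOrder_dvd_card' {Γ : Type u} [Group Γ] [Finite Γ] {θ : Γ → ℂ} (hθ : IsCharacter Γ θ) :
    detOrder θ ∣ Nat.card Γ := by
  unfold detOrder
  apply orderOf_dvd_of_pow_eq_one
  funext g
  rw [Pi.pow_apply, Pi.one_apply, ← detHom_apply hθ, ← Units.val_pow_eq_pow_val, ← map_pow,
    pow_card_eq_one', map_one, Units.val_one]

/-- Invariant irreducible characters of a normal Hall subgroup extend. -/
theorem exists_ext (hcop : (Nat.card Y).Coprime Y.index) {θ : Y → ℂ} (hθ : IsIrrCharacter Y θ)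
    (hinv : Inv Y θ) : ∃ χ : X → ℂ, IsIrrCharacter X χ ∧ ∀ n : Y, χ n = θ n := by
  classical
  letI : Fintype Y := Fintype.ofFinite Y
  have hθc := isCharacter_of_isIrrCharacter hθ
  have hcop' : Nat.Coprime Y.index (detOrder θ * charDegree θ) := by
    apply Nat.Coprime.mul_right
    · exact (Nat.Coprime.coprime_dvd_left (detOrder_dvd_card' hθc) hcop).symm
    · exact (Nat.Coprime.coprime_dvd_left (charDegree_dvd_card hθ) hcop).symm
  obtain ⟨χ, ⟨hχ, hext, -⟩, -⟩ := Cfsg.Agent.S0867.result Y θ hθ hinv (charDegree θ)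
    (irr_one_eq_charDegree hθ) hcop'
  exact ⟨χ, hχ, hext⟩

/-- Gallagher, injectivity for linear characters. -/
theorem twist_injective {θ : Y → ℂ} (hθ : IsIrrCharacter Y θ) (hinv : Inv Y θ) {χ : X → ℂ}
    (hχ : IsIrrCharacter X χ) (hext : ∀ n : Y, χ n = θ n) {f f' : X →* ℂˣ}
    (hf : Y ≤ f.ker) (hf' : Y ≤ f'.ker)
    (h : ∀ x, ((f x : ℂˣ) : ℂ) * χ x = ((f' x : ℂˣ) : ℂ) * χ x) : f = f' := by
  classical
  letI : Fintype X := Fintype.ofFinite X
  have hone : IsIrrCharacter Y (fun _ : Y => (1 : ℂ)) := isIrrCharacter_one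
  have hprodeq : (fun _ : Y => (1 : ℂ)) * θ = θ := by
    funext n
    simp
  have hbij := Cfsg.Agent.S0856.result Y (fun _ : Y => (1 : ℂ)) θ hone hθ (fun g n => rfl) hinv
    (by rw [hprodeq]; exact hθ) χ hχ hext
  have hmem : ∀ f : X →* ℂˣ, Y ≤ f.ker → (fun x => ((f x : ℂˣ) : ℂ)) ∈
      {β : X → ℂ | IsIrrCharacter X β ∧ classInner (indFun Y (fun _ => (1 : ℂ))) β ≠ 0} := by
    intro f hf
    refine ⟨isIrrCharacter_of_monoidHom f, ?_⟩
    apply constituent_ind_one_of_ntrivial Y (isIrrCharacter_of_monoidHom f)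
    intro n hn
    have : f n = 1 := hf hn
    simp only [this, map_one]
  have := hbij.injOn (hmem f hf) (hmem f' hf') (by
    funext x
    exact h x)
  ext x
  exact congrFun this x

/-- Gallagher, surjectivity: a character restricting to `θ` is a linear twist of any given
extension. -/
theorem exists_twist {θ : Y → ℂ} (hθ : IsIrrCharacter Y θ) (hinv : Inv Y θ) {χ : X → ℂ}
    (hχ : IsIrrCharacter X χ) (hext : ∀ n : Y, χ n = θ n) {ψ : X → ℂ}
    (hψ : IsIrrCharacter X ψ) (hψext : ∀ n : Y, ψ n = θ n) :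
    ∃ f : X →* ℂˣ, Y ≤ f.ker ∧ ∀ x, ψ x = ((f x : ℂˣ) : ℂ) * χ x := by
  classical
  letI : Fintype X := Fintype.ofFinite X
  letI : Fintype Y := Fintype.ofFinite Y
  have hone : IsIrrCharacter Y (fun _ : Y => (1 : ℂ)) := isIrrCharacter_one
  have hprodeq : (fun _ : Y => (1 : ℂ)) * θ = θ := by
    funext n
    simp
  have hbij := Cfsg.Agent.S0856.result Y (fun _ : Y => (1 : ℂ)) θ hone hθ (fun g n => rfl) hinv
    (by rw [hprodeq]; exact hθ) χ hχ hext
  have hψmem : ψ ∈ {ψ : X → ℂ | IsIrrCharacter X ψ ∧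
      classInner (indFun Y ((fun _ : Y => (1 : ℂ)) * θ)) ψ ≠ 0} := by
    refine ⟨hψ, ?_⟩
    rw [hprodeq, frobenius_reciprocity Y θ (isClassFunction_of_isIrrCharacter hψ)]
    have : (fun h : Y => ψ h) = θ := funext hψext
    rw [this]
    have h := irr_orthogonality hθ hθ
    rw [if_pos rfl] at h
    rw [h]
    exact one_ne_zero
  obtain ⟨β, ⟨hβirr, hβcon⟩, hβψ⟩ := hbij.surjOn hψmem
  have hβN := ntrivial_of_constituent_ind_one Y hβirr hβcon
  have hχ1 : χ 1 ≠ 0 := by
    rw [irr_one_eq_charDegree hχ]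
    have := charDegree_pos hχ
    exact_mod_cast this.ne'
  have hβ1 : β 1 = 1 := by
    have h1 := congrFun hβψ 1
    simp only [Pi.mul_apply] at h1
    have h2 : ψ 1 = χ 1 := by
      have a := hψext 1
      have b := hext 1
      simp only [Subgroup.coe_one] at a b
      rw [a, b]
    rw [h2] at h1
    have : (β 1 - 1) * χ 1 = 0 := by linear_combination h1
    rcases mul_eq_zero.mp this with h | h
    · linear_combination h
    · exact absurd h hχ1
  refine ⟨linHom (isCharacter_of_isIrrCharacter hβirr) hβ1, ?_, ?_⟩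
  · intro n hn
    rw [MonoidHom.mem_ker]
    apply Units.ext
    rw [linHom_apply, Units.val_one, hβN n hn, hβ1]
  · intro x
    rw [linHom_apply, ← hβψ]
    rfl

/-- A chosen extension of an invariant irreducible character. -/
noncomputable def ext (hcop : (Nat.card Y).Coprime Y.index)
    (θ : {θ : IrrCharacter Y // Inv Y (θ : Y → ℂ)}) : X → ℂ :=
  Classical.choose (exists_ext Y hcop θ.1.2 θ.2)

theorem ext_irr (hcop : (Nat.card Y).Coprime Y.index)
    (θ : {θ : IrrCharacter Y // Inv Y (θ : Y → ℂ)}) : IsIrrCharacter X (ext Y hcop θ) :=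
  (Classical.choose_spec (exists_ext Y hcop θ.1.2 θ.2)).1

theorem ext_restrict (hcop : (Nat.card Y).Coprime Y.index)
    (θ : {θ : IrrCharacter Y // Inv Y (θ : Y → ℂ)}) (n : Y) :
    ext Y hcop θ n = (θ.1 : Y → ℂ) n :=
  (Classical.choose_spec (exists_ext Y hcop θ.1.2 θ.2)).2 n

/-- The parametrisation of the characters of degree prime to the index. -/
noncomputable def toChar (hcop : (Nat.card Y).Coprime Y.index)
    (p : {θ : IrrCharacter Y // Inv Y (θ : Y → ℂ)} × {f : X →* ℂˣ // Y ≤ f.ker}) :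
    {χ : IrrCharacter X // (charDegree (χ : X → ℂ)).Coprime Y.index} :=
  ⟨⟨fun x => ((p.2.1 x : ℂˣ) : ℂ) * ext Y hcop p.1 x, isIrrCharacter_twist p.2.1 (ext_irr Y hcop p.1)⟩,
    by
      classical
      letI : Fintype Y := Fintype.ofFinite Y
      have h1 : (fun x => ((p.2.1 x : ℂˣ) : ℂ) * ext Y hcop p.1 x) 1 = (p.1.1 : Y → ℂ) 1 := by
        show ((p.2.1 1 : ℂˣ) : ℂ) * ext Y hcop p.1 1 = _
        rw [map_one, Units.val_one, one_mul]
        exact ext_restrict Y hcop p.1 1
      show (charDegree (fun x => ((p.2.1 x : ℂˣ) : ℂ) * ext Y hcop p.1 x)).Coprime Y.index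
      rw [charDegree_congr h1]
      exact Nat.Coprime.coprime_dvd_left (charDegree_dvd_card p.1.1.2) hcop⟩

theorem toChar_apply (hcop : (Nat.card Y).Coprime Y.index)
    (p : {θ : IrrCharacter Y // Inv Y (θ : Y → ℂ)} × {f : X →* ℂˣ // Y ≤ f.ker}) (x : X) :
    ((toChar Y hcop p).1 : X → ℂ) x = ((p.2.1 x : ℂˣ) : ℂ) * ext Y hcop p.1 x := rfl

theorem toChar_bijective (hcop : (Nat.card Y).Coprime Y.index) :
    Function.Bijective (toChar Y hcop) := by
  constructor
  · rintro ⟨θ, f⟩ ⟨θ', f'⟩ h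
    have hfun : ∀ x, ((f.1 x : ℂˣ) : ℂ) * ext Y hcop θ x = ((f'.1 x : ℂˣ) : ℂ) * ext Y hcop θ' x := by
      intro x
      have := congrArg (fun χ => ((χ.1 : IrrCharacter X) : X → ℂ) x) h
      simpa only [toChar_apply] using this
    have hθ : θ = θ' := by
      apply Subtype.ext
      apply Subtype.ext
      funext n
      have := hfun n
      have h1 : f.1 n = 1 := f.2 n.2
      have h2 : f'.1 n = 1 := f'.2 n.2
      rw [h1, h2, Units.val_one, one_mul, one_mul, ext_restrict, ext_restrict] at this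
      exact this
    subst hθ
    have hf : f = f' := by
      apply Subtype.ext
      exact twist_injective Y θ.1.2 θ.2 (ext_irr Y hcop θ) (ext_restrict Y hcop θ) f.2 f'.2 hfun
    rw [hf]
  · rintro ⟨χ, hχ⟩
    have hirr := restrict_irr_of_coprime Y χ.2 hχ
    have hinv : Inv Y (fun n : Y => (χ : X → ℂ) n) :=
      inv_restrict Y (isClassFunction_of_isIrrCharacter χ.2)
    let θ : {θ : IrrCharacter Y // Inv Y (θ : Y → ℂ)} := ⟨⟨_, hirr⟩, hinv⟩
    obtain ⟨f, hf, hfχ⟩ := exists_twist Y hirr hinv (ext_irr Y hcop θ) (ext_restrict Y hcop θ)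
      χ.2 (fun n => rfl)
    refine ⟨(θ, ⟨f, hf⟩), ?_⟩
    apply Subtype.ext
    apply Subtype.ext
    funext x
    rw [toChar_apply]
    exact (hfχ x).symm

/-- Homomorphisms trivial on `Y` are homomorphisms of the quotient. -/
noncomputable def kerEquiv : {f : X →* ℂˣ // Y ≤ f.ker} ≃ (X ⧸ Y →* ℂˣ) where
  toFun f := QuotientGroup.lift Y f.1 f.2
  invFun g := ⟨g.comp (QuotientGroup.mk' Y), fun y hy => by
    rw [MonoidHom.mem_ker, MonoidHom.comp_apply, QuotientGroup.mk'_apply,
      (QuotientGroup.eq_one_iff y).mpr hy, map_one]⟩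
  left_inv f := by
    apply Subtype.ext
    ext x
    rfl
  right_inv g := by
    ext x
    rfl

/-- **Counting** the irreducible characters of degree prime to the index of a normal Hall
subgroup. -/
theorem card_coprime_degree (hcop : (Nat.card Y).Coprime Y.index) :
    Nat.card {χ : IrrCharacter X // (charDegree (χ : X → ℂ)).Coprime Y.index} =
      Nat.card {θ : IrrCharacter Y // Inv Y (θ : Y → ℂ)} * Nat.card (X ⧸ Y →* ℂˣ) := by
  rw [← Nat.card_congr (kerEquiv Y), ← Nat.card_prod]
  exact (Nat.card_eq_of_bijective _ (toChar_bijective Y hcop)).symm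

end

end Cfsg.Agent.Helper24.CopDeg
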