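import Mathlib
import Cfsg.Prelude.Def_Transfer

/-!
# S1786 (Timmesfeld TI-lemma), Part G, steps G0 and G1 as stand-alone lemmas

`V` is a TI-subgroup: every conjugate equals `V` or meets it trivially.
* `ti_g0`: `1 ≠ b ∈ ^xV`, `c` centralizes `b`  ⟹  `c` normalizes `^xV`.
* `ti_inf_eq_bot`: distinct conjugates meet trivially.
* `ti_g1`: `^xV ≠ ^yV`, `^xV ≤ N(^yV)`, `V` elementary abelian 2-group (finite) ⟹ `[^xV, ^yV] = 1`.
-/

set_option autoImplicit false

namespace Cfsg.Agent.Helper24.TI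

variable {G : Type*} [Group G]

theorem ti_mem_conj_iff (V : Subgroup G) (x b : G) :
    b ∈ V.map (MulAut.conj x).toMonoidHom ↔ x⁻¹ * b * x ∈ V := by
  rw [Subgroup.mem_map]
  constructor
  · rintro ⟨v, hv, rfl⟩
    have : x⁻¹ * ((MulAut.conj x).toMonoidHom v) * x = v := by
      show x⁻¹ * (x * v * x⁻¹) * x = v
      group
    rw [this]; exact hv
  · intro h
    refine ⟨x⁻¹ * b * x, h, ?_⟩
    show x * (x⁻¹ * b * x) * x⁻¹ = b
    group

theorem ti_conj_conj (V : Subgroup G) (x c : G) :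
    (V.map (MulAut.conj x).toMonoidHom).map (MulAut.conj c).toMonoidHom =
      V.map (MulAut.conj (c * x)).toMonoidHom := by
  rw [Subgroup.map_map]
  congr 1
  ext v
  simp [MulAut.conj_apply, mul_assoc]

/-- G0: centralizers of nonidentity elements of a conjugate of a TI-subgroup normalize it. -/
theorem ti_g0 (V : Subgroup G)
    (hti : ∀ x : G, V.map (MulAut.conj x).toMonoidHom = V ∨ V.map (MulAut.conj x).toMonoidHom ⊓ V = ⊥)
    (x b c : G) (hb : b ∈ V.map (MulAut.conj x).toMonoidHom) (hb1 : b ≠ 1) (hc : c * b = b * c) :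
    (V.map (MulAut.conj x).toMonoidHom).map (MulAut.conj c).toMonoidHom =
      V.map (MulAut.conj x).toMonoidHom := by
  rw [ti_mem_conj_iff] at hb
  have hv1 : x⁻¹ * b * x ≠ 1 := by
    intro h
    apply hb1
    have : b = x * (x⁻¹ * b * x) * x⁻¹ := by group
    rw [this, h]; group
  have ht : x⁻¹ * b * x ∈ V.map (MulAut.conj (x⁻¹ * c * x)).toMonoidHom := by
    rw [ti_mem_conj_iff]
    have : (x⁻¹ * c * x)⁻¹ * (x⁻¹ * b * x) * (x⁻¹ * c * x) = x⁻¹ * (c⁻¹ * (b * c)) * x := by group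
    rw [this, ← hc]
    have : x⁻¹ * (c⁻¹ * (c * b)) * x = x⁻¹ * b * x := by group
    rw [this]; exact hb
  have hVt : V.map (MulAut.conj (x⁻¹ * c * x)).toMonoidHom = V := by
    rcases hti (x⁻¹ * c * x) with h | h
    · exact h
    · exfalso
      have : x⁻¹ * b * x ∈ V.map (MulAut.conj (x⁻¹ * c * x)).toMonoidHom ⊓ V := ⟨ht, hb⟩
      rw [h, Subgroup.mem_bot] at this
      exact hv1 this
  rw [ti_conj_conj]
  have : c * x = x * (x⁻¹ * c * x) := by group
  rw [this, ← ti_conj_conj, hVt]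

/-- distinct conjugates of a TI-subgroup meet trivially -/
theorem ti_inf_eq_bot (V : Subgroup G)
    (hti : ∀ x : G, V.map (MulAut.conj x).toMonoidHom = V ∨ V.map (MulAut.conj x).toMonoidHom ⊓ V = ⊥)
    (x y : G) (hne : V.map (MulAut.conj x).toMonoidHom ≠ V.map (MulAut.conj y).toMonoidHom) :
    V.map (MulAut.conj x).toMonoidHom ⊓ V.map (MulAut.conj y).toMonoidHom = ⊥ := by
  rcases hti (y⁻¹ * x) with h | h
  · exfalso
    apply hne
    have : x = y * (y⁻¹ * x) := by group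
    rw [this, ← ti_conj_conj, h]
  · rw [eq_bot_iff]
    intro b hb
    rw [Subgroup.mem_bot]
    have h0 : y⁻¹ * b * y ∈ V.map (MulAut.conj (y⁻¹ * x)).toMonoidHom := by
      rw [ti_mem_conj_iff]
      have : (y⁻¹ * x)⁻¹ * (y⁻¹ * b * y) * (y⁻¹ * x) = x⁻¹ * b * x := by group
      rw [this]
      exact (ti_mem_conj_iff V x b).mp hb.1
    have h1 : y⁻¹ * b * y ∈ V.map (MulAut.conj (y⁻¹ * x)).toMonoidHom ⊓ V :=
      ⟨h0, (ti_mem_conj_iff V y b).mp hb.2⟩
    rw [h, Subgroup.mem_bot] at h1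
    have : b = y * (y⁻¹ * b * y) * y⁻¹ := by group
    rw [this, h1]; group

/-- G1 (Lemma A): two distinct conjugates of an elementary abelian TI 2-subgroup, one normalizing
the other, commute elementwise. -/
theorem ti_g1 [Finite G] (V : Subgroup G) (hV : Cfsg.IsElementaryAbelian 2 V)
    (hti : ∀ x : G, V.map (MulAut.conj x).toMonoidHom = V ∨ V.map (MulAut.conj x).toMonoidHom ⊓ V = ⊥)
    (x y : G) (hne : V.map (MulAut.conj x).toMonoidHom ≠ V.map (MulAut.conj y).toMonoidHom)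
    (hnorm : ∀ b ∈ V.map (MulAut.conj x).toMonoidHom,
      (V.map (MulAut.conj y).toMonoidHom).map (MulAut.conj b).toMonoidHom =
        V.map (MulAut.conj y).toMonoidHom) :
    ∀ b1 ∈ V.map (MulAut.conj x).toMonoidHom, ∀ b2 ∈ V.map (MulAut.conj y).toMonoidHom,
      b1 * b2 = b2 * b1 := by
  obtain ⟨B1, hB1⟩ : ∃ B1, B1 = V.map (MulAut.conj x).toMonoidHom := ⟨_, rfl⟩
  obtain ⟨B2, hB2⟩ : ∃ B2, B2 = V.map (MulAut.conj y).toMonoidHom := ⟨_, rfl⟩
  have hinf : B1 ⊓ B2 = ⊥ := by rw [hB1, hB2]; exact ti_inf_eq_bot V hti x y hne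
  rw [← hB1, ← hB2] at hne hnorm ⊢
  -- basic properties of the conjugates
  have hcomm : ∀ (z : G), ∀ a ∈ V.map (MulAut.conj z).toMonoidHom,
      ∀ b ∈ V.map (MulAut.conj z).toMonoidHom, a * b = b * a := by
    intro z a ha b hb
    rw [ti_mem_conj_iff] at ha hb
    have h := hV.1
    have h2 : (⟨_, ha⟩ : V) * ⟨_, hb⟩ = ⟨_, hb⟩ * ⟨_, ha⟩ := isMulCommutative_iff.mp h _ _
    have h3 := congrArg Subtype.val h2
    simp only [Subgroup.coe_mul] at h3
    have e1 : a * b = z * ((z⁻¹ * a * z) * (z⁻¹ * b * z)) * z⁻¹ := by group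
    have e2 : b * a = z * ((z⁻¹ * b * z) * (z⁻¹ * a * z)) * z⁻¹ := by group
    rw [e1, e2, h3]
  have hsq : ∀ (z : G), ∀ a ∈ V.map (MulAut.conj z).toMonoidHom, a * a = 1 := by
    intro z a ha
    rw [ti_mem_conj_iff] at ha
    have h := hV.2 _ ha
    rw [pow_two] at h
    have e1 : a * a = z * ((z⁻¹ * a * z) * (z⁻¹ * a * z)) * z⁻¹ := by group
    rw [e1, h]; group
  have hc1 := hcomm x; have hc2 := hcomm y; have hs1 := hsq x; have hs2 := hsq y
  rw [← hB1] at hc1 hs1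
  rw [← hB2] at hc2 hs2
  have hcard : Nat.card B1 = Nat.card B2 := by
    rw [hB1, hB2, Subgroup.card_map_of_injective (MulAut.conj x).injective,
      Subgroup.card_map_of_injective (MulAut.conj y).injective]
  -- b ∈ B1 normalizes B2 (elementwise form)
  have hn12 : ∀ b ∈ B1, ∀ c ∈ B2, b * c * b⁻¹ ∈ B2 := by
    intro b hb c hc
    have := hnorm b hb
    rw [← this]
    exact Subgroup.mem_map.mpr ⟨c, hc, rfl⟩
  -- the centralizer in B2 of a nonidentity element of B1 centralizes B1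
  have hcent : ∀ b1 ∈ B1, b1 ≠ 1 → ∀ c ∈ B2, c * b1 = b1 * c → ∀ b ∈ B1, c * b = b * c := by
    intro b1 hb1 hb1ne c hc hcb b hb
    have hN : B1.map (MulAut.conj c).toMonoidHom = B1 := by
      rw [hB1]; exact ti_g0 V hti x b1 c (hB1 ▸ hb1) hb1ne hcb
    have h1 : c * b * c⁻¹ * b⁻¹ ∈ B1 := by
      apply B1.mul_mem _ (B1.inv_mem hb)
      rw [← hN]
      exact Subgroup.mem_map.mpr ⟨b, hb, rfl⟩
    have h2 : c * b * c⁻¹ * b⁻¹ ∈ B2 := by
      have : c * b * c⁻¹ * b⁻¹ = c * (b * c⁻¹ * b⁻¹) := by group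
      rw [this]
      exact B2.mul_mem hc (hn12 b hb _ (B2.inv_mem hc))
    have h3 : c * b * c⁻¹ * b⁻¹ ∈ B1 ⊓ B2 := ⟨h1, h2⟩
    rw [hinf, Subgroup.mem_bot] at h3
    have : c * b = (c * b * c⁻¹ * b⁻¹) * (b * c) := by group
    rw [this, h3, one_mul]
  -- main argument
  by_contra hcon
  push Not at hcon
  obtain ⟨b1, hb1, b2, hb2, hne12⟩ := hcon
  -- X = centralizer of B1 in B2, a proper subgroup of B2
  let X : Subgroup G := B2 ⊓ Subgroup.centralizer (B1 : Set G)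
  have hXmem : ∀ c, c ∈ X ↔ c ∈ B2 ∧ ∀ b ∈ B1, c * b = b * c := by
    intro c
    show c ∈ B2 ⊓ Subgroup.centralizer (B1 : Set G) ↔ _
    rw [Subgroup.mem_inf, Subgroup.mem_centralizer_iff]
    constructor
    · rintro ⟨h1, h2⟩; exact ⟨h1, fun b hb => (h2 b hb).symm⟩
    · rintro ⟨h1, h2⟩; exact ⟨h1, fun b hb => (h2 b hb).symm⟩
  have hb2X : b2 ∉ X := by
    intro h
    exact hne12 (((hXmem b2).mp h).2 b1 hb1).symm
  -- the injection B1 → X
  have hk : ∀ b ∈ B1, b2 * (b * b2 * b⁻¹) ∈ X := by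
    intro b hb
    by_cases hb1' : b = 1
    · rw [hb1']; simp only [one_mul, inv_one, mul_one]
      rw [hs2 b2 hb2]; exact X.one_mem
    · rw [hXmem]
      have hmem : b2 * (b * b2 * b⁻¹) ∈ B2 := B2.mul_mem hb2 (hn12 b hb b2 hb2)
      refine ⟨hmem, ?_⟩
      apply hcent b hb hb1' _ hmem
      -- b commutes with k
      have hbb : b * b = 1 := hs1 b hb
      have hbinv : b⁻¹ = b := by
        rw [inv_eq_iff_mul_eq_one]; exact hbb
      have hcm := hc2 b2 hb2 (b * b2 * b⁻¹) (hn12 b hb b2 hb2)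
      rw [hbinv] at hcm ⊢
      calc b2 * (b * b2 * b) * b = (b2 * (b * b2 * b)) * b := rfl
        _ = ((b * b2 * b) * b2) * b := by rw [hcm]
        _ = b * b2 * (b * b2 * b) := by group
        _ = b * (b2 * (b * b2 * b)) := by group
  let f : B1 → X := fun b => ⟨b2 * ((b : G) * b2 * (b : G)⁻¹), hk b b.2⟩
  have hf : Function.Injective f := by
    intro b b' hbb'
    have h1 : b2 * ((b : G) * b2 * (b : G)⁻¹) = b2 * ((b' : G) * b2 * (b' : G)⁻¹) :=
      congrArg Subtype.val hbb'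
    have h2 : (b : G) * b2 * (b : G)⁻¹ = (b' : G) * b2 * (b' : G)⁻¹ := mul_left_cancel h1
    by_contra hne'
    have hd : (b' : G)⁻¹ * (b : G) ∈ B1 := B1.mul_mem (B1.inv_mem b'.2) b.2
    have hd1 : (b' : G)⁻¹ * (b : G) ≠ 1 := by
      intro h
      apply hne'
      ext
      have : (b : G) = (b' : G) * ((b' : G)⁻¹ * (b : G)) := by group
      rw [this, h, mul_one]
    have hcomm' : b2 * ((b' : G)⁻¹ * (b : G)) = ((b' : G)⁻¹ * (b : G)) * b2 := by
      have : ((b' : G)⁻¹ * (b : G)) * b2 = (b' : G)⁻¹ * ((b : G) * b2 * (b : G)⁻¹) * (b : G) := by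
        group
      rw [this, h2]; group
    apply hb2X
    rw [hXmem]
    exact ⟨hb2, hcent _ hd hd1 b2 hb2 hcomm'⟩
  have h1 : Nat.card B1 ≤ Nat.card X := Nat.card_le_card_of_injective f hf
  have hXB2 : (X : Set G) ⊂ (B2 : Set G) := by
    refine ⟨fun c hc => ((hXmem c).mp hc).1, fun h => hb2X (h hb2)⟩
  have h2 : Nat.card X < Nat.card B2 := by
    have := Set.ncard_lt_ncard hXB2 (Set.toFinite _)
    rwa [← Nat.card_coe_set_eq, ← Nat.card_coe_set_eq] at this
  omega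

end Cfsg.Agent.Helper24.TI
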