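import Mathlib
import Cfsg.Agent.Lib.Helper24.DlSylDefs
import Cfsg.Agent.Lib.Helper24.Cd2Basic
import Cfsg.Agent.Lib.Helper19.PGroupBasic
import Cfsg.Agent.Lib.Helper10.Cores

/-!
# S4768, piece D1: `O_p(G)` is abelian (helper24)
-/

set_option autoImplicit false
set_option linter.style.haveILetI false

namespace Cfsg.Agent.Helper24.DlSyl

open Cfsg Cfsg.Agent.Helper24 Cfsg.Agent.Helper5 Cfsg.Agent.Helper18
open scoped commutatorElement ComplexConjugate

universe u

/-- If a sum of two characters takes its degree at `d`, so does each summand. -/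
theorem eq_degree_of_add {Q : Type u} [Group Q] [Finite Q] {τ ρ : Q → ℂ} (hτ : IsCharacter Q τ)
    (hρ : IsCharacter Q ρ) (d : Q) (h : τ d + ρ d = τ 1 + ρ 1) : τ d = τ 1 := by
  have h1 := norm_le_charDegree hτ d
  have h2 := norm_le_charDegree hρ d
  have h3 := char_one_eq_charDegree hτ
  have h4 := char_one_eq_charDegree hρ
  rw [h3, h4] at h
  rw [h3]
  have hre : (τ d).re + (ρ d).re = (charDegree τ : ℝ) + (charDegree ρ : ℝ) := by
    have := congrArg Complex.re h
    simpa using this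
  have h5 : (τ d).re ≤ ‖τ d‖ := Complex.re_le_norm _
  have h6 : (ρ d).re ≤ ‖ρ d‖ := Complex.re_le_norm _
  have h7 : (τ d).re = (charDegree τ : ℝ) := by linarith
  have h8 : (τ d).im = 0 := by
    have hn : ‖τ d‖ ^ 2 = (τ d).re ^ 2 + (τ d).im ^ 2 := by
      rw [Complex.sq_norm, Complex.normSq_apply]; ring
    have ha : (0 : ℝ) ≤ (charDegree τ : ℝ) := Nat.cast_nonneg _
    have hle : ‖τ d‖ ^ 2 ≤ (charDegree τ : ℝ) ^ 2 := pow_le_pow_left₀ (norm_nonneg _) h1 2
    have : (τ d).im ^ 2 ≤ 0 := by rw [hn, h7] at hle; linarith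
    exact pow_eq_zero_iff (two_ne_zero) |>.mp (le_antisymm this (sq_nonneg _))
  apply Complex.ext
  · simp [h7]
  · simp [h8]

/-- The irreducible characters separate the identity from the other elements. -/
theorem exists_irr_ne {Q : Type u} [Group Q] [Finite Q] {d : Q} (hd : d ≠ 1) :
    ∃ τ : Q → ℂ, IsIrrCharacter Q τ ∧ τ d ≠ τ 1 := by
  classical
  letI : Fintype Q := Fintype.ofFinite Q
  letI := irrFintype (G := Q)
  by_contra hcon
  push Not at hcon
  have h1 := second_orthogonality d (1 : Q)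
  have h2 : Nat.card {y : Q // y * 1 * y⁻¹ = d} = 0 := by
    rw [Nat.card_eq_zero]
    left
    constructor
    rintro ⟨y, hy⟩
    apply hd
    rw [← hy]; group
  rw [h2, Nat.cast_zero] at h1
  have h3 : ∑ χ : IrrCharacter Q, (χ : Q → ℂ) d * conj ((χ : Q → ℂ) 1) =
      ∑ χ : IrrCharacter Q, ((charDegree (χ : Q → ℂ) ^ 2 : ℕ) : ℂ) := by
    refine Finset.sum_congr rfl fun χ _ => ?_
    rw [hcon χ χ.2, irr_one_eq_charDegree χ.2, Complex.conj_natCast]; push_cast; ring
  rw [h3, ← Nat.cast_sum] at h1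
  have h4 : ∑ χ : IrrCharacter Q, charDegree (χ : Q → ℂ) ^ 2 = 0 := by exact_mod_cast h1
  rw [sum_charDegree_sq] at h4
  exact Nat.card_pos.ne' h4

/-- If every irreducible character of `G` nontrivial on `Z(O_p(G))` has `p'`-degree, `O_p(G)` is
abelian. -/
theorem pCore_abelian_of_pPrimeOver {p : ℕ} [hp : Fact p.Prime] {G : Type u} [Group G] [Finite G]
    (h : PPrimeOver p ((Subgroup.center ↥(Cfsg.pCore p G)).map (Cfsg.pCore p G).subtype)) :
    ∀ a ∈ Cfsg.pCore p G, ∀ b ∈ Cfsg.pCore p G, a * b = b * a := by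
  classical
  letI : Fintype G := Fintype.ofFinite G
  haveI hQn : (Cfsg.pCore p G).Normal := Cfsg.Agent.Helper10.pCore_normal p
  have hQp : IsPGroup p ↥(Cfsg.pCore p G) := Cfsg.Agent.Helper10.pCore_isPGroup p
  letI : Fintype ↥(Cfsg.pCore p G) := Fintype.ofFinite _
  by_contra hcon
  push Not at hcon
  obtain ⟨a, ha, b, hb, hab⟩ := hcon
  have hcne : commutator ↥(Cfsg.pCore p G) ≠ ⊥ := by
    intro hbot
    have h1 : ⁅(⟨a, ha⟩ : ↥(Cfsg.pCore p G)), ⟨b, hb⟩⁆ ∈ commutator ↥(Cfsg.pCore p G) := by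
      rw [commutator_def]
      exact Subgroup.commutator_mem_commutator (Subgroup.mem_top _) (Subgroup.mem_top _)
    rw [hbot, Subgroup.mem_bot, commutatorElement_def] at h1
    apply hab
    have h2 : a * b * a⁻¹ * b⁻¹ = 1 := by
      have := congrArg Subtype.val h1
      simpa using this
    calc a * b = (a * b * a⁻¹ * b⁻¹) * (b * a) := by group
      _ = b * a := by rw [h2, one_mul]
  have hN := Cfsg.Agent.Helper19.normal_inf_center_ne_bot hQp (commutator ↥(Cfsg.pCore p G)) hcne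
  obtain ⟨d, hd1⟩ := (Subgroup.ne_bot_iff_exists_ne_one).mp hN
  have hdc : (d : ↥(Cfsg.pCore p G)) ∈ commutator ↥(Cfsg.pCore p G) := d.2.1
  have hdz : (d : ↥(Cfsg.pCore p G)) ∈ Subgroup.center ↥(Cfsg.pCore p G) := d.2.2
  have hdne : (d : ↥(Cfsg.pCore p G)) ≠ 1 := fun h => hd1 (Subtype.ext h)
  obtain ⟨τ, hτ, hτd⟩ := exists_irr_ne hdne
  have hτc := isCharacter_of_isIrrCharacter hτ
  have hnl : charDegree τ ≠ 1 := by
    intro h1
    have h1' : τ 1 = 1 := (charDegree_eq_one_iff hτ).mp h1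
    apply hτd
    have hker : commutator ↥(Cfsg.pCore p G) ≤ (linHom hτc h1').ker :=
      Abelianization.commutator_subset_ker _
    have h2 := hker hdc
    rw [MonoidHom.mem_ker] at h2
    have h3 := linHom_apply hτc h1' (d : ↥(Cfsg.pCore p G))
    rw [h2] at h3
    rw [← h3, h1']
    simp
  have hpτ : p ∣ charDegree τ := by
    have h1 := charDegree_dvd_card hτ
    obtain ⟨n, hn⟩ := IsPGroup.iff_card.mp hQp
    rw [hn] at h1
    obtain ⟨j, hj, hj2⟩ := (Nat.dvd_prime_pow hp.out).mp h1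
    rw [hj2] at hnl ⊢
    cases j with
    | zero => exact absurd (pow_zero p) hnl
    | succ j => exact dvd_pow_self p (Nat.succ_ne_zero j)
  obtain ⟨χ, hχ, hcon⟩ := Cd2.exists_over (Cfsg.pCore p G) hτ
  have hdvd := Cd2.degree_dvd_of_constituent (Cfsg.pCore p G) hχ hτ hcon
  have hpχ : p ∣ charDegree χ := hpτ.trans hdvd
  have hχd : χ ((d : ↥(Cfsg.pCore p G)) : G) = χ 1 := by
    by_contra hne
    exact h ⟨χ, hχ⟩ ⟨((d : ↥(Cfsg.pCore p G)) : G), ⟨(d : ↥(Cfsg.pCore p G)), hdz, rfl⟩, hne⟩ hpχ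
  have hχQ : IsCharacter ↥(Cfsg.pCore p G) (fun n : ↥(Cfsg.pCore p G) => χ n) :=
    isCharacter_restrict (Cfsg.pCore p G) (isCharacter_of_isIrrCharacter hχ)
  obtain ⟨ρ, hρ, hsum⟩ := exists_add_of_constituent hχQ hτ hcon
  apply hτd
  apply eq_degree_of_add hτc hρ
  have e1 := congrFun hsum (d : ↥(Cfsg.pCore p G))
  have e2 := congrFun hsum 1
  simp only [Pi.add_apply, Subgroup.coe_one] at e1 e2
  rw [← e1, ← e2, hχd]

end Cfsg.Agent.Helper24.DlSyl
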