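import Mathlib
import Cfsg.Agent.Lib.Helper24.DlSylDefs
import Cfsg.Agent.Lib.Helper24.Cd2Basic

/-!
# S4768, piece D2: invariance of the characters of a normal `p'`-subgroup (helper24)
-/

set_option autoImplicit false
set_option linter.style.haveILetI false

namespace Cfsg.Agent.Helper24.DlSyl

open Cfsg Cfsg.Agent.Helper24 Cfsg.Agent.Helper5 Cfsg.Agent.Helper18

universe u

/-- `|HN : H| = |N : H ∩ N|` for `N` normal. -/
theorem relIndex_sup_of_normal {G : Type u} [Group G] [Finite G] (H N : Subgroup G) [N.Normal] :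
    H.relIndex (H ⊔ N) = H.relIndex N := by
  have h1 := Subgroup.relIndex_mul_relIndex (H ⊓ N) N (H ⊔ N) inf_le_right le_sup_right
  have h2 := Subgroup.relIndex_mul_relIndex (H ⊓ N) H (H ⊔ N) inf_le_left le_sup_left
  rw [Subgroup.inf_relIndex_right, Subgroup.relIndex_sup_right] at h1
  rw [Subgroup.inf_relIndex_left] at h2
  have h3 : N.relIndex H ≠ 0 := by
    unfold Subgroup.relIndex
    exact Subgroup.index_ne_zero_of_finite
  have : N.relIndex H * H.relIndex (H ⊔ N) = N.relIndex H * H.relIndex N := by
    rw [h2, ← h1, mul_comm]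
  exact Nat.eq_of_mul_eq_mul_left (Nat.pos_of_ne_zero h3) this

/-- `R ≤ L` normal in `G`, `|L : R|` a power of `p`, and every irreducible character of `G`
nontrivial on `R` of `p'`-degree: every irreducible character of `R` is `L`-invariant. -/
theorem invariant_of_pPrimeOver {p : ℕ} [hp : Fact p.Prime] {G : Type u} [Group G] [Finite G]
    (R L : Subgroup G) [hR : R.Normal] [L.Normal] (hRL : R ≤ L) (k : ℕ)
    (hidx : R.relIndex L = p ^ k) (h : PPrimeOver p R)
    (θ : R → ℂ) (hθ : IsIrrCharacter R θ) (l : G) (hl : l ∈ L) (r : R) :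
    θ ⟨l * r * l⁻¹, hR.conj_mem (r : G) r.2 l⟩ = θ r := by
  classical
  letI : Fintype G := Fintype.ofFinite G
  letI : Fintype R := Fintype.ofFinite R
  letI := irrFintype (G := R)
  obtain ⟨χ, hχ, hcon⟩ := Cd2.exists_over R hθ
  by_cases hχR : ∃ x ∈ R, χ x ≠ χ 1
  · have hpχ : ¬ p ∣ charDegree χ := h ⟨χ, hχ⟩ hχR
    have h1 := degree_eq_of_constituent R hχ hθ hcon
    have hχR' : IsCharacter R (fun n : R => χ n) :=
      isCharacter_restrict R (isCharacter_of_isIrrCharacter hχ)
    obtain ⟨e, he⟩ := classInner_char_nat hχR' (isCharacter_of_isIrrCharacter hθ)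
    rw [he, irr_one_eq_charDegree hχ, irr_one_eq_charDegree hθ] at h1
    have h2 : charDegree χ = e * (inertia R θ).index * charDegree θ := by exact_mod_cast h1
    have h3 : (inertia R θ).index ∣ charDegree χ := by
      rw [h2]
      exact Dvd.dvd.mul_right (Dvd.intro_left e rfl) _
    have hcop : Nat.Coprime (inertia R θ).index p := by
      rw [Nat.coprime_comm, Nat.Prime.coprime_iff_not_dvd hp.out]
      exact fun hd => hpχ (hd.trans h3)
    have hRT : R ≤ inertia R θ := le_inertia R (isClassFunction_of_isIrrCharacter hθ)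
    have h4 : (inertia R θ).relIndex L ∣ (inertia R θ).index := by
      rw [← relIndex_sup_of_normal]
      exact Subgroup.relIndex_dvd_index_of_le le_sup_left
    have h5 : (inertia R θ).relIndex L ∣ p ^ k := by
      rw [← hidx]
      exact Subgroup.relIndex_dvd_of_le_left L hRT
    have h6 : (inertia R θ).relIndex L = 1 :=
      Nat.eq_one_of_dvd_coprimes (hcop.pow_right k) h4 h5
    have h7 : L ≤ inertia R θ := Subgroup.relIndex_eq_one.mp h6
    have h8 := (mem_inertia R θ l).mp (h7 hl)
    have h9 := congrFun h8 r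
    rwa [conjFun_apply] at h9
  · push Not at hχR
    have hres : (fun n : R => χ n) = (χ 1) • (fun _ : R => (1 : ℂ)) := by
      funext n
      simp [hχR n n.2]
    rw [hres, classInner_smul_left] at hcon
    have h1 : classInner (fun _ : R => (1 : ℂ)) θ ≠ 0 := right_ne_zero_of_mul hcon
    rw [irr_orthogonality isIrrCharacter_one hθ] at h1
    have h2 : (fun _ : R => (1 : ℂ)) = θ := by
      by_contra hne
      rw [if_neg hne] at h1
      exact h1 rfl
    rw [← h2]

end Cfsg.Agent.Helper24.DlSyl
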