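import Mathlib
import Cfsg.Agent.Lib.Helper24.DlSylDefs
import Cfsg.Agent.Lib.Helper24.DlSylD1
import Cfsg.Agent.Lib.Helper24.DlSylD2
import Cfsg.Agent.Lib.Helper7.DlSylSyl
import Cfsg.Agent.Lib.Helper7.DlSylC2
import Cfsg.Agent.Lib.Helper16.DlSylG
import Cfsg.Agent.Lib.Helper10.DlSylNP
import Cfsg.Agent.Lib.Helper23.PSolvable
import Cfsg.Agent.Lib.Helper4.HHDual
import Cfsg.Agent.Lib.Helper16.QuotPGroup

/-!
# Derived length of a Sylow `p`-subgroup of a `p`-solvable group (helper24)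

`dl(P) ≤ n + 1`, `n` the number of irreducible characters of degree divisible by `p`; and
`dl(P) ≤ n` when `O_p(G) = 1`.  Induction on the group order.
-/

set_option autoImplicit false
set_option linter.style.haveILetI false

namespace Cfsg.Agent.Helper24.DlSyl

open Cfsg Cfsg.Agent.Helper24
open Cfsg.Agent.Helper7.DlSylSyl Cfsg.Agent.Helper7.DlSylC2 Cfsg.Agent.Helper16.DlSylG
  Cfsg.Agent.Helper10.DlSylNP

universe u

theorem card_quotient_lt {G : Type u} [Group G] [Finite G] (K : Subgroup G) [K.Normal]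
    (hK : K ≠ ⊥) : Nat.card (G ⧸ K) < Nat.card G := by
  rw [← Subgroup.index_eq_card, ← Subgroup.card_mul_index K]
  have h1 : 1 < Nat.card K := (Subgroup.one_lt_card_iff_ne_bot K).mpr hK
  have h2 : 0 < K.index := Nat.pos_of_ne_zero Subgroup.index_ne_zero_of_finite
  nlinarith

theorem pCore_quotient_pCore {G : Type u} [Group G] (p : ℕ) [Fact p.Prime]
    [hYn : (Cfsg.pCore p G).Normal] : Cfsg.pCore p (G ⧸ Cfsg.pCore p G) = ⊥ := by
  have h1 := Cfsg.Agent.Helper16.comap_pCore_quotient (Cfsg.pCore p G)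
    (Cfsg.Agent.Helper10.pCore_isPGroup p)
  have h2 := Subgroup.map_comap_eq_self_of_surjective
    (QuotientGroup.mk'_surjective (Cfsg.pCore p G)) (Cfsg.pCore p (G ⧸ Cfsg.pCore p G))
  rw [h1, QuotientGroup.map_mk'_self] at h2
  exact h2.symm

/-- The main induction. -/
theorem main (p : ℕ) [hp : Fact p.Prime] (m : ℕ) : ∀ (G : Type u) [Group G] [Finite G],
    Nat.card G = m → Cfsg.IsPSolvable p G → ∀ P : Sylow p G,
      derivedSeries ↥(P : Subgroup G) (nP p G + 1) = ⊥ ∧
        (Cfsg.pCore p G = ⊥ → derivedSeries ↥(P : Subgroup G) (nP p G) = ⊥) := by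
  induction m using Nat.strong_induction_on with
  | _ m ih =>
  intro G _ _ hm hsol
  classical
  -- Part 2
  have part2 : Cfsg.pCore p G = ⊥ → ∀ P : Sylow p G,
      derivedSeries ↥(P : Subgroup G) (nP p G) = ⊥ := by
    intro hO P
    by_cases hP : (P : Subgroup G) = ⊥
    · rw [Subgroup.eq_bot_iff_forall]
      intro x _
      have hx : (x : G) ∈ (⊥ : Subgroup G) := hP ▸ x.2
      exact Subtype.ext (Subgroup.mem_bot.mp hx)
    haveI hRn : (Cfsg.pPrimeCore p G).Normal := Cfsg.Agent.Helper22.pPrimeCore_normal p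
    have hRcop : (Nat.card (Cfsg.pPrimeCore p G)).Coprime p :=
      Cfsg.Agent.Helper22.card_pPrimeCore_coprime p
    have hCR := Cfsg.Agent.Helper4.HHD.centralizer_pPrimeCore_le hsol hO
    have hsolQ : Cfsg.IsPSolvable p (G ⧸ Cfsg.pPrimeCore p G) :=
      Cfsg.Agent.Helper23.PSolv.isPSolvable_quotient _ hsol
    -- a nontrivial element of `P`
    obtain ⟨x, hx1⟩ := (Subgroup.ne_bot_iff_exists_ne_one).mp hP
    have hxR : (x : G) ∉ Cfsg.pPrimeCore p G := by
      intro hxR
      obtain ⟨j, hj⟩ := (P.isPGroup' : IsPGroup p ↥(P : Subgroup G)) x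
      have h1 : orderOf (x : G) ∣ p ^ j := by
        apply orderOf_dvd_of_pow_eq_one
        have := congrArg Subtype.val hj
        simpa using this
      have h2 : orderOf (x : G) ∣ Nat.card (Cfsg.pPrimeCore p G) := by
        have := orderOf_dvd_natCard (⟨(x : G), hxR⟩ : ↥(Cfsg.pPrimeCore p G))
        rwa [Subgroup.orderOf_mk] at this
      have h3 : orderOf (x : G) = 1 :=
        Nat.eq_one_of_dvd_coprimes (hRcop.pow_right j) h2 h1
      apply hx1
      apply Subtype.ext
      exact orderOf_eq_one_iff.mp h3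
    haveI hQnt : Nontrivial (G ⧸ Cfsg.pPrimeCore p G) := by
      refine ⟨⟨QuotientGroup.mk (x : G), 1, ?_⟩⟩
      intro h
      exact hxR ((QuotientGroup.eq_one_iff _).mp h)
    have hOQ : Cfsg.pPrimeCore p (G ⧸ Cfsg.pPrimeCore p G) = ⊥ :=
      Cfsg.Agent.Helper23.PSolv.pPrimeCore_quotient_pPrimeCore p
    have hpQ : Cfsg.pCore p (G ⧸ Cfsg.pPrimeCore p G) ≠ ⊥ :=
      (pCore_or_pPrimeCore_ne_bot hsolQ).resolve_right (not_not.mpr hOQ)
    haveI hQQn : (Cfsg.pCore p (G ⧸ Cfsg.pPrimeCore p G)).Normal :=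
      Cfsg.Agent.Helper10.pCore_normal p
    have hQQp : IsPGroup p ↥(Cfsg.pCore p (G ⧸ Cfsg.pPrimeCore p G)) :=
      Cfsg.Agent.Helper10.pCore_isPGroup p
    set L : Subgroup G := (Cfsg.pCore p (G ⧸ Cfsg.pPrimeCore p G)).comap
      (QuotientGroup.mk' (Cfsg.pPrimeCore p G)) with hL
    haveI hLn : L.Normal := Subgroup.Normal.comap hQQn _
    have hRL : Cfsg.pPrimeCore p G ≤ L := by
      intro r hr
      rw [hL, Subgroup.mem_comap, QuotientGroup.mk'_apply, (QuotientGroup.eq_one_iff r).mpr hr]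
      exact Subgroup.one_mem _
    obtain ⟨k, hk⟩ := IsPGroup.iff_card.mp hQQp
    have hidx : (Cfsg.pPrimeCore p G).relIndex L = p ^ k := by
      have h1 := Subgroup.relIndex_ker (QuotientGroup.mk' (Cfsg.pPrimeCore p G)) (K := L)
      rw [QuotientGroup.ker_mk', hL, Subgroup.map_comap_eq_self_of_surjective
        (QuotientGroup.mk'_surjective _)] at h1
      rw [h1, hk]
    have hnot : ¬ PPrimeOver p (Cfsg.pPrimeCore p G) := by
      intro hPP
      obtain ⟨y, hy1⟩ := (Subgroup.ne_bot_iff_exists_ne_one).mp hpQ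
      obtain ⟨g, hg⟩ := QuotientGroup.mk_surjective (y : G ⧸ Cfsg.pPrimeCore p G)
      obtain ⟨j, hj⟩ := hQQp y
      have hyj : (y : G ⧸ Cfsg.pPrimeCore p G) ^ p ^ j = 1 := by
        have := congrArg Subtype.val hj
        simpa using this
      have hgj : g ^ p ^ j ∈ Cfsg.pPrimeCore p G := by
        rw [← QuotientGroup.eq_one_iff, QuotientGroup.mk_pow, hg]
        exact hyj
      set n := Nat.card (Cfsg.pPrimeCore p G) with hn
      set q := g ^ n with hq
      have hqpow : q ^ p ^ j = 1 := by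
        rw [hq, ← pow_mul, mul_comm, pow_mul]
        have h1 : ((⟨g ^ p ^ j, hgj⟩ : ↥(Cfsg.pPrimeCore p G)) ^ n) = 1 := pow_card_eq_one'
        have h2 := congrArg Subtype.val h1
        rw [Subgroup.coe_pow, Subgroup.coe_one] at h2
        exact h2
      have hqL : q ∈ L := by
        rw [hL, Subgroup.mem_comap, hq, map_pow]
        apply Subgroup.pow_mem
        rw [QuotientGroup.mk'_apply, hg]
        exact y.2
      have hqR : q ∉ Cfsg.pPrimeCore p G := by
        intro hqR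
        have h1 : (y : G ⧸ Cfsg.pPrimeCore p G) ^ n = 1 := by
          rw [← hg, ← QuotientGroup.mk_pow]
          exact (QuotientGroup.eq_one_iff _).mpr hqR
        have h2 : orderOf (y : G ⧸ Cfsg.pPrimeCore p G) ∣ n := orderOf_dvd_of_pow_eq_one h1
        have h3 : orderOf (y : G ⧸ Cfsg.pPrimeCore p G) ∣ p ^ j :=
          orderOf_dvd_of_pow_eq_one hyj
        have h4 : orderOf (y : G ⧸ Cfsg.pPrimeCore p G) = 1 :=
          Nat.eq_one_of_dvd_coprimes (hRcop.pow_right j) h2 h3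
        apply hy1
        apply Subtype.ext
        exact orderOf_eq_one_iff.mp h4
      have hcent := centralizes_of_fixes_irr (Cfsg.pPrimeCore p G) hRcop q j hqpow
        (fun θ hθ r => invariant_of_pPrimeOver (Cfsg.pPrimeCore p G) L hRL k hidx hPP θ hθ q hqL r)
      apply hqR
      apply hCR
      rw [Subgroup.mem_centralizer_iff]
      intro r hr
      exact (hcent r hr).symm
    unfold PPrimeOver at hnot
    push Not at hnot
    obtain ⟨χ, hx, hpχ⟩ := hnot
    have hlt := nP_quotient_lt p (Cfsg.pPrimeCore p G) χ hpχ hx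
    have hRne : Cfsg.pPrimeCore p G ≠ ⊥ := by
      intro h
      obtain ⟨z, hz, hzne⟩ := hx
      rw [h, Subgroup.mem_bot] at hz
      rw [hz] at hzne
      exact hzne rfl
    have hcardlt : Nat.card (G ⧸ Cfsg.pPrimeCore p G) < m := hm ▸ card_quotient_lt _ hRne
    have ih1 : ∀ Pbar : Sylow p (G ⧸ Cfsg.pPrimeCore p G),
        derivedSeries ↥(Pbar : Subgroup (G ⧸ Cfsg.pPrimeCore p G))
          (nP p (G ⧸ Cfsg.pPrimeCore p G) + 1) = ⊥ :=
      fun Pbar => (ih _ hcardlt (G ⧸ Cfsg.pPrimeCore p G) rfl hsolQ Pbar).1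
    have h1 := derived_sylow_of_quotient_coprime (Cfsg.pPrimeCore p G) hRcop P _ ih1
    exact le_bot_iff.mp ((derivedSeries_antitone _ hlt).trans h1.le)
  intro P
  refine ⟨?_, fun hO => part2 hO P⟩
  by_cases hO : Cfsg.pCore p G = ⊥
  · exact le_bot_iff.mp ((derivedSeries_antitone _ (Nat.le_succ _)).trans (part2 hO P).le)
  haveI hQn : (Cfsg.pCore p G).Normal := Cfsg.Agent.Helper10.pCore_normal p
  have hQp : IsPGroup p ↥(Cfsg.pCore p G) := Cfsg.Agent.Helper10.pCore_isPGroup p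
  set A : Subgroup G := (Subgroup.center ↥(Cfsg.pCore p G)).map (Cfsg.pCore p G).subtype with hA
  haveI hAn : A.Normal := ConjAct.normal_of_characteristic_of_normal
  by_cases hPP : PPrimeOver p A
  · have hQab := pCore_abelian_of_pPrimeOver hPP
    have hcardlt : Nat.card (G ⧸ Cfsg.pCore p G) < m := hm ▸ card_quotient_lt _ hO
    have hsolQ : Cfsg.IsPSolvable p (G ⧸ Cfsg.pCore p G) :=
      Cfsg.Agent.Helper23.PSolv.isPSolvable_quotient _ hsol
    have ih1 : ∀ Pbar : Sylow p (G ⧸ Cfsg.pCore p G),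
        derivedSeries ↥(Pbar : Subgroup (G ⧸ Cfsg.pCore p G)) (nP p (G ⧸ Cfsg.pCore p G)) = ⊥ :=
      fun Pbar => (ih _ hcardlt (G ⧸ Cfsg.pCore p G) rfl hsolQ Pbar).2 (pCore_quotient_pCore p)
    have h1 := derived_sylow_of_quotient_abelian (Cfsg.pCore p G) hQab P _ ih1
    have hle := nP_quotient_le p (Cfsg.pCore p G)
    exact le_bot_iff.mp ((derivedSeries_antitone _ (Nat.succ_le_succ hle)).trans h1.le)
  · unfold PPrimeOver at hPP
    push Not at hPP
    obtain ⟨χ, hx, hpχ⟩ := hPP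
    have hlt := nP_quotient_lt p A χ hpχ hx
    have hAne : A ≠ ⊥ := by
      intro h
      obtain ⟨z, hz, hzne⟩ := hx
      rw [h, Subgroup.mem_bot] at hz
      rw [hz] at hzne
      exact hzne rfl
    have hAab : ∀ a ∈ A, ∀ b ∈ A, a * b = b * a := by
      rintro _ ⟨a, ha, rfl⟩ _ ⟨b, hb, rfl⟩
      have := (Subgroup.mem_center_iff.mp hb) a
      have h2 := congrArg Subtype.val this
      simpa using h2
    have hcardlt : Nat.card (G ⧸ A) < m := hm ▸ card_quotient_lt _ hAne
    have hsolQ : Cfsg.IsPSolvable p (G ⧸ A) := Cfsg.Agent.Helper23.PSolv.isPSolvable_quotient _ hsol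
    have ih1 : ∀ Pbar : Sylow p (G ⧸ A),
        derivedSeries ↥(Pbar : Subgroup (G ⧸ A)) (nP p (G ⧸ A) + 1) = ⊥ :=
      fun Pbar => (ih _ hcardlt (G ⧸ A) rfl hsolQ Pbar).1
    have h1 := derived_sylow_of_quotient_abelian A hAab P _ ih1
    exact le_bot_iff.mp ((derivedSeries_antitone _ (Nat.succ_le_succ hlt)).trans h1.le)

end Cfsg.Agent.Helper24.DlSyl
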