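import Mathlib
import Cfsg.Prelude.Def_Solvable
import Cfsg.Agent.Lib.Helper3.PrimSolv
import Cfsg.Agent.Lib.Helper7.Fitting

/-!
# Minimal non-nilpotent groups (helper24's shared library)

A finite solvable group `Q` that is not nilpotent but all of whose proper quotients are nilpotent
is a semidirect product `M ⋊ H` with `M` an abelian minimal normal subgroup on which `H` acts
faithfully; moreover `F(Q) ≤ M`.
-/

set_option autoImplicit false
set_option linter.style.haveILetI false
set_option linter.unusedSectionVars false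

namespace Cfsg.Agent.Helper24.Cd2

open Subgroup
open scoped Pointwise commutatorElement

variable {Q : Type*} [Group Q] [Finite Q]

/-- The structure `Q = M ⋊ H`. -/
structure Prim (M H : Subgroup Q) : Prop where
  normal : M.Normal
  ne_bot : M ≠ ⊥
  comm : ∀ a ∈ M, ∀ b ∈ M, a * b = b * a
  minimal : ∀ D : Subgroup Q, D.Normal → D ≤ M → D = ⊥ ∨ D = M
  inf : M ⊓ H = ⊥
  sup : M ⊔ H = ⊤
  faithful : ∀ h ∈ H, (∀ y ∈ M, h * y = y * h) → h = 1

/-- Every element is a product `y * h`. -/
theorem Prim.exists_mul {M H : Subgroup Q} (h : Prim M H) (x : Q) :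
    ∃ y ∈ M, ∃ k ∈ H, x = y * k := by
  haveI := h.normal
  have hx : x ∈ M ⊔ H := by rw [h.sup]; exact Subgroup.mem_top x
  have : x ∈ (M : Set Q) * (H : Set Q) := by
    rw [← Subgroup.normal_mul M H]
    exact hx
  obtain ⟨y, hy, k, hk, rfl⟩ := this
  exact ⟨y, hy, k, hk, rfl⟩

/-- A subgroup of `M` normalized by `H` is normal. -/
theorem Prim.normal_of_le {M H : Subgroup Q} (h : Prim M H) (D : Subgroup Q) (hDM : D ≤ M)
    (hH : ∀ k ∈ H, ∀ d ∈ D, k * d * k⁻¹ ∈ D) : D.Normal := by
  constructor
  intro d hd x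
  obtain ⟨y, hy, k, hk, rfl⟩ := h.exists_mul x
  have h1 : k * d * k⁻¹ ∈ D := hH k hk d hd
  have h2 : y * (k * d * k⁻¹) = (k * d * k⁻¹) * y := h.comm y hy _ (hDM h1)
  have e : y * k * d * (y * k)⁻¹ = y * (k * d * k⁻¹) * y⁻¹ := by group
  rw [e, h2]
  simpa using h1

theorem exists_prim [Group.IsSolvable Q] (hnn : ¬ Group.IsNilpotent Q)
    (hq : ∀ (N : Subgroup Q) [N.Normal], N ≠ ⊥ → Group.IsNilpotent (Q ⧸ N)) :
    ∃ M H : Subgroup Q, Prim M H := by
  classical
  -- a maximal subgroup that is not normal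
  obtain ⟨H, hHco, hHnn⟩ : ∃ H : Subgroup Q, IsCoatom H ∧ ¬ H.Normal := by
    by_contra hcon
    push Not at hcon
    exact hnn ((Group.isNilpotent_of_finite_tfae.out 0 2).mpr hcon)
  -- its core is trivial
  have hcore : H.normalCore = ⊥ := by
    by_contra hC
    set C := H.normalCore with hCdef
    haveI : C.Normal := Subgroup.normalCore_normal H
    haveI hnil := hq C hC
    have hCH : C ≤ H := Subgroup.normalCore_le H
    have hNC := Group.normalizerCondition_of_isNilpotent (G := Q ⧸ C)
    set Hbar : Subgroup (Q ⧸ C) := H.map (QuotientGroup.mk' C) with hHbar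
    have hlt : Hbar < ⊤ := by
      rw [lt_top_iff_ne_top]
      intro htop
      have h1 : (Hbar.comap (QuotientGroup.mk' C)) = ⊤ := by rw [htop, Subgroup.comap_top]
      rw [hHbar, Subgroup.comap_map_eq, QuotientGroup.ker_mk', sup_eq_left.mpr hCH] at h1
      exact hHco.1 h1
    obtain ⟨xbar, hxN, hxH⟩ := SetLike.exists_of_lt (hNC Hbar hlt)
    obtain ⟨x, rfl⟩ := QuotientGroup.mk_surjective xbar
    have hxnot : x ∉ H := fun hx => hxH ⟨x, hx, rfl⟩
    have hxnorm : x ∈ Subgroup.normalizer (H : Set Q) := by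
      apply Subgroup.mem_normalizer_fintype
      intro k hk
      have hk : k ∈ H := hk
      have h1 : (QuotientGroup.mk k : Q ⧸ C) ∈ Hbar := ⟨k, hk, rfl⟩
      have h2 := (Subgroup.mem_normalizer_iff.mp hxN _).mp h1
      obtain ⟨k', hk', hkk⟩ := h2
      have h3 : (QuotientGroup.mk' C) k' = (QuotientGroup.mk' C) (x * k * x⁻¹) := by
        rw [hkk]
        simp
      have h4 : k'⁻¹ * (x * k * x⁻¹) ∈ C := by
        rw [← QuotientGroup.eq]
        exact h3
      have h5 := H.mul_mem hk' (hCH h4)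
      rwa [mul_inv_cancel_left] at h5
    have hlt2 : H < Subgroup.normalizer (H : Set Q) := by
      refine lt_of_le_of_ne Subgroup.le_normalizer ?_
      intro heq
      rw [← heq] at hxnorm
      exact hxnot hxnorm
    have := hHco.2 _ hlt2
    exact hHnn (Subgroup.normalizer_eq_top_iff.mp this)
  -- `Q` is nontrivial
  haveI : Nontrivial Q := by
    by_contra hcon
    rw [not_nontrivial_iff_subsingleton] at hcon
    exact hnn inferInstance
  -- a minimal normal subgroup
  obtain ⟨M, hMC, hMmin⟩ := (wellFounded_lt (α := Subgroup Q)).has_min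
    {N : Subgroup Q | N.Normal ∧ N ≠ ⊥} ⟨⊤, inferInstance, top_ne_bot⟩
  obtain ⟨hMn, hMne⟩ := hMC
  haveI := hMn
  have hmin : ∀ D : Subgroup Q, D.Normal → D ≤ M → D = ⊥ ∨ D = M := by
    intro D hD hDM
    by_cases hDb : D = ⊥
    · exact Or.inl hDb
    · right
      by_contra hne
      exact hMmin D ⟨hD, hDb⟩ (lt_of_le_of_ne hDM hne)
  have hcomm := Cfsg.Agent.Helper3.commute_of_minimal_normal M hMne hmin
  have hMH : ¬ M ≤ H := by
    intro h
    have := (Subgroup.normal_le_normalCore (H := H) (N := M)).mpr h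
    rw [hcore] at this
    exact hMne (le_bot_iff.mp this)
  have hsup : M ⊔ H = ⊤ := by
    apply hHco.2
    refine lt_of_le_of_ne le_sup_right ?_
    intro heq
    apply hMH
    rw [heq]
    exact le_sup_left
  -- elements as products
  have hmul : ∀ x : Q, ∃ y ∈ M, ∃ k ∈ H, x = y * k := by
    intro x
    have hx : x ∈ M ⊔ H := by rw [hsup]; exact Subgroup.mem_top x
    have : x ∈ (M : Set Q) * (H : Set Q) := by
      rw [← Subgroup.normal_mul M H]
      exact hx
    obtain ⟨y, hy, k, hk, rfl⟩ := this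
    exact ⟨y, hy, k, hk, rfl⟩
  have hinf : M ⊓ H = ⊥ := by
    have hn : (M ⊓ H).Normal := by
      constructor
      intro d hd x
      obtain ⟨y, hy, k, hk, rfl⟩ := hmul x
      have h1 : k * d * k⁻¹ ∈ M := hMn.conj_mem d hd.1 k
      have h1' : k * d * k⁻¹ ∈ H := H.mul_mem (H.mul_mem hk hd.2) (H.inv_mem hk)
      have h2 : y * (k * d * k⁻¹) = (k * d * k⁻¹) * y := hcomm y hy _ h1
      have e : y * k * d * (y * k)⁻¹ = y * (k * d * k⁻¹) * y⁻¹ := by group
      rw [e, h2]
      refine ⟨?_, ?_⟩
      · simpa using h1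
      · simpa using h1'
    haveI := hn
    have := (Subgroup.normal_le_normalCore (H := H) (N := M ⊓ H)).mpr inf_le_right
    rw [hcore] at this
    exact le_bot_iff.mp this
  refine ⟨M, H, hMn, hMne, hcomm, hmin, hinf, hsup, ?_⟩
  -- faithfulness
  intro c hc hcen
  set D : Subgroup Q := H ⊓ Subgroup.centralizer (M : Set Q) with hD
  have hcD : c ∈ D := by
    refine ⟨hc, ?_⟩
    show c ∈ Subgroup.centralizer (M : Set Q)
    rw [Subgroup.mem_centralizer_iff]
    intro y hy
    exact (hcen y hy).symm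
  have hn : D.Normal := by
    constructor
    intro d hd x
    obtain ⟨y, hy, k, hk, rfl⟩ := hmul x
    have hdcen : ∀ z ∈ M, z * d = d * z := fun z hz =>
      Subgroup.mem_centralizer_iff.mp hd.2 z hz
    have h1 : k * d * k⁻¹ ∈ H := H.mul_mem (H.mul_mem hk hd.1) (H.inv_mem hk)
    have h2 : k * d * k⁻¹ ∈ Subgroup.centralizer (M : Set Q) := by
      rw [Subgroup.mem_centralizer_iff]
      intro z hz
      have hz' : k⁻¹ * z * k ∈ M := by
        have := hMn.conj_mem z hz k⁻¹
        simpa using this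
      have := hdcen _ hz'
      calc z * (k * d * k⁻¹) = k * ((k⁻¹ * z * k) * d) * k⁻¹ := by group
        _ = k * (d * (k⁻¹ * z * k)) * k⁻¹ := by rw [this]
        _ = k * d * k⁻¹ * z := by group
    have h3 : y * (k * d * k⁻¹) = (k * d * k⁻¹) * y :=
      Subgroup.mem_centralizer_iff.mp h2 y hy
    have e : y * k * d * (y * k)⁻¹ = y * (k * d * k⁻¹) * y⁻¹ := by group
    rw [e, h3]
    refine ⟨?_, ?_⟩
    · simpa using h1
    · simpa using h2
  haveI := hn
  have := (Subgroup.normal_le_normalCore (H := H) (N := D)).mpr inf_le_left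
  rw [hcore] at this
  have := this hcD
  exact Subgroup.mem_bot.mp this

/-- The Fitting subgroup of `M ⋊ H` lies in `M`. -/
theorem Prim.fitting_le {M H : Subgroup Q} (h : Prim M H) : Cfsg.fittingSubgroup Q ≤ M := by
  haveI := h.normal
  set F : Subgroup Q := Cfsg.fittingSubgroup Q with hF
  haveI : F.Normal := Cfsg.Agent.Helper7.fittingSubgroup_normal'
  have hFnil : Group.IsNilpotent ↥F := Cfsg.Agent.Helper7.fittingSubgroup_isNilpotent
  have hMF : M ≤ F := by
    apply Cfsg.Agent.Helper7.le_fittingSubgroup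
    letI : CommGroup ↥M :=
      { (inferInstance : Group ↥M) with
        mul_comm := fun a b => Subtype.ext (h.comm a a.2 b b.2) }
    exact CommGroup.isNilpotent
  -- `⁅M, F⁆` is `⊥` or `M`
  have hcn : (⁅M, F⁆ : Subgroup Q).Normal := inferInstance
  have hcle : ⁅M, F⁆ ≤ M := Subgroup.commutator_le_left M F
  rcases h.minimal _ hcn hcle with hbot | htop
  · -- `F` centralizes `M`
    intro x hx
    obtain ⟨y, hy, k, hk, rfl⟩ := h.exists_mul x
    have hxcen : ∀ z ∈ M, (y * k) * z = z * (y * k) := by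
      intro z hz
      have h1 : ⁅z, y * k⁆ ∈ (⁅M, F⁆ : Subgroup Q) := Subgroup.commutator_mem_commutator hz hx
      rw [hbot, Subgroup.mem_bot, commutatorElement_def] at h1
      calc (y * k) * z = (z * (y * k) * z⁻¹ * (y * k)⁻¹)⁻¹ * (z * (y * k)) := by group
        _ = z * (y * k) := by rw [h1, inv_one, one_mul]
    have hk1 : k = 1 := by
      apply h.faithful k hk
      intro z hz
      have h1 := hxcen z hz
      have h2 : y * z = z * y := h.comm y hy z hz
      calc k * z = y⁻¹ * ((y * k) * z) := by group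
        _ = y⁻¹ * (z * (y * k)) := by rw [h1]
        _ = y⁻¹ * (z * y) * k := by group
        _ = y⁻¹ * (y * z) * k := by rw [h2]
        _ = z * k := by group
    rw [hk1, mul_one]
    exact hy
  · exfalso
    have hall : ∀ n, M ≤ F.lowerCentralSeries n := by
      intro n
      induction n with
      | zero => exact hMF
      | succ n ih =>
        rw [Subgroup.lowerCentralSeries_succ]
        calc M = ⁅M, F⁆ := htop.symm
          _ ≤ ⁅F.lowerCentralSeries n, F⁆ := Subgroup.commutator_mono ih le_rfl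
    obtain ⟨n, hn⟩ := (Subgroup.isNilpotent_iff_lowerCentralSeries F).mp hFnil
    have := hall n
    rw [hn] at this
    exact h.ne_bot (le_bot_iff.mp this)

end Cfsg.Agent.Helper24.Cd2
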