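import Mathlib
import Cfsg.Prelude.Def_Blocks
import Cfsg.Agent.Lib.Helper5.RepExtend
import Cfsg.Agent.Lib.Helper24.CharComplete

/-!
# Coprime extension of invariant irreducible representations over a `p`-group quotient

Shared library of helper24 (namespace `Cfsg.Agent.Helper24`).

* `repDet ρ g` : the determinant of `ρ g`;
* `detTwist ρ k` : the twist of `ρ` by the `k`-th power of its determinant;
* `rep_eq_of_agree_on_normal` : uniqueness of an extension whose determinant has order prime to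
  `p`, over a `p`-group quotient;
* `exists_extension_of_pgroup_quotient` : if `N ⊴ G` has `p`-power index, `ρ` is an irreducible
  representation of `N` with `G`-invariant character, of dimension prime to `p` and with
  determinant of order prime to `p`, then `ρ` extends to `G`.
-/

set_option autoImplicit false
set_option linter.style.haveILetI false
set_option linter.unusedVariables false
set_option linter.unusedSectionVars false

namespace Cfsg.Agent.Helper24

open Cfsg Cfsg.Agent.Helper5 Module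

universe u v

section DetTwist

variable {G : Type u} [Group G]
variable {V : Type v} [AddCommGroup V] [Module ℂ V] [FiniteDimensional ℂ V]

/-- The determinant of a representation, as a function on the group. -/
noncomputable def repDet (ρ : Representation ℂ G V) (g : G) : ℂ := LinearMap.det (ρ g)

theorem repDet_mul (ρ : Representation ℂ G V) (g h : G) :
    repDet ρ (g * h) = repDet ρ g * repDet ρ h := by
  simp [repDet, map_mul]

theorem repDet_one (ρ : Representation ℂ G V) : repDet ρ 1 = 1 := by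
  simp [repDet]

theorem repDet_pow (ρ : Representation ℂ G V) (g : G) (k : ℕ) :
    repDet ρ (g ^ k) = repDet ρ g ^ k := by
  simp [repDet, map_pow]

theorem repDet_ne_zero (ρ : Representation ℂ G V) (g : G) : repDet ρ g ≠ 0 := by
  intro h
  have h1 := repDet_mul ρ g g⁻¹
  rw [mul_inv_cancel, repDet_one, h, zero_mul] at h1
  exact one_ne_zero h1

/-- Twist of a representation by the `k`-th power of its determinant. -/
noncomputable def detTwist (ρ : Representation ℂ G V) (k : ℕ) : Representation ℂ G V where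
  toFun g := (repDet ρ g) ^ k • ρ g
  map_one' := by simp [repDet_one]
  map_mul' g h := by
    rw [repDet_mul, map_mul, mul_pow, smul_mul_smul_comm]

theorem detTwist_apply (ρ : Representation ℂ G V) (k : ℕ) (g : G) :
    detTwist ρ k g = (repDet ρ g) ^ k • ρ g := rfl

theorem repDet_detTwist (ρ : Representation ℂ G V) (k : ℕ) (g : G) :
    repDet (detTwist ρ k) g = repDet ρ g ^ (k * finrank ℂ V + 1) := by
  rw [repDet, detTwist_apply, LinearMap.det_smul, ← repDet, ← pow_mul, pow_succ]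

end DetTwist

section Uniqueness

variable {T : Type u} [Group T] [Finite T]
variable {V : Type v} [AddCommGroup V] [Module ℂ V] [FiniteDimensional ℂ V]

/-- Two representations of `T` agreeing on a normal subgroup `N` on which they are irreducible,
with `T / N` a `p`-group, determinants of order dividing `m` prime to `p`, and dimension prime to
`p`, are equal. -/
theorem rep_eq_of_agree_on_normal (p : ℕ) (hp : p.Prime) (N : Subgroup T) [hN : N.Normal]
    (σ₁ σ₂ : Representation ℂ T V) (ρ : Representation ℂ N V) (hρ : ρ.IsIrreducible)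
    (h₁ : ∀ n : N, σ₁ (n : T) = ρ n) (h₂ : ∀ n : N, σ₂ (n : T) = ρ n)
    (hpow : ∀ t : T, ∃ j : ℕ, t ^ p ^ j ∈ N)
    (m : ℕ) (hm : m.Coprime p) (hV : ¬ p ∣ finrank ℂ V)
    (hd₁ : ∀ t : T, repDet σ₁ t ^ m = 1) (hd₂ : ∀ t : T, repDet σ₂ t ^ m = 1) :
    σ₁ = σ₂ := by
  letI : Fintype N := Fintype.ofFinite N
  ext t : 1
  -- the operator A = σ₂ t * σ₁ t⁻¹ commutes with ρ
  have hcomm : ∀ n : N, (σ₂ t * σ₁ t⁻¹) ∘ₗ ρ n = ρ n ∘ₗ (σ₂ t * σ₁ t⁻¹) := by
    intro n
    have hn' : t⁻¹ * (n : T) * t ∈ N := by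
      have := hN.conj_mem n n.2 t⁻¹
      simpa using this
    have e1 : σ₁ (t⁻¹ * (n : T) * t) = σ₂ (t⁻¹ * (n : T) * t) := by
      rw [h₁ ⟨_, hn'⟩, h₂ ⟨_, hn'⟩]
    have e2 : σ₁ t⁻¹ * σ₁ (n : T) = σ₁ (t⁻¹ * (n : T) * t) * σ₁ t⁻¹ := by
      rw [← map_mul, ← map_mul]
      congr 1
      group
    have e3 : σ₂ t * σ₂ (t⁻¹ * (n : T) * t) = σ₂ (n : T) * σ₂ t := by
      rw [← map_mul, ← map_mul]
      congr 1
      group
    show (σ₂ t * σ₁ t⁻¹) * ρ n = ρ n * (σ₂ t * σ₁ t⁻¹)
    rw [← h₁ n, mul_assoc, e2, e1, ← mul_assoc, e3, h₁ n, h₂ n, mul_assoc]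
  obtain ⟨c, hc⟩ := exists_scalar_of_comm ρ hρ (σ₂ t * σ₁ t⁻¹) hcomm
  have hinv : σ₁ t⁻¹ * σ₁ t = 1 := by rw [← map_mul, inv_mul_cancel, map_one]
  have hσ : σ₂ t = c • σ₁ t := by
    have : σ₂ t = (σ₂ t * σ₁ t⁻¹) * σ₁ t := by rw [mul_assoc, hinv, mul_one]
    rw [this, hc, smul_mul_assoc, one_mul]
  -- `c ^ (p ^ j) = 1`
  obtain ⟨j, hj⟩ := hpow t
  have hnt : Nontrivial V := ((isIrreducible_iff ρ).mp hρ).1
  have hfr : 0 < finrank ℂ V := Module.finrank_pos
  have hcp : c ^ p ^ j = 1 := by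
    have e1 : σ₂ (t ^ p ^ j) = σ₁ (t ^ p ^ j) := by
      rw [h₁ ⟨_, hj⟩, h₂ ⟨_, hj⟩]
    rw [map_pow, map_pow, hσ, smul_pow] at e1
    -- c^(p^j) • X = X with X invertible
    have hX : σ₁ t ^ p ^ j * σ₁ t⁻¹ ^ p ^ j = 1 := by
      rw [← map_pow, ← map_pow, ← map_mul, inv_pow, mul_inv_cancel, map_one]
    have := congrArg (fun X => X * σ₁ t⁻¹ ^ p ^ j) e1
    beta_reduce at this
    rw [smul_mul_assoc, hX] at this
    have h1 : (c ^ p ^ j - 1) • (1 : V →ₗ[ℂ] V) = 0 := by
      rw [sub_smul, this, one_smul, sub_self]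
    rcases smul_eq_zero.mp h1 with h | h
    · exact sub_eq_zero.mp h
    · exact absurd h one_ne_zero
  -- `c ^ (n * m) = 1`
  have hcm : c ^ (finrank ℂ V * m) = 1 := by
    have e1 : repDet σ₂ t = c ^ finrank ℂ V * repDet σ₁ t := by
      rw [repDet, hσ, LinearMap.det_smul, ← repDet]
    have e2 := hd₂ t
    rw [e1, mul_pow, hd₁ t, mul_one, ← pow_mul] at e2
    exact e2
  have hcop : Nat.Coprime (finrank ℂ V * m) (p ^ j) := by
    apply Nat.Coprime.pow_right
    apply Nat.Coprime.mul_left _ hm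
    exact ((Nat.Prime.coprime_iff_not_dvd hp).mpr hV).symm
  have hc1 : c = 1 := by
    have h1 : orderOf c ∣ finrank ℂ V * m := orderOf_dvd_of_pow_eq_one hcm
    have h2 : orderOf c ∣ p ^ j := orderOf_dvd_of_pow_eq_one hcp
    have h3 : orderOf c = 1 := Nat.eq_one_of_dvd_coprimes hcop h1 h2
    exact orderOf_eq_one_iff.mp h3
  rw [hσ, hc1, one_smul]

end Uniqueness

section NormalStep

theorem exists_normal_step {G : Type*} [Group G] [Finite G] (p : ℕ) [hp : Fact p.Prime] (a : ℕ)
    (N : Subgroup G) [hN : N.Normal] (hidx : N.index = p ^ (a + 1)) :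
    ∃ T : Subgroup G, T.Normal ∧ N ≤ T ∧ T.index = p ^ a ∧ N.relIndex T = p ∧
      ∀ t ∈ T, t ^ p ∈ N := by
  classical
  have hcard : Nat.card (G ⧸ N) = p ^ (a + 1) := by rw [← Subgroup.index_eq_card]; exact hidx
  have hQ : IsPGroup p (G ⧸ N) := IsPGroup.of_card hcard
  haveI : Nontrivial (G ⧸ N) := by
    apply (Finite.one_lt_card_iff_nontrivial).mp
    rw [hcard]
    exact Nat.one_lt_pow (Nat.succ_ne_zero a) hp.out.one_lt
  haveI : Nontrivial (Subgroup.center (G ⧸ N)) := hQ.center_nontrivial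
  have hZ : IsPGroup p (Subgroup.center (G ⧸ N)) := hQ.to_subgroup _
  have hdvd : p ∣ Nat.card (Subgroup.center (G ⧸ N)) := by
    obtain ⟨k, hk⟩ := IsPGroup.iff_card.mp hZ
    rw [hk]
    have hk0 : k ≠ 0 := by
      rintro rfl
      have h1 : 1 < Nat.card (Subgroup.center (G ⧸ N)) := Finite.one_lt_card
      rw [hk] at h1
      simp at h1
    exact dvd_pow_self p hk0
  obtain ⟨z, hz⟩ := exists_prime_orderOf_dvd_card' p hdvd
  have hzo : orderOf (z : G ⧸ N) = p := by rw [Subgroup.orderOf_coe]; exact hz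
  have hZn : (Subgroup.zpowers (z : G ⧸ N)).Normal := by
    refine ⟨fun x hx g => ?_⟩
    obtain ⟨k, rfl⟩ := Subgroup.mem_zpowers_iff.mp hx
    have hzc : ∀ g : G ⧸ N, g * (z : G ⧸ N) = (z : G ⧸ N) * g := fun g =>
      Subgroup.mem_center_iff.mp z.2 g
    have : g * (z : G ⧸ N) ^ k * g⁻¹ = (z : G ⧸ N) ^ k := by
      have hc : Commute g ((z : G ⧸ N) ^ k) := (show Commute g (z : G ⧸ N) from hzc g).zpow_right k
      rw [hc.eq, mul_assoc, mul_inv_cancel, mul_one]
    rw [this]
    exact Subgroup.zpow_mem_zpowers _ _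
  have hTi : ((Subgroup.zpowers (z : G ⧸ N)).comap (QuotientGroup.mk' N)).index = p ^ a := by
    rw [Subgroup.index_comap_of_surjective _ (QuotientGroup.mk'_surjective N)]
    have h1 := (Subgroup.zpowers (z : G ⧸ N)).card_mul_index
    rw [Nat.card_zpowers, hzo, hcard, pow_succ, mul_comm] at h1
    exact Nat.eq_of_mul_eq_mul_right hp.out.pos h1
  have hNT : N ≤ (Subgroup.zpowers (z : G ⧸ N)).comap (QuotientGroup.mk' N) := by
    intro n hn
    rw [Subgroup.mem_comap]
    have : QuotientGroup.mk' N n = 1 := (QuotientGroup.eq_one_iff n).mpr hn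
    rw [this]
    exact one_mem _
  refine ⟨(Subgroup.zpowers (z : G ⧸ N)).comap (QuotientGroup.mk' N), ?_, hNT, hTi, ?_, ?_⟩
  · exact hZn.comap _
  · have h1 := Subgroup.relIndex_mul_index hNT
    rw [hTi, hidx, pow_succ, mul_comm] at h1
    exact Nat.eq_of_mul_eq_mul_left (pow_pos hp.out.pos a) h1
  · intro t ht
    rw [Subgroup.mem_comap] at ht
    obtain ⟨k, hk⟩ := Subgroup.mem_zpowers_iff.mp ht
    rw [← QuotientGroup.eq_one_iff, QuotientGroup.mk_pow]
    have : (QuotientGroup.mk' N t) = (t : G ⧸ N) := rfl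
    rw [← this, ← hk, ← zpow_natCast, ← zpow_mul, mul_comm, zpow_mul, zpow_natCast, ← hzo,
      pow_orderOf_eq_one, one_zpow]

end NormalStep

section Step

variable {G : Type u} [Group G] [Finite G]
variable {V : Type v} [AddCommGroup V] [Module ℂ V] [FiniteDimensional ℂ V]

theorem exists_twist_exponent (p : ℕ) (hp : p.Prime) (K : ℕ) (hK : K.Coprime p) :
    ∃ u : ℕ, p ∣ K * u + 1 := by
  obtain ⟨w, -, hw⟩ := Nat.exists_mul_mod_eq_one_of_coprime hK hp.one_lt
  refine ⟨w * (p - 1), ?_⟩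
  have h1 : K * w ≡ 1 [MOD p] := by
    rw [Nat.ModEq, hw, Nat.mod_eq_of_lt hp.one_lt]
  have h2 : K * (w * (p - 1)) + 1 ≡ 1 * (p - 1) + 1 [MOD p] := by
    rw [← mul_assoc]
    exact (h1.mul_right _).add_right _
  rw [one_mul, Nat.sub_add_cancel hp.one_lt.le] at h2
  exact (Nat.modEq_zero_iff_dvd.mp (h2.trans (Nat.modEq_zero_iff_dvd.mpr dvd_rfl)))

theorem exists_step_extension (p : ℕ) [hp : Fact p.Prime]
    (N T : Subgroup G) [hN : N.Normal] [hT : T.Normal] (hNT : N ≤ T) (hrel : N.relIndex T = p)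
    (hpow : ∀ t ∈ T, t ^ p ∈ N)
    (ρ : Representation ℂ N V) (hρ : ρ.IsIrreducible)
    (hinv : ∀ (g : G) (n : N), ρ.character (MulAut.conjNormal g n) = ρ.character n)
    (m : ℕ) (hm : m.Coprime p) (hV : ¬ p ∣ finrank ℂ V) (hd : ∀ n : N, repDet ρ n ^ m = 1) :
    ∃ σ : Representation ℂ T V, σ.IsIrreducible ∧ (∀ n : N, σ ⟨n, hNT n.2⟩ = ρ n) ∧
      (∀ (g : G) (t : T), σ.character (MulAut.conjNormal g t) = σ.character t) ∧
      ∀ t : T, repDet σ t ^ m = 1 := by
  classical
  letI : Fintype G := Fintype.ofFinite G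
  letI : Fintype T := Fintype.ofFinite T
  letI : Fintype N := Fintype.ofFinite N
  set N' : Subgroup T := N.subgroupOf T with hN'
  haveI hN'n : N'.Normal := Subgroup.normal_subgroupOf
  letI : Fintype N' := Fintype.ofFinite N'
  let e : N' ≃* N := Subgroup.subgroupOfEquivOfLe hNT
  have he : ∀ n : N', ((e n : N) : G) = ((n : T) : G) := fun n => rfl
  let ρ' : Representation ℂ N' V := compRep ρ e.toMonoidHom
  have hρ'a : ∀ n : N', ρ' n = ρ (e n) := fun n => rfl
  have hρ' : ρ'.IsIrreducible := isIrreducible_comp_surjective _ e.surjective ρ hρ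
  have hcyc : IsCyclic (T ⧸ N') := by
    have : Nat.card (T ⧸ N') = p := by rw [← Subgroup.index_eq_card]; exact hrel
    exact isCyclic_of_prime_card this
  have hconj : ∀ (g : G) (n : N'), ∃ n₂ : N', ((n₂ : T) : G) = g * ((n : T) : G) * g⁻¹ ∧
      e n₂ = MulAut.conjNormal g (e n) := by
    intro g n
    have h1 : g * ((n : T) : G) * g⁻¹ ∈ T := hT.conj_mem _ (n : T).2 g
    have h2 : g * ((n : T) : G) * g⁻¹ ∈ N := hN.conj_mem _ (e n).2 g
    refine ⟨⟨⟨_, h1⟩, h2⟩, rfl, ?_⟩
    apply Subtype.ext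
    rw [MulAut.conjNormal_apply]
    rfl
  have hinv' : ∀ (t : T) (n : N'), ρ'.character (MulAut.conjNormal t n) = ρ'.character n := by
    intro t n
    show ρ.character (e (MulAut.conjNormal t n)) = ρ.character (e n)
    have : e (MulAut.conjNormal t n) = MulAut.conjNormal (t : G) (e n) := by
      apply Subtype.ext
      rw [MulAut.conjNormal_apply, he, MulAut.conjNormal_apply]
      rfl
    rw [this, hinv]
  obtain ⟨ρT, hρT⟩ := exists_extension_of_cyclic N' hcyc ρ' hρ' hinv'
  set n := finrank ℂ V with hn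
  have hKcop : (m * n).Coprime p :=
    Nat.Coprime.mul_left hm ((Nat.Prime.coprime_iff_not_dvd hp.out).mpr hV).symm
  obtain ⟨u, hu⟩ := exists_twist_exponent p hp.out (m * n) hKcop
  -- determinant of ρT on N'
  have hdT : ∀ n' : N', repDet ρT (n' : T) ^ m = 1 := by
    intro n'
    have : repDet ρT (n' : T) = repDet ρ (e n') := by
      unfold repDet
      rw [hρT n', hρ'a]
    rw [this, hd]
  set σ : Representation ℂ T V := detTwist ρT (m * u) with hσ
  have hσN' : ∀ n' : N', σ (n' : T) = ρ' n' := by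
    intro n'
    rw [hσ, detTwist_apply, pow_mul, hdT n', one_pow, one_smul, hρT]
  have hpowT : ∀ t : T, t ^ p ∈ N' := by
    intro t
    rw [hN', Subgroup.mem_subgroupOf]
    have := hpow t t.2
    simpa using this
  have hdσ : ∀ t : T, repDet σ t ^ m = 1 := by
    intro t
    rw [hσ, repDet_detTwist, ← pow_mul, mul_comm _ m, pow_mul]
    obtain ⟨q, hq⟩ := hu
    have h1 : m * u * n + 1 = p * q := by rw [← hq]; ring
    rw [h1, pow_mul, ← pow_mul (repDet ρT t), mul_comm m p, pow_mul, ← repDet_pow]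
    have := hdT ⟨t ^ p, hpowT t⟩
    rw [this, one_pow]
  have hσirr : σ.IsIrreducible := isIrreducible_of_restrict N' ρ' hρ' σ hσN'
  refine ⟨σ, hσirr, ?_, ?_, hdσ⟩
  · intro k
    have h1 : (⟨k, hNT k.2⟩ : T) = ((e.symm k : N') : T) := by
      apply Subtype.ext
      rw [← he, MulEquiv.apply_symm_apply]
    rw [h1, hσN', hρ'a, MulEquiv.apply_symm_apply]
  · intro g t
    obtain ⟨M, hM⟩ := exists_intertwiner N ρ hρ g (hinv g)
    -- the conjugated representation
    let σ₂ : Representation ℂ T V :=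
      { toFun := fun t => (M⁻¹ : (V →ₗ[ℂ] V)ˣ).val * σ (MulAut.conjNormal g t) * M.val
        map_one' := by
          rw [map_one, map_one, mul_one, ← Units.val_mul, inv_mul_cancel, Units.val_one]
        map_mul' := by
          intro a b
          rw [map_mul, map_mul]
          have : M.val * (M⁻¹ : (V →ₗ[ℂ] V)ˣ).val = 1 := by
            rw [← Units.val_mul, mul_inv_cancel, Units.val_one]
          calc (M⁻¹ : (V →ₗ[ℂ] V)ˣ).val * (σ (MulAut.conjNormal g a) * σ (MulAut.conjNormal g b))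
                  * M.val
              = (M⁻¹ : (V →ₗ[ℂ] V)ˣ).val * σ (MulAut.conjNormal g a) * 1 *
                  σ (MulAut.conjNormal g b) * M.val := by
                simp only [mul_one, mul_assoc]
            _ = _ := by
                rw [← this]
                simp only [mul_assoc] }
    have hσ₂a : ∀ t : T, σ₂ t = (M⁻¹ : (V →ₗ[ℂ] V)ˣ).val * σ (MulAut.conjNormal g t) * M.val :=
      fun t => rfl
    have hσ₂N' : ∀ n' : N', σ₂ (n' : T) = ρ' n' := by
      intro n'
      obtain ⟨n₂, hn₂, hen₂⟩ := hconj g n'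
      have h1 : MulAut.conjNormal g (n' : T) = (n₂ : T) := by
        apply Subtype.ext
        rw [MulAut.conjNormal_apply, hn₂]
      rw [hσ₂a, h1, hσN', hρ'a, hen₂, hρ'a]
      have h2 := congrArg Units.val (hM (e n'))
      rw [Units.val_mul, Units.val_mul, Representation.asGroupHom_apply,
        Representation.asGroupHom_apply] at h2
      rw [← h2]
      have h3 : (M⁻¹ : (V →ₗ[ℂ] V)ˣ).val * M.val = 1 := by
        rw [← Units.val_mul, inv_mul_cancel, Units.val_one]
      calc (M⁻¹ : (V →ₗ[ℂ] V)ˣ).val * (M.val * ρ (e n') * (M⁻¹ : (V →ₗ[ℂ] V)ˣ).val) * M.val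
          = ((M⁻¹ : (V →ₗ[ℂ] V)ˣ).val * M.val) * ρ (e n') *
              ((M⁻¹ : (V →ₗ[ℂ] V)ˣ).val * M.val) := by simp only [mul_assoc]
        _ = ρ (e n') := by rw [h3, one_mul, mul_one]
    have hdσ₂ : ∀ t : T, repDet σ₂ t ^ m = 1 := by
      intro t
      have : repDet σ₂ t = repDet σ (MulAut.conjNormal g t) := by
        unfold repDet
        rw [hσ₂a, map_mul, map_mul, mul_comm, ← mul_assoc, ← map_mul, ← Units.val_mul,
          mul_inv_cancel, Units.val_one, map_one, one_mul]
      rw [this, hdσ]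
    have heq : σ = σ₂ :=
      rep_eq_of_agree_on_normal p hp.out N' σ σ₂ ρ' hρ' hσN' hσ₂N'
        (fun t => ⟨1, by rw [pow_one]; exact hpowT t⟩) m hm hV hdσ hdσ₂
    have h4 : σ.character t = σ₂.character t := by rw [← heq]
    rw [h4]
    show LinearMap.trace ℂ V (σ (MulAut.conjNormal g t)) = LinearMap.trace ℂ V (σ₂ t)
    rw [hσ₂a, LinearMap.trace_mul_comm, ← mul_assoc, ← Units.val_mul, mul_inv_cancel,
      Units.val_one, one_mul]

end Step

section Main

variable {G : Type u} [Group G] [Finite G]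
variable {V : Type v} [AddCommGroup V] [Module ℂ V] [FiniteDimensional ℂ V]

theorem exists_extension_of_pgroup_quotient_aux (p : ℕ) [hp : Fact p.Prime] (m : ℕ)
    (hm : m.Coprime p) (hV : ¬ p ∣ finrank ℂ V) :
    ∀ a : ℕ, ∀ (N : Subgroup G) [hN : N.Normal], N.index = p ^ a →
      ∀ (ρ : Representation ℂ N V), ρ.IsIrreducible →
        (∀ (g : G) (n : N), ρ.character (MulAut.conjNormal g n) = ρ.character n) →
        (∀ n : N, repDet ρ n ^ m = 1) →
        ∃ ρ' : Representation ℂ G V, ∀ n : N, ρ' (n : G) = ρ n := by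
  intro a
  induction a with
  | zero =>
    intro N hN hidx ρ hρ hinv hd
    have htop : N = ⊤ := by rw [pow_zero] at hidx; exact Subgroup.index_eq_one.mp hidx
    let f : G →* N :=
      { toFun := fun g => ⟨g, by rw [htop]; trivial⟩
        map_one' := rfl
        map_mul' := fun _ _ => rfl }
    refine ⟨compRep ρ f, fun n => ?_⟩
    rw [compRep_apply]
    congr 1
  | succ a ih =>
    intro N hN hidx ρ hρ hinv hd
    obtain ⟨T, hTn, hNT, hTi, hrel, hpow⟩ := exists_normal_step p a N hidx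
    haveI := hTn
    obtain ⟨σ, hσirr, hσN, hσinv, hσd⟩ :=
      exists_step_extension p N T hNT hrel hpow ρ hρ hinv m hm hV hd
    obtain ⟨ρ', hρ'⟩ := ih T hTi σ hσirr hσinv hσd
    refine ⟨ρ', fun n => ?_⟩
    have := hρ' ⟨n, hNT n.2⟩
    rw [hσN] at this
    exact this

/-- **Coprime extension over a `p`-group quotient** (representation form). -/
theorem exists_extension_of_pgroup_quotient (p : ℕ) [hp : Fact p.Prime] (N : Subgroup G)
    [hN : N.Normal] (a : ℕ) (hidx : N.index = p ^ a) (ρ : Representation ℂ N V)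
    (hρ : ρ.IsIrreducible)
    (hinv : ∀ (g : G) (n : N), ρ.character (MulAut.conjNormal g n) = ρ.character n)
    (hV : ¬ p ∣ finrank ℂ V) (m : ℕ) (hm : m.Coprime p) (hd : ∀ n : N, repDet ρ n ^ m = 1) :
    ∃ ρ' : Representation ℂ G V, ρ'.IsIrreducible ∧ ∀ n : N, ρ' (n : G) = ρ n := by
  letI : Fintype G := Fintype.ofFinite G
  obtain ⟨ρ', hρ'⟩ := exists_extension_of_pgroup_quotient_aux p m hm hV a N hidx ρ hρ hinv hd
  exact ⟨ρ', isIrreducible_of_restrict N ρ hρ ρ' hρ', hρ'⟩

/-- The determinant of a representation has order dividing the index of the commutator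
subgroup. -/
theorem repDet_pow_index_commutator {H : Type u} [Group H] [Finite H]
    (ρ : Representation ℂ H V) (h : H) : repDet ρ h ^ (commutator H).index = 1 := by
  let f : H →* ℂˣ := (Units.map (LinearMap.det : (V →ₗ[ℂ] V) →* ℂ)).comp ρ.asGroupHom
  have hf : ∀ x : H, ((f x : ℂˣ) : ℂ) = repDet ρ x := fun x => rfl
  have hker : commutator H ≤ f.ker := Abelianization.commutator_subset_ker f
  have hpow : h ^ (commutator H).index ∈ commutator H := by
    rw [← QuotientGroup.eq_one_iff, QuotientGroup.mk_pow, Subgroup.index_eq_card]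
    exact pow_card_eq_one'
  have := hker hpow
  rw [MonoidHom.mem_ker, map_pow] at this
  rw [← hf, ← Units.val_pow_eq_pow_val, this, Units.val_one]

/-- **Coprime extension over a `p`-group quotient** (character form): a `G`-invariant irreducible
character `θ` of a normal subgroup `N` of `p`-power index, with `p ∤ θ(1)` and `p ∤ |N : N'|`,
extends to an irreducible character of `G`. -/
theorem exists_irr_extension_of_pgroup_quotient (p : ℕ) [hp : Fact p.Prime] (N : Subgroup G)
    [hN : N.Normal] (a : ℕ) (hidx : N.index = p ^ a) (θ : N → ℂ) (hθ : IsIrrCharacter N θ)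
    (hinv : ∀ (g : G) (n : N), θ (MulAut.conjNormal g n) = θ n)
    (hdeg : ¬ p ∣ charDegree θ) (hab : ¬ p ∣ (commutator N).index) :
    ∃ χ : G → ℂ, IsIrrCharacter G χ ∧ ∀ n : N, χ (n : G) = θ n := by
  obtain ⟨n, ρ, hρ, rfl⟩ := hθ
  have hdeg' : charDegree ρ.character = finrank ℂ (Fin n → ℂ) := by
    apply charDegree_natCast
    rw [Representation.char_one]
  rw [hdeg'] at hdeg
  obtain ⟨ρ', hρ'irr, hρ'⟩ := exists_extension_of_pgroup_quotient p N a hidx ρ hρ hinv hdeg
    (commutator N).index ((Nat.Prime.coprime_iff_not_dvd hp.out).mpr hab).symm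
    (repDet_pow_index_commutator ρ)
  refine ⟨ρ'.character, isIrrCharacter_of_rep ρ' hρ'irr, fun k => ?_⟩
  show LinearMap.trace ℂ _ (ρ' (k : G)) = LinearMap.trace ℂ _ (ρ k)
  rw [hρ']

end Main

end Cfsg.Agent.Helper24
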