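import Mathlib

/-!
# Sylow subgroups of a subgroup, in the ambient group (helper24's shared library)

`IsSylIn r A R`: the subgroup `R` of `G` is a Sylow `r`-subgroup of the subgroup `A`.
Existence, maximality, index, conjugacy (with the conjugating element in `A`), intersection with a
subgroup normalized by `A`, and the Frattini argument.
-/

set_option autoImplicit false
set_option linter.style.haveILetI false
set_option linter.unusedSectionVars false

namespace Cfsg.Agent.Helper24.SylIn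

open Subgroup

variable {G : Type*} [Group G]

/-- `R` is (the image in the ambient group of) a Sylow `r`-subgroup of `A`. -/
def IsSylIn (r : ℕ) (A R : Subgroup G) : Prop :=
  ∃ P : Sylow r ↥A, (P : Subgroup ↥A).map A.subtype = R

theorem IsSylIn.le {r : ℕ} {A R : Subgroup G} (h : IsSylIn r A R) : R ≤ A := by
  obtain ⟨P, rfl⟩ := h
  exact Subgroup.map_subtype_le _

theorem IsSylIn.isPGroup {r : ℕ} {A R : Subgroup G} (h : IsSylIn r A R) : IsPGroup r R := by
  obtain ⟨P, rfl⟩ := h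
  exact P.isPGroup'.map _

/-- Every `r`-subgroup of `A` lies in a Sylow `r`-subgroup of `A`. -/
theorem exists_isSylIn_ge {r : ℕ} {A T : Subgroup G} (hTA : T ≤ A) (hT : IsPGroup r T) :
    ∃ R, IsSylIn r A R ∧ T ≤ R := by
  have hT' : IsPGroup r (T.subgroupOf A) :=
    hT.comap_of_injective _ (Subgroup.subtype_injective A)
  obtain ⟨P, hP⟩ := hT'.exists_le_sylow
  refine ⟨_, ⟨P, rfl⟩, ?_⟩
  intro x hx
  exact ⟨⟨x, hTA hx⟩, hP (by rw [Subgroup.mem_subgroupOf]; exact hx), rfl⟩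

theorem exists_isSylIn (r : ℕ) (A : Subgroup G) : ∃ R, IsSylIn r A R := by
  obtain ⟨R, hR, _⟩ := exists_isSylIn_ge (r := r) (A := A) (T := ⊥) bot_le IsPGroup.of_bot
  exact ⟨R, hR⟩

/-- Maximality. -/
theorem IsSylIn.eq_of_le {r : ℕ} {A R Q : Subgroup G} (h : IsSylIn r A R) (hQ : IsPGroup r Q)
    (hRQ : R ≤ Q) (hQA : Q ≤ A) : Q = R := by
  obtain ⟨P, rfl⟩ := h
  have h1 : IsPGroup r (Q.subgroupOf A) := hQ.comap_of_injective _ (Subgroup.subtype_injective A)
  have h2 : (P : Subgroup ↥A) ≤ Q.subgroupOf A := by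
    intro x hx
    rw [Subgroup.mem_subgroupOf]
    exact hRQ ⟨x, hx, rfl⟩
  have h3 := P.is_maximal' h1 h2
  rw [← h3, Subgroup.map_subgroupOf_eq_of_le hQA]

theorem IsSylIn.of_le {r : ℕ} {A B R : Subgroup G} (h : IsSylIn r A R) (hRB : R ≤ B)
    (hBA : B ≤ A) : IsSylIn r B R := by
  obtain ⟨R', hR', hle⟩ := exists_isSylIn_ge (r := r) hRB h.isPGroup
  have := h.eq_of_le hR'.isPGroup hle (hR'.le.trans hBA)
  rwa [this] at hR'

/-- The index of a Sylow subgroup. -/
theorem IsSylIn.not_dvd_relIndex {r : ℕ} [Fact r.Prime] {A R : Subgroup G} [Finite A]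
    (h : IsSylIn r A R) : ¬ r ∣ R.relIndex A := by
  obtain ⟨P, rfl⟩ := h
  have : ((P : Subgroup ↥A).map A.subtype).subgroupOf A = (P : Subgroup ↥A) :=
    Subgroup.comap_map_eq_self_of_injective (Subgroup.subtype_injective A) _
  rw [Subgroup.relIndex, this]
  exact P.not_dvd_index

/-- Conjugacy: every `r`-subgroup of `A` is conjugate under `A` to a subgroup of `R`. -/
theorem IsSylIn.exists_conj_le {r : ℕ} [Fact r.Prime] {A R T : Subgroup G} [Finite A]
    (h : IsSylIn r A R) (hTA : T ≤ A) (hT : IsPGroup r T) :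
    ∃ a ∈ A, ∀ t ∈ T, a * t * a⁻¹ ∈ R := by
  obtain ⟨P, rfl⟩ := h
  have hT' : IsPGroup r (T.subgroupOf A) :=
    hT.comap_of_injective _ (Subgroup.subtype_injective A)
  obtain ⟨Q, hQ⟩ := hT'.exists_le_sylow
  obtain ⟨g, hg⟩ := MulAction.exists_smul_eq ↥A Q P
  refine ⟨g, g.2, fun t ht => ?_⟩
  have htQ : (⟨t, hTA ht⟩ : ↥A) ∈ (Q : Subgroup ↥A) := hQ (by
    rw [Subgroup.mem_subgroupOf]; exact ht)
  have : g * ⟨t, hTA ht⟩ * g⁻¹ ∈ (P : Subgroup ↥A) := by
    have h1 : g * ⟨t, hTA ht⟩ * g⁻¹ ∈ ((g • Q : Sylow r ↥A) : Subgroup ↥A) := by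
      rw [Sylow.coe_subgroup_smul]
      exact ⟨_, htQ, by simp [MulAut.conj_apply]⟩
    rwa [hg] at h1
  exact ⟨_, this, by simp⟩

/-- A Sylow subgroup of `A` meets a subgroup `N` normalized by `A` in a Sylow subgroup of `N`. -/
theorem IsSylIn.inf_normal {r : ℕ} [Fact r.Prime] {A R N : Subgroup G} [Finite A]
    (h : IsSylIn r A R) (hNA : N ≤ A) (hnorm : ∀ a ∈ A, ∀ n ∈ N, a * n * a⁻¹ ∈ N) :
    IsSylIn r N (R ⊓ N) := by
  obtain ⟨R', hR', hle⟩ := exists_isSylIn_ge (r := r) (A := N) (T := R ⊓ N) inf_le_right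
    (h.isPGroup.to_le inf_le_left)
  obtain ⟨a, haA, ha⟩ := h.exists_conj_le (hR'.le.trans hNA) hR'.isPGroup
  haveI : Finite ↥(R ⊓ N) := Finite.of_injective (fun x : ↥(R ⊓ N) => (⟨x, hNA x.2.2⟩ : ↥A))
    (fun x y hxy => Subtype.ext (by simpa using hxy))
  haveI : Finite ↥R' := Finite.of_injective (fun x : ↥R' => (⟨x, hNA (hR'.le x.2)⟩ : ↥A))
    (fun x y hxy => Subtype.ext (by simpa using hxy))
  have hcard : Nat.card ↥R' ≤ Nat.card ↥(R ⊓ N) := by
    refine Nat.card_le_card_of_injective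
      (fun x : ↥R' => (⟨a * x * a⁻¹, ha x x.2, hnorm a haA x (hR'.le x.2)⟩ : ↥(R ⊓ N))) ?_
    intro x y hxy
    have : a * (x : G) * a⁻¹ = a * (y : G) * a⁻¹ := congrArg Subtype.val hxy
    exact Subtype.ext (mul_left_cancel (mul_right_cancel this))
  have := Subgroup.eq_of_le_of_card_ge hle hcard
  rwa [this]

/-- **Frattini argument**. -/
theorem IsSylIn.normalizer_sup_eq_top {r : ℕ} [Fact r.Prime] {A R : Subgroup G} [Finite A]
    [A.Normal] (h : IsSylIn r A R) : Subgroup.normalizer (R : Set G) ⊔ A = ⊤ := by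
  obtain ⟨P, rfl⟩ := h
  exact Sylow.normalizer_sup_eq_top P

end Cfsg.Agent.Helper24.SylIn
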