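import Mathlib
import Cfsg.Agent.Lib.Helper24.SylIn

/-!
# The Broline–Garrison argument, group-theoretic part (helper24's shared library)

Data: `K ≤ L` normal subgroups of the finite group `G`, `|L : K|` a power of the prime `r`,
`R` a Sylow `r`-subgroup of `L`.  Then `G = K N_G(R)`, a normal subgroup `M` with
`M ∩ N_G(R) ≤ K` lies in `K`, a normal subgroup `N ≤ L` with `R ∩ N ≤ K` lies in `K`, and
`R ∩ C` is normal in `G` for every normal subgroup `C ≤ N_G(R)`.
-/

set_option autoImplicit false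
set_option linter.style.haveILetI false
set_option linter.unusedSectionVars false

namespace Cfsg.Agent.Helper24.BGG

open Subgroup Cfsg.Agent.Helper24.SylIn
open scoped Pointwise

variable {G : Type*} [Group G] [Finite G]

theorem nat_eq_one {r n m a : ℕ} (hr : r.Prime) (h1 : n ∣ r ^ a) (h2 : n ∣ m) (h3 : ¬ r ∣ m) :
    n = 1 := by
  obtain ⟨b, _, rfl⟩ := (Nat.dvd_prime_pow hr).mp h1
  rcases Nat.eq_zero_or_pos b with hb | hb
  · rw [hb, pow_zero]
  · exact absurd ((dvd_pow_self r hb.ne').trans h2) h3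

/-- The group-theoretic data of the Broline–Garrison argument. -/
structure Data (r : ℕ) (K L R : Subgroup G) : Prop where
  hKL : K ≤ L
  hsyl : IsSylIn r L R
  hidx : ∃ a : ℕ, K.relIndex L = r ^ a

variable {r : ℕ} [Fact r.Prime] {K L R : Subgroup G} [K.Normal] [L.Normal]

theorem Data.le_sup (d : Data r K L R) : L ≤ K ⊔ R := by
  obtain ⟨a, ha⟩ := d.hidx
  have h1 : (K ⊔ R).relIndex L ∣ K.relIndex L := relIndex_dvd_of_le_left L le_sup_left
  have h2 : (K ⊔ R).relIndex L ∣ R.relIndex L := relIndex_dvd_of_le_left L le_sup_right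
  rw [ha] at h1
  exact relIndex_eq_one.mp (nat_eq_one (Fact.out : r.Prime) h1 h2 d.hsyl.not_dvd_relIndex)

theorem Data.sup_normalizer (d : Data r K L R) : K ⊔ Subgroup.normalizer (R : Set G) = ⊤ := by
  have h1 := d.hsyl.normalizer_sup_eq_top
  rw [eq_top_iff, ← h1]
  apply sup_le le_sup_right
  refine d.le_sup.trans (sup_le le_sup_left ?_)
  exact le_trans Subgroup.le_normalizer le_sup_right

theorem Data.le_of_inf_le (d : Data r K L R) {N : Subgroup G} [N.Normal] (hNL : N ≤ L)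
    (hRN : R ⊓ N ≤ K) : N ≤ K := by
  obtain ⟨a, ha⟩ := d.hidx
  have hs : IsSylIn r N (R ⊓ N) :=
    d.hsyl.inf_normal hNL (fun a _ n hn => Subgroup.Normal.conj_mem inferInstance n hn a)
  have h3 := hs.not_dvd_relIndex
  have h2 : K.relIndex N ∣ (R ⊓ N).relIndex N := relIndex_dvd_of_le_left N hRN
  have h1 : K.relIndex N ∣ r ^ a := by
    rw [← ha, ← relIndex_sup_right (H := N) (K := K),
      ← relIndex_mul_relIndex K (N ⊔ K) L le_sup_right (sup_le hNL d.hKL)]
    exact dvd_mul_right _ _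
  exact relIndex_eq_one.mp (nat_eq_one (Fact.out : r.Prime) h1 h2 h3)

theorem Data.le_of_inf_normalizer_le (d : Data r K L R) {M : Subgroup G} [M.Normal]
    (hM : M ⊓ Subgroup.normalizer (R : Set G) ≤ K) : M ≤ K := by
  have hRL := d.hsyl.le
  have hML : M ⊓ L ≤ K := by
    haveI : (M ⊓ L).Normal := Subgroup.normal_inf_normal M L
    apply d.le_of_inf_le inf_le_right
    intro x hx
    exact hM ⟨hx.2.1, Subgroup.le_normalizer hx.1⟩
  intro m hm
  -- `W = (M ⊓ L) R`
  set W : Subgroup G := R ⊔ (M ⊓ L) with hW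
  have hWL : W ≤ L := sup_le hRL inf_le_right
  have hsW : IsSylIn r W R := d.hsyl.of_le le_sup_left hWL
  -- the conjugate of `R` by `m`
  set T : Subgroup G := R.map (MulAut.conj m).toMonoidHom with hT
  have hTp : IsPGroup r T := d.hsyl.isPGroup.map _
  have hTW : T ≤ W := by
    rintro _ ⟨x, hx, rfl⟩
    have hxL : x ∈ L := hRL hx
    have h1 : m * x * m⁻¹ * x⁻¹ ∈ M ⊓ L := by
      refine ⟨?_, ?_⟩
      · have : x * m⁻¹ * x⁻¹ ∈ M := Subgroup.Normal.conj_mem inferInstance _ (M.inv_mem hm) x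
        have h2 := M.mul_mem hm this
        have e : m * (x * m⁻¹ * x⁻¹) = m * x * m⁻¹ * x⁻¹ := by group
        rwa [e] at h2
      · have : m * x * m⁻¹ ∈ L := Subgroup.Normal.conj_mem inferInstance _ hxL m
        exact L.mul_mem this (L.inv_mem hxL)
    have h2 : (m * x * m⁻¹ * x⁻¹) * x ∈ W :=
      W.mul_mem ((le_sup_right : M ⊓ L ≤ W) h1) ((le_sup_left : R ≤ W) hx)
    have e : (m * x * m⁻¹ * x⁻¹) * x = m * x * m⁻¹ := by group
    rw [e] at h2
    simpa [MulAut.conj_apply] using h2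
  obtain ⟨w, hwW, hw⟩ := hsW.exists_conj_le hTW hTp
  -- `w = x * b`
  haveI : (M ⊓ L).Normal := Subgroup.normal_inf_normal M L
  have hwmem : w ∈ (R : Set G) * ((M ⊓ L : Subgroup G) : Set G) := by
    rw [← Subgroup.mul_normal R (M ⊓ L)]
    exact hwW
  obtain ⟨x, hx, b, hb, rfl⟩ := hwmem
  have hx : x ∈ R := hx
  have hb : b ∈ M ⊓ L := hb
  -- `b * m` normalizes `R`
  have hbm : b * m ∈ Subgroup.normalizer (R : Set G) := by
    haveI : Finite (R : Set G) := inferInstance
    apply Subgroup.mem_normalizer_fintype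
    intro y hy
    have hy : y ∈ R := hy
    have h1 := hw (m * y * m⁻¹) ⟨y, hy, by simp [MulAut.conj_apply]⟩
    have h2 : x⁻¹ * (x * b * (m * y * m⁻¹) * (x * b)⁻¹) * x ∈ R :=
      R.mul_mem (R.mul_mem (R.inv_mem hx) h1) hx
    have e : x⁻¹ * (x * b * (m * y * m⁻¹) * (x * b)⁻¹) * x = b * m * y * (b * m)⁻¹ := by group
    rw [e] at h2
    exact h2
  have hbmK : b * m ∈ K := hM ⟨M.mul_mem hb.1 hm, hbm⟩
  have hbK : b ∈ K := hML hb
  have := K.mul_mem (K.inv_mem hbK) hbmK
  rwa [inv_mul_cancel_left] at this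

theorem Data.inf_normal (d : Data r K L R) {C : Subgroup G} [C.Normal]
    (hC : C ≤ Subgroup.normalizer (R : Set G)) : (R ⊓ C).Normal := by
  constructor
  intro x hx g
  refine ⟨?_, Subgroup.Normal.conj_mem inferInstance x hx.2 g⟩
  set T : Subgroup G := (R ⊓ C).map (MulAut.conj g).toMonoidHom with hT
  have hTp : IsPGroup r T := (d.hsyl.isPGroup.to_le inf_le_left).map _
  have hTC : T ≤ C := by
    rintro _ ⟨y, hy, rfl⟩
    simpa [MulAut.conj_apply] using Subgroup.Normal.conj_mem inferInstance y hy.2 g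
  have hTL : T ≤ L := by
    rintro _ ⟨y, hy, rfl⟩
    simpa [MulAut.conj_apply] using
      Subgroup.Normal.conj_mem inferInstance y (d.hsyl.le hy.1) g
  have hTR : IsPGroup r (T ⊔ R : Subgroup G) :=
    hTp.to_sup_of_normal_right' d.hsyl.isPGroup (hTC.trans hC)
  have := d.hsyl.eq_of_le hTR le_sup_right (sup_le hTL d.hsyl.le)
  have hTleR : T ≤ R := by
    rw [← this]
    exact le_sup_left
  exact hTleR ⟨x, hx, by simp [MulAut.conj_apply]⟩

end Cfsg.Agent.Helper24.BGG
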