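import Mathlib
import Cfsg.Prelude.Def_Blocks
import Cfsg.Agent.Lib.Helper24.CharInduced
import Cfsg.Agent.Lib.Helper24.CharHom
import Cfsg.Agent.Lib.Helper24.CharLinear
import Cfsg.Agent.Lib.Helper5.Clifford
import Cfsg.Agent.Lib.Helper5.IndFun
import Cfsg.Agent.Lib.Helper18.CliffordCorr

/-!
# The Broline–Garrison argument, character-theoretic core (helper24's shared library)

`χ ∈ Irr(G)` with kernel `K`, `H < G` with `K H = G`.  Then `χ_H` is irreducible and either some
irreducible constituent `ψ` of `(χ_H)^G` has `ψ(1) > χ(1)`, `ker ψ ∩ H ≤ K` and `K ⊄ ker ψ`, or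
`χ` vanishes on `H` off the core of `H`.
-/

set_option autoImplicit false
set_option linter.style.haveILetI false
set_option linter.unusedSectionVars false

namespace Cfsg.Agent.Helper24.BG

open Cfsg Cfsg.Agent.Helper24 Cfsg.Agent.Helper5
open scoped ComplexConjugate

universe u

variable {G : Type u} [Group G] [Fintype G]

/-- If `α + β` attains its degree at `h`, so does `α`. -/
theorem char_eq_of_add_eq {H : Type u} [Group H] [Finite H] {α β : H → ℂ} (hα : IsCharacter H α)
    (hβ : IsCharacter H β) (h : H) (heq : α h + β h = α 1 + β 1) : α h = α 1 := by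
  have h1 := norm_le_charDegree hα h
  have h2 := norm_le_charDegree hβ h
  have ha1 := char_one_eq_charDegree hα
  have hb1 := char_one_eq_charDegree hβ
  rw [ha1, hb1] at heq
  rw [ha1]
  have hre : (α h).re + (β h).re = (charDegree α : ℝ) + (charDegree β : ℝ) := by
    have := congrArg Complex.re heq
    simpa using this
  have hra : (α h).re ≤ ‖α h‖ := Complex.re_le_norm _
  have hrb : (β h).re ≤ ‖β h‖ := Complex.re_le_norm _
  have hre_a : (α h).re = (charDegree α : ℝ) := by linarith
  have hnorm : ‖α h‖ = (charDegree α : ℝ) := le_antisymm h1 (by rw [← hre_a]; exact hra)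
  -- `re z = ‖z‖` forces `z` real
  have him : (α h).im = 0 := by
    have h3 : ‖α h‖ ^ 2 = (α h).re ^ 2 + (α h).im ^ 2 := by
      rw [← Complex.normSq_eq_norm_sq, Complex.normSq_apply]
      ring
    rw [hnorm, hre_a] at h3
    have h4 : (α h).im ^ 2 = 0 := by linarith
    exact pow_eq_zero_iff (two_ne_zero) |>.mp h4
  apply Complex.ext
  · rw [hre_a]; simp
  · rw [him]; simp

/-- The surjection `H → G/K` when `K H = G`. -/
theorem quot_surjective (K H : Subgroup G) [K.Normal] (hKH : K ⊔ H = ⊤) :
    Function.Surjective ((QuotientGroup.mk' K).comp H.subtype) := by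
  intro q
  induction q using QuotientGroup.induction_on with
  | H g =>
    have hg : g ∈ K ⊔ H := by rw [hKH]; exact Subgroup.mem_top g
    rw [← SetLike.mem_coe, Subgroup.normal_mul] at hg
    obtain ⟨k, hk, h, hh, rfl⟩ := Set.mem_mul.mp hg
    refine ⟨⟨h, hh⟩, ?_⟩
    show (QuotientGroup.mk h : G ⧸ K) = QuotientGroup.mk (k * h)
    rw [QuotientGroup.eq]
    have : h⁻¹ * (k * h) = h⁻¹ * k * h := by group
    rw [this]
    have := (inferInstance : K.Normal).conj_mem k hk h⁻¹
    simpa using this

/-- An irreducible character with `K` in its kernel restricts irreducibly to `H` when `K H = G`,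
and is determined by the restriction. -/
theorem restrict_irr (K H : Subgroup G) [K.Normal] (hKH : K ⊔ H = ⊤) {χ : G → ℂ}
    (hχ : IsIrrCharacter G χ) (hK : ∀ k ∈ K, χ k = χ 1) :
    IsIrrCharacter H (fun h : H => χ h) := by
  obtain ⟨χq, hχq, hχeq⟩ := exists_deflate K hχ hK
  have := isIrrCharacter_comp_of_surjective ((QuotientGroup.mk' K).comp H.subtype)
    (quot_surjective K H hKH) hχq
  have e : (fun h : H => χ h) = χq ∘ ((QuotientGroup.mk' K).comp H.subtype) := by
    funext h
    rw [hχeq]
    rfl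
  rw [e]
  exact this

theorem restrict_inj (K H : Subgroup G) [K.Normal] (hKH : K ⊔ H = ⊤) {χ ψ : G → ℂ}
    (hχ : IsIrrCharacter G χ) (hψ : IsIrrCharacter G ψ) (hK : ∀ k ∈ K, χ k = χ 1)
    (hK' : ∀ k ∈ K, ψ k = ψ 1) (heq : (fun h : H => χ h) = (fun h : H => ψ h)) : χ = ψ := by
  obtain ⟨χq, hχq, hχeq⟩ := exists_deflate K hχ hK
  obtain ⟨ψq, hψq, hψeq⟩ := exists_deflate K hψ hK'
  have hq : χq = ψq := by
    funext q
    obtain ⟨h, rfl⟩ := quot_surjective K H hKH q
    have := congrFun heq h
    rw [hχeq, hψeq] at this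
    exact this
  rw [hχeq, hψeq, hq]

/-- **Core lemma** of the Broline–Garrison argument. -/
theorem core (K H : Subgroup G) [K.Normal] [Fintype H] (hKH : K ⊔ H = ⊤)
    {χ : G → ℂ} (hχ : IsIrrCharacter G χ) (hK : ∀ g, g ∈ K ↔ χ g = χ 1) :
    (∃ ψ : G → ℂ, IsIrrCharacter G ψ ∧ charDegree χ < charDegree ψ ∧
      (∀ h : H, ψ h = ψ 1 → (h : G) ∈ K) ∧ ¬ (∀ k ∈ K, ψ k = ψ 1)) ∨
    (∀ h : H, χ h ≠ 0 → ∀ x : G, x⁻¹ * h * x ∈ H) := by
  classical
  letI := irrFintype (G := G)
  letI := irrFintype (G := H)
  have hKker : ∀ k ∈ K, χ k = χ 1 := fun k hk => (hK k).mp hk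
  set χH : H → ℂ := fun h : H => χ h with hχHdef
  have hχH : IsIrrCharacter H χH := restrict_irr K H hKH hχ hKker
  have hχHc := isCharacter_of_isIrrCharacter hχH
  set Φ : G → ℂ := indFun H χH with hΦdef
  have hΦ : IsCharacter G Φ := isCharacter_indFun H hχHc
  have hχ1 : χ 1 ≠ 0 := by
    obtain ⟨d, hd, hd1⟩ := irr_one_eq hχ
    rw [hd1]
    exact_mod_cast hd.ne'
  -- constituents of `Φ` restrict to `χ_H + ρ`
  have hcons : ∀ ψ : G → ℂ, IsIrrCharacter G ψ → classInner Φ ψ ≠ 0 →
      ∃ ρ : H → ℂ, IsCharacter H ρ ∧ (fun h : H => ψ h) = χH + ρ := by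
    intro ψ hψ hne
    rw [hΦdef, frobenius_reciprocity H χH (isClassFunction_of_isIrrCharacter hψ)] at hne
    have hψH : IsCharacter H (fun h : H => ψ h) :=
      isCharacter_restrict H (isCharacter_of_isIrrCharacter hψ)
    apply exists_add_of_constituent hψH hχH
    rw [classInner_char_comm hψH hχHc]
    exact hne
  by_cases hbig : ∃ ψ : G → ℂ, IsIrrCharacter G ψ ∧ classInner Φ ψ ≠ 0 ∧
      charDegree χ < charDegree ψ
  · left
    obtain ⟨ψ, hψ, hne, hdeg⟩ := hbig
    obtain ⟨ρ, hρ, hsum⟩ := hcons ψ hψ hne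
    refine ⟨ψ, hψ, hdeg, ?_, ?_⟩
    · intro h hh
      have e1 : ψ h = χH h + ρ h := congrFun hsum h
      have e2 : ψ 1 = χH 1 + ρ 1 := congrFun hsum 1
      have e3 : χH h + ρ h = χH 1 + ρ 1 := by rw [← e1, ← e2]; exact hh
      have e4 := char_eq_of_add_eq hχHc hρ h e3
      exact (hK h).mpr e4
    · intro hall
      have hψH : IsIrrCharacter H (fun h : H => ψ h) := restrict_irr K H hKH hψ hall
      have hne' := hne
      rw [hΦdef, frobenius_reciprocity H χH (isClassFunction_of_isIrrCharacter hψ),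
        irr_orthogonality hχH hψH] at hne'
      have heq : χH = fun h : H => ψ h := by
        by_contra hcon
        rw [if_neg hcon] at hne'
        exact hne' rfl
      have := restrict_inj K H hKH hχ hψ hKker hall heq
      rw [this] at hdeg
      exact lt_irrefl _ hdeg
  · right
    push Not at hbig
    -- each constituent restricts to `χ_H`
    have hres : ∀ ψ : G → ℂ, IsIrrCharacter G ψ → classInner Φ ψ ≠ 0 → ∀ h : H, ψ h = χ h := by
      intro ψ hψ hne
      obtain ⟨ρ, hρ, hsum⟩ := hcons ψ hψ hne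
      have hle := hbig ψ hψ hne
      have e2 : ψ 1 = χH 1 + ρ 1 := congrFun hsum 1
      have e3 : (charDegree ψ : ℂ) = (charDegree χ : ℂ) + (charDegree ρ : ℂ) := by
        rw [← irr_one_eq_charDegree hψ, ← irr_one_eq_charDegree hχ, ← char_one_eq_charDegree hρ]
        exact e2
      have e4 : charDegree ψ = charDegree χ + charDegree ρ := by exact_mod_cast e3
      have e5 : charDegree ρ = 0 := by omega
      have e6 : ρ 1 = 0 := by rw [char_one_eq_charDegree hρ, e5]; simp
      have e7 : ρ = 0 := Cfsg.Agent.Helper18.char_eq_zero_of_one_eq_zero hρ e6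
      intro h
      have := congrFun hsum h
      rw [e7] at this
      simpa using this
    -- expansion of `Φ`
    have hexp := classFunction_expansion (isClassFunction_indFun H χH)
    set c : ℂ := ∑ ψ : IrrCharacter G, classInner Φ (ψ : G → ℂ) with hc
    have hΦh : ∀ h : H, Φ h = c * χ h := by
      intro h
      have h1 := congrFun hexp h
      rw [Finset.sum_apply] at h1
      rw [show Φ h = indFun H χH h from rfl, h1, hc, Finset.sum_mul]
      apply Finset.sum_congr rfl
      intro ψ _
      rw [Pi.smul_apply, smul_eq_mul]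
      by_cases h0 : classInner Φ (ψ : G → ℂ) = 0
      · rw [show classInner (indFun H χH) (ψ : G → ℂ) = classInner Φ (ψ : G → ℂ) from rfl, h0,
          zero_mul, zero_mul]
      · rw [hres ψ ψ.2 h0 h]
    have hΦ1 : Φ 1 = (H.index : ℂ) * χ 1 := by
      rw [hΦdef, indFun_one]
      rfl
    have hcval : c = (H.index : ℂ) := by
      have h1 := hΦh 1
      rw [Subgroup.coe_one, hΦ1] at h1
      exact (mul_right_cancel₀ hχ1 h1).symm
    -- direct formula
    have hdirect : ∀ h : H, Φ h = χ h * ((Nat.card H : ℂ)⁻¹ *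
        ((Finset.univ.filter (fun x : G => x⁻¹ * (h : G) * x ∈ H)).card : ℂ)) := by
      intro h
      rw [hΦdef, indFun_apply]
      have hcf := isClassFunction_of_isIrrCharacter hχ
      have e : ∀ x : G, extendByZero H χH (x⁻¹ * (h : G) * x) =
          if x⁻¹ * (h : G) * x ∈ H then χ h else 0 := by
        intro x
        split_ifs with hx
        · rw [extendByZero_of_mem H χH hx]
          show χ (x⁻¹ * (h : G) * x) = χ h
          have := hcf (h : G) x⁻¹
          rwa [inv_inv] at this
        · exact extendByZero_of_not_mem H χH hx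
      rw [Finset.sum_congr rfl (fun x _ => e x), ← Finset.sum_filter, Finset.sum_const,
        nsmul_eq_mul]
      ring
    intro h hχh x
    have h1 := hdirect h
    rw [hΦh h, hcval] at h1
    have h2 : (H.index : ℂ) = (Nat.card H : ℂ)⁻¹ *
        ((Finset.univ.filter (fun x : G => x⁻¹ * (h : G) * x ∈ H)).card : ℂ) := by
      have : χ h * (H.index : ℂ) = χ h * ((Nat.card H : ℂ)⁻¹ *
          ((Finset.univ.filter (fun x : G => x⁻¹ * (h : G) * x ∈ H)).card : ℂ)) := by
        rw [← h1, mul_comm]
      exact mul_left_cancel₀ hχh this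
    have hH0 : (Nat.card H : ℂ) ≠ 0 := by
      rw [Nat.cast_ne_zero]; exact Nat.card_pos.ne'
    have h3 : ((Finset.univ.filter (fun x : G => x⁻¹ * (h : G) * x ∈ H)).card : ℂ) =
        ((Nat.card H * H.index : ℕ) : ℂ) := by
      push_cast
      rw [h2]
      field_simp
    have h4 : (Finset.univ.filter (fun x : G => x⁻¹ * (h : G) * x ∈ H)).card =
        Fintype.card G := by
      have : (Finset.univ.filter (fun x : G => x⁻¹ * (h : G) * x ∈ H)).card =
          Nat.card H * H.index := by exact_mod_cast h3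
      rw [this, Subgroup.card_mul_index, Nat.card_eq_fintype_card]
    have h5 : Finset.univ.filter (fun x : G => x⁻¹ * (h : G) * x ∈ H) = Finset.univ := by
      apply Finset.eq_univ_of_card
      exact h4
    have h6 : x ∈ Finset.univ.filter (fun x : G => x⁻¹ * (h : G) * x ∈ H) := by
      rw [h5]; exact Finset.mem_univ x
    exact (Finset.mem_filter.mp h6).2

end Cfsg.Agent.Helper24.BG
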