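import Mathlib
import Cfsg.Prelude.Def_Blocks
import Cfsg.Prelude.Def_Solvable
import Cfsg.Agent.Lib.Helper24.BrolineGarrison
import Cfsg.Agent.Lib.Helper24.BGGroup
import Cfsg.Agent.Lib.Helper24.CharNormal
import Cfsg.Agent.Lib.Helper7.Fitting
import Cfsg.Agent.Lib.Helper1.SolvableBasic

/-!
# The Broline–Garrison theorem (helper24's shared library)

`χ ∈ Irr(G)` with kernel `K`.  If `K` is not nilpotent, or `K = F(G)` with `G/K` solvable and
nontrivial, then some `ψ ∈ Irr(G)` has `ψ(1) > χ(1)` and `ker ψ < K`.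
-/

set_option autoImplicit false
set_option linter.style.haveILetI false
set_option linter.unusedSectionVars false

namespace Cfsg.Agent.Helper24.BG

open Cfsg Cfsg.Agent.Helper24 Cfsg.Agent.Helper24.SylIn Cfsg.Agent.Helper24.BGG
open scoped Pointwise

universe u

variable {G : Type u} [Group G] [Fintype G]

/-- Broline–Garrison for a given set of group-theoretic data. -/
theorem main_of_data {χ : G → ℂ} (hχ : IsIrrCharacter G χ) (K L R : Subgroup G) [K.Normal]
    [L.Normal] (r : ℕ) [Fact r.Prime] (d : Data r K L R) (hK : ∀ g, g ∈ K ↔ χ g = χ 1)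
    (hfin : ∀ C : Subgroup G, C.Normal → C ≤ Subgroup.normalizer (R : Set G) → (R ⊓ C).Normal →
      (∀ h ∈ Subgroup.normalizer (R : Set G), χ h ≠ 0 → h ∈ C) → False) :
    ∃ ψ : G → ℂ, IsIrrCharacter G ψ ∧ charDegree χ < charDegree ψ ∧
      ∃ M : Subgroup G, (∀ g, g ∈ M ↔ ψ g = ψ 1) ∧ M < K := by
  classical
  set H : Subgroup G := Subgroup.normalizer (R : Set G) with hH
  rcases core K H d.sup_normalizer hχ hK with ⟨ψ, hψ, hdeg, hker, hnot⟩ | hvan
  · have hψc := isCharacter_of_isIrrCharacter hψ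
    refine ⟨ψ, hψ, hdeg, charKer hψc, fun g => mem_charKer hψc g, ?_⟩
    haveI := charKer_normal hψc
    have hle : charKer hψc ≤ K := by
      apply d.le_of_inf_normalizer_le
      intro x hx
      exact hker ⟨x, hx.2⟩ ((mem_charKer hψc x).mp hx.1)
    refine lt_of_le_of_ne hle ?_
    intro heq
    apply hnot
    intro k hk
    rw [← heq] at hk
    exact (mem_charKer hψc k).mp hk
  · exfalso
    refine hfin H.normalCore inferInstance (Subgroup.normalCore_le H)
      (d.inf_normal (Subgroup.normalCore_le H)) ?_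
    intro h hh hne b
    have := hvan ⟨h, hh⟩ hne b⁻¹
    simpa using this

end Cfsg.Agent.Helper24.BG
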