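import Mathlib
import Cfsg.Agent.Lib.Helper24.Cd2Basic
import Cfsg.Agent.Lib.Helper7.Fitting
import Cfsg.Agent.S4461
import Cfsg.Agent.S4456

/-!
# Groups with at most two character degrees are solvable (helper24's shared library)
-/

set_option autoImplicit false
set_option linter.style.haveILetI false
set_option linter.unusedSectionVars false

namespace Cfsg.Agent.Helper24.Cd2

open Cfsg Cfsg.Agent.Helper24 Cfsg.Agent.Helper5 Cfsg.Agent.Helper18
open scoped commutatorElement

universe u

/-- A quotient all of whose irreducible characters are linear is abelian, so the normal subgroup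
contains the commutator subgroup. -/
theorem commutator_le_of_quotient_linear {G : Type u} [Group G] [Finite G] (N : Subgroup G)
    [N.Normal] (h : ∀ χ : G ⧸ N → ℂ, IsIrrCharacter (G ⧸ N) χ → charDegree χ = 1) :
    commutator G ≤ N := by
  have hc := comm_of_forall_linear h
  rw [commutator_def, Subgroup.commutator_le]
  intro a _ b _
  have h1 : (QuotientGroup.mk (a * b) : G ⧸ N) = QuotientGroup.mk (b * a) := by
    rw [QuotientGroup.mk_mul, QuotientGroup.mk_mul]
    exact hc _ _
  have h2 : (QuotientGroup.mk ⁅a, b⁆ : G ⧸ N) = 1 := by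
    rw [commutatorElement_def, QuotientGroup.mk_mul, QuotientGroup.mk_mul, QuotientGroup.mk_mul,
      QuotientGroup.mk_inv, QuotientGroup.mk_inv]
    rw [QuotientGroup.mk_mul, QuotientGroup.mk_mul] at h1
    rw [h1]
    group
  exact (QuotientGroup.eq_one_iff _).mp h2

/-- If no irreducible character has degree exceeding that of the nonlinear `χ`, the kernel of `χ`
lies in the Fitting subgroup. -/
theorem charKer_le_fitting {G : Type u} [Group G] [Finite G] {m : ℕ} (hcd : CdSub G m)
    {χ : G → ℂ} (hχ : IsIrrCharacter G χ) (hnl : charDegree χ ≠ 1) :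
    charKer (isCharacter_of_isIrrCharacter hχ) ≤ Cfsg.fittingSubgroup G := by
  by_contra hcon
  have hχc := isCharacter_of_isIrrCharacter hχ
  haveI := charKer_normal hχc
  obtain ⟨ψ, hdeg, -⟩ := Cfsg.Agent.S4461.result ⟨χ, hχ⟩ (charKer hχc)
    (fun g => mem_charKer hχc g) (Or.inl hcon)
  have h1 : charDegree χ = m := (hcd χ hχ).resolve_left hnl
  have h2 := hcd ψ.1 ψ.2
  have h3 := charDegree_pos hχ
  simp only at hdeg
  omega

theorem isSolvable_of_cdSub : ∀ (k : ℕ) (G : Type u) [Group G] [Finite G] (m : ℕ),
    Nat.card G = k → CdSub G m → Group.IsSolvable G := by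
  intro k
  induction k using Nat.strong_induction_on with
  | _ k ih =>
    intro G _ _ m hk hcd
    classical
    by_cases hab : ∀ a b : G, a * b = b * a
    · exact Group.isSolvable_of_comm hab
    push Not at hab
    set F : Subgroup G := Cfsg.fittingSubgroup G with hF
    haveI : F.Normal := Cfsg.Agent.Helper7.fittingSubgroup_normal'
    have hFnil : Group.IsNilpotent ↥F := Cfsg.Agent.Helper7.fittingSubgroup_isNilpotent
    haveI : Group.IsSolvable ↥F := by
      haveI := hFnil
      infer_instance
    -- it suffices that `G ⧸ F` is solvable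
    suffices hq : Group.IsSolvable (G ⧸ F) by
      haveI := hq
      refine Group.isSolvable_of_ker_le_range F.subtype (QuotientGroup.mk' F) ?_
      rw [QuotientGroup.ker_mk', Subgroup.range_subtype]
    by_cases habq : ∀ a b : G ⧸ F, a * b = b * a
    · exact Group.isSolvable_of_comm habq
    push Not at habq
    obtain ⟨χbar, hχbar, hnl⟩ := exists_nonlinear habq
    have hχ : IsIrrCharacter G (χbar ∘ (QuotientGroup.mk' F)) :=
      isIrrCharacter_comp_of_surjective _ (QuotientGroup.mk'_surjective F) hχbar
    have hnl' : charDegree (χbar ∘ (QuotientGroup.mk' F)) ≠ 1 := by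
      rwa [charDegree_comp]
    have hker := charKer_le_fitting hcd hχ hnl'
    by_cases hFbot : F = ⊥
    · -- contradiction: every nonlinear character is faithful
      exfalso
      have hfaith : ∀ χ : G → ℂ, ∀ hχ : IsIrrCharacter G χ, charDegree χ ≠ 1 →
          charKer (isCharacter_of_isIrrCharacter hχ) = ⊥ := by
        intro χ hχ hn
        have := charKer_le_fitting hcd hχ hn
        rw [← hF, hFbot] at this
        exact le_bot_iff.mp this
      set D : Subgroup G := commutator G with hD
      have hDmin : ∀ N : Subgroup G, N.Normal → N ≠ ⊥ → D ≤ N := by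
        intro N hN hNbot
        haveI := hN
        apply commutator_le_of_quotient_linear N
        intro ξ hξ
        by_contra hn
        have hξ' : IsIrrCharacter G (ξ ∘ (QuotientGroup.mk' N)) :=
          isIrrCharacter_comp_of_surjective _ (QuotientGroup.mk'_surjective N) hξ
        have hn' : charDegree (ξ ∘ (QuotientGroup.mk' N)) ≠ 1 := by rwa [charDegree_comp]
        have hk := hfaith _ hξ' hn'
        apply hNbot
        rw [eq_bot_iff, ← hk]
        intro x hx
        rw [mem_charKer]
        show ξ (QuotientGroup.mk x) = ξ (QuotientGroup.mk 1)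
        rw [(QuotientGroup.eq_one_iff x).mpr hx, QuotientGroup.mk_one]
      -- `D` is nonabelian
      have hDne : D ≠ ⊥ := by
        intro h
        obtain ⟨a, b, hne⟩ := hab
        apply hne
        have : ⁅a, b⁆ ∈ D := Subgroup.commutator_mem_commutator (Subgroup.mem_top a)
          (Subgroup.mem_top b)
        rw [h, Subgroup.mem_bot, commutatorElement_def] at this
        calc a * b = (a * b * a⁻¹ * b⁻¹) * (b * a) := by group
          _ = b * a := by rw [this, one_mul]
      have hDnab : ∃ a b : D, a * b ≠ b * a := by
        by_contra hcon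
        push Not at hcon
        have hnilD : Group.IsNilpotent ↥D := by
          letI : CommGroup ↥D := { (inferInstance : Group ↥D) with mul_comm := hcon }
          exact CommGroup.isNilpotent
        have : D ≤ F := Cfsg.Agent.Helper7.le_fittingSubgroup D hnilD
        rw [hFbot] at this
        exact hDne (le_bot_iff.mp this)
      letI : Fintype D := Fintype.ofFinite D
      obtain ⟨θ, hθ, hθnl⟩ := exists_nonlinear hDnab
      obtain ⟨p, hp, hpθ⟩ := Nat.exists_prime_and_dvd hθnl
      obtain ⟨χ, hχ, hover⟩ := exists_over D hθ
      have hdvd := degree_dvd_of_constituent D hχ hθ hover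
      have hχnl : charDegree χ ≠ 1 := by
        intro h
        rw [h, Nat.dvd_one] at hdvd
        exact hθnl hdvd
      have hχm : charDegree χ = m := (hcd χ hχ).resolve_left hχnl
      have hpm : p ∣ m := hχm ▸ hpθ.trans hdvd
      obtain ⟨Np, hNpn, hNpcop, kk, hNpidx⟩ := Cfsg.Agent.S4456.result (G := G) p hp (by
        intro ψ hψ
        rw [(hcd ψ.1 ψ.2).resolve_left hψ]
        exact hpm)
      by_cases hNpbot : Np = ⊥
      · -- `G` is a `p`-group, so `F = G`
        haveI : Fact p.Prime := ⟨hp⟩
        have hpg : IsPGroup p G := by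
          apply IsPGroup.of_card (n := kk)
          rw [← hNpidx, hNpbot, Subgroup.index_bot]
        have hnil : Group.IsNilpotent G := hpg.isNilpotent
        have htop : (⊤ : Subgroup G) ≤ F :=
          Cfsg.Agent.Helper7.le_fittingSubgroup ⊤ ((Group.isNilpotent_top).mpr hnil)
        rw [hFbot] at htop
        exact hDne (le_bot_iff.mp (le_top.trans htop))
      · have hDNp := hDmin Np hNpn hNpbot
        have h1 : p ∣ Nat.card D := hpθ.trans (charDegree_dvd_card hθ)
        have h2 : Nat.card D ∣ Nat.card Np := Subgroup.card_dvd_of_le hDNp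
        have h3 := h1.trans h2
        have := Nat.Coprime.eq_one_of_dvd hNpcop.symm h3
        exact hp.one_lt.ne' this
    · -- induction on `G ⧸ F`
      have hcard : Nat.card (G ⧸ F) < k := by
        have h1 := Subgroup.card_eq_card_quotient_mul_card_subgroup F
        have h2 : 1 < Nat.card ↥F := by
          rw [Subgroup.one_lt_card_iff_ne_bot]
          exact hFbot
        have h3 : 0 < Nat.card (G ⧸ F) := Nat.card_pos
        rw [hk] at h1
        nlinarith
      exact ih _ hcard (G ⧸ F) m rfl (hcd.quotient F)

end Cfsg.Agent.Helper24.Cd2
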