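import Mathlib
import Cfsg.Agent.Lib.Helper24.Cd2Solvable
import Cfsg.Agent.Lib.Helper24.Cd2Prim
import Cfsg.Agent.Lib.Helper5.FrobKer

/-!
# Two character degrees: the Frobenius quotient (helper24's shared library)

For solvable `G` with degrees in `{1, m}`: `G' ≤ F(G)`.  A minimal non-nilpotent quotient `Q = M ⋊ H`
with degrees in `{1, m}` is a Frobenius group with abelian kernel `M` of index `m`.
-/

set_option autoImplicit false
set_option linter.style.haveILetI false
set_option linter.unusedSectionVars false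

namespace Cfsg.Agent.Helper24.Cd2

open Cfsg Cfsg.Agent.Helper24 Cfsg.Agent.Helper5 Cfsg.Agent.Helper18
open scoped commutatorElement Pointwise

universe u

/-- In a solvable group with at most two character degrees, `G' ≤ F(G)`. -/
theorem commutator_le_fitting {G : Type u} [Group G] [Finite G] [hs : Group.IsSolvable G] {m : ℕ}
    (hcd : CdSub G m) : commutator G ≤ Cfsg.fittingSubgroup G := by
  set F : Subgroup G := Cfsg.fittingSubgroup G with hF
  haveI : F.Normal := Cfsg.Agent.Helper7.fittingSubgroup_normal'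
  apply commutator_le_of_quotient_linear F
  intro ξ hξ
  by_contra hn
  by_cases hFtop : F = ⊤
  · letI : Fintype (G ⧸ F) := Fintype.ofFinite _
    have h1 := charDegree_dvd_card hξ
    have h2 : Nat.card (G ⧸ F) = 1 := by
      rw [← Subgroup.index_eq_card, hFtop, Subgroup.index_top]
    rw [h2, Nat.dvd_one] at h1
    exact hn h1
  · have hχ : IsIrrCharacter G (ξ ∘ (QuotientGroup.mk' F)) :=
      isIrrCharacter_comp_of_surjective _ (QuotientGroup.mk'_surjective F) hξ
    have hnl : charDegree (ξ ∘ (QuotientGroup.mk' F)) ≠ 1 := by rwa [charDegree_comp]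
    have hχc := isCharacter_of_isIrrCharacter hχ
    have hK1 := charKer_le_fitting hcd hχ hnl
    have hK2 : F ≤ charKer hχc := by
      intro x hx
      rw [mem_charKer]
      show ξ (QuotientGroup.mk x) = ξ (QuotientGroup.mk 1)
      rw [(QuotientGroup.eq_one_iff x).mpr hx, QuotientGroup.mk_one]
    have hKF : charKer hχc = F := le_antisymm hK1 hK2
    haveI := charKer_normal hχc
    obtain ⟨ψ, hdeg, -⟩ := Cfsg.Agent.S4461.result ⟨_, hχ⟩ (charKer hχc)
      (fun g => mem_charKer hχc g) (Or.inr ⟨hKF, inferInstance, by rw [hKF]; exact hFtop⟩)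
    have h1 : charDegree (ξ ∘ (QuotientGroup.mk' F)) = m := (hcd _ hχ).resolve_left hnl
    have h2 := hcd ψ.1 ψ.2
    have h3 := charDegree_pos hχ
    simp only at hdeg
    omega

/-- The Frobenius structure of the quotient. -/
structure FrobData (Q : Type u) [Group Q] (M : Subgroup Q) (m p a : ℕ) : Prop where
  normal : M.Normal
  comm : ∀ x ∈ M, ∀ y ∈ M, x * y = y * x
  index : M.index = m
  card : Nat.card M = p ^ a
  prime : p.Prime
  pos : 0 < a
  cop : ¬ p ∣ m
  lt : m + 1 ≤ p ^ a
  fpf : ∀ x : Q, x ∉ M → ∀ y ∈ M, x * y = y * x → y = 1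
  comm_le : commutator Q ≤ M

theorem Prim.frobData {Q : Type u} [Group Q] [Finite Q] [Group.IsSolvable Q] {M H : Subgroup Q}
    (h : Prim M H) (hnab : ∃ a b : Q, a * b ≠ b * a) {m : ℕ} (hcd : CdSub Q m) :
    ∃ p a : ℕ, FrobData Q M m p a := by
  classical
  letI : Fintype Q := Fintype.ofFinite Q
  haveI := h.normal
  have hQ' : commutator Q ≤ M := (commutator_le_fitting hcd).trans h.fitting_le
  -- `H` is abelian
  have hHab : ∀ k₁ ∈ H, ∀ k₂ ∈ H, k₁ * k₂ = k₂ * k₁ := by
    intro k₁ hk₁ k₂ hk₂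
    have h1 : ⁅k₁, k₂⁆ ∈ M := hQ' (Subgroup.commutator_mem_commutator (Subgroup.mem_top _)
      (Subgroup.mem_top _))
    have h2 : ⁅k₁, k₂⁆ ∈ H := by
      rw [commutatorElement_def]
      exact H.mul_mem (H.mul_mem (H.mul_mem hk₁ hk₂) (H.inv_mem hk₁)) (H.inv_mem hk₂)
    have h3 : ⁅k₁, k₂⁆ ∈ M ⊓ H := ⟨h1, h2⟩
    rw [h.inf, Subgroup.mem_bot, commutatorElement_def] at h3
    calc k₁ * k₂ = (k₁ * k₂ * k₁⁻¹ * k₂⁻¹) * (k₂ * k₁) := by group
      _ = k₂ * k₁ := by rw [h3, one_mul]
  -- fixed point freeness of `H`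
  have hfpfH : ∀ k ∈ H, k ≠ 1 → ∀ y ∈ M, k * y = y * k → y = 1 := by
    intro k hk hk1 y hy hky
    set D : Subgroup Q := M ⊓ Subgroup.centralizer {k} with hD
    have hDn : D.Normal := by
      apply h.normal_of_le D inf_le_left
      intro k' hk' d hd
      refine ⟨h.normal.conj_mem d hd.1 k', ?_⟩
      show k' * d * k'⁻¹ ∈ Subgroup.centralizer {k}
      rw [Subgroup.mem_centralizer_singleton_iff]
      have hd2 : d ∈ Subgroup.centralizer {k} := hd.2
      have h1 : d * k = k * d := Subgroup.mem_centralizer_singleton_iff.mp hd2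
      have h2 : k * k' = k' * k := hHab k hk k' hk'
      symm
      calc k * (k' * d * k'⁻¹) = (k * k') * d * k'⁻¹ := by group
        _ = k' * (k * d) * k'⁻¹ := by rw [h2]; group
        _ = k' * (d * k) * k'⁻¹ := by rw [h1]
        _ = k' * d * (k'⁻¹ * (k' * k) * k'⁻¹) := by group
        _ = k' * d * (k'⁻¹ * (k * k') * k'⁻¹) := by rw [h2]
        _ = k' * d * k'⁻¹ * k := by group
    rcases h.minimal D hDn inf_le_left with hbot | htop
    · have : y ∈ D := ⟨hy, Subgroup.mem_centralizer_singleton_iff.mpr hky.symm⟩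
      rw [hbot] at this
      exact Subgroup.mem_bot.mp this
    · exfalso
      apply hk1
      apply h.faithful k hk
      intro z hz
      have : z ∈ D := by rw [htop]; exact hz
      have h2 : z ∈ Subgroup.centralizer {k} := this.2
      exact (Subgroup.mem_centralizer_singleton_iff.mp h2).symm
  -- fixed point freeness of elements outside `M`
  have hfpf : ∀ x : Q, x ∉ M → ∀ y ∈ M, x * y = y * x → y = 1 := by
    intro x hx y hy hxy
    obtain ⟨y₀, hy₀, k, hk, rfl⟩ := h.exists_mul x
    have hk1 : k ≠ 1 := by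
      rintro rfl
      apply hx
      rw [mul_one]
      exact hy₀
    apply hfpfH k hk hk1 y hy
    have h1 : y₀ * y = y * y₀ := h.comm y₀ hy₀ y hy
    calc k * y = y₀⁻¹ * (y₀ * k * y) := by group
      _ = y₀⁻¹ * (y * (y₀ * k)) := by rw [hxy]
      _ = y₀⁻¹ * (y * y₀) * k := by group
      _ = y₀⁻¹ * (y₀ * y) * k := by rw [h1]
      _ = y * k := by group
  have hF : ∀ k ∈ M, k ≠ 1 → ∀ x : Q, x * k = k * x → x ∈ M := by
    intro k hk hk1 x hxk
    by_contra hx
    exact hk1 (hfpf x hx k hk hxk)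
  have hab : ∀ a b : M, a * b = b * a := fun a b => Subtype.ext (h.comm a a.2 b b.2)
  -- the order of `M`
  obtain ⟨p, a, hp, ha, hcard, -⟩ :=
    Cfsg.Agent.Helper3.card_eq_prime_pow_of_minimal_normal M h.ne_bot h.minimal h.comm
  haveI : Fact p.Prime := ⟨hp⟩
  -- the index of `M`
  have hindex : M.index = m := by
    obtain ⟨χ, hχ, hnl⟩ := exists_nonlinear hnab
    have hr : FrobKer.Rel M χ := by
      by_contra hr
      have hN : ∀ k ∈ M, χ k = χ 1 := fun k hk => FrobKer.not_rel hr hk
      obtain ⟨ψ, hψ, hχψ⟩ := exists_deflate M hχ hN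
      have hqab : ∀ x y : Q ⧸ M, x * y = y * x := by
        intro x y
        obtain ⟨x, rfl⟩ := QuotientGroup.mk_surjective x
        obtain ⟨y, rfl⟩ := QuotientGroup.mk_surjective y
        have h1 : ⁅x, y⁆ ∈ M := hQ' (Subgroup.commutator_mem_commutator (Subgroup.mem_top _)
          (Subgroup.mem_top _))
        have h2 : (QuotientGroup.mk ⁅x, y⁆ : Q ⧸ M) = 1 := (QuotientGroup.eq_one_iff _).mpr h1
        rw [commutatorElement_def, QuotientGroup.mk_mul, QuotientGroup.mk_mul,
          QuotientGroup.mk_mul, QuotientGroup.mk_inv, QuotientGroup.mk_inv] at h2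
        calc (QuotientGroup.mk x : Q ⧸ M) * QuotientGroup.mk y
            = (QuotientGroup.mk x * QuotientGroup.mk y * (QuotientGroup.mk x)⁻¹ *
                (QuotientGroup.mk y)⁻¹) * (QuotientGroup.mk y * QuotientGroup.mk x) := by group
          _ = QuotientGroup.mk y * QuotientGroup.mk x := by rw [h2, one_mul]
      have h1 := linear_of_comm hqab hψ
      apply hnl
      rw [hχψ]
      have : charDegree (ψ ∘ (QuotientGroup.mk : Q → Q ⧸ M)) = charDegree ψ :=
        charDegree_comp (QuotientGroup.mk' M) ψ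
      rw [this, h1]
    have hdeg := FrobKer.degree_of_rel_of_comm M hF hab hχ hr
    have h1 : charDegree χ = M.index := charDegree_natCast _ hdeg
    have h2 : charDegree χ = m := (hcd χ hχ).resolve_left hnl
    rw [← h1, h2]
  -- `|H| = m`
  have hcompl : Subgroup.IsComplement' H M := by
    apply Subgroup.IsComplement'.symm
    apply Subgroup.isComplement'_of_disjoint_and_mul_eq_univ
    · rw [disjoint_iff]
      exact h.inf
    · rw [← Subgroup.normal_mul M H, h.sup, Subgroup.coe_top]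
  have hcardH : Nat.card H = m := by rw [← hcompl.index_eq_card, hindex]
  -- `H` is nontrivial
  have hHne : ∃ k ∈ H, k ≠ 1 := by
    by_contra hcon
    push Not at hcon
    obtain ⟨x, y, hxy⟩ := hnab
    apply hxy
    obtain ⟨y₁, hy₁, k₁, hk₁, rfl⟩ := h.exists_mul x
    obtain ⟨y₂, hy₂, k₂, hk₂, rfl⟩ := h.exists_mul y
    rw [hcon k₁ hk₁, hcon k₂ hk₂, mul_one, mul_one]
    exact h.comm y₁ hy₁ y₂ hy₂
  obtain ⟨y₀, hy₀, hy₀1⟩ : ∃ y ∈ M, y ≠ 1 := by
    by_contra hcon
    push Not at hcon
    exact h.ne_bot ((Subgroup.eq_bot_iff_forall M).mpr hcon)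
  refine ⟨p, a, h.normal, h.comm, hindex, hcard, hp, ha, ?_, ?_, hfpf, hQ'⟩
  · -- `p ∤ m`
    intro hpm
    rw [← hcardH] at hpm
    obtain ⟨k, hk⟩ := exists_prime_orderOf_dvd_card' p hpm
    have hk1 : (k : Q) ≠ 1 := by
      intro h1
      have : k = 1 := Subtype.ext h1
      rw [this, orderOf_one] at hk
      exact hp.one_lt.ne' hk.symm
    -- the action of `⟨k⟩` on `M`
    let Z : Subgroup Q := Subgroup.zpowers (k : Q)
    letI : MulAction Z M := MulAction.compHom M
      ((MulAut.conjNormal : Q →* MulAut M).comp Z.subtype)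
    have hsmul : ∀ (z : Z) (y : M), ((z • y : M) : Q) = z * y * (z : Q)⁻¹ := fun z y => rfl
    have hZp : IsPGroup p Z := by
      rw [IsPGroup.iff_card]
      refine ⟨1, ?_⟩
      rw [Nat.card_zpowers, pow_one]
      rw [← hk]
      exact (Subgroup.orderOf_coe k)
    have h1 : (1 : M) ∈ MulAction.fixedPoints Z M := by
      intro z
      apply Subtype.ext
      rw [hsmul]
      simp
    have hdvd : p ∣ Nat.card M := by
      rw [hcard]
      exact dvd_pow_self p ha.ne'
    obtain ⟨b, hb, hb1⟩ := hZp.exists_fixed_point_of_prime_dvd_card_of_fixed_point M hdvd h1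
    have hkb : (k : Q) * b = b * k := by
      have := hb ⟨(k : Q), Subgroup.mem_zpowers _⟩
      have h2 := congrArg Subtype.val this
      rw [hsmul] at h2
      calc (k : Q) * b = ((k : Q) * b * (k : Q)⁻¹) * k := by group
        _ = b * k := by rw [h2]
    have := hfpfH k k.2 hk1 b b.2 hkb
    exact hb1 (Subtype.ext this.symm)
  · -- `m + 1 ≤ |M|`
    rw [← hcard, ← hcardH]
    have hinj : Function.Injective (fun k : H => (⟨⟨(k : Q) * y₀ * (k : Q)⁻¹,
        h.normal.conj_mem y₀ hy₀ k⟩, by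
          intro hcon
          have h1 := congrArg Subtype.val hcon
          simp only [OneMemClass.coe_one] at h1
          apply hy₀1
          calc y₀ = (k : Q)⁻¹ * ((k : Q) * y₀ * (k : Q)⁻¹) * k := by group
            _ = 1 := by rw [h1]; group⟩ : {y : M // y ≠ 1})) := by
      intro k₁ k₂ hkk
      have h1 : (k₁ : Q) * y₀ * (k₁ : Q)⁻¹ = (k₂ : Q) * y₀ * (k₂ : Q)⁻¹ :=
        congrArg (fun z : {y : M // y ≠ 1} => ((z : M) : Q)) hkk
      by_contra hne
      have h2 : (k₂ : Q)⁻¹ * k₁ ∈ H := H.mul_mem (H.inv_mem k₂.2) k₁.2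
      have h3 : (k₂ : Q)⁻¹ * k₁ ≠ 1 := by
        intro h4
        apply hne
        apply Subtype.ext
        calc (k₁ : Q) = k₂ * ((k₂ : Q)⁻¹ * k₁) := by group
          _ = k₂ := by rw [h4, mul_one]
      apply hy₀1
      apply hfpfH _ h2 h3 y₀ hy₀
      calc (k₂ : Q)⁻¹ * k₁ * y₀ = (k₂ : Q)⁻¹ * ((k₁ : Q) * y₀ * (k₁ : Q)⁻¹) * k₁ := by group
        _ = (k₂ : Q)⁻¹ * ((k₂ : Q) * y₀ * (k₂ : Q)⁻¹) * k₁ := by rw [h1]
        _ = y₀ * ((k₂ : Q)⁻¹ * k₁) := by group
    have hle := Nat.card_le_card_of_injective _ hinj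
    have hsub : Nat.card {y : M // y ≠ 1} + 1 = Nat.card M := by
      rw [Nat.card_eq_fintype_card, Nat.card_eq_fintype_card, Fintype.card_subtype_compl,
        Fintype.card_subtype_eq]
      have : 0 < Fintype.card M := Fintype.card_pos
      omega
    omega

end Cfsg.Agent.Helper24.Cd2
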