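import Mathlib
import Cfsg.Agent.Lib.Helper24.Cd2Basic
import Cfsg.Agent.Lib.Helper24.CoprimeDegree
import Cfsg.Agent.Lib.Helper24.CharAlgebra
import Cfsg.Agent.Lib.Helper5.FrobKer
import Cfsg.Agent.Lib.Helper5.DetChar

/-!
# Two character degrees: the kernel of a Frobenius quotient is abelian (helper24's shared library)

If `cd(G) ⊆ {1, m}`, `K ≤ N` are normal with `N / K` abelian of order prime to `m = |G : N|` and
larger than `m`, and every element outside `N` acts fixed point freely on `N / K`, then `N` is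
abelian.
-/

set_option autoImplicit false
set_option linter.style.haveILetI false
set_option linter.unusedSectionVars false

namespace Cfsg.Agent.Helper24.Cd2

open Cfsg Cfsg.Agent.Helper24 Cfsg.Agent.Helper5 Cfsg.Agent.Helper18
open scoped ComplexConjugate

universe u

/-- The induced character of an irreducible character of a normal subgroup with trivial inertia
quotient is irreducible. -/
theorem isIrr_indFun_of_inertia {G : Type u} [Group G] [Fintype G] (N : Subgroup G) [N.Normal]
    {φ : N → ℂ} (hφ : IsIrrCharacter N φ) (hne : ∀ g, g ∉ N → Helper5.conjFun N g φ ≠ φ) :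
    IsIrrCharacter G (indFun N φ) := by
  classical
  letI : Fintype N := Fintype.ofFinite N
  letI : Fintype (IrrCharacter G) := irrFintype
  apply isIrrCharacter_of_classInner_self_eq_one
    (isCharacter_indFun N (isCharacter_of_isIrrCharacter hφ))
  rw [frobenius_reciprocity N φ (isClassFunction_indFun N φ), indFun_normal_restrict,
    classInner_smul_right, classInner_sum_right]
  have h1 : ∀ x : G, classInner φ (Helper5.conjFun N x φ) = if x ∈ N then 1 else 0 := by
    intro x
    rw [irr_orthogonality hφ (isIrrCharacter_conjFun N x hφ)]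
    by_cases hx : x ∈ N
    · rw [if_pos hx,
        if_pos (FrobKer.conjFun_of_mem N hx (isClassFunction_of_isIrrCharacter hφ)).symm]
    · rw [if_neg hx, if_neg]
      intro h
      exact hne x hx h.symm
  rw [Finset.sum_congr rfl (fun x _ => h1 x), Finset.sum_ite, Finset.sum_const_zero, add_zero,
    Finset.sum_const, nsmul_eq_mul, mul_one]
  have h2 : (Finset.univ.filter (fun x : G => x ∈ N)).card = Nat.card N := by
    rw [Nat.card_eq_fintype_card, ← Fintype.card_subtype]
  rw [h2, map_inv₀, Complex.conj_natCast]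
  have hpos : (Nat.card N : ℂ) ≠ 0 := by
    exact_mod_cast (Nat.card_pos (α := N)).ne'
  exact inv_mul_cancel₀ hpos

/-- A linear character of `N`, trivial on `K`, fixed by an element acting fixed point freely on
`N / K`, is trivial. -/
theorem hom_eq_one_of_fixed {G : Type u} [Group G] (K N : Subgroup G) [hN : N.Normal]
    (hKN : K ≤ N) (g : G)
    (hsurj : ∀ n ∈ N, ∃ n' ∈ N, ∃ k ∈ K, n = g * n' * g⁻¹ * n'⁻¹ * k)
    (r : N →* ℂˣ) (hr : K.subgroupOf N ≤ r.ker)
    (hfix : ∀ n : N, r (MulAut.conjNormal g n) = r n) : r = 1 := by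
  apply MonoidHom.ext
  intro n
  obtain ⟨n', hn', k, hk, h⟩ := hsurj n n.2
  have h1 : n = MulAut.conjNormal g (⟨n', hn'⟩ : N) * (⟨n', hn'⟩ : N)⁻¹ * (⟨k, hKN hk⟩ : N) := by
    apply Subtype.ext
    simp [h]
  have h2 : r (⟨k, hKN hk⟩ : N) = 1 := by
    apply hr
    rw [Subgroup.mem_subgroupOf]
    exact hk
  rw [h1, map_mul, map_mul, hfix, map_inv, mul_inv_cancel, one_mul, h2, MonoidHom.one_apply]

/-- At most one linear twist of `ψ` is fixed by a given element acting fixed point freely. -/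
theorem twist_fixed_unique {G : Type u} [Group G] [Finite G] (K N : Subgroup G) [hK : K.Normal]
    [hN : N.Normal] (hKN : K ≤ N) (g : G)
    (hsurj : ∀ n ∈ N, ∃ n' ∈ N, ∃ k ∈ K, n = g * n' * g⁻¹ * n'⁻¹ * k)
    {ψ : N → ℂ} (hψ : IsIrrCharacter N ψ)
    (hθ : IsIrrCharacter (K.subgroupOf N) (fun y : K.subgroupOf N => ψ y))
    {f f' : N →* ℂˣ} (hf : K.subgroupOf N ≤ f.ker) (hf' : K.subgroupOf N ≤ f'.ker)
    (h1 : Helper5.conjFun N g (fun n => ((f n : ℂˣ) : ℂ) * ψ n) =
      fun n => ((f n : ℂˣ) : ℂ) * ψ n)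
    (h2 : Helper5.conjFun N g (fun n => ((f' n : ℂˣ) : ℂ) * ψ n) =
      fun n => ((f' n : ℂˣ) : ℂ) * ψ n) : f = f' := by
  classical
  set Y : Subgroup N := K.subgroupOf N with hY
  haveI : Y.Normal := Subgroup.normal_subgroupOf
  set α : N ≃* N := MulAut.conjNormal g with hα
  have hαY : ∀ y : N, y ∈ Y → α y ∈ Y := by
    intro y hy
    rw [hY, Subgroup.mem_subgroupOf] at hy ⊢
    rw [hα, MulAut.conjNormal_apply]
    exact hK.conj_mem _ hy g
  have e1 : ∀ n : N, ((f (α n) : ℂˣ) : ℂ) * ψ (α n) = ((f n : ℂˣ) : ℂ) * ψ n := by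
    intro n
    have := congrFun h1 n
    rw [Helper5.conjFun_apply] at this
    exact this
  have e2 : ∀ n : N, ((f' (α n) : ℂˣ) : ℂ) * ψ (α n) = ((f' n : ℂˣ) : ℂ) * ψ n := by
    intro n
    have := congrFun h2 n
    rw [Helper5.conjFun_apply] at this
    exact this
  set h₁ : N →* ℂˣ := (f'.comp α.toMonoidHom) * (f.comp α.toMonoidHom)⁻¹ * f with hh₁
  have hh₁app : ∀ x : N, h₁ x = f' (α x) * (f (α x))⁻¹ * f x := fun x => rfl
  have hker : Y ≤ h₁.ker := by
    intro y hy
    rw [MonoidHom.mem_ker, hh₁app]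
    have a1 : f' (α y) = 1 := hf' (hαY y hy)
    have a2 : f (α y) = 1 := hf (hαY y hy)
    have a3 : f y = 1 := hf hy
    rw [a1, a2, a3]
    simp
  have hinv := CopDeg.inv_restrict Y (isClassFunction_of_isIrrCharacter hψ)
  have heq : h₁ = f' := by
    apply CopDeg.twist_injective Y hθ hinv hψ (fun n => rfl) hker hf'
    intro x
    rw [hh₁app]
    push_cast
    have hne : ((f (α x) : ℂˣ) : ℂ) ≠ 0 := Units.ne_zero _
    calc ((f' (α x) : ℂˣ) : ℂ) * ((f (α x) : ℂˣ) : ℂ)⁻¹ * ((f x : ℂˣ) : ℂ) * ψ x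
        = ((f' (α x) : ℂˣ) : ℂ) * ((f (α x) : ℂˣ) : ℂ)⁻¹ * (((f x : ℂˣ) : ℂ) * ψ x) := by ring
      _ = ((f' (α x) : ℂˣ) : ℂ) * ((f (α x) : ℂˣ) : ℂ)⁻¹ *
            (((f (α x) : ℂˣ) : ℂ) * ψ (α x)) := by rw [e1]
      _ = ((f' (α x) : ℂˣ) : ℂ) * ψ (α x) := by field_simp
      _ = ((f' x : ℂˣ) : ℂ) * ψ x := e2 x
  set r : N →* ℂˣ := f' * f⁻¹ with hr
  have hrapp : ∀ x : N, r x = f' x * (f x)⁻¹ := fun x => rfl
  have hrker : K.subgroupOf N ≤ r.ker := by
    intro y hy
    rw [MonoidHom.mem_ker, hrapp]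
    have a1 : f' y = 1 := hf' hy
    have a3 : f y = 1 := hf hy
    rw [a1, a3]
    simp
  have hrfix : ∀ n : N, r (MulAut.conjNormal g n) = r n := by
    intro n
    have := congrArg (fun h : N →* ℂˣ => h n) heq
    simp only [hh₁app] at this
    rw [hrapp, hrapp]
    rw [← this]
    simp [hα]
  have hr1 := hom_eq_one_of_fixed K N hKN g hsurj r hrker hrfix
  apply MonoidHom.ext
  intro x
  have := congrArg (fun h : N →* ℂˣ => h x) hr1
  simp only [hrapp, MonoidHom.one_apply] at this
  rw [mul_inv_eq_one] at this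
  exact this.symm

/-- The number of linear characters of `N` trivial on `K`, when `N / K` is abelian. -/
theorem card_hom_ker {X : Type u} [Group X] [Finite X] (Y : Subgroup X) [Y.Normal]
    (hab : ∀ a b : X, a * b * a⁻¹ * b⁻¹ ∈ Y) :
    Nat.card {f : X →* ℂˣ // Y ≤ f.ker} = Y.index := by
  rw [Nat.card_congr (CopDeg.kerEquiv Y), card_monoidHom_units]
  have : commutator (X ⧸ Y) = ⊥ := by
    rw [commutator_def, Subgroup.commutator_eq_bot_iff_le_centralizer]
    intro a _
    rw [Subgroup.mem_centralizer_iff]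
    intro b _
    obtain ⟨a, rfl⟩ := QuotientGroup.mk_surjective a
    obtain ⟨b, rfl⟩ := QuotientGroup.mk_surjective b
    rw [← QuotientGroup.mk_mul, ← QuotientGroup.mk_mul, QuotientGroup.eq]
    have := hab a⁻¹ b⁻¹
    simpa [mul_assoc] using this
  rw [this, Subgroup.index_bot]
  rfl

/-- **The kernel of the Frobenius quotient is abelian.** -/
theorem abelian_of_frob {G : Type u} [Group G] [Finite G] {m : ℕ} (hcd : CdSub G m)
    (K N : Subgroup G) [hK : K.Normal] [hN : N.Normal] (hKN : K ≤ N)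
    (hab : ∀ a ∈ N, ∀ b ∈ N, a * b * a⁻¹ * b⁻¹ ∈ K)
    (hsurj : ∀ g, g ∉ N → ∀ n ∈ N, ∃ n' ∈ N, ∃ k ∈ K, n = g * n' * g⁻¹ * n'⁻¹ * k)
    (hcop : (K.relIndex N).Coprime m) (hNidx : N.index = m) (hlt : m ≤ K.relIndex N) :
    ∀ a ∈ N, ∀ b ∈ N, a * b = b * a := by
  classical
  letI : Fintype G := Fintype.ofFinite G
  letI : Fintype N := Fintype.ofFinite N
  suffices h : ∀ ψ : N → ℂ, IsIrrCharacter N ψ → charDegree ψ = 1 by
    intro a ha b hb
    have := comm_of_forall_linear h ⟨a, ha⟩ ⟨b, hb⟩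
    exact congrArg Subtype.val this
  intro ψ hψ
  by_contra hnl
  obtain ⟨χ, hχ, hcon⟩ := exists_over N hψ
  have hdvd := degree_dvd_of_constituent N hχ hψ hcon
  have hdm : charDegree ψ ∣ m := by
    rcases hcd χ hχ with h1 | h1
    · rw [h1, Nat.dvd_one] at hdvd
      exact absurd hdvd hnl
    · rwa [h1] at hdvd
  have hdpos := charDegree_pos hψ
  have hmpos : 0 < m := by
    rw [← hNidx]
    exact Nat.pos_of_ne_zero Subgroup.index_ne_zero_of_finite
  set Y : Subgroup N := K.subgroupOf N with hY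
  haveI : Y.Normal := Subgroup.normal_subgroupOf
  have hYidx : Y.index = K.relIndex N := rfl
  have hc : (charDegree ψ).Coprime Y.index := by
    rw [hYidx]
    exact (Nat.Coprime.coprime_dvd_right hdm hcop).symm
  have hθ := CopDeg.restrict_irr_of_coprime Y hψ hc
  -- the twists
  let φ : (N →* ℂˣ) → N → ℂ := fun f n => ((f n : ℂˣ) : ℂ) * ψ n
  have hφirr : ∀ f : N →* ℂˣ, IsIrrCharacter N (φ f) := fun f => isIrrCharacter_twist f hψ
  have hφdeg : ∀ f : N →* ℂˣ, charDegree (φ f) = charDegree ψ := by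
    intro f
    apply CopDeg.charDegree_congr
    show ((f 1 : ℂˣ) : ℂ) * ψ 1 = ψ 1
    rw [map_one, Units.val_one, one_mul]
  -- each twist is fixed by some element outside `N`
  have hfixed : ∀ f : N →* ℂˣ, ∃ g : G, g ∉ N ∧ Helper5.conjFun N g (φ f) = φ f := by
    intro f
    by_contra hcon
    push Not at hcon
    have hirr := isIrr_indFun_of_inertia N (hφirr f) hcon
    have hdeg : charDegree (indFun N (φ f)) = m * charDegree ψ := by
      have h1 : indFun N (φ f) 1 = ((m * charDegree ψ : ℕ) : ℂ) := by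
        rw [indFun_one, irr_one_eq_charDegree (hφirr f), hφdeg f, hNidx]
        push_cast
        ring
      have h2 := irr_one_eq_charDegree hirr
      rw [h1] at h2
      exact_mod_cast h2.symm
    rcases hcd _ hirr with h1 | h1
    · rw [hdeg] at h1
      have := Nat.eq_one_of_mul_eq_one_left h1
      exact hnl this
    · rw [hdeg] at h1
      have : charDegree ψ = 1 := by
        have h2 : m * charDegree ψ = m * 1 := by rw [h1, mul_one]
        exact Nat.eq_of_mul_eq_mul_left hmpos h2
      exact hnl this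
  choose gsel hgsel1 hgsel2 using hfixed
  let Λ := {f : N →* ℂˣ // Y ≤ f.ker}
  have hΛ : Nat.card Λ = K.relIndex N := by
    rw [← hYidx]
    apply card_hom_ker Y
    intro a b
    rw [hY, Subgroup.mem_subgroupOf]
    exact hab a a.2 b b.2
  haveI : Finite Λ := Nat.finite_of_card_ne_zero (by rw [hΛ]; omega)
  -- the injection
  let ι : (Λ × N) ⊕ N → G := Sum.elim (fun p => gsel p.1.1 * (p.2 : G)) (fun n => (n : G))
  have hfixmul : ∀ (f : Λ) (n : N), Helper5.conjFun N (gsel f.1 * (n : G)) (φ f.1) = φ f.1 := by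
    intro f n
    rw [Helper5.conjFun_mul, hgsel2,
      FrobKer.conjFun_of_mem N n.2 (isClassFunction_of_isIrrCharacter (hφirr f.1))]
  have hnotmem : ∀ (f : Λ) (n : N), gsel f.1 * (n : G) ∉ N := by
    intro f n h
    apply hgsel1 f.1
    have := N.mul_mem h (N.inv_mem n.2)
    simpa using this
  have hι : Function.Injective ι := by
    rintro (⟨f, n⟩ | n) (⟨f', n'⟩ | n') h
    · have h' : gsel f.1 * (n : G) = gsel f'.1 * (n' : G) := h
      have hff : f = f' := by
        apply Subtype.ext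
        apply twist_fixed_unique K N hKN (gsel f.1 * (n : G))
          (hsurj _ (hnotmem f n)) hψ hθ f.2 f'.2 (hfixmul f n)
        rw [h']
        exact hfixmul f' n'
      subst hff
      have : (n : G) = n' := mul_left_cancel h'
      rw [Subtype.ext this]
    · exfalso
      have h' : gsel f.1 * (n : G) = (n' : G) := h
      apply hnotmem f n
      rw [h']
      exact n'.2
    · exfalso
      have h' : (n : G) = gsel f'.1 * (n' : G) := h
      apply hnotmem f' n'
      rw [← h']
      exact n.2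
    · have h' : (n : G) = n' := h
      rw [Subtype.ext h']
  have hcard := Nat.card_le_card_of_injective ι hι
  rw [Nat.card_sum, Nat.card_prod, hΛ, ← N.card_mul_index, hNidx] at hcard
  have hNpos : 0 < Nat.card N := Nat.card_pos
  nlinarith

end Cfsg.Agent.Helper24.Cd2
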