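import Mathlib

/-!
# Normal chains with nilpotent factors (helper24's shared library)

`Chain G m`: there are normal subgroups `1 = N₀ ≤ N₁ ≤ ⋯ ≤ N_m = G` with nilpotent factors.
Padding, the nilpotent case, and lifting from a quotient by a nilpotent normal subgroup.
-/

set_option autoImplicit false
set_option linter.style.haveILetI false
set_option linter.unusedSectionVars false

namespace Cfsg.Agent.Helper24.NilChain

open Subgroup

variable {G : Type*} [Group G]

/-- A normal chain of length `m` with nilpotent factors. -/
def Chain (G : Type*) [Group G] (m : ℕ) : Prop :=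
  ∃ N : Fin (m + 1) → Subgroup G, N 0 = ⊥ ∧ N (Fin.last m) = ⊤ ∧ Monotone N ∧
    (∀ i, (N i).Normal) ∧ ∀ i : Fin m, ∀ _ : (N i.castSucc).subgroupOf (N i.succ) |>.Normal,
      Group.IsNilpotent (↥(N i.succ) ⧸ (N i.castSucc).subgroupOf (N i.succ))

/-- A quotient `A ⧸ B` is nilpotent if some homomorphism from `A` to a nilpotent group has kernel
inside `B`. -/
theorem isNilpotent_quotient_of_hom {A Q : Type*} [Group A] [Group Q] (hQ : Group.IsNilpotent Q)
    (ψ : A →* Q) (B : Subgroup A) [B.Normal] (hB : ψ.ker ≤ B) : Group.IsNilpotent (A ⧸ B) := by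
  haveI := hQ
  haveI : Group.IsNilpotent (A ⧸ ψ.ker) := by
    refine Subgroup.isNilpotent_of_ker_le_center (QuotientGroup.kerLift ψ) ?_
    rw [(MonoidHom.ker_eq_bot_iff _).mpr (QuotientGroup.kerLift_injective ψ)]
    exact bot_le
  refine Group.nilpotent_of_surjective (QuotientGroup.map ψ.ker B (MonoidHom.id A) hB) ?_
  intro q
  obtain ⟨a, rfl⟩ := QuotientGroup.mk_surjective q
  exact ⟨QuotientGroup.mk a, rfl⟩

/-- Factor of a chain whose bottom contains the top: trivial. -/
theorem isNilpotent_of_le (A B : Subgroup G) (hAB : A ≤ B) (h : (B.subgroupOf A).Normal) :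
    Group.IsNilpotent (↥A ⧸ B.subgroupOf A) := by
  haveI : Subsingleton (↥A ⧸ B.subgroupOf A) := by
    refine ⟨fun x y => ?_⟩
    have h1 : ∀ q : ↥A ⧸ B.subgroupOf A, q = 1 := by
      intro q
      obtain ⟨a, rfl⟩ := QuotientGroup.mk_surjective q
      rw [QuotientGroup.eq_one_iff, Subgroup.mem_subgroupOf]
      exact hAB a.2
    rw [h1 x, h1 y]
  infer_instance

/-- Factor of a chain whose top is nilpotent. -/
theorem isNilpotent_of_top (A B : Subgroup G) (hA : Group.IsNilpotent ↥A)
    (h : (B.subgroupOf A).Normal) : Group.IsNilpotent (↥A ⧸ B.subgroupOf A) := by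
  haveI := hA
  infer_instance

theorem isNilpotent_congr_chain (A B A' B' : Subgroup G) (hA : A = A') (hB : B = B')
    (hnil : ∀ _ : (B'.subgroupOf A').Normal, Group.IsNilpotent (↥A' ⧸ B'.subgroupOf A'))
    (h : (B.subgroupOf A).Normal) : Group.IsNilpotent (↥A ⧸ B.subgroupOf A) := by
  subst hA hB
  exact hnil h

/-- Padding a chain at the top. -/
theorem Chain.succ {m : ℕ} (h : Chain G m) : Chain G (m + 1) := by
  obtain ⟨N, h0, hlast, hmono, hnorm, hnil⟩ := h
  refine ⟨Fin.snoc N ⊤, ?_, ?_, ?_, ?_, ?_⟩
  · have : (0 : Fin (m + 1 + 1)) = Fin.castSucc (0 : Fin (m + 1)) := rfl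
    rw [this, Fin.snoc_castSucc, h0]
  · rw [Fin.snoc_last]
  · intro i j hij
    induction j using Fin.lastCases with
    | last => rw [Fin.snoc_last]; exact le_top
    | cast j =>
      induction i using Fin.lastCases with
      | last =>
        exfalso
        have h1 : (Fin.last (m + 1)).val ≤ (Fin.castSucc j).val := hij
        have h2 := j.2
        simp at h1
        omega
      | cast i =>
        rw [Fin.snoc_castSucc, Fin.snoc_castSucc]
        exact hmono (by simpa using hij)
  · intro i
    induction i using Fin.lastCases with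
    | last => rw [Fin.snoc_last]; infer_instance
    | cast i => rw [Fin.snoc_castSucc]; exact hnorm i
  · intro i
    induction i using Fin.lastCases with
    | last =>
      intro h
      apply isNilpotent_of_le _ _ _ h
      rw [Fin.snoc_castSucc, hlast]
      exact le_top
    | cast i =>
      intro h
      refine isNilpotent_congr_chain _ _ (N i.succ) (N i.castSucc) ?_ ?_ (hnil i) h
      · rw [← Fin.castSucc_succ, Fin.snoc_castSucc]
      · rw [Fin.snoc_castSucc]

theorem Chain.mono {m m' : ℕ} (h : Chain G m) (hm : m ≤ m') : Chain G m' := by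
  induction m', hm using Nat.le_induction with
  | base => exact h
  | succ k _ ih => exact ih.succ

/-- A nilpotent group has a chain of every positive length. -/
theorem chain_of_isNilpotent (hG : Group.IsNilpotent G) {m : ℕ} (hm : 1 ≤ m) : Chain G m := by
  refine Chain.mono (m := 1) ?_ hm
  refine ⟨fun i => if i = 0 then ⊥ else ⊤, by simp, by simp, ?_, ?_, ?_⟩
  · intro i j hij
    by_cases hj : j = 0
    · have : i = 0 := by
        rw [hj] at hij
        exact Fin.le_zero_iff.mp hij
      simp [hj, this]
    · simp [hj]
  · intro i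
    by_cases hi : i = 0
    · simp only [hi, if_true]; infer_instance
    · simp only [hi, if_false]; infer_instance
  · intro i h
    apply isNilpotent_of_top _ _ _ h
    have : i.succ ≠ 0 := Fin.succ_ne_zero i
    show Group.IsNilpotent ↥(if i.succ = 0 then (⊥ : Subgroup G) else ⊤)
    rw [if_neg this]
    exact (Group.isNilpotent_top).mpr hG

/-- Lifting a chain from the quotient by a nilpotent normal subgroup. -/
theorem Chain.lift {m : ℕ} (F : Subgroup G) [F.Normal] (hF : Group.IsNilpotent ↥F)
    (h : Chain (G ⧸ F) m) : Chain G (m + 1) := by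
  obtain ⟨N, h0, hlast, hmono, hnorm, hnil⟩ := h
  set mk := QuotientGroup.mk' F with hmk
  refine ⟨Fin.cons ⊥ (fun i => (N i).comap mk), ?_, ?_, ?_, ?_, ?_⟩
  · rw [Fin.cons_zero]
  · rw [← Fin.succ_last, Fin.cons_succ, hlast, Subgroup.comap_top]
  · intro i j hij
    induction i using Fin.cases with
    | zero => rw [Fin.cons_zero]; exact bot_le
    | succ i =>
      induction j using Fin.cases with
      | zero =>
        exfalso
        have h1 : (Fin.succ i).val ≤ (0 : Fin (m + 1 + 1)).val := hij
        simp at h1
      | succ j =>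
        rw [Fin.cons_succ, Fin.cons_succ]
        exact Subgroup.comap_mono (hmono (by simpa using hij))
  · intro i
    induction i using Fin.cases with
    | zero => rw [Fin.cons_zero]; infer_instance
    | succ i => rw [Fin.cons_succ]; exact (hnorm i).comap _
  · intro i
    induction i using Fin.cases with
    | zero =>
      intro h
      apply isNilpotent_of_top _ _ _ h
      have : (Fin.cons ⊥ (fun i => (N i).comap mk) : Fin (m + 1 + 1) → Subgroup G)
          (Fin.succ (0 : Fin (m + 1))) = F := by
        rw [Fin.cons_succ, h0, hmk]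
        ext x
        rw [Subgroup.mem_comap, Subgroup.mem_bot, QuotientGroup.mk'_apply,
          QuotientGroup.eq_one_iff]
      rw [this]
      exact hF
    | succ i =>
      intro h
      refine isNilpotent_congr_chain _ _ ((N i.succ).comap mk) ((N i.castSucc).comap mk) ?_ ?_ ?_ h
      · rw [Fin.cons_succ]
      · rw [← Fin.succ_castSucc, Fin.cons_succ]
      · intro h'
        haveI := hnorm i.castSucc
        have hQ := hnil i inferInstance
        -- the homomorphism `comap (N (i+1)) → N (i+1) / N i`
        let ψ₀ : ↥((N i.succ).comap mk) →* ↥(N i.succ) :=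
          (mk.comp ((N i.succ).comap mk).subtype).codRestrict (N i.succ) (fun x => x.2)
        let ψ : ↥((N i.succ).comap mk) →* ↥(N i.succ) ⧸ (N i.castSucc).subgroupOf (N i.succ) :=
          (QuotientGroup.mk' _).comp ψ₀
        refine isNilpotent_quotient_of_hom hQ ψ _ ?_
        intro x hx
        rw [MonoidHom.mem_ker] at hx
        have h1 : ψ₀ x ∈ (N i.castSucc).subgroupOf (N i.succ) := by
          have : (QuotientGroup.mk' ((N i.castSucc).subgroupOf (N i.succ))) (ψ₀ x) = 1 := hx
          rwa [QuotientGroup.mk'_apply, QuotientGroup.eq_one_iff] at this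
        rw [Subgroup.mem_subgroupOf] at h1 ⊢
        rw [Subgroup.mem_comap]
        exact h1

end Cfsg.Agent.Helper24.NilChain
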