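import Mathlib
import Cfsg.Agent.Lib.Helper24.Cd2Frob
import Cfsg.Agent.Lib.Helper24.Cd2Ker
import Cfsg.Agent.Lib.Helper24.NilpotentChain

/-!
# Two character degrees: the non-nilpotent case (helper24's shared library)

A non-nilpotent group with `cd(G) ⊆ {1, m}` has an abelian normal subgroup of index `m` containing
the commutator subgroup.
-/

set_option autoImplicit false
set_option linter.style.haveILetI false
set_option linter.unusedSectionVars false

namespace Cfsg.Agent.Helper24.Cd2

open Cfsg Cfsg.Agent.Helper24 Cfsg.Agent.Helper5 Cfsg.Agent.Helper18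
open scoped commutatorElement

universe u

/-- In a Frobenius-like group, an element outside the abelian kernel induces a surjective
commutator map on the kernel. -/
theorem FrobData.surj {Q : Type u} [Group Q] [Finite Q] {M : Subgroup Q} {m p a : ℕ}
    (h : FrobData Q M m p a) {x : Q} (hx : x ∉ M) {y : Q} (hy : y ∈ M) :
    ∃ z ∈ M, y = x * z * x⁻¹ * z⁻¹ := by
  haveI := h.normal
  let c : M → M := fun z => ⟨x * z * x⁻¹ * (z : Q)⁻¹,
    M.mul_mem (h.normal.conj_mem _ z.2 x) (M.inv_mem z.2)⟩
  have hinj : Function.Injective c := by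
    intro z z' hzz
    have h1 : x * z * x⁻¹ * (z : Q)⁻¹ = x * z' * x⁻¹ * (z' : Q)⁻¹ := congrArg Subtype.val hzz
    set u : Q := x * z * x⁻¹ with hu
    set u' : Q := x * z' * x⁻¹ with hu'
    have hum : u ∈ M := h.normal.conj_mem _ z.2 x
    have hum' : u' ∈ M := h.normal.conj_mem _ z'.2 x
    -- `w = z'⁻¹ z` is fixed
    set w : Q := (z' : Q)⁻¹ * z with hw
    have hwm : w ∈ M := M.mul_mem (M.inv_mem z'.2) z.2
    have h2 : u'⁻¹ * u = w := by
      have e1 : u = u' * (z' : Q)⁻¹ * z := by
        calc u = u * (z : Q)⁻¹ * z := by group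
          _ = u' * (z' : Q)⁻¹ * z := by rw [h1]
      rw [e1, hw]
      group
    have h3 : x * w * x⁻¹ = w := by
      have e : x * w * x⁻¹ = u'⁻¹ * u := by
        rw [hw, hu, hu']
        group
      rw [e, h2]
    have h4 : x * w = w * x := by
      calc x * w = x * w * x⁻¹ * x := by group
        _ = w * x := by rw [h3]
    have h5 := h.fpf x hx w hwm h4
    apply Subtype.ext
    have : (z : Q) = z' * w := by rw [hw]; group
    rw [this, h5, mul_one]
  have hsurj := Finite.surjective_of_injective hinj
  obtain ⟨z, hz⟩ := hsurj ⟨y, hy⟩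
  exact ⟨z, z.2, (congrArg Subtype.val hz).symm⟩

/-- **The non-nilpotent case**: an abelian normal subgroup of index `m` containing `G'`. -/
theorem exists_abelian_of_not_nilpotent {G : Type u} [Group G] [Finite G] {m : ℕ}
    (hcd : CdSub G m) (hnn : ¬ Group.IsNilpotent G) :
    ∃ N : Subgroup G, N.Normal ∧ (∀ a ∈ N, ∀ b ∈ N, a * b = b * a) ∧ N.index = m ∧
      commutator G ≤ N := by
  classical
  haveI hsolv : Group.IsSolvable G := isSolvable_of_cdSub _ G m rfl hcd
  -- a maximal normal subgroup with non-nilpotent quotient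
  let S : Set (Subgroup G) := {K | ∃ h : K.Normal, ¬ Group.IsNilpotent (G ⧸ K)}
  have hS : S.Nonempty := by
    refine ⟨⊥, inferInstance, ?_⟩
    intro h
    apply hnn
    exact Group.nilpotent_of_surjective (QuotientGroup.quotientBot (G := G)).toMonoidHom
      (QuotientGroup.quotientBot (G := G)).surjective
  obtain ⟨K, ⟨hK, hKnn⟩, hKmax⟩ := (wellFounded_gt (α := Subgroup G)).has_min S hS
  haveI := hK
  have hq : ∀ (N' : Subgroup (G ⧸ K)) [N'.Normal], N' ≠ ⊥ → Group.IsNilpotent ((G ⧸ K) ⧸ N') := by
    intro N' hN' hne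
    set K' : Subgroup G := N'.comap (QuotientGroup.mk' K) with hK'
    haveI : K'.Normal := Subgroup.Normal.comap hN' _
    have hKK' : K ≤ K' := by
      intro k hk
      rw [hK', Subgroup.mem_comap, QuotientGroup.mk'_apply, (QuotientGroup.eq_one_iff k).mpr hk]
      exact N'.one_mem
    have hlt : K < K' := by
      refine lt_of_le_of_ne hKK' ?_
      intro heq
      apply hne
      rw [Subgroup.eq_bot_iff_forall]
      intro q hq
      obtain ⟨g, rfl⟩ := QuotientGroup.mk_surjective q
      have : g ∈ K' := hq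
      rw [← heq] at this
      exact (QuotientGroup.eq_one_iff g).mpr this
    have hnil : Group.IsNilpotent (G ⧸ K') := by
      by_contra hcon
      exact hKmax K' ⟨inferInstance, hcon⟩ hlt
    let ψ : G ⧸ K →* G ⧸ K' := QuotientGroup.map K K' (MonoidHom.id G) hKK'
    refine NilChain.isNilpotent_quotient_of_hom hnil ψ N' ?_
    intro q hq
    obtain ⟨g, rfl⟩ := QuotientGroup.mk_surjective q
    rw [MonoidHom.mem_ker] at hq
    have h1 : (QuotientGroup.mk g : G ⧸ K') = 1 := hq
    rw [QuotientGroup.eq_one_iff] at h1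
    exact h1
  have hnab : ∃ a b : G ⧸ K, a * b ≠ b * a := by
    by_contra hcon
    push Not at hcon
    apply hKnn
    letI : CommGroup (G ⧸ K) := { (inferInstance : Group (G ⧸ K)) with mul_comm := hcon }
    exact CommGroup.isNilpotent
  haveI hsolvQ : Group.IsSolvable (G ⧸ K) := inferInstance
  obtain ⟨M, H, hprim⟩ := exists_prim hKnn hq
  obtain ⟨p, a, hF⟩ := hprim.frobData hnab (hcd.quotient K)
  haveI := hF.normal
  set N : Subgroup G := M.comap (QuotientGroup.mk' K) with hN
  haveI hNn : N.Normal := Subgroup.Normal.comap hF.normal _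
  have hKN : K ≤ N := by
    intro k hk
    rw [hN, Subgroup.mem_comap, QuotientGroup.mk'_apply, (QuotientGroup.eq_one_iff k).mpr hk]
    exact M.one_mem
  have hNidx : N.index = m := by
    rw [hN, Subgroup.index_comap_of_surjective _ (QuotientGroup.mk'_surjective K), hF.index]
  have hmpos : 0 < m := by
    rw [← hNidx]
    exact Nat.pos_of_ne_zero Subgroup.index_ne_zero_of_finite
  have hrel : K.relIndex N = p ^ a := by
    have h1 : K.relIndex N * N.index = K.index := Subgroup.relIndex_mul_index hKN
    have h2 : K.index = Nat.card M * M.index := by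
      rw [Subgroup.index_eq_card, M.card_mul_index]
    rw [h2, hNidx, hF.index, hF.card] at h1
    exact Nat.eq_of_mul_eq_mul_right hmpos h1
  have hmemN : ∀ g : G, g ∈ N ↔ (QuotientGroup.mk g : G ⧸ K) ∈ M := fun g => Iff.rfl
  refine ⟨N, hNn, ?_, hNidx, ?_⟩
  · apply abelian_of_frob hcd K N hKN
    · intro x hx y hy
      rw [← QuotientGroup.eq_one_iff]
      have := hF.comm _ ((hmemN x).mp hx) _ ((hmemN y).mp hy)
      rw [QuotientGroup.mk_mul, QuotientGroup.mk_mul, QuotientGroup.mk_mul, this,
        QuotientGroup.mk_inv, QuotientGroup.mk_inv]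
      group
    · intro g hg n hn
      obtain ⟨z, hz, hzeq⟩ := hF.surj (x := (QuotientGroup.mk g : G ⧸ K)) hg ((hmemN n).mp hn)
      obtain ⟨n', rfl⟩ := QuotientGroup.mk_surjective z
      refine ⟨n', hz, (g * n' * g⁻¹ * n'⁻¹)⁻¹ * n, ?_, by group⟩
      rw [← QuotientGroup.eq]
      rw [QuotientGroup.mk_mul, QuotientGroup.mk_mul, QuotientGroup.mk_mul, QuotientGroup.mk_inv,
        QuotientGroup.mk_inv]
      exact hzeq.symm
    · rw [hrel]
      exact Nat.Coprime.pow_left a ((Nat.Prime.coprime_iff_not_dvd hF.prime).mpr hF.cop)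
    · exact hNidx
    · rw [hrel]
      have := hF.lt
      omega
  · rw [commutator_def, Subgroup.commutator_le]
    intro x _ y _
    rw [hmemN]
    apply hF.comm_le
    rw [commutator_def]
    have : (QuotientGroup.mk ⁅x, y⁆ : G ⧸ K) = ⁅(QuotientGroup.mk x : G ⧸ K), QuotientGroup.mk y⁆ := by
      rw [commutatorElement_def, commutatorElement_def]
      rfl
    rw [this]
    exact Subgroup.commutator_mem_commutator (Subgroup.mem_top _) (Subgroup.mem_top _)

end Cfsg.Agent.Helper24.Cd2
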