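import Mathlib
import Cfsg.Agent.Lib.Helper24.Cd2Basic
import Cfsg.Agent.Lib.Helper24.CharAlgebra
import Cfsg.Agent.Lib.Helper24.Cd2Nil
import Cfsg.Agent.Lib.Helper5.FrobKer

/-!
# Three character degrees: the product trick (helper24's shared library)

Let `cd(G) ⊆ {1, a, b}` with `1 < a < b` coprime and both occurring, and suppose every nonlinear
irreducible character of `G` is faithful.  Then we reach a contradiction.  (Products of characters
of degree `a` and `b` are homogeneous in degree; products of two characters of degree `a` contain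
a character of degree `b` only if they contain a linear character.)
-/

set_option autoImplicit false
set_option linter.style.haveILetI false
set_option linter.unusedSectionVars false
set_option linter.unusedVariables false

namespace Cfsg.Agent.Helper24.Cd3

open Cfsg Cfsg.Agent.Helper24 Cfsg.Agent.Helper5 Cfsg.Agent.Helper24.Cd2
open scoped ComplexConjugate commutatorElement

universe u

/-- `cd(G) ⊆ {1, a, b}`. -/
def IsCd3 (G : Type u) [Group G] (a b : ℕ) : Prop :=
  ∀ χ : G → ℂ, IsIrrCharacter G χ → charDegree χ = 1 ∨ charDegree χ = a ∨ charDegree χ = b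

section Arith

theorem arith1 {a b x y : ℕ} (hab : Nat.Coprime a b) (ha : 0 < a) (hb : 0 < b)
    (h : a * x + b * y = a * b) : x = 0 ∨ y = 0 := by
  have h1 : b ∣ a * x := by
    have h2 : b ∣ a * x + b * y := by rw [h]; exact dvd_mul_left b a
    exact (Nat.dvd_add_left (dvd_mul_right b y)).mp h2
  have h2 : b ∣ x := Nat.Coprime.dvd_of_dvd_mul_left hab.symm h1
  by_cases hx : x = 0
  · left; exact hx
  · right
    have hxb : b ≤ x := Nat.le_of_dvd (Nat.pos_of_ne_zero hx) h2
    have h3 : a * b ≤ a * x := Nat.mul_le_mul_left a hxb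
    have h4 : b * y = 0 := by omega
    rcases Nat.mul_eq_zero.mp h4 with hb0 | hy
    · omega
    · exact hy

theorem arith2 {a b x y z : ℕ} (hab : Nat.Coprime a b) (ha : 0 < a) (hlt : a < b)
    (h : z + a * x + b * y = a * a) (hy : 1 ≤ y) : 1 ≤ z := by
  by_contra hz
  have hz0 : z = 0 := by omega
  subst hz0
  have h1 : a ∣ b * y := by
    have h2 : a ∣ a * x + b * y := by
      have : 0 + a * x + b * y = a * a := h
      rw [zero_add] at this
      rw [this]; exact dvd_mul_right a a
    exact (Nat.dvd_add_right (dvd_mul_right a x)).mp h2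
  have h2 : a ∣ y := Nat.Coprime.dvd_of_dvd_mul_left hab h1
  have hya : a ≤ y := Nat.le_of_dvd (by omega) h2
  have h3 : b * a ≤ b * y := Nat.mul_le_mul_left b hya
  have h4 : a * a < b * a := Nat.mul_lt_mul_of_pos_right hlt ha
  omega

end Arith

section Inner

variable {G : Type u} [Group G] [Fintype G]

theorem classInner_mul_left (α β γ : G → ℂ) :
    classInner (α * β) γ = classInner α ((fun g => conj (β g)) * γ) := by
  unfold classInner
  congr 1
  refine Finset.sum_congr rfl fun g _ => ?_
  simp only [Pi.mul_apply, map_mul, Complex.conj_conj]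
  ring

/-- The degree of a character in terms of its multiplicities. -/
theorem degree_decomp [Fintype (IrrCharacter G)] {φ : G → ℂ} (hφ : IsCharacter G φ)
    (m : IrrCharacter G → ℕ) (hm : ∀ η : IrrCharacter G, classInner φ (η : G → ℂ) = m η) :
    charDegree φ = ∑ η : IrrCharacter G, m η * charDegree (η : G → ℂ) := by
  have h := (isCharacter_decomp hφ).2
  have h1 := congrFun h 1
  rw [Finset.sum_apply] at h1
  have h2 : (charDegree φ : ℂ) = ((∑ η : IrrCharacter G, m η * charDegree (η : G → ℂ) : ℕ) : ℂ) := by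
    rw [← char_one_eq_charDegree hφ, h1]
    push_cast
    refine Finset.sum_congr rfl fun η _ => ?_
    rw [Pi.smul_apply, smul_eq_mul, hm, irr_one_eq_charDegree η.2]
  exact_mod_cast h2

/-- Splitting the degree sum according to the three degrees. -/
theorem split3 [Fintype (IrrCharacter G)] {a b : ℕ} (hcd : IsCd3 G a b) (ha1 : a ≠ 1) (hb1 : b ≠ 1)
    (hab : a ≠ b) (m : IrrCharacter G → ℕ) :
    ∑ η : IrrCharacter G, m η * charDegree (η : G → ℂ) =
      (∑ η : IrrCharacter G, if charDegree (η : G → ℂ) = 1 then m η else 0) +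
      a * (∑ η : IrrCharacter G, if charDegree (η : G → ℂ) = a then m η else 0) +
      b * (∑ η : IrrCharacter G, if charDegree (η : G → ℂ) = b then m η else 0) := by
  rw [Finset.mul_sum, Finset.mul_sum, ← Finset.sum_add_distrib, ← Finset.sum_add_distrib]
  refine Finset.sum_congr rfl fun η _ => ?_
  rcases hcd _ η.2 with h | h | h
  · rw [h, if_pos rfl, if_neg (fun h' => ha1 h'.symm), if_neg (fun h' => hb1 h'.symm)]
    ring
  · rw [h, if_neg ha1, if_pos rfl, if_neg hab]
    ring
  · rw [h, if_neg hb1, if_neg (fun h' => hab h'.symm), if_pos rfl]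
    ring


/-- A nonlinear irreducible character is nontrivial on the commutator subgroup. -/
theorem rel_commutator {χ : G → ℂ} (hχ : IsIrrCharacter G χ) (hnl : charDegree χ ≠ 1) :
    FrobKer.Rel (commutator G) χ := by
  by_contra hr
  have hN : ∀ k ∈ commutator G, χ k = χ 1 := fun k hk => FrobKer.not_rel hr hk
  obtain ⟨ψ, hψ, hχψ⟩ := exists_deflate (commutator G) hχ hN
  have hqab : ∀ x y : G ⧸ commutator G, x * y = y * x := by
    intro x y
    obtain ⟨x, rfl⟩ := QuotientGroup.mk_surjective x
    obtain ⟨y, rfl⟩ := QuotientGroup.mk_surjective y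
    have h1 : ⁅x, y⁆ ∈ commutator G := Subgroup.commutator_mem_commutator (Subgroup.mem_top _)
      (Subgroup.mem_top _)
    have h2 : (QuotientGroup.mk ⁅x, y⁆ : G ⧸ commutator G) = 1 := (QuotientGroup.eq_one_iff _).mpr h1
    rw [commutatorElement_def, QuotientGroup.mk_mul, QuotientGroup.mk_mul,
      QuotientGroup.mk_mul, QuotientGroup.mk_inv, QuotientGroup.mk_inv] at h2
    calc (QuotientGroup.mk x : G ⧸ commutator G) * QuotientGroup.mk y
        = (QuotientGroup.mk x * QuotientGroup.mk y * (QuotientGroup.mk x)⁻¹ *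
            (QuotientGroup.mk y)⁻¹) * (QuotientGroup.mk y * QuotientGroup.mk x) := by group
      _ = QuotientGroup.mk y * QuotientGroup.mk x := by rw [h2, one_mul]
  have h1 := linear_of_comm hqab hψ
  apply hnl
  rw [hχψ]
  have : charDegree (ψ ∘ (QuotientGroup.mk : G → G ⧸ commutator G)) = charDegree ψ :=
    charDegree_comp (QuotientGroup.mk' (commutator G)) ψ
  rw [this, h1]

theorem one_of_degree_one {lam : G → ℂ} (hl : IsIrrCharacter G lam) (h1 : charDegree lam = 1) :
    lam 1 = 1 := by
  rw [irr_one_eq_charDegree hl, h1, Nat.cast_one]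

theorem charDegree_mul {α β : G → ℂ} (hα : IsCharacter G α) (hβ : IsCharacter G β) :
    charDegree (α * β) = charDegree α * charDegree β := by
  apply charDegree_natCast
  rw [Pi.mul_apply, char_one_eq_charDegree hα, char_one_eq_charDegree hβ]
  push_cast
  ring

theorem charDegree_conj {α : G → ℂ} (hα : IsCharacter G α) :
    charDegree (fun g => conj (α g)) = charDegree α := by
  apply charDegree_natCast
  show conj (α 1) = _
  rw [char_one_eq_charDegree hα, Complex.conj_natCast]

/-- Irreducible characters of different degrees are orthogonal. -/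
theorem classInner_eq_zero_of_degree_ne {α β : G → ℂ} (hα : IsIrrCharacter G α)
    (hβ : IsIrrCharacter G β) (h : charDegree α ≠ charDegree β) : classInner α β = 0 := by
  rw [irr_orthogonality hα hβ, if_neg]
  intro h'
  exact h (by rw [h'])

end Inner

section Trick

variable {G : Type u} [Group G] [Fintype G] {a b : ℕ}

/-- No linear constituents in the product of characters of degrees `a ≠ b`. -/
theorem inner_mul_linear_eq_zero (hab : a ≠ b) {χ ψ lam : G → ℂ} (hχ : IsIrrCharacter G χ)
    (hψ : IsIrrCharacter G ψ) (hl : IsIrrCharacter G lam) (hχa : charDegree χ = a)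
    (hψb : charDegree ψ = b) (hl1 : charDegree lam = 1) : classInner (χ * ψ) lam = 0 := by
  classical
  letI := irrFintype (G := G)
  rw [classInner_mul_left]
  have hirr : IsIrrCharacter G ((fun g => conj (ψ g)) * lam) :=
    isIrrCharacter_mul_linear (isIrrCharacter_conj hψ) (isCharacter_of_isIrrCharacter hl)
      (one_of_degree_one hl hl1)
  have hdeg : charDegree ((fun g => conj (ψ g)) * lam) = b := by
    rw [charDegree_mul (isCharacter_conj (isCharacter_of_isIrrCharacter hψ))
      (isCharacter_of_isIrrCharacter hl), charDegree_conj (isCharacter_of_isIrrCharacter hψ),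
      hψb, hl1, mul_one]
  exact classInner_eq_zero_of_degree_ne hχ hirr (by rw [hχa, hdeg]; exact hab)


/-- If the product of characters of degrees `a` and `b` has a constituent of degree `a`, it has
no constituent of degree `b`. -/
theorem no_b_of_a (hcd : IsCd3 G a b) (ha : 1 < a) (hlt : a < b) (hcop : a.Coprime b)
    {χ ψ ξ : G → ℂ} (hχ : IsIrrCharacter G χ) (hψ : IsIrrCharacter G ψ) (hξ : IsIrrCharacter G ξ)
    (hχa : charDegree χ = a) (hψb : charDegree ψ = b) (hξa : charDegree ξ = a)
    (hne : classInner (χ * ψ) ξ ≠ 0) :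
    ∀ η : G → ℂ, IsIrrCharacter G η → charDegree η = b → classInner (χ * ψ) η = 0 := by
  classical
  letI := irrFintype (G := G)
  have hχc := isCharacter_of_isIrrCharacter hχ
  have hψc := isCharacter_of_isIrrCharacter hψ
  have hφ : IsCharacter G (χ * ψ) := isCharacter_mul hχc hψc
  obtain ⟨hm, -⟩ := isCharacter_decomp hφ
  choose m hm using hm
  have hdeg := degree_decomp hφ m hm
  rw [charDegree_mul hχc hψc, hχa, hψb, split3 hcd (by omega) (by omega) (by omega) m] at hdeg
  have hZ : (∑ η : IrrCharacter G, if charDegree (η : G → ℂ) = 1 then m η else 0) = 0 := by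
    apply Finset.sum_eq_zero
    intro η _
    split_ifs with h
    · have h0 := inner_mul_linear_eq_zero (by omega) hχ hψ η.2 hχa hψb h
      rw [hm] at h0
      exact_mod_cast h0
    · rfl
  have hX : 1 ≤ ∑ η : IrrCharacter G, if charDegree (η : G → ℂ) = a then m η else 0 := by
    have h1 : m ⟨ξ, hξ⟩ ≠ 0 := by
      intro h0
      apply hne
      have h2 := hm ⟨ξ, hξ⟩
      rw [h0] at h2
      simpa using h2
    have h2 := Finset.single_le_sum
      (f := fun η : IrrCharacter G => if charDegree (η : G → ℂ) = a then m η else 0)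
      (fun _ _ => Nat.zero_le _) (Finset.mem_univ (⟨ξ, hξ⟩ : IrrCharacter G))
    simp only at h2
    rw [if_pos hξa] at h2
    omega
  rw [hZ, zero_add] at hdeg
  rcases arith1 hcop (by omega) (by omega) hdeg.symm with h | h
  · omega
  · intro η hη hηb
    have h3 := (Finset.sum_eq_zero_iff.mp h) ⟨η, hη⟩ (Finset.mem_univ _)
    rw [if_pos hηb] at h3
    rw [hm ⟨η, hη⟩, h3, Nat.cast_zero]

/-- If `χ̄ ξ` (both of degree `a`) contains a character of degree `b`, then `ξ` is a linear twist
of `χ`. -/
theorem exists_linear_of_b (hcd : IsCd3 G a b) (ha : 1 < a) (hlt : a < b) (hcop : a.Coprime b)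
    {χ ξ ψ : G → ℂ} (hχ : IsIrrCharacter G χ) (hξ : IsIrrCharacter G ξ) (hψ : IsIrrCharacter G ψ)
    (hχa : charDegree χ = a) (hξa : charDegree ξ = a) (hψb : charDegree ψ = b)
    (hne : classInner ((fun g => conj (χ g)) * ξ) ψ ≠ 0) :
    ∃ lam : G → ℂ, IsIrrCharacter G lam ∧ charDegree lam = 1 ∧ ξ = χ * lam := by
  classical
  letI := irrFintype (G := G)
  have hχc := isCharacter_of_isIrrCharacter hχ
  have hξc := isCharacter_of_isIrrCharacter hξ
  have hχc' : IsCharacter G (fun g => conj (χ g)) := isCharacter_conj hχc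
  have hφ : IsCharacter G ((fun g => conj (χ g)) * ξ) := isCharacter_mul hχc' hξc
  obtain ⟨hm, -⟩ := isCharacter_decomp hφ
  choose m hm using hm
  have hdeg := degree_decomp hφ m hm
  rw [charDegree_mul hχc' hξc, charDegree_conj hχc, hχa, hξa,
    split3 hcd (by omega) (by omega) (by omega) m] at hdeg
  have hY : 1 ≤ ∑ η : IrrCharacter G, if charDegree (η : G → ℂ) = b then m η else 0 := by
    have h1 : m ⟨ψ, hψ⟩ ≠ 0 := by
      intro h0
      apply hne
      have h2 := hm ⟨ψ, hψ⟩
      rw [h0] at h2
      simpa using h2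
    have h2 := Finset.single_le_sum
      (f := fun η : IrrCharacter G => if charDegree (η : G → ℂ) = b then m η else 0)
      (fun _ _ => Nat.zero_le _) (Finset.mem_univ (⟨ψ, hψ⟩ : IrrCharacter G))
    simp only at h2
    rw [if_pos hψb] at h2
    omega
  have hZ := arith2 hcop (by omega) hlt hdeg.symm hY
  obtain ⟨η, -, hη⟩ : ∃ η ∈ (Finset.univ : Finset (IrrCharacter G)),
      (if charDegree (η : G → ℂ) = 1 then m η else 0) ≠ 0 := by
    by_contra hcon
    push Not at hcon
    have := Finset.sum_eq_zero hcon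
    omega
  split_ifs at hη with h1
  · refine ⟨η.1, η.2, h1, ?_⟩
    have h2 : classInner ((fun g => conj (χ g)) * ξ) (η : G → ℂ) ≠ 0 := by
      rw [hm]
      exact_mod_cast hη
    rw [mul_comm, classInner_mul_left] at h2
    have h3 : (fun g => conj ((fun g => conj (χ g)) g)) * (η : G → ℂ) = χ * (η : G → ℂ) := by
      funext g
      simp
    rw [h3] at h2
    have hirr : IsIrrCharacter G (χ * (η : G → ℂ)) :=
      isIrrCharacter_mul_linear hχ (isCharacter_of_isIrrCharacter η.2) (one_of_degree_one η.2 h1)
    rw [irr_orthogonality hξ hirr] at h2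
    by_contra hne'
    rw [if_neg hne'] at h2
    exact h2 rfl
  · exact absurd rfl hη


/-- If `χ χ̄` contains a (faithful) character of degree `b`, we reach a contradiction. -/
theorem false_of_inner_ne_zero (hcd : IsCd3 G a b) (ha : 1 < a) (hlt : a < b) (hcop : a.Coprime b)
    (hfaith : ∀ χ : G → ℂ, IsIrrCharacter G χ → charDegree χ ≠ 1 → ∀ g, χ g = χ 1 → g = 1)
    {χ ψ : G → ℂ} (hχ : IsIrrCharacter G χ) (hψ : IsIrrCharacter G ψ)
    (hχa : charDegree χ = a) (hψb : charDegree ψ = b)
    (hne : classInner ((fun g => conj (χ g)) * χ) ψ ≠ 0) : False := by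
  classical
  letI := irrFintype (G := G)
  have hχc := isCharacter_of_isIrrCharacter hχ
  have hψc := isCharacter_of_isIrrCharacter hψ
  have hφ : IsCharacter G (χ * ψ) := isCharacter_mul hχc hψc
  have h1 : classInner (χ * ψ) χ ≠ 0 := by
    rw [mul_comm, classInner_mul_left, ← classInner_conj_symm ((fun g => conj (χ g)) * χ) ψ]
    intro h
    exact hne ((map_eq_zero _).mp h)
  have hnob := no_b_of_a hcd ha hlt hcop hχ hψ hχ hχa hψb hχa h1
  obtain ⟨hm, hdec⟩ := isCharacter_decomp hφ
  choose m hm using hm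
  have hcons : ∀ η : IrrCharacter G, m η ≠ 0 → charDegree (η : G → ℂ) = a ∧
      ∀ g ∈ commutator G, (η : G → ℂ) g = χ g := by
    intro η hη
    have hne' : classInner (χ * ψ) (η : G → ℂ) ≠ 0 := by
      rw [hm]
      exact_mod_cast hη
    have hda : charDegree (η : G → ℂ) = a := by
      rcases hcd _ η.2 with h | h | h
      · exfalso
        exact hne' (inner_mul_linear_eq_zero (by omega) hχ hψ η.2 hχa hψb h)
      · exact h
      · exfalso
        exact hne' (hnob _ η.2 h)
    refine ⟨hda, ?_⟩
    have h2 : classInner ((fun g => conj (χ g)) * (η : G → ℂ)) ψ ≠ 0 := by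
      rw [mul_comm, classInner_mul_left,
        ← classInner_conj_symm ((fun g => conj (χ g)) * (η : G → ℂ)) ψ] at hne'
      intro h
      apply hne'
      rw [h, map_zero]
    obtain ⟨lam, hl, hl1, hηeq⟩ := exists_linear_of_b hcd ha hlt hcop hχ η.2 hψ hχa hda hψb h2
    intro g hg
    rw [hηeq, Pi.mul_apply, linear_eq_one_on_commutator hl hl1 hg, mul_one]
  have hdeg := degree_decomp hφ m hm
  have hsum : ∑ η : IrrCharacter G, m η = b := by
    have h3 : ∑ η : IrrCharacter G, m η * charDegree (η : G → ℂ) =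
        (∑ η : IrrCharacter G, m η) * a := by
      rw [Finset.sum_mul]
      refine Finset.sum_congr rfl fun η _ => ?_
      by_cases h0 : m η = 0
      · rw [h0, zero_mul, zero_mul]
      · rw [(hcons η h0).1]
    rw [h3, charDegree_mul hχc hψc, hχa, hψb] at hdeg
    have h4 : a * b = a * ∑ η : IrrCharacter G, m η := by rw [hdeg]; ring
    exact (Nat.eq_of_mul_eq_mul_left (by omega) h4).symm
  have hval : ∀ g ∈ commutator G, χ g * ψ g = (b : ℂ) * χ g := by
    intro g hg
    have h4 := congrFun hdec g
    rw [Finset.sum_apply, Pi.mul_apply] at h4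
    rw [h4]
    have h5 : ∀ η : IrrCharacter G,
        (classInner (χ * ψ) (η : G → ℂ) • (η : G → ℂ)) g = (m η : ℂ) * χ g := by
      intro η
      rw [Pi.smul_apply, smul_eq_mul, hm]
      by_cases h0 : m η = 0
      · rw [h0]; simp
      · rw [(hcons η h0).2 g hg]
    rw [Finset.sum_congr rfl (fun η _ => h5 η), ← Finset.sum_mul, ← Nat.cast_sum, hsum]
  have hvan : ∀ g ∈ commutator G, g ≠ 1 → χ g = 0 := by
    intro g hg hg1
    have h6 := hval g hg
    have h7 : ψ g ≠ (b : ℂ) := by
      intro h8
      apply hg1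
      apply hfaith ψ hψ (by omega) g
      rw [h8, irr_one_eq_charDegree hψ, hψb]
    have h9 : χ g * (ψ g - b) = 0 := by rw [mul_sub, h6]; ring
    rcases mul_eq_zero.mp h9 with h | h
    · exact h
    · exact absurd (sub_eq_zero.mp h) h7
  have hrel := rel_commutator hχ (by omega : charDegree χ ≠ 1)
  letI : Fintype (commutator G) := Fintype.ofFinite _
  have hsum0 := FrobKer.sum_K_eq_zero (commutator G) hχ hrel
  have hsum1 : ∑ k : commutator G, χ k = χ 1 := by
    rw [Finset.sum_eq_single (1 : commutator G)]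
    · rfl
    · intro k _ hk
      exact hvan k k.2 (fun h => hk (Subtype.ext h))
    · intro h
      exact absurd (Finset.mem_univ _) h
  rw [hsum1, irr_one_eq_charDegree hχ, hχa] at hsum0
  have h10 : (a : ℂ) ≠ 0 := by exact_mod_cast (by omega : a ≠ 0)
  exact h10 hsum0


/-- Closure under products of the set of irreducible characters of degree `≠ b`, if no `χ χ̄`
contains a character of degree `b`. -/
theorem closed_of_inner_eq_zero (hcd : IsCd3 G a b) (ha : 1 < a) (hlt : a < b)
    (hcop : a.Coprime b)
    (hz : ∀ χ ψ : G → ℂ, IsIrrCharacter G χ → IsIrrCharacter G ψ → charDegree χ = a →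
      charDegree ψ = b → classInner ((fun g => conj (χ g)) * χ) ψ = 0)
    {ξ χ' ψ : G → ℂ} (hξ : IsIrrCharacter G ξ) (hχ' : IsIrrCharacter G χ')
    (hψ : IsIrrCharacter G ψ) (hξb : charDegree ξ ≠ b) (hχ'b : charDegree χ' ≠ b)
    (hψb : charDegree ψ = b) : classInner (ξ * χ') ψ = 0 := by
  classical
  letI := irrFintype (G := G)
  have hξc := isCharacter_of_isIrrCharacter hξ
  have hχ'c := isCharacter_of_isIrrCharacter hχ'
  rcases hcd _ hξ with h1 | h1 | h1
  · have hirr : IsIrrCharacter G (χ' * ξ) :=
      isIrrCharacter_mul_linear hχ' hξc (one_of_degree_one hξ h1)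
    rw [mul_comm]
    apply classInner_eq_zero_of_degree_ne hirr hψ
    rw [charDegree_mul hχ'c hξc, h1, mul_one, hψb]
    exact hχ'b
  · rcases hcd _ hχ' with h2 | h2 | h2
    · have hirr : IsIrrCharacter G (ξ * χ') :=
        isIrrCharacter_mul_linear hξ hχ'c (one_of_degree_one hχ' h2)
      apply classInner_eq_zero_of_degree_ne hirr hψ
      rw [charDegree_mul hξc hχ'c, h2, mul_one, hψb]
      exact hξb
    · by_contra hne
      have hξ' := isIrrCharacter_conj hξ
      have h3 : classInner ((fun g => conj ((fun g => conj (ξ g)) g)) * χ') ψ ≠ 0 := by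
        have e : (fun g => conj ((fun g => conj (ξ g)) g)) = ξ := by
          funext g
          simp
        rw [e]
        exact hne
      obtain ⟨lam, hl, hl1, hχ'eq⟩ := exists_linear_of_b hcd ha hlt hcop hξ' hχ' hψ
        (by rw [charDegree_conj hξc]; exact h1) h2 hψb h3
      apply hne
      rw [hχ'eq]
      have e : ξ * ((fun g => conj (ξ g)) * lam) = ((fun g => conj (ξ g)) * ξ) * lam := by
        funext g
        simp only [Pi.mul_apply]
        ring
      rw [e, classInner_mul_left]
      have hlc := isCharacter_of_isIrrCharacter hl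
      have hirr2 : IsIrrCharacter G ((fun g => conj (lam g)) * ψ) := by
        rw [mul_comm]
        apply isIrrCharacter_mul_linear hψ (isCharacter_conj hlc)
        show conj (lam 1) = 1
        rw [one_of_degree_one hl hl1, map_one]
      apply hz ξ _ hξ hirr2 h1
      rw [charDegree_mul (isCharacter_conj hlc) (isCharacter_of_isIrrCharacter hψ),
        charDegree_conj hlc, hl1, one_mul, hψb]
    · exact absurd h2 hχ'b
  · exact absurd h1 hξb

/-- **The product trick**: a group with `cd(G) = {1, a, b}`, `1 < a < b` coprime, cannot have all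
its nonlinear irreducible characters faithful. -/
theorem trick (hcd : IsCd3 G a b) (ha : 1 < a) (hlt : a < b) (hcop : a.Coprime b)
    (hfaith : ∀ χ : G → ℂ, IsIrrCharacter G χ → charDegree χ ≠ 1 → ∀ g, χ g = χ 1 → g = 1)
    (hexa : ∃ χ : G → ℂ, IsIrrCharacter G χ ∧ charDegree χ = a)
    (hexb : ∃ ψ : G → ℂ, IsIrrCharacter G ψ ∧ charDegree ψ = b) : False := by
  classical
  letI := irrFintype (G := G)
  by_cases hz : ∀ χ ψ : G → ℂ, IsIrrCharacter G χ → IsIrrCharacter G ψ → charDegree χ = a →
      charDegree ψ = b → classInner ((fun g => conj (χ g)) * χ) ψ = 0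
  swap
  · push Not at hz
    obtain ⟨χ, ψ, hχ, hψ, hχa, hψb, hne⟩ := hz
    exact false_of_inner_ne_zero hcd ha hlt hcop hfaith hχ hψ hχa hψb hne
  have hclos := fun {ξ χ' ψ : G → ℂ} => closed_of_inner_eq_zero hcd ha hlt hcop hz (ξ := ξ)
    (χ' := χ') (ψ := ψ)
  obtain ⟨χ₀, hχ₀, hχ₀a⟩ := hexa
  obtain ⟨ψ₀, hψ₀, hψ₀b⟩ := hexb
  have hχ₀c := isCharacter_of_isIrrCharacter hχ₀
  have hχ₀b : charDegree χ₀ ≠ b := by omega
  set S : Finset (IrrCharacter G) :=
    Finset.univ.filter (fun η => charDegree (η : G → ℂ) ≠ b) with hS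
  have hmemS : ∀ η : IrrCharacter G, η ∈ S ↔ charDegree (η : G → ℂ) ≠ b := by
    intro η
    rw [hS, Finset.mem_filter]
    simp
  set φ : G → ℂ := fun g => ∑ η ∈ S, (charDegree (η : G → ℂ) : ℂ) * (η : G → ℂ) g with hφdef
  -- the coefficients
  have hcoef : ∀ θ : IrrCharacter G,
      ∑ η ∈ S, (charDegree (η : G → ℂ) : ℂ) * classInner (χ₀ * (η : G → ℂ)) (θ : G → ℂ) =
        if θ ∈ S then (a : ℂ) * (charDegree (θ : G → ℂ) : ℂ) else 0 := by
    intro θ
    by_cases hθ : θ ∈ S
    · rw [if_pos hθ]
      have hθb := (hmemS θ).mp hθ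
      have hΘ : IsCharacter G ((fun g => conj (χ₀ g)) * (θ : G → ℂ)) :=
        isCharacter_mul (isCharacter_conj hχ₀c) (isCharacter_of_isIrrCharacter θ.2)
      obtain ⟨hm, -⟩ := isCharacter_decomp hΘ
      choose m hm using hm
      have hdeg := degree_decomp hΘ m hm
      rw [charDegree_mul (isCharacter_conj hχ₀c) (isCharacter_of_isIrrCharacter θ.2),
        charDegree_conj hχ₀c, hχ₀a] at hdeg
      have h1 : ∀ η : IrrCharacter G, classInner (χ₀ * (η : G → ℂ)) (θ : G → ℂ) = (m η : ℂ) := by
        intro η
        rw [mul_comm, classInner_mul_left, ← classInner_conj_symm, hm, Complex.conj_natCast]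
      have h2 : ∀ η : IrrCharacter G, η ∉ S → m η = 0 := by
        intro η hη
        have hηb : charDegree (η : G → ℂ) = b := by
          by_contra h
          exact hη ((hmemS η).mpr h)
        have h3 := hclos (isIrrCharacter_conj hχ₀) θ.2 η.2
          (by rw [charDegree_conj hχ₀c]; exact hχ₀b) hθb hηb
        rw [hm] at h3
        exact_mod_cast h3
      have h4 : ∑ η ∈ S, (charDegree (η : G → ℂ) : ℂ) *
          classInner (χ₀ * (η : G → ℂ)) (θ : G → ℂ) =
          ((∑ η : IrrCharacter G, m η * charDegree (η : G → ℂ) : ℕ) : ℂ) := by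
        push_cast
        rw [← Finset.sum_subset (Finset.subset_univ S)]
        · refine Finset.sum_congr rfl fun η _ => ?_
          rw [h1]
          ring
        · intro η _ hη
          rw [h2 η hη]
          simp
      rw [h4, ← hdeg]
      push_cast
      ring
    · rw [if_neg hθ]
      have hθb : charDegree (θ : G → ℂ) = b := by
        by_contra h
        exact hθ ((hmemS θ).mpr h)
      apply Finset.sum_eq_zero
      intro η hη
      rw [hclos hχ₀ η.2 θ.2 hχ₀b ((hmemS η).mp hη) hθb, mul_zero]
  -- the key identity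
  have key : ∀ g, χ₀ g * φ g = (a : ℂ) * φ g := by
    intro g
    have hprod : ∀ η : IrrCharacter G, χ₀ g * (η : G → ℂ) g =
        ∑ θ : IrrCharacter G, classInner (χ₀ * (η : G → ℂ)) (θ : G → ℂ) * (θ : G → ℂ) g := by
      intro η
      have hc : IsCharacter G (χ₀ * (η : G → ℂ)) :=
        isCharacter_mul hχ₀c (isCharacter_of_isIrrCharacter η.2)
      have h1 := congrFun (isCharacter_decomp hc).2 g
      rw [Finset.sum_apply, Pi.mul_apply] at h1
      rw [h1]
      rfl
    calc χ₀ g * φ g
        = ∑ η ∈ S, (charDegree (η : G → ℂ) : ℂ) * (χ₀ g * (η : G → ℂ) g) := by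
          rw [hφdef]
          simp only
          rw [Finset.mul_sum]
          refine Finset.sum_congr rfl fun η _ => ?_
          ring
      _ = ∑ η ∈ S, ∑ θ : IrrCharacter G, (charDegree (η : G → ℂ) : ℂ) *
            classInner (χ₀ * (η : G → ℂ)) (θ : G → ℂ) * (θ : G → ℂ) g := by
          refine Finset.sum_congr rfl fun η _ => ?_
          rw [hprod η, Finset.mul_sum]
          refine Finset.sum_congr rfl fun θ _ => ?_
          ring
      _ = ∑ θ : IrrCharacter G, (∑ η ∈ S, (charDegree (η : G → ℂ) : ℂ) *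
            classInner (χ₀ * (η : G → ℂ)) (θ : G → ℂ)) * (θ : G → ℂ) g := by
          rw [Finset.sum_comm]
          refine Finset.sum_congr rfl fun θ _ => ?_
          rw [Finset.sum_mul]
      _ = ∑ θ : IrrCharacter G, (if θ ∈ S then (a : ℂ) * (charDegree (θ : G → ℂ) : ℂ) else 0) *
            (θ : G → ℂ) g := by
          refine Finset.sum_congr rfl fun θ _ => ?_
          rw [hcoef θ]
      _ = (a : ℂ) * φ g := by
          rw [hφdef]
          simp only
          rw [Finset.mul_sum, ← Finset.sum_subset (Finset.subset_univ S)]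
          · refine Finset.sum_congr rfl fun θ hθ => ?_
            rw [if_pos hθ]
            ring
          · intro θ _ hθ
            rw [if_neg hθ, zero_mul]
  -- `φ` vanishes off the identity
  have hvan : ∀ g, g ≠ 1 → φ g = 0 := by
    intro g hg
    have h1 := key g
    have h2 : χ₀ g ≠ (a : ℂ) := by
      intro h3
      apply hg
      apply hfaith χ₀ hχ₀ (by omega) g
      rw [h3, irr_one_eq_charDegree hχ₀, hχ₀a]
    have h4 : (χ₀ g - a) * φ g = 0 := by rw [sub_mul, h1]; ring
    rcases mul_eq_zero.mp h4 with h | h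
    · exact absurd (sub_eq_zero.mp h) h2
    · exact h
  -- inner product with `ψ₀`
  have hin1 : classInner φ ψ₀ = 0 := by
    have e : φ = ∑ η ∈ S, (charDegree (η : G → ℂ) : ℂ) • (η : G → ℂ) := by
      funext g
      rw [hφdef, Finset.sum_apply]
      rfl
    rw [e, classInner_sum_left]
    apply Finset.sum_eq_zero
    intro η hη
    rw [classInner_smul_left, classInner_eq_zero_of_degree_ne η.2 hψ₀
      (by rw [hψ₀b]; exact (hmemS η).mp hη), mul_zero]
  have hin2 : classInner φ ψ₀ = (Nat.card G : ℂ)⁻¹ * (φ 1 * conj (ψ₀ 1)) := by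
    unfold classInner
    congr 1
    rw [Finset.sum_eq_single (1 : G)]
    · intro g _ hg
      rw [hvan g hg, zero_mul]
    · intro h
      exact absurd (Finset.mem_univ _) h
  have hφ1 : φ 1 ≠ 0 := by
    have e : φ 1 = ((∑ η ∈ S, charDegree (η : G → ℂ) * charDegree (η : G → ℂ) : ℕ) : ℂ) := by
      rw [hφdef]
      simp only
      push_cast
      refine Finset.sum_congr rfl fun η _ => ?_
      rw [irr_one_eq_charDegree η.2]
    rw [e]
    have hpos : 0 < ∑ η ∈ S, charDegree (η : G → ℂ) * charDegree (η : G → ℂ) := by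
      have hmem : (⟨χ₀, hχ₀⟩ : IrrCharacter G) ∈ S := (hmemS _).mpr hχ₀b
      have h1 := Finset.single_le_sum
        (f := fun η : IrrCharacter G => charDegree (η : G → ℂ) * charDegree (η : G → ℂ))
        (fun _ _ => Nat.zero_le _) hmem
      simp only at h1
      rw [hχ₀a] at h1
      have : 0 < a * a := Nat.mul_pos (by omega) (by omega)
      omega
    exact_mod_cast hpos.ne'
  rw [hin2] at hin1
  have hcard : (Nat.card G : ℂ)⁻¹ ≠ 0 := by
    apply inv_ne_zero
    exact_mod_cast (Nat.card_pos (α := G)).ne'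
  have hψ1 : conj (ψ₀ 1) ≠ 0 := by
    rw [irr_one_eq_charDegree hψ₀, hψ₀b, Complex.conj_natCast]
    exact_mod_cast (by omega : b ≠ 0)
  exact (mul_ne_zero hcard (mul_ne_zero hφ1 hψ1)) hin1

end Trick

end Cfsg.Agent.Helper24.Cd3
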