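import Mathlib
import Cfsg.Agent.Lib.Helper24.Cd2Main
import Cfsg.Agent.Lib.Helper24.Cd3Trick

/-!
# Three character degrees: the Frobenius quotient (helper24's shared library)
-/

set_option autoImplicit false
set_option linter.style.haveILetI false
set_option linter.unusedSectionVars false
set_option linter.unusedVariables false

namespace Cfsg.Agent.Helper24.Cd3

open Cfsg Cfsg.Agent.Helper24 Cfsg.Agent.Helper5 Cfsg.Agent.Helper18 Cfsg.Agent.Helper24.Cd2
open Subgroup
open scoped ComplexConjugate commutatorElement Pointwise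

universe u

/-- The Frobenius structure of a primitive solvable quotient whose commutator subgroup lies in the
minimal normal subgroup. -/
theorem Prim.frobData' {Q : Type u} [Group Q] [Finite Q] {M H : Subgroup Q}
    (h : Prim M H) (hnab : ∃ a b : Q, a * b ≠ b * a) (hQ' : commutator Q ≤ M) :
    ∃ p a : ℕ, FrobData Q M M.index p a := by
  classical
  letI : Fintype Q := Fintype.ofFinite Q
  haveI := h.normal
  -- `H` is abelian
  have hHab : ∀ k₁ ∈ H, ∀ k₂ ∈ H, k₁ * k₂ = k₂ * k₁ := by
    intro k₁ hk₁ k₂ hk₂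
    have h1 : ⁅k₁, k₂⁆ ∈ M := hQ' (Subgroup.commutator_mem_commutator (Subgroup.mem_top _)
      (Subgroup.mem_top _))
    have h2 : ⁅k₁, k₂⁆ ∈ H := by
      rw [commutatorElement_def]
      exact H.mul_mem (H.mul_mem (H.mul_mem hk₁ hk₂) (H.inv_mem hk₁)) (H.inv_mem hk₂)
    have h3 : ⁅k₁, k₂⁆ ∈ M ⊓ H := ⟨h1, h2⟩
    rw [h.inf, Subgroup.mem_bot, commutatorElement_def] at h3
    calc k₁ * k₂ = (k₁ * k₂ * k₁⁻¹ * k₂⁻¹) * (k₂ * k₁) := by group
      _ = k₂ * k₁ := by rw [h3, one_mul]
  -- fixed point freeness of `H`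
  have hfpfH : ∀ k ∈ H, k ≠ 1 → ∀ y ∈ M, k * y = y * k → y = 1 := by
    intro k hk hk1 y hy hky
    set D : Subgroup Q := M ⊓ Subgroup.centralizer {k} with hD
    have hDn : D.Normal := by
      apply h.normal_of_le D inf_le_left
      intro k' hk' d hd
      refine ⟨h.normal.conj_mem d hd.1 k', ?_⟩
      show k' * d * k'⁻¹ ∈ Subgroup.centralizer {k}
      rw [Subgroup.mem_centralizer_singleton_iff]
      have hd2 : d ∈ Subgroup.centralizer {k} := hd.2
      have h1 : d * k = k * d := Subgroup.mem_centralizer_singleton_iff.mp hd2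
      have h2 : k * k' = k' * k := hHab k hk k' hk'
      symm
      calc k * (k' * d * k'⁻¹) = (k * k') * d * k'⁻¹ := by group
        _ = k' * (k * d) * k'⁻¹ := by rw [h2]; group
        _ = k' * (d * k) * k'⁻¹ := by rw [h1]
        _ = k' * d * (k'⁻¹ * (k' * k) * k'⁻¹) := by group
        _ = k' * d * (k'⁻¹ * (k * k') * k'⁻¹) := by rw [h2]
        _ = k' * d * k'⁻¹ * k := by group
    rcases h.minimal D hDn inf_le_left with hbot | htop
    · have : y ∈ D := ⟨hy, Subgroup.mem_centralizer_singleton_iff.mpr hky.symm⟩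
      rw [hbot] at this
      exact Subgroup.mem_bot.mp this
    · exfalso
      apply hk1
      apply h.faithful k hk
      intro z hz
      have : z ∈ D := by rw [htop]; exact hz
      have h2 : z ∈ Subgroup.centralizer {k} := this.2
      exact (Subgroup.mem_centralizer_singleton_iff.mp h2).symm
  -- fixed point freeness of elements outside `M`
  have hfpf : ∀ x : Q, x ∉ M → ∀ y ∈ M, x * y = y * x → y = 1 := by
    intro x hx y hy hxy
    obtain ⟨y₀, hy₀, k, hk, rfl⟩ := h.exists_mul x
    have hk1 : k ≠ 1 := by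
      rintro rfl
      apply hx
      rw [mul_one]
      exact hy₀
    apply hfpfH k hk hk1 y hy
    have h1 : y₀ * y = y * y₀ := h.comm y₀ hy₀ y hy
    calc k * y = y₀⁻¹ * (y₀ * k * y) := by group
      _ = y₀⁻¹ * (y * (y₀ * k)) := by rw [hxy]
      _ = y₀⁻¹ * (y * y₀) * k := by group
      _ = y₀⁻¹ * (y₀ * y) * k := by rw [h1]
      _ = y * k := by group
  have hF : ∀ k ∈ M, k ≠ 1 → ∀ x : Q, x * k = k * x → x ∈ M := by
    intro k hk hk1 x hxk
    by_contra hx
    exact hk1 (hfpf x hx k hk hxk)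
  have hab : ∀ a b : M, a * b = b * a := fun a b => Subtype.ext (h.comm a a.2 b b.2)
  -- the order of `M`
  obtain ⟨p, a, hp, ha, hcard, -⟩ :=
    Cfsg.Agent.Helper3.card_eq_prime_pow_of_minimal_normal M h.ne_bot h.minimal h.comm
  haveI : Fact p.Prime := ⟨hp⟩
  -- the index of `M`
  have hindex : M.index = M.index := rfl
  -- `|H| = m`
  have hcompl : Subgroup.IsComplement' H M := by
    apply Subgroup.IsComplement'.symm
    apply Subgroup.isComplement'_of_disjoint_and_mul_eq_univ
    · rw [disjoint_iff]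
      exact h.inf
    · rw [← Subgroup.normal_mul M H, h.sup, Subgroup.coe_top]
  have hcardH : Nat.card H = M.index := by rw [← hcompl.index_eq_card]
  -- `H` is nontrivial
  have hHne : ∃ k ∈ H, k ≠ 1 := by
    by_contra hcon
    push Not at hcon
    obtain ⟨x, y, hxy⟩ := hnab
    apply hxy
    obtain ⟨y₁, hy₁, k₁, hk₁, rfl⟩ := h.exists_mul x
    obtain ⟨y₂, hy₂, k₂, hk₂, rfl⟩ := h.exists_mul y
    rw [hcon k₁ hk₁, hcon k₂ hk₂, mul_one, mul_one]
    exact h.comm y₁ hy₁ y₂ hy₂
  obtain ⟨y₀, hy₀, hy₀1⟩ : ∃ y ∈ M, y ≠ 1 := by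
    by_contra hcon
    push Not at hcon
    exact h.ne_bot ((Subgroup.eq_bot_iff_forall M).mpr hcon)
  refine ⟨p, a, h.normal, h.comm, hindex, hcard, hp, ha, ?_, ?_, hfpf, hQ'⟩
  · -- `p ∤ m`
    intro hpm
    rw [← hcardH] at hpm
    obtain ⟨k, hk⟩ := exists_prime_orderOf_dvd_card' p hpm
    have hk1 : (k : Q) ≠ 1 := by
      intro h1
      have : k = 1 := Subtype.ext h1
      rw [this, orderOf_one] at hk
      exact hp.one_lt.ne' hk.symm
    -- the action of `⟨k⟩` on `M`
    let Z : Subgroup Q := Subgroup.zpowers (k : Q)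
    letI : MulAction Z M := MulAction.compHom M
      ((MulAut.conjNormal : Q →* MulAut M).comp Z.subtype)
    have hsmul : ∀ (z : Z) (y : M), ((z • y : M) : Q) = z * y * (z : Q)⁻¹ := fun z y => rfl
    have hZp : IsPGroup p Z := by
      rw [IsPGroup.iff_card]
      refine ⟨1, ?_⟩
      rw [Nat.card_zpowers, pow_one]
      rw [← hk]
      exact (Subgroup.orderOf_coe k)
    have h1 : (1 : M) ∈ MulAction.fixedPoints Z M := by
      intro z
      apply Subtype.ext
      rw [hsmul]
      simp
    have hdvd : p ∣ Nat.card M := by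
      rw [hcard]
      exact dvd_pow_self p ha.ne'
    obtain ⟨b, hb, hb1⟩ := hZp.exists_fixed_point_of_prime_dvd_card_of_fixed_point M hdvd h1
    have hkb : (k : Q) * b = b * k := by
      have := hb ⟨(k : Q), Subgroup.mem_zpowers _⟩
      have h2 := congrArg Subtype.val this
      rw [hsmul] at h2
      calc (k : Q) * b = ((k : Q) * b * (k : Q)⁻¹) * k := by group
        _ = b * k := by rw [h2]
    have := hfpfH k k.2 hk1 b b.2 hkb
    exact hb1 (Subtype.ext this.symm)
  · -- `m + 1 ≤ |M|`
    rw [← hcard, ← hcardH]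
    have hinj : Function.Injective (fun k : H => (⟨⟨(k : Q) * y₀ * (k : Q)⁻¹,
        h.normal.conj_mem y₀ hy₀ k⟩, by
          intro hcon
          have h1 := congrArg Subtype.val hcon
          simp only [OneMemClass.coe_one] at h1
          apply hy₀1
          calc y₀ = (k : Q)⁻¹ * ((k : Q) * y₀ * (k : Q)⁻¹) * k := by group
            _ = 1 := by rw [h1]; group⟩ : {y : M // y ≠ 1})) := by
      intro k₁ k₂ hkk
      have h1 : (k₁ : Q) * y₀ * (k₁ : Q)⁻¹ = (k₂ : Q) * y₀ * (k₂ : Q)⁻¹ :=
        congrArg (fun z : {y : M // y ≠ 1} => ((z : M) : Q)) hkk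
      by_contra hne
      have h2 : (k₂ : Q)⁻¹ * k₁ ∈ H := H.mul_mem (H.inv_mem k₂.2) k₁.2
      have h3 : (k₂ : Q)⁻¹ * k₁ ≠ 1 := by
        intro h4
        apply hne
        apply Subtype.ext
        calc (k₁ : Q) = k₂ * ((k₂ : Q)⁻¹ * k₁) := by group
          _ = k₂ := by rw [h4, mul_one]
      apply hy₀1
      apply hfpfH _ h2 h3 y₀ hy₀
      calc (k₂ : Q)⁻¹ * k₁ * y₀ = (k₂ : Q)⁻¹ * ((k₁ : Q) * y₀ * (k₁ : Q)⁻¹) * k₁ := by group
        _ = (k₂ : Q)⁻¹ * ((k₂ : Q) * y₀ * (k₂ : Q)⁻¹) * k₁ := by rw [h1]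
        _ = y₀ * ((k₂ : Q)⁻¹ * k₁) := by group
    have hle := Nat.card_le_card_of_injective _ hinj
    have hsub : Nat.card {y : M // y ≠ 1} + 1 = Nat.card M := by
      rw [Nat.card_eq_fintype_card, Nat.card_eq_fintype_card, Fintype.card_subtype_compl,
        Fintype.card_subtype_eq]
      have : 0 < Fintype.card M := Fintype.card_pos
      omega
    omega


/-- **Counting twists**: in the Frobenius situation `K ≤ N`, an irreducible character `ψ` of `N` of
degree prime to `|N : K|` has some twist (by a linear character of `N / K`) with inertia group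
`N`; so `|G : N| ψ(1)` is a character degree of `G`. -/
theorem twist_count {G : Type u} [Group G] [Finite G] {f : ℕ}
    (K N : Subgroup G) [hK : K.Normal] [hN : N.Normal] (hKN : K ≤ N)
    (hab : ∀ a ∈ N, ∀ b ∈ N, a * b * a⁻¹ * b⁻¹ ∈ K)
    (hsurj : ∀ g, g ∉ N → ∀ n ∈ N, ∃ n' ∈ N, ∃ k ∈ K, n = g * n' * g⁻¹ * n'⁻¹ * k)
    (hNidx : N.index = f) (hlt : f ≤ K.relIndex N)
    {ψ : N → ℂ} (hψ : IsIrrCharacter N ψ) (hc : (charDegree ψ).Coprime (K.relIndex N))
    (hnot : ∀ χ : G → ℂ, IsIrrCharacter G χ → charDegree χ ≠ f * charDegree ψ) : False := by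
  classical
  letI : Fintype G := Fintype.ofFinite G
  letI : Fintype N := Fintype.ofFinite N
  have hfpos : 0 < f := by
    rw [← hNidx]
    exact Nat.pos_of_ne_zero Subgroup.index_ne_zero_of_finite
  set Y : Subgroup N := K.subgroupOf N with hY
  haveI : Y.Normal := Subgroup.normal_subgroupOf
  have hYidx : Y.index = K.relIndex N := rfl
  have hc' : (charDegree ψ).Coprime Y.index := by
    rw [hYidx]
    exact hc
  have hθ := CopDeg.restrict_irr_of_coprime Y hψ hc'
  let φ : (N →* ℂˣ) → N → ℂ := fun f n => ((f n : ℂˣ) : ℂ) * ψ n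
  have hφirr : ∀ f : N →* ℂˣ, IsIrrCharacter N (φ f) := fun f => isIrrCharacter_twist f hψ
  have hφdeg : ∀ f : N →* ℂˣ, charDegree (φ f) = charDegree ψ := by
    intro f
    apply CopDeg.charDegree_congr
    show ((f 1 : ℂˣ) : ℂ) * ψ 1 = ψ 1
    rw [map_one, Units.val_one, one_mul]
  have hfixed : ∀ f' : N →* ℂˣ, ∃ g : G, g ∉ N ∧ Helper5.conjFun N g (φ f') = φ f' := by
    intro f'
    by_contra hcon
    push Not at hcon
    have hirr := isIrr_indFun_of_inertia N (hφirr f') hcon
    have hdeg : charDegree (indFun N (φ f')) = f * charDegree ψ := by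
      have h1 : indFun N (φ f') 1 = ((f * charDegree ψ : ℕ) : ℂ) := by
        rw [indFun_one, irr_one_eq_charDegree (hφirr f'), hφdeg f', hNidx]
        push_cast
        ring
      have h2 := irr_one_eq_charDegree hirr
      rw [h1] at h2
      exact_mod_cast h2.symm
    exact hnot _ hirr hdeg
  choose gsel hgsel1 hgsel2 using hfixed
  let Λ := {f : N →* ℂˣ // Y ≤ f.ker}
  have hΛ : Nat.card Λ = K.relIndex N := by
    rw [← hYidx]
    apply card_hom_ker Y
    intro a b
    rw [hY, Subgroup.mem_subgroupOf]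
    exact hab a a.2 b b.2
  have hrpos : 0 < K.relIndex N := by omega
  haveI : Finite Λ := Nat.finite_of_card_ne_zero (by rw [hΛ]; omega)
  let ι : (Λ × N) ⊕ N → G := Sum.elim (fun p => gsel p.1.1 * (p.2 : G)) (fun n => (n : G))
  have hfixmul : ∀ (f : Λ) (n : N), Helper5.conjFun N (gsel f.1 * (n : G)) (φ f.1) = φ f.1 := by
    intro f n
    rw [Helper5.conjFun_mul, hgsel2,
      FrobKer.conjFun_of_mem N n.2 (isClassFunction_of_isIrrCharacter (hφirr f.1))]
  have hnotmem : ∀ (f : Λ) (n : N), gsel f.1 * (n : G) ∉ N := by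
    intro f n h
    apply hgsel1 f.1
    have := N.mul_mem h (N.inv_mem n.2)
    simpa using this
  have hι : Function.Injective ι := by
    rintro (⟨f, n⟩ | n) (⟨f', n'⟩ | n') h
    · have h' : gsel f.1 * (n : G) = gsel f'.1 * (n' : G) := h
      have hff : f = f' := by
        apply Subtype.ext
        apply twist_fixed_unique K N hKN (gsel f.1 * (n : G))
          (hsurj _ (hnotmem f n)) hψ hθ f.2 f'.2 (hfixmul f n)
        rw [h']
        exact hfixmul f' n'
      subst hff
      have : (n : G) = n' := mul_left_cancel h'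
      rw [Subtype.ext this]
    · exfalso
      have h' : gsel f.1 * (n : G) = (n' : G) := h
      apply hnotmem f n
      rw [h']
      exact n'.2
    · exfalso
      have h' : (n : G) = gsel f'.1 * (n' : G) := h
      apply hnotmem f' n'
      rw [← h']
      exact n.2
    · have h' : (n : G) = n' := h
      rw [Subtype.ext h']
  have hcard := Nat.card_le_card_of_injective ι hι
  rw [Nat.card_sum, Nat.card_prod, hΛ, ← N.card_mul_index, hNidx] at hcard
  have hNpos : 0 < Nat.card N := Nat.card_pos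
  nlinarith

/-- Every nonlinear irreducible character of a group with `FrobData` has degree the index of the
kernel. -/
theorem FrobData.degree {Q : Type u} [Group Q] [Finite Q] {M : Subgroup Q} {m p a : ℕ}
    (hF : FrobData Q M m p a) {χ : Q → ℂ} (hχ : IsIrrCharacter Q χ) (hnl : charDegree χ ≠ 1) :
    charDegree χ = m := by
  classical
  letI : Fintype Q := Fintype.ofFinite Q
  haveI := hF.normal
  have hr : FrobKer.Rel M χ := by
    by_contra hr
    have hN : ∀ k ∈ M, χ k = χ 1 := fun k hk => FrobKer.not_rel hr hk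
    obtain ⟨ψ, hψ, hχψ⟩ := exists_deflate M hχ hN
    have hqab : ∀ x y : Q ⧸ M, x * y = y * x := by
      intro x y
      obtain ⟨x, rfl⟩ := QuotientGroup.mk_surjective x
      obtain ⟨y, rfl⟩ := QuotientGroup.mk_surjective y
      have h1 : ⁅x, y⁆ ∈ M := hF.comm_le (Subgroup.commutator_mem_commutator (Subgroup.mem_top _)
        (Subgroup.mem_top _))
      have h2 : (QuotientGroup.mk ⁅x, y⁆ : Q ⧸ M) = 1 := (QuotientGroup.eq_one_iff _).mpr h1
      rw [commutatorElement_def, QuotientGroup.mk_mul, QuotientGroup.mk_mul,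
        QuotientGroup.mk_mul, QuotientGroup.mk_inv, QuotientGroup.mk_inv] at h2
      calc (QuotientGroup.mk x : Q ⧸ M) * QuotientGroup.mk y
          = (QuotientGroup.mk x * QuotientGroup.mk y * (QuotientGroup.mk x)⁻¹ *
              (QuotientGroup.mk y)⁻¹) * (QuotientGroup.mk y * QuotientGroup.mk x) := by group
        _ = QuotientGroup.mk y * QuotientGroup.mk x := by rw [h2, one_mul]
    have h1 := linear_of_comm hqab hψ
    apply hnl
    rw [hχψ]
    have : charDegree (ψ ∘ (QuotientGroup.mk : Q → Q ⧸ M)) = charDegree ψ :=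
      charDegree_comp (QuotientGroup.mk' M) ψ
    rw [this, h1]
  have hFF : ∀ k ∈ M, k ≠ 1 → ∀ x : Q, x * k = k * x → x ∈ M := by
    intro k hk hk1 x hxk
    by_contra hx
    exact hk1 (hF.fpf x hx k hk hxk)
  have hab : ∀ a b : M, a * b = b * a := fun a b => Subtype.ext (hF.comm a a.2 b b.2)
  have hdeg := FrobKer.degree_of_rel_of_comm M hFF hab hχ hr
  have h1 : charDegree χ = M.index := charDegree_natCast _ hdeg
  rw [h1, hF.index]

/-- **The Frobenius case**: if `cd(G) ⊆ {1, a, b}` with `a`, `b` coprime and `G / K` is a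
solvable, non-nilpotent group all of whose proper quotients are abelian, then some normal subgroup
`N ≥ G'` has at most two character degrees. -/
theorem frob_case {G : Type u} [Group G] [Finite G] {a b : ℕ} (hcd : IsCd3 G a b) (ha : 1 < a)
    (hb : 1 < b) (hcop : a.Coprime b) (K : Subgroup G) [hK : K.Normal]
    (hKnn : ¬ Group.IsNilpotent (G ⧸ K)) [hsolvQ : Group.IsSolvable (G ⧸ K)]
    (hqab : ∀ (N' : Subgroup (G ⧸ K)) [N'.Normal], N' ≠ ⊥ →
      ∀ x y : (G ⧸ K) ⧸ N', x * y = y * x) :
    ∃ N : Subgroup G, N.Normal ∧ commutator G ≤ N ∧ ∃ m : ℕ, CdSub N m := by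
  classical
  letI : Fintype G := Fintype.ofFinite G
  have hq : ∀ (N' : Subgroup (G ⧸ K)) [N'.Normal], N' ≠ ⊥ →
      Group.IsNilpotent ((G ⧸ K) ⧸ N') := by
    intro N' hN' hne
    letI : CommGroup ((G ⧸ K) ⧸ N') :=
      { (inferInstance : Group ((G ⧸ K) ⧸ N')) with mul_comm := hqab N' hne }
    exact CommGroup.isNilpotent
  have hnab : ∃ x y : G ⧸ K, x * y ≠ y * x := by
    by_contra hcon
    push Not at hcon
    apply hKnn
    letI : CommGroup (G ⧸ K) := { (inferInstance : Group (G ⧸ K)) with mul_comm := hcon }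
    exact CommGroup.isNilpotent
  obtain ⟨M, H, hprim⟩ := exists_prim hKnn hq
  haveI := hprim.normal
  have hQ' : commutator (G ⧸ K) ≤ M := by
    rw [commutator_def, Subgroup.commutator_le]
    intro x _ y _
    rw [← QuotientGroup.eq_one_iff]
    have h1 := hqab M hprim.ne_bot (QuotientGroup.mk x) (QuotientGroup.mk y)
    rw [commutatorElement_def, QuotientGroup.mk_mul, QuotientGroup.mk_mul, QuotientGroup.mk_mul,
      QuotientGroup.mk_inv, QuotientGroup.mk_inv, h1]
    group
  obtain ⟨p, e, hF⟩ := Cd3.Prim.frobData' hprim hnab hQ'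
  set f : ℕ := M.index with hf
  set N : Subgroup G := M.comap (QuotientGroup.mk' K) with hN
  haveI hNn : N.Normal := Subgroup.Normal.comap hF.normal _
  have hKN : K ≤ N := by
    intro k hk
    rw [hN, Subgroup.mem_comap, QuotientGroup.mk'_apply, (QuotientGroup.eq_one_iff k).mpr hk]
    exact M.one_mem
  have hNidx : N.index = f := by
    rw [hN, Subgroup.index_comap_of_surjective _ (QuotientGroup.mk'_surjective K)]
  have hfpos : 0 < f := by
    rw [← hNidx]
    exact Nat.pos_of_ne_zero Subgroup.index_ne_zero_of_finite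
  have hrel : K.relIndex N = p ^ e := by
    have h1 : K.relIndex N * N.index = K.index := Subgroup.relIndex_mul_index hKN
    have h2 : K.index = Nat.card M * M.index := by
      rw [Subgroup.index_eq_card, M.card_mul_index]
    rw [h2, hNidx, hF.card] at h1
    exact Nat.eq_of_mul_eq_mul_right hfpos h1
  have hmemN : ∀ g : G, g ∈ N ↔ (QuotientGroup.mk g : G ⧸ K) ∈ M := fun g => Iff.rfl
  have hcomm : commutator G ≤ N := by
    rw [commutator_def, Subgroup.commutator_le]
    intro x _ y _
    rw [hmemN]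
    apply hF.comm_le
    rw [commutator_def]
    have : (QuotientGroup.mk ⁅x, y⁆ : G ⧸ K) =
        ⁅(QuotientGroup.mk x : G ⧸ K), QuotientGroup.mk y⁆ := by
      rw [commutatorElement_def, commutatorElement_def]
      rfl
    rw [this]
    exact Subgroup.commutator_mem_commutator (Subgroup.mem_top _) (Subgroup.mem_top _)
  -- `f` is a character degree of `G`
  obtain ⟨χ', hχ', hnl'⟩ := exists_nonlinear hnab
  have hdegχ' : charDegree χ' = f := Cd3.FrobData.degree hF hχ' hnl'
  have hχG : IsIrrCharacter G (χ' ∘ (QuotientGroup.mk' K)) :=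
    isIrrCharacter_comp_of_surjective _ (QuotientGroup.mk'_surjective K) hχ'
  have hdegG : charDegree (χ' ∘ (QuotientGroup.mk' K)) = f := by
    rw [charDegree_comp]
    exact hdegχ'
  have hf1 : f ≠ 1 := by
    rw [← hdegχ']
    exact hnl'
  -- the other degree
  obtain ⟨m, hm1, hfm, hcdfm⟩ : ∃ m : ℕ, 1 < m ∧ f.Coprime m ∧ IsCd3 G f m := by
    rcases hcd _ hχG with h | h | h
    · rw [hdegG] at h
      exact absurd h hf1
    · rw [hdegG] at h
      exact ⟨b, hb, by rw [h]; exact hcop, by rw [h]; exact hcd⟩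
    · rw [hdegG] at h
      refine ⟨a, ha, by rw [h]; exact hcop.symm, ?_⟩
      intro χ hχ
      rcases hcd χ hχ with h' | h' | h'
      · exact Or.inl h'
      · exact Or.inr (Or.inr h')
      · exact Or.inr (Or.inl (by rw [h', h]))
  have hpf : ¬ p ∣ f := hF.cop
  haveI : Fact p.Prime := ⟨hF.prime⟩
  refine ⟨N, hNn, hcomm, m, ?_⟩
  letI : Fintype N := Fintype.ofFinite N
  intro ψ hψ
  obtain ⟨χ, hχ, hcon⟩ := exists_over N hψ
  have hdvd := degree_dvd_of_constituent N hχ hψ hcon
  rcases hcdfm χ hχ with h | h | h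
  · left
    rw [h] at hdvd
    exact Nat.dvd_one.mp hdvd
  · -- `χ(1) = f`
    by_cases hd1 : charDegree ψ = 1
    · exact Or.inl hd1
    · exfalso
      rw [h] at hdvd
      have hdpos := charDegree_pos hψ
      apply twist_count K N hKN ?_ ?_ hNidx ?_ hψ ?_ ?_
      · intro x hx y hy
        rw [← QuotientGroup.eq_one_iff]
        have := hF.comm _ ((hmemN x).mp hx) _ ((hmemN y).mp hy)
        rw [QuotientGroup.mk_mul, QuotientGroup.mk_mul, QuotientGroup.mk_mul, this,
          QuotientGroup.mk_inv, QuotientGroup.mk_inv]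
        group
      · intro g hg n hn
        obtain ⟨z, hz, hzeq⟩ := hF.surj (x := (QuotientGroup.mk g : G ⧸ K)) hg ((hmemN n).mp hn)
        obtain ⟨n', rfl⟩ := QuotientGroup.mk_surjective z
        refine ⟨n', hz, (g * n' * g⁻¹ * n'⁻¹)⁻¹ * n, ?_, by group⟩
        rw [← QuotientGroup.eq]
        rw [QuotientGroup.mk_mul, QuotientGroup.mk_mul, QuotientGroup.mk_mul, QuotientGroup.mk_inv,
          QuotientGroup.mk_inv]
        exact hzeq.symm
      · rw [hrel]
        have := hF.lt
        omega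
      · rw [hrel]
        apply Nat.Coprime.pow_right
        apply Nat.Coprime.coprime_dvd_left hdvd
        exact ((Nat.Prime.coprime_iff_not_dvd hF.prime).mpr hpf).symm
      · intro χ'' hχ'' hdeg''
        have hd2 : 2 ≤ charDegree ψ := by omega
        rcases hcdfm χ'' hχ'' with h' | h' | h'
        · rw [h'] at hdeg''
          have : f * charDegree ψ ≥ 2 := by nlinarith
          omega
        · rw [h'] at hdeg''
          have : f * charDegree ψ ≥ f * 2 := Nat.mul_le_mul_left f hd2
          omega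
        · rw [h'] at hdeg''
          have h1 : f ∣ m := ⟨charDegree ψ, hdeg''⟩
          have h2 : f ∣ Nat.gcd f m := Nat.dvd_gcd dvd_rfl h1
          rw [hfm] at h2
          exact hf1 (Nat.dvd_one.mp h2)
  · -- `χ(1) = m`
    right
    have hc : (charDegree χ).Coprime N.index := by
      rw [h, hNidx]
      exact hfm.symm
    have hirr := CopDeg.restrict_irr_of_coprime N hχ hc
    have heq : (fun n : N => χ n) = ψ := by
      by_contra hne
      apply hcon
      rw [irr_orthogonality hirr hψ, if_neg hne]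
    rw [← heq]
    have : charDegree (fun n : N => χ n) = charDegree χ := CopDeg.charDegree_congr rfl
    rw [this, h]

end Cfsg.Agent.Helper24.Cd3
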