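import Mathlib
import Cfsg.Prelude.Def_Blocks
import Cfsg.Agent.Lib.Helper24.CharAlgebra
import Cfsg.Agent.Lib.Helper24.CharAbelian
import Cfsg.Agent.Lib.Helper24.OrbitSum
import Cfsg.Agent.Lib.Helper5.DetChar

/-!
# Twisting irreducible characters by linear characters

Shared library of helper24 (namespace `Cfsg.Agent.Helper24`).

* `twistAction` : the action of `G →* ℂˣ` on `IrrCharacter G` by multiplication;
* `card_le_sq_of_forall_twist_eq` : a subgroup `Γ` of linear characters fixing `χ` under twisting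
  has order at most `χ(1)²`;
* `vanish_of_twist_eq` : if `λχ = χ` and `λ(g) ≠ 1` then `χ(g) = 0`;
* `exists_twist_fixed_of_odd` : a `2`-group of linear characters acting on a stable family of odd
  size has a fixed point.
-/

set_option autoImplicit false
set_option linter.style.haveILetI false
set_option linter.unusedVariables false
set_option linter.unusedSectionVars false

namespace Cfsg.Agent.Helper24

open Cfsg MulAction
open scoped ComplexConjugate

universe u

section

variable {G : Type u} [Group G]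

/-- The linear character attached to a homomorphism, as an irreducible character. -/
noncomputable def linIrr (f : G →* ℂˣ) : IrrCharacter G :=
  ⟨fun g => ((f g : ℂˣ) : ℂ), isIrrCharacter_of_monoidHom f⟩

theorem linIrr_apply (f : G →* ℂˣ) (g : G) : (linIrr f : G → ℂ) g = ((f g : ℂˣ) : ℂ) := rfl

theorem linIrr_injective : Function.Injective (linIrr (G := G)) := by
  intro f₁ f₂ h
  ext g
  have := congrFun (congrArg Subtype.val h) g
  exact this

/-- The action of linear characters on irreducible characters by multiplication. -/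
@[reducible] noncomputable def twistAction : MulAction (G →* ℂˣ) (IrrCharacter G) where
  smul f χ := ⟨fun g => ((f g : ℂˣ) : ℂ) * (χ : G → ℂ) g,
    Cfsg.Agent.Helper5.isIrrCharacter_twist f χ.2⟩
  one_smul χ := by
    apply Subtype.ext
    funext g
    show (((1 : G →* ℂˣ) g : ℂˣ) : ℂ) * (χ : G → ℂ) g = (χ : G → ℂ) g
    simp
  mul_smul f₁ f₂ χ := by
    apply Subtype.ext
    funext g
    show ((((f₁ * f₂ : G →* ℂˣ)) g : ℂˣ) : ℂ) * (χ : G → ℂ) g =
      ((f₁ g : ℂˣ) : ℂ) * (((f₂ g : ℂˣ) : ℂ) * (χ : G → ℂ) g)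
    rw [MonoidHom.mul_apply, Units.val_mul, mul_assoc]

theorem twist_apply (f : G →* ℂˣ) (χ : IrrCharacter G) (g : G) :
    (((twistAction (G := G)).toSMul.smul f χ : IrrCharacter G) : G → ℂ) g =
      ((f g : ℂˣ) : ℂ) * (χ : G → ℂ) g := rfl

/-- If `fχ = χ` and `f g ≠ 1` then `χ g = 0`. -/
theorem vanish_of_twist_eq {f : G →* ℂˣ} {χ : IrrCharacter G}
    (h : (twistAction (G := G)).toSMul.smul f χ = χ) {g : G} (hg : f g ≠ 1) :
    (χ : G → ℂ) g = 0 := by
  have h1 := congrFun (congrArg Subtype.val h) g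
  rw [twist_apply] at h1
  have h2 : (((f g : ℂˣ) : ℂ) - 1) * (χ : G → ℂ) g = 0 := by
    rw [sub_mul, h1, one_mul, sub_self]
  rcases mul_eq_zero.mp h2 with h3 | h3
  · exfalso
    apply hg
    apply Units.ext
    rw [Units.val_one]
    exact sub_eq_zero.mp h3
  · exact h3

theorem charDegree_twist (f : G →* ℂˣ) (χ : IrrCharacter G) :
    charDegree (((twistAction (G := G)).toSMul.smul f χ : IrrCharacter G) : G → ℂ) =
      charDegree (χ : G → ℂ) := by
  unfold charDegree
  rw [twist_apply, map_one, Units.val_one, one_mul]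

end

section Finite

variable {G : Type u} [Group G] [Fintype G] [Fintype (IrrCharacter G)]

theorem finite_monoidHom_units : Finite (G →* ℂˣ) := by
  apply Nat.finite_of_card_ne_zero
  rw [card_monoidHom_units]
  exact Subgroup.index_ne_zero_of_finite

/-- A subgroup `Γ` of linear characters all of which fix `χ` under twisting has order at most
`χ(1)²`. -/
theorem card_le_sq_of_forall_twist_eq (χ : IrrCharacter G) (Γ : Subgroup (G →* ℂˣ))
    (h : ∀ f ∈ Γ, (twistAction (G := G)).toSMul.smul f χ = χ) :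
    Nat.card Γ ≤ charDegree (χ : G → ℂ) ^ 2 := by
  classical
  haveI := finite_monoidHom_units (G := G)
  letI : Fintype Γ := Fintype.ofFinite Γ
  have hχc := isCharacter_of_isIrrCharacter χ.2
  set ψ : G → ℂ := (χ : G → ℂ) * (fun g => conj ((χ : G → ℂ) g)) with hψ
  have hψc : IsCharacter G ψ := isCharacter_mul hχc (isCharacter_conj hχc)
  obtain ⟨hm, hdec⟩ := isCharacter_decomp hψc
  choose m hm' using hm
  -- multiplicity of each `f ∈ Γ` is one
  have hmult : ∀ f : Γ, m (linIrr (f : G →* ℂˣ)) = 1 := by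
    intro f
    have h1 := hm' (linIrr (f : G →* ℂˣ))
    have h2 : classInner ψ ((linIrr (f : G →* ℂˣ) : IrrCharacter G) : G → ℂ) = 1 := by
      have h3 := irr_orthogonality χ.2 χ.2
      rw [if_pos rfl] at h3
      have h4 := h (f : G →* ℂˣ) f.2
      have h5 : classInner ψ ((linIrr (f : G →* ℂˣ) : IrrCharacter G) : G → ℂ) =
          classInner (χ : G → ℂ)
            (((twistAction (G := G)).toSMul.smul (f : G →* ℂˣ) χ : IrrCharacter G) : G → ℂ) := by
        unfold classInner
        congr 1
        refine Finset.sum_congr rfl fun g _ => ?_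
        rw [twist_apply, hψ, Pi.mul_apply, linIrr_apply, map_mul]
        ring
      rw [h5, h4, h3]
    rw [h2] at h1
    exact_mod_cast h1.symm
  -- degree count
  have h1 := congrFun hdec 1
  rw [Finset.sum_apply] at h1
  simp only [Pi.smul_apply, smul_eq_mul, hm'] at h1
  have hψ1 : ψ 1 = ((charDegree (χ : G → ℂ) ^ 2 : ℕ) : ℂ) := by
    rw [hψ, Pi.mul_apply, irr_one_eq_charDegree χ.2]
    simp [sq]
  have h2 : ∑ φ : IrrCharacter G, ((m φ : ℂ)) * (φ : G → ℂ) 1 =
      ((∑ φ : IrrCharacter G, m φ * charDegree (φ : G → ℂ) : ℕ) : ℂ) := by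
    rw [Nat.cast_sum]
    refine Finset.sum_congr rfl fun φ _ => ?_
    rw [irr_one_eq_charDegree φ.2]
    push_cast
    rfl
  rw [hψ1, h2] at h1
  have h3 : charDegree (χ : G → ℂ) ^ 2 = ∑ φ : IrrCharacter G, m φ * charDegree (φ : G → ℂ) := by
    exact_mod_cast h1
  rw [h3, Nat.card_eq_fintype_card, ← Finset.card_univ]
  have hinj : Function.Injective (fun f : Γ => linIrr (f : G →* ℂˣ)) := by
    intro f₁ f₂ h
    exact Subtype.ext (linIrr_injective h)
  calc (Finset.univ : Finset Γ).card
      = ∑ f : Γ, 1 := by simp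
    _ = ∑ f : Γ, m (linIrr (f : G →* ℂˣ)) *
          charDegree ((linIrr (f : G →* ℂˣ) : IrrCharacter G) : G → ℂ) := by
        refine Finset.sum_congr rfl fun f _ => ?_
        rw [hmult f]
        have : charDegree ((linIrr (f : G →* ℂˣ) : IrrCharacter G) : G → ℂ) = 1 :=
          charDegree_natCast 1 (by rw [linIrr_apply]; simp)
        rw [this]
    _ = ∑ φ ∈ Finset.univ.image (fun f : Γ => linIrr (f : G →* ℂˣ)),
          m φ * charDegree (φ : G → ℂ) := by
        rw [Finset.sum_image (fun a _ b _ hab => hinj hab)]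
    _ ≤ ∑ φ : IrrCharacter G, m φ * charDegree (φ : G → ℂ) :=
        Finset.sum_le_sum_of_subset_of_nonneg (Finset.subset_univ _) (fun _ _ _ => Nat.zero_le _)

/-- A `2`-subgroup `Γ` of linear characters acting on a `Γ`-stable family of irreducible characters
of odd size: the subfamily of `Γ`-fixed members also has odd size. -/
theorem odd_card_filter_twist_fixed (Γ : Subgroup (G →* ℂˣ)) (hΓ : IsPGroup 2 Γ)
    (P : IrrCharacter G → Prop) [DecidablePred P]
    (hP : ∀ f ∈ Γ, ∀ χ, P χ → P ((twistAction (G := G)).toSMul.smul f χ))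
    (hodd : Odd (Finset.univ.filter P).card)
    [DecidablePred (fun χ => P χ ∧ ∀ f ∈ Γ, (twistAction (G := G)).toSMul.smul f χ = χ)] :
    Odd (Finset.univ.filter
      (fun χ => P χ ∧ ∀ f ∈ Γ, (twistAction (G := G)).toSMul.smul f χ = χ)).card := by
  classical
  letI := twistAction (G := G)
  haveI := finite_monoidHom_units (G := G)
  have hPiff : ∀ (f : Γ) (χ : IrrCharacter G), P (f • χ) ↔ P χ := by
    intro f χ
    constructor
    · intro h
      have := hP (f⁻¹ : Γ) (f⁻¹ : Γ).2 _ h
      have h2 : ((f⁻¹ : Γ) : G →* ℂˣ) • (f • χ) = χ := by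
        show (f⁻¹ : Γ) • (f • χ) = χ
        rw [smul_smul, inv_mul_cancel, one_smul]
      rw [← h2]
      exact this
    · intro h
      exact hP f f.2 _ h
  have horb : ∀ χ : IrrCharacter G, χ ∉ fixedPoints Γ (IrrCharacter G) →
      2 ∣ Nat.card (orbit Γ χ) := by
    intro χ hχ
    obtain ⟨n, hn⟩ := hΓ.card_orbit χ
    rw [hn]
    rcases Nat.eq_zero_or_pos n with rfl | hpos
    · exfalso
      apply hχ
      rw [pow_zero] at hn
      rw [mem_fixedPoints_iff_card_orbit_eq_one]
      rw [← Nat.card_eq_fintype_card]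
      exact hn
    · exact dvd_pow_self 2 hpos.ne'
  have key := sum_modEq_sum_fixedPoints (H := Γ) 2
    (fun χ : IrrCharacter G => if P χ then 1 else 0)
    (fun f χ => by simp only [hPiff]) horb
  rw [Finset.sum_boole, Finset.sum_boole] at key
  have hodd2 : (Finset.univ.filter P).card % 2 = 1 := Nat.odd_iff.mp hodd
  have h3 : ((Finset.univ.filter (· ∈ fixedPoints Γ (IrrCharacter G))).filter P).card % 2 = 1 := by
    have := key.symm
    rw [Nat.ModEq] at this
    simpa [hodd2] using this
  have heq : (Finset.univ.filter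
      (fun χ => P χ ∧ ∀ f ∈ Γ, (twistAction (G := G)).toSMul.smul f χ = χ)) =
      ((Finset.univ.filter (· ∈ fixedPoints Γ (IrrCharacter G))).filter P) := by
    ext χ
    simp only [Finset.mem_filter, Finset.mem_univ, true_and]
    constructor
    · rintro ⟨h1, h2⟩
      refine ⟨?_, h1⟩
      rw [mem_fixedPoints]
      intro f
      exact h2 f f.2
    · rintro ⟨h1, h2⟩
      exact ⟨h2, fun f hf => mem_fixedPoints.mp h1 ⟨f, hf⟩⟩
  rw [heq]
  exact Nat.odd_iff.mpr h3

/-- A `2`-subgroup `Γ` of linear characters acting on a `Γ`-stable family of irreducible characters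
of odd size has a common fixed point in the family. -/
theorem exists_twist_fixed_of_odd (Γ : Subgroup (G →* ℂˣ)) (hΓ : IsPGroup 2 Γ)
    (P : IrrCharacter G → Prop) [DecidablePred P]
    (hP : ∀ f ∈ Γ, ∀ χ, P χ → P ((twistAction (G := G)).toSMul.smul f χ))
    (hodd : Odd (Finset.univ.filter P).card) :
    ∃ χ, P χ ∧ ∀ f ∈ Γ, (twistAction (G := G)).toSMul.smul f χ = χ := by
  classical
  have h := odd_card_filter_twist_fixed Γ hΓ P hP hodd
  have hne : (Finset.univ.filter
      (fun χ => P χ ∧ ∀ f ∈ Γ, (twistAction (G := G)).toSMul.smul f χ = χ)).Nonempty := by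
    rw [← Finset.card_pos]
    exact h.pos
  obtain ⟨χ, hχ⟩ := hne
  rw [Finset.mem_filter] at hχ
  exact ⟨χ, hχ.2⟩

end Finite

end Cfsg.Agent.Helper24
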