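import Mathlib
import Cfsg.Prelude.Def_Blocks
import Cfsg.Agent.Lib.Helper5.Clifford
import Cfsg.Agent.Lib.Helper5.Gallagher
import Cfsg.Agent.Lib.Helper18.BrauerSpan
import Cfsg.Agent.Lib.Helper24.CharAbelian
import Cfsg.Agent.Lib.Helper24.LinearTwist

/-!
# Characters over a fixed character of a normal subgroup with abelian quotient
(helper24's shared library)

If `M ⊴ G` with `G / M` abelian and `χ₁, χ₂ ∈ Irr(G)` both lie over `ψ ∈ Irr(M)`, then
`χ₂ = λ χ₁` for a linear character `λ` of `G` trivial on `M`.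
-/

set_option autoImplicit false
set_option linter.style.haveILetI false

namespace Cfsg.Agent.Helper24

open Cfsg Cfsg.Agent.Helper5
open scoped commutatorElement

universe u

theorem exists_twist_of_over {G : Type u} [Group G] [Fintype G] (M : Subgroup G) [hM : M.Normal]
    [Fintype M] (hab : commutator G ≤ M) {ψ : M → ℂ} (hψ : IsIrrCharacter M ψ) {χ₁ χ₂ : G → ℂ}
    (h1 : IsIrrCharacter G χ₁) (h2 : IsIrrCharacter G χ₂)
    (c1 : classInner (fun n : M => χ₁ n) ψ ≠ 0) (c2 : classInner (fun n : M => χ₂ n) ψ ≠ 0) :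
    ∃ f : G →* ℂˣ, M ≤ f.ker ∧ ∀ g, χ₂ g = ((f g : ℂˣ) : ℂ) * χ₁ g := by
  classical
  letI := irrFintype (G := G)
  have hcf2 := isClassFunction_of_isIrrCharacter h2
  have hc2 : classInner (indFun M ψ) χ₂ ≠ 0 := by
    rw [frobenius_reciprocity M ψ hcf2, ← classInner_conj_symm]
    intro h
    apply c2
    have := congrArg (starRingEnd ℂ) h
    simpa using this
  obtain ⟨ρ, hρ, hdec⟩ := exists_add_of_constituent
    (isCharacter_restrict M (isCharacter_of_isIrrCharacter h1)) hψ c1
  have hind : indFun M (fun n : M => χ₁ n) = indFun M ψ + indFun M ρ := by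
    rw [hdec, indFun_add]
  have hc3 : classInner (indFun M (fun n : M => χ₁ n)) χ₂ ≠ 0 := by
    rw [hind]
    exact classInner_add_ne_zero (isCharacter_indFun M (isCharacter_of_isIrrCharacter hψ))
      (isCharacter_indFun M hρ) (isCharacter_of_isIrrCharacter h2) hc2
  have hproj : indFun M (fun n : M => χ₁ n) = indFun M (fun _ : M => (1 : ℂ)) * χ₁ := by
    have := Cfsg.Agent.Helper18.indFun_mul_restrict M (fun _ : M => (1 : ℂ))
      (isClassFunction_of_isIrrCharacter h1)
    rw [← this]
    congr 1
    funext n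
    simp
  have hone : IsIrrCharacter M (fun _ : M => (1 : ℂ)) := isIrrCharacter_one
  obtain ⟨hm, hdecφ⟩ := isCharacter_decomp
    (isCharacter_indFun M (isCharacter_of_isIrrCharacter hone))
  rw [hproj, hdecφ, Finset.sum_mul, classInner_sum_left] at hc3
  obtain ⟨β, -, hβ⟩ := Finset.exists_ne_zero_of_sum_ne_zero hc3
  have hcβ : classInner (indFun M (fun _ : M => (1 : ℂ))) (β : G → ℂ) ≠ 0 := by
    intro h0
    apply hβ
    rw [h0, zero_smul, zero_mul]
    unfold classInner
    simp
  have htriv := ntrivial_of_constituent_ind_one M β.2 hcβ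
  -- `β` is linear
  obtain ⟨β', hβ', hβeq⟩ := exists_deflate M β.2 htriv
  have hcomm : ∀ a b : G ⧸ M, a * b = b * a := by
    intro a b
    induction a using QuotientGroup.induction_on with
    | H a =>
      induction b using QuotientGroup.induction_on with
      | H b =>
        rw [← QuotientGroup.mk_mul, ← QuotientGroup.mk_mul, QuotientGroup.eq]
        apply hab
        rw [commutator_def]
        have : (a * b)⁻¹ * (b * a) = ⁅b⁻¹, a⁻¹⁆ := by
          rw [commutatorElement_def]; group
        rw [this]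
        exact Subgroup.commutator_mem_commutator (Subgroup.mem_top _) (Subgroup.mem_top _)
  have hdeg : β' 1 = 1 := by
    letI := irrFintype (G := G ⧸ M)
    have := charDegree_eq_one_of_comm hcomm hβ'
    exact (charDegree_eq_one_iff hβ').mp this
  have hβ1 : (β : G → ℂ) 1 = 1 := by
    rw [hβeq, Function.comp_apply]
    exact hdeg
  refine ⟨linHom (isCharacter_of_isIrrCharacter β.2) hβ1, ?_, ?_⟩
  · intro n hn
    rw [MonoidHom.mem_ker]
    apply Units.ext
    rw [linHom_apply, Units.val_one, htriv n hn, hβ1]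
  · have hirr : IsIrrCharacter G
        (fun g => ((linHom (isCharacter_of_isIrrCharacter β.2) hβ1 g : ℂˣ) : ℂ) * χ₁ g) :=
      isIrrCharacter_twist _ h1
    have heq : (classInner (indFun M (fun _ : M => (1 : ℂ))) (β : G → ℂ) • (β : G → ℂ)) * χ₁ =
        classInner (indFun M (fun _ : M => (1 : ℂ))) (β : G → ℂ) •
          (fun g => ((linHom (isCharacter_of_isIrrCharacter β.2) hβ1 g : ℂˣ) : ℂ) * χ₁ g) := by
      funext g
      simp only [Pi.mul_apply, Pi.smul_apply, smul_eq_mul, linHom_apply]
      ring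
    rw [heq, classInner_smul_left] at hβ
    have h3 : classInner
        (fun g => ((linHom (isCharacter_of_isIrrCharacter β.2) hβ1 g : ℂˣ) : ℂ) * χ₁ g) χ₂ ≠ 0 :=
      right_ne_zero_of_mul hβ
    rw [irr_orthogonality hirr h2] at h3
    by_contra hne
    apply h3
    rw [if_neg]
    intro h4
    apply hne
    intro g
    rw [← h4]

end Cfsg.Agent.Helper24
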