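import Mathlib
import Cfsg.Agent.Lib.Helper1.Glauberman

/-!
# Glauberman's lemma for permutation groups (helper24's shared library)

A wrapper of `Cfsg.Agent.Helper1.glauberman_exists_fixed` in which the two groups are given as
subgroups of `Equiv.Perm Ω` (no ambient group needs to be constructed): if `A` normalizes `K`,
their orders are coprime, one of them is solvable and `A` preserves the `K`-orbit of `ω`, then some
point of that orbit is fixed by `A`.
-/

set_option autoImplicit false
set_option linter.style.haveILetI false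

namespace Cfsg.Agent.Helper24

/-- **Glauberman's lemma** for two subgroups of a symmetric group. -/
theorem glauberman_perm {Ω : Type*} [Finite Ω] (K A : Subgroup (Equiv.Perm Ω))
    (hnorm : A ≤ Subgroup.normalizer (K : Set (Equiv.Perm Ω)))
    (hcop : (Nat.card A).Coprime (Nat.card K))
    (hsolv : Group.IsSolvable A ∨ Group.IsSolvable K) (ω : Ω)
    (h : ∀ a ∈ A, ∃ k ∈ K, a ω = k ω) : ∃ k ∈ K, ∀ a ∈ A, a (k ω) = k ω := by
  classical
  haveI : Finite (Equiv.Perm Ω) := inferInstance
  have hKle : K ≤ K ⊔ A := le_sup_left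
  have hAle : A ≤ K ⊔ A := le_sup_right
  have hle : K ⊔ A ≤ Subgroup.normalizer (K : Set (Equiv.Perm Ω)) :=
    sup_le Subgroup.le_normalizer hnorm
  haveI hKn : (K.subgroupOf (K ⊔ A)).Normal :=
    (Subgroup.normal_subgroupOf_iff_le_normalizer hKle).mpr hle
  have eK := Subgroup.subgroupOfEquivOfLe hKle
  have eA := Subgroup.subgroupOfEquivOfLe hAle
  have hcop' : (Nat.card (A.subgroupOf (K ⊔ A))).Coprime (Nat.card (K.subgroupOf (K ⊔ A))) := by
    rw [Nat.card_congr eK.toEquiv, Nat.card_congr eA.toEquiv]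
    exact hcop
  have hsolv' : Group.IsSolvable (A.subgroupOf (K ⊔ A)) ∨
      Group.IsSolvable (K.subgroupOf (K ⊔ A)) := by
    rcases hsolv with hs | hs
    · left
      exact solvable_of_surjective (f := eA.symm.toMonoidHom) eA.symm.surjective
    · right
      exact solvable_of_surjective (f := eK.symm.toMonoidHom) eK.symm.surjective
  obtain ⟨k, hk, hfix⟩ := Cfsg.Agent.Helper1.glauberman_exists_fixed
    (G := ↥(K ⊔ A)) (A.subgroupOf (K ⊔ A)) (K.subgroupOf (K ⊔ A)) hcop' hsolv' (Ω := Ω) ω
    (by
      intro a ha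
      obtain ⟨k, hk, hak⟩ := h a.1 ha
      exact ⟨⟨k, hKle hk⟩, hk, hak⟩)
  refine ⟨k.1, hk, ?_⟩
  intro a ha
  exact hfix ⟨a, hAle ha⟩ ha

end Cfsg.Agent.Helper24
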