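import Mathlib
import Cfsg.Prelude.Def_Blocks
import Cfsg.Agent.Lib.Helper24.NormalizerAct
import Cfsg.Agent.Lib.Helper24.GlaubermanPerm
import Cfsg.Agent.Lib.Helper24.AbelianOver

/-!
# Coprime action and characters lying over an invariant character (helper24's shared library)

Setting: subgroups `G, S, M` of a finite group `Γ`, with `M ⊴ G`, both normalized by `S`.

* `exists_irr_over` : every irreducible character of a subgroup lies under some irreducible
  character of the group;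
* `over_trans` : transitivity of "lies over";
* `abelian_step` : if `G / M` is abelian of order coprime to `|S|` and `ψ ∈ Irr(M)` is
  `S`-invariant then some `χ ∈ Irr(G | ψ)` is `S`-invariant.
-/

set_option autoImplicit false
set_option linter.style.haveILetI false

namespace Cfsg.Agent.Helper24

open Cfsg Cfsg.Agent.Helper5

universe u

section TypeLevel

variable {G : Type u} [Group G]

/-- Every irreducible character of a subgroup lies under an irreducible character. -/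
theorem exists_irr_over [Fintype G] (N : Subgroup G) [Fintype N] {θ : N → ℂ}
    (hθ : IsIrrCharacter N θ) :
    ∃ χ : G → ℂ, IsIrrCharacter G χ ∧ classInner (fun n : N => χ n) θ ≠ 0 := by
  classical
  have hθc := isCharacter_of_isIrrCharacter hθ
  have hind : IsCharacter G (indFun N θ) := isCharacter_indFun N hθc
  have hne : indFun N θ ≠ 0 := by
    intro h
    have h1 := congrFun h 1
    rw [indFun_one, Pi.zero_apply] at h1
    rcases mul_eq_zero.mp h1 with h2 | h2
    · have : N.index ≠ 0 := Subgroup.index_ne_zero_of_finite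
      exact this (by exact_mod_cast h2)
    · obtain ⟨n, hn, hn1⟩ := irr_one_eq hθ
      rw [hn1] at h2
      exact hn.ne' (by exact_mod_cast h2)
  obtain ⟨χ, hχ, hχne⟩ := exists_constituent hind hne
  have hcf := isClassFunction_of_isIrrCharacter hχ
  rw [frobenius_reciprocity N θ hcf] at hχne
  refine ⟨χ, hχ, ?_⟩
  intro h
  apply hχne
  rw [← classInner_conj_symm, h, map_zero]

/-- The linear characters trivial on a subgroup. -/
def trivOn (M : Subgroup G) : Subgroup (G →* ℂˣ) where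
  carrier := {f | M ≤ f.ker}
  one_mem' := by
    intro n _
    rw [MonoidHom.mem_ker, MonoidHom.one_apply]
  mul_mem' := by
    intro a b ha hb n hn
    rw [MonoidHom.mem_ker, MonoidHom.mul_apply, MonoidHom.mem_ker.mp (ha hn),
      MonoidHom.mem_ker.mp (hb hn), one_mul]
  inv_mem' := by
    intro a ha n hn
    rw [MonoidHom.mem_ker, MonoidHom.inv_apply, MonoidHom.mem_ker.mp (ha hn), inv_one]

theorem mem_trivOn (M : Subgroup G) (f : G →* ℂˣ) : f ∈ trivOn M ↔ M ≤ f.ker := Iff.rfl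

theorem pow_index_eq_one_of_mem_trivOn (M : Subgroup G) [M.Normal] {f : G →* ℂˣ}
    (hf : f ∈ trivOn M) : f ^ M.index = 1 := by
  ext1 g
  rw [MonoidHom.pow_apply, ← map_pow, MonoidHom.one_apply]
  exact MonoidHom.mem_ker.mp (hf (Subgroup.pow_index_mem M g))

/-- A finite group of exponent dividing `m` has order coprime to anything coprime to `m`. -/
theorem coprime_card_of_forall_pow_eq_one {H : Type*} [Group H] [Finite H] (m n : ℕ)
    (hmn : m.Coprime n) (h : ∀ x : H, x ^ m = 1) : (Nat.card H).Coprime n := by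
  by_contra hcon
  obtain ⟨p, hp, h1, h2⟩ := Nat.Prime.not_coprime_iff_dvd.mp hcon
  haveI := Fact.mk hp
  obtain ⟨x, hx⟩ := exists_prime_orderOf_dvd_card' p h1
  have h3 : p ∣ m := hx ▸ orderOf_dvd_of_pow_eq_one (h x)
  have h4 : p ∣ 1 := by
    have := Nat.dvd_gcd h3 h2
    rwa [Nat.Coprime.gcd_eq_one hmn] at this
  exact hp.one_lt.ne' (Nat.dvd_one.mp h4)

end TypeLevel

section Ambient

variable {Γ : Type u} [Group Γ]

/-- Conjugating both a character of `G` and a character of `H ≤ G` by the same element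
preserves multiplicities. -/
theorem classInner_res_conjIrr_conjIrr (H G : Subgroup Γ) [Fintype H] (hHG : H ≤ G) (x : Γ)
    (hxH : x ∈ Subgroup.normalizer (H : Set Γ)) (hxG : x ∈ Subgroup.normalizer (G : Set Γ))
    (χ : IrrCharacter G) (θ : IrrCharacter H) :
    classInner (fun n : H => (conjIrr G x hxG χ : G → ℂ) ⟨n, hHG n.2⟩)
        (conjIrr H x hxH θ : H → ℂ) =
      classInner (fun n : H => (χ : G → ℂ) ⟨n, hHG n.2⟩) (θ : H → ℂ) := by
  have h1 : (fun n : H => (conjIrr G x hxG χ : G → ℂ) ⟨n, hHG n.2⟩) =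
      (fun n : H => (χ : G → ℂ) ⟨n, hHG n.2⟩) ∘ (normConj H x⁻¹ (Subgroup.inv_mem _ hxH)) := by
    funext n
    rw [Function.comp_apply, conjIrr_apply]
    apply congrArg (χ : G → ℂ)
    apply Subtype.ext
    rfl
  have h2 : (conjIrr H x hxH θ : H → ℂ) =
      (θ : H → ℂ) ∘ (normConj H x⁻¹ (Subgroup.inv_mem _ hxH)) := rfl
  rw [h1, h2]
  exact classInner_comp_equiv _ _ _

/-- Transitivity of "lies over". -/
theorem over_trans [Fintype Γ] (N M G : Subgroup Γ) [Fintype N] [Fintype M] [Fintype G]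
    (hNM : N ≤ M) (hMG : M ≤ G)
    {θ : N → ℂ} {ψ : M → ℂ} {χ : G → ℂ} (hθ : IsIrrCharacter N θ) (hψ : IsIrrCharacter M ψ)
    (hχ : IsIrrCharacter G χ)
    (h1 : classInner (fun n : N => ψ ⟨n, hNM n.2⟩) θ ≠ 0)
    (h2 : classInner (fun m : M => χ ⟨m, hMG m.2⟩) ψ ≠ 0) :
    classInner (fun n : N => χ ⟨n, (hNM.trans hMG) n.2⟩) θ ≠ 0 := by
  have hχM : IsCharacter M (fun m : M => χ ⟨m, hMG m.2⟩) :=
    isCharacter_resFun (G := Γ) hMG (isCharacter_of_isIrrCharacter hχ)
  obtain ⟨ρ, hρ, hdec⟩ := exists_add_of_constituent hχM hψ h2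
  have hres : (fun n : N => χ ⟨n, (hNM.trans hMG) n.2⟩) =
      (fun n : N => ψ ⟨n, hNM n.2⟩) + (fun n : N => ρ ⟨n, hNM n.2⟩) := by
    funext n
    have := congrFun hdec ⟨n, hNM n.2⟩
    exact this
  rw [hres]
  exact classInner_add_ne_zero
    (isCharacter_resFun (G := Γ) hNM (isCharacter_of_isIrrCharacter hψ))
    (isCharacter_resFun (G := Γ) hNM hρ) (isCharacter_of_isIrrCharacter hθ) h1

/-- **Abelian step**: if `G / M` is abelian of order coprime to `|S|` and `ψ ∈ Irr(M)` is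
`S`-invariant, then some `χ ∈ Irr(G | ψ)` is `S`-invariant. -/
theorem abelian_step [Fintype Γ] (G S M : Subgroup Γ) [Fintype G] [Fintype M]
    (hnorm : ∀ s ∈ S, ∀ g ∈ G, s * g * s⁻¹ ∈ G) (hMG : M ≤ G) [hMn : (M.subgroupOf G).Normal]
    (hMS : ∀ s ∈ S, ∀ n ∈ M, s * n * s⁻¹ ∈ M) (hcop : (M.relIndex G).Coprime (Nat.card S))
    (hab : commutator G ≤ M.subgroupOf G) (ψ : IrrCharacter M)
    (hinv : ∀ s ∈ S, ∀ g g' : M, (g' : Γ) = s * g * s⁻¹ → (ψ : M → ℂ) g' = (ψ : M → ℂ) g) :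
    ∃ χ : IrrCharacter G, classInner (fun n : M => (χ : G → ℂ) ⟨n, hMG n.2⟩) (ψ : M → ℂ) ≠ 0 ∧
      ∀ s ∈ S, ∀ g g' : G, (g' : Γ) = s * g * s⁻¹ → (χ : G → ℂ) g' = (χ : G → ℂ) g := by
  classical
  have hSG : S ≤ Subgroup.normalizer (G : Set Γ) := le_normalizer_of_forall_conj_mem S G hnorm
  have hSM : S ≤ Subgroup.normalizer (M : Set Γ) := le_normalizer_of_forall_conj_mem S M hMS
  haveI : Finite (IrrCharacter G) := by
    letI := irrFintype (G := G)
    infer_instance
  let _ : Fintype (M.subgroupOf G) := Fintype.ofFinite _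
  let e : M.subgroupOf G ≃* M := Subgroup.subgroupOfEquivOfLe hMG
  have hover : ∀ χ : G → ℂ, classInner (fun n' : M.subgroupOf G => χ n') ((ψ : M → ℂ) ∘ e) =
      classInner (fun n : M => χ ⟨n, hMG n.2⟩) (ψ : M → ℂ) := by
    intro χ
    have hres : (fun n' : M.subgroupOf G => χ n') = (fun n : M => χ ⟨n, hMG n.2⟩) ∘ e := rfl
    rw [hres, classInner_comp_equiv]
  have hψ' : IsIrrCharacter (M.subgroupOf G) ((ψ : M → ℂ) ∘ e) :=
    isIrrCharacter_comp_equiv e ψ.2
  obtain ⟨χ₀, hχ₀, hχ₀c⟩ := exists_irr_over (M.subgroupOf G) hψ'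
  rw [hover] at hχ₀c
  -- the two permutation groups
  letI := twistAction (G := G)
  let t : (G →* ℂˣ) →* Equiv.Perm (IrrCharacter G) :=
    MulAction.toPermHom (G →* ℂˣ) (IrrCharacter G)
  have ht : ∀ (f : G →* ℂˣ) (χ : IrrCharacter G) (g : G),
      (t f χ : G → ℂ) g = ((f g : ℂˣ) : ℂ) * (χ : G → ℂ) g := fun f χ g => rfl
  set b := permOf G S hSG with hb
  have hbapp : ∀ (s : S) (χ : IrrCharacter G) (g : G),
      (b s χ : G → ℂ) g = (χ : G → ℂ) (normConj G (s : Γ)⁻¹ (Subgroup.inv_mem _ (hSG s.2)) g) :=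
    fun s χ g => rfl
  set K : Subgroup (Equiv.Perm (IrrCharacter G)) := (trivOn (M.subgroupOf G)).map t with hK
  have hnormal : b.range ≤ Subgroup.normalizer (K : Set (Equiv.Perm (IrrCharacter G))) := by
    apply le_normalizer_of_forall_conj_mem
    rintro _ ⟨s, rfl⟩ _ ⟨f, hf, rfl⟩
    have hs' := Subgroup.inv_mem _ (hSG s.2)
    refine ⟨f.comp (normConj G (s : Γ)⁻¹ hs').toMonoidHom, ?_, ?_⟩
    · intro n hn
      rw [MonoidHom.mem_ker, MonoidHom.comp_apply]
      apply MonoidHom.mem_ker.mp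
      apply hf
      rw [Subgroup.mem_subgroupOf] at hn ⊢
      exact hMS _ (S.inv_mem s.2) _ hn
    · apply eq_mul_inv_of_mul_eq
      ext1 χ
      apply Subtype.ext
      funext g
      rw [Equiv.Perm.mul_apply, Equiv.Perm.mul_apply, ht, hbapp, hbapp, ht]
      rfl
  have hcardA : Nat.card b.range ∣ Nat.card S := Subgroup.card_range_dvd b
  have hcardK : (Nat.card K).Coprime (Nat.card S) := by
    apply coprime_card_of_forall_pow_eq_one (M.relIndex G) (Nat.card S) hcop
    rintro ⟨_, f, hf, rfl⟩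
    apply Subtype.ext
    rw [Subgroup.coe_pow, Subgroup.coe_one]
    show (t f) ^ (M.subgroupOf G).index = 1
    rw [← map_pow, pow_index_eq_one_of_mem_trivOn _ hf, map_one]
  have hcop' : (Nat.card b.range).Coprime (Nat.card K) :=
    (Nat.Coprime.coprime_dvd_right hcardA hcardK).symm
  have hsolvK : Group.IsSolvable K := by
    haveI : Group.IsSolvable (trivOn (M.subgroupOf G)) :=
      isSolvable_of_comm (fun a b => mul_comm a b)
    exact Group.isSolvable_of_surjective (f := t.subgroupMap (trivOn (M.subgroupOf G)))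
      (t.subgroupMap_surjective _)
  obtain ⟨k, hk, hfix⟩ := glauberman_perm K b.range hnormal hcop' (Or.inr hsolvK) ⟨χ₀, hχ₀⟩ (by
    rintro _ ⟨s, rfl⟩
    have hψs : conjIrr M s.1 (hSM s.2) ψ = ψ := (conjIrr_eq_iff M s.1 (hSM s.2) ψ).mpr (hinv s.1 s.2)
    have h1 := classInner_res_conjIrr_conjIrr M G hMG s.1 (hSM s.2) (hSG s.2) ⟨χ₀, hχ₀⟩ ψ
    rw [hψs] at h1
    have h2 : classInner (fun n : M => (b s ⟨χ₀, hχ₀⟩ : G → ℂ) ⟨n, hMG n.2⟩) (ψ : M → ℂ) ≠ 0 := by
      rw [hb, permOf_apply, h1]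
      exact hχ₀c
    rw [← hover] at h2 hχ₀c
    obtain ⟨f, hf, hfeq⟩ := exists_twist_of_over (M.subgroupOf G) hab hψ' hχ₀
      (b s ⟨χ₀, hχ₀⟩).2 hχ₀c h2
    refine ⟨t f, ⟨f, hf, rfl⟩, ?_⟩
    apply Subtype.ext
    funext g
    rw [hfeq g, ht])
  obtain ⟨f, hf, rfl⟩ := hk
  refine ⟨t f ⟨χ₀, hχ₀⟩, ?_, ?_⟩
  · have : (fun n : M => (t f ⟨χ₀, hχ₀⟩ : G → ℂ) ⟨n, hMG n.2⟩) =
        (fun n : M => χ₀ ⟨n, hMG n.2⟩) := by
      funext n
      rw [ht]
      have hn : (⟨n, hMG n.2⟩ : G) ∈ M.subgroupOf G := by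
        rw [Subgroup.mem_subgroupOf]; exact n.2
      rw [MonoidHom.mem_ker.mp (hf hn), Units.val_one, one_mul]
    rw [this]
    exact hχ₀c
  · intro s hs
    have h1 := hfix (b ⟨s, hs⟩) ⟨⟨s, hs⟩, rfl⟩
    rw [hb, permOf_apply] at h1
    exact (conjIrr_eq_iff G s (hSG hs) _).mp h1

end Ambient

end Cfsg.Agent.Helper24
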