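import Mathlib
import Cfsg.Prelude.Def_Blocks
import Cfsg.Agent.Lib.Helper24.CoprimeOver

/-!
# Invariant characters over invariant characters (helper24's shared library)

Relative form of the abelian step, and the solvable-quotient case of the theorem that an
invariant character of a normal subgroup lies under an invariant character.
-/

set_option autoImplicit false
set_option linter.style.haveILetI false

namespace Cfsg.Agent.Helper24.OverInv

open Cfsg Cfsg.Agent.Helper24 Cfsg.Agent.Helper5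
open scoped commutatorElement

universe u

variable {Γ : Type u} [Group Γ]

/-- **Abelian step, relative form**: if `G / M` is abelian of order coprime to `[S : S₀]` with
`S₀ ≤ S ⊓ G` and `ψ ∈ Irr(M)` is `S`-invariant, then some `χ ∈ Irr(G | ψ)` is `S`-invariant. -/
theorem abelian_step' [Fintype Γ] (G S S₀ M : Subgroup Γ) [Fintype G] [Fintype M]
    (hnorm : ∀ s ∈ S, ∀ g ∈ G, s * g * s⁻¹ ∈ G) (hMG : M ≤ G) [hMn : (M.subgroupOf G).Normal]
    (hMS : ∀ s ∈ S, ∀ n ∈ M, s * n * s⁻¹ ∈ M) (hS₀G : S₀ ≤ G)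
    (hcop : (M.relIndex G).Coprime (S₀.relIndex S))
    (hab : commutator G ≤ M.subgroupOf G) (ψ : IrrCharacter M)
    (hinv : ∀ s ∈ S, ∀ g g' : M, (g' : Γ) = s * g * s⁻¹ → (ψ : M → ℂ) g' = (ψ : M → ℂ) g) :
    ∃ χ : IrrCharacter G, classInner (fun n : M => (χ : G → ℂ) ⟨n, hMG n.2⟩) (ψ : M → ℂ) ≠ 0 ∧
      ∀ s ∈ S, ∀ g g' : G, (g' : Γ) = s * g * s⁻¹ → (χ : G → ℂ) g' = (χ : G → ℂ) g := by
  classical
  have hSG : S ≤ Subgroup.normalizer (G : Set Γ) := le_normalizer_of_forall_conj_mem S G hnorm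
  have hSM : S ≤ Subgroup.normalizer (M : Set Γ) := le_normalizer_of_forall_conj_mem S M hMS
  haveI : Finite (IrrCharacter G) := by
    letI := irrFintype (G := G)
    infer_instance
  let _ : Fintype (M.subgroupOf G) := Fintype.ofFinite _
  let e : M.subgroupOf G ≃* M := Subgroup.subgroupOfEquivOfLe hMG
  have hover : ∀ χ : G → ℂ, classInner (fun n' : M.subgroupOf G => χ n') ((ψ : M → ℂ) ∘ e) =
      classInner (fun n : M => χ ⟨n, hMG n.2⟩) (ψ : M → ℂ) := by
    intro χ
    have hres : (fun n' : M.subgroupOf G => χ n') = (fun n : M => χ ⟨n, hMG n.2⟩) ∘ e := rfl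
    rw [hres, classInner_comp_equiv]
  have hψ' : IsIrrCharacter (M.subgroupOf G) ((ψ : M → ℂ) ∘ e) :=
    isIrrCharacter_comp_equiv e ψ.2
  obtain ⟨χ₀, hχ₀, hχ₀c⟩ := exists_irr_over (M.subgroupOf G) hψ'
  rw [hover] at hχ₀c
  -- the two permutation groups
  letI := twistAction (G := G)
  let t : (G →* ℂˣ) →* Equiv.Perm (IrrCharacter G) :=
    MulAction.toPermHom (G →* ℂˣ) (IrrCharacter G)
  have ht : ∀ (f : G →* ℂˣ) (χ : IrrCharacter G) (g : G),
      (t f χ : G → ℂ) g = ((f g : ℂˣ) : ℂ) * (χ : G → ℂ) g := fun f χ g => rfl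
  set b := permOf G S hSG with hb
  have hbapp : ∀ (s : S) (χ : IrrCharacter G) (g : G),
      (b s χ : G → ℂ) g = (χ : G → ℂ) (normConj G (s : Γ)⁻¹ (Subgroup.inv_mem _ (hSG s.2)) g) :=
    fun s χ g => rfl
  set K : Subgroup (Equiv.Perm (IrrCharacter G)) := (trivOn (M.subgroupOf G)).map t with hK
  have hnormal : b.range ≤ Subgroup.normalizer (K : Set (Equiv.Perm (IrrCharacter G))) := by
    apply le_normalizer_of_forall_conj_mem
    rintro _ ⟨s, rfl⟩ _ ⟨f, hf, rfl⟩
    have hs' := Subgroup.inv_mem _ (hSG s.2)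
    refine ⟨f.comp (normConj G (s : Γ)⁻¹ hs').toMonoidHom, ?_, ?_⟩
    · intro n hn
      rw [MonoidHom.mem_ker, MonoidHom.comp_apply]
      apply MonoidHom.mem_ker.mp
      apply hf
      rw [Subgroup.mem_subgroupOf] at hn ⊢
      exact hMS _ (S.inv_mem s.2) _ hn
    · apply eq_mul_inv_of_mul_eq
      ext1 χ
      apply Subtype.ext
      funext g
      rw [Equiv.Perm.mul_apply, Equiv.Perm.mul_apply, ht, hbapp, hbapp, ht]
      rfl
  have hcardA : Nat.card b.range ∣ S₀.relIndex S := by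
    have hker : S₀.subgroupOf S ≤ b.ker := by
      intro s hs
      rw [Subgroup.mem_subgroupOf] at hs
      rw [MonoidHom.mem_ker]
      ext1 χ
      rw [Equiv.Perm.one_apply, hb, permOf_apply, conjIrr_eq_iff]
      intro g g' hgg'
      have hcf := isClassFunction_of_isIrrCharacter χ.2
      have h1 := hcf g ⟨(s : Γ), hS₀G hs⟩
      rw [← h1]
      apply congrArg (χ : G → ℂ)
      apply Subtype.ext
      rw [hgg']
      rfl
    rw [← Subgroup.index_ker b]
    exact Subgroup.index_dvd_of_le hker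
  have hcardK : (Nat.card K).Coprime (S₀.relIndex S) := by
    apply coprime_card_of_forall_pow_eq_one (M.relIndex G) (S₀.relIndex S) hcop
    rintro ⟨_, f, hf, rfl⟩
    apply Subtype.ext
    rw [Subgroup.coe_pow, Subgroup.coe_one]
    show (t f) ^ (M.subgroupOf G).index = 1
    rw [← map_pow, pow_index_eq_one_of_mem_trivOn _ hf, map_one]
  have hcop' : (Nat.card b.range).Coprime (Nat.card K) :=
    (Nat.Coprime.coprime_dvd_right hcardA hcardK).symm
  have hsolvK : Group.IsSolvable K := by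
    haveI : Group.IsSolvable (trivOn (M.subgroupOf G)) :=
      Group.isSolvable_of_comm (fun a b => mul_comm a b)
    exact Group.isSolvable_of_surjective (f := t.subgroupMap (trivOn (M.subgroupOf G)))
      (t.subgroupMap_surjective _)
  obtain ⟨k, hk, hfix⟩ := glauberman_perm K b.range hnormal hcop' (Or.inr hsolvK) ⟨χ₀, hχ₀⟩ (by
    rintro _ ⟨s, rfl⟩
    have hψs : conjIrr M s.1 (hSM s.2) ψ = ψ := (conjIrr_eq_iff M s.1 (hSM s.2) ψ).mpr (hinv s.1 s.2)
    have h1 := classInner_res_conjIrr_conjIrr M G hMG s.1 (hSM s.2) (hSG s.2) ⟨χ₀, hχ₀⟩ ψ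
    rw [hψs] at h1
    have h2 : classInner (fun n : M => (b s ⟨χ₀, hχ₀⟩ : G → ℂ) ⟨n, hMG n.2⟩) (ψ : M → ℂ) ≠ 0 := by
      rw [hb, permOf_apply, h1]
      exact hχ₀c
    rw [← hover] at h2 hχ₀c
    obtain ⟨f, hf, hfeq⟩ := exists_twist_of_over (M.subgroupOf G) hab hψ' hχ₀
      (b s ⟨χ₀, hχ₀⟩).2 hχ₀c h2
    refine ⟨t f, ⟨f, hf, rfl⟩, ?_⟩
    apply Subtype.ext
    funext g
    rw [hfeq g, ht])
  obtain ⟨f, hf, rfl⟩ := hk
  refine ⟨t f ⟨χ₀, hχ₀⟩, ?_, ?_⟩
  · have : (fun n : M => (t f ⟨χ₀, hχ₀⟩ : G → ℂ) ⟨n, hMG n.2⟩) =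
        (fun n : M => χ₀ ⟨n, hMG n.2⟩) := by
      funext n
      rw [ht]
      have hn : (⟨n, hMG n.2⟩ : G) ∈ M.subgroupOf G := by
        rw [Subgroup.mem_subgroupOf]; exact n.2
      rw [MonoidHom.mem_ker.mp (hf hn), Units.val_one, one_mul]
    rw [this]
    exact hχ₀c
  · intro s hs
    have h1 := hfix (b ⟨s, hs⟩) ⟨⟨s, hs⟩, rfl⟩
    rw [hb, permOf_apply] at h1
    exact (conjIrr_eq_iff G s (hSG hs) _).mp h1


/-- **Solvable chain**: climbing the derived series of `G` with the relative abelian step. -/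
theorem solvable_chain [Fintype Γ] (G H N₀ : Subgroup Γ) [hG : G.Normal] [hGf : Fintype G]
    (hN₀G : N₀ ≤ G) (hcop : (N₀.relIndex G).Coprime (N₀.relIndex H)) :
    ∀ (k : ℕ) (N : Subgroup Γ) [N.Normal] [Fintype N] (_ : N₀ ≤ N) (hNG : N ≤ G)
      (_ : (derivedSeries G k).map G.subtype ≤ N) (θ : IrrCharacter N)
      (_ : ∀ s ∈ H, ∀ g g' : N, (g' : Γ) = s * g * s⁻¹ → (θ : N → ℂ) g' = (θ : N → ℂ) g),
      ∃ χ : IrrCharacter G, classInner (fun n : N => (χ : G → ℂ) ⟨n, hNG n.2⟩) (θ : N → ℂ) ≠ 0 ∧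
        ∀ s ∈ H, ∀ g g' : G, (g' : Γ) = s * g * s⁻¹ → (χ : G → ℂ) g' = (χ : G → ℂ) g := by
  classical
  intro k
  induction k with
  | zero =>
    intro N hNn hNf hN₀N hNG hk θ hinv
    have hGN : G ≤ N := by
      intro g hg
      apply hk
      rw [derivedSeries_zero]
      exact ⟨⟨g, hg⟩, Subgroup.mem_top _, rfl⟩
    have hEq : N = G := le_antisymm hNG hGN
    subst hEq
    have hinst : hNf = hGf := Subsingleton.elim _ _
    subst hinst
    refine ⟨θ, ?_, hinv⟩
    have h1 : (fun n : N => (θ : N → ℂ) ⟨n, hNG n.2⟩) = (θ : N → ℂ) := rfl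
    rw [h1, irr_orthogonality θ.2 θ.2, if_pos rfl]
    exact one_ne_zero
  | succ k ih =>
    intro N _ _ hN₀N hNG hk θ hinv
    set D : Subgroup Γ := (derivedSeries G k).map G.subtype with hD
    haveI hDn : D.Normal := by
      rw [hD]
      infer_instance
    set M : Subgroup Γ := N ⊔ D with hM
    haveI hMn : M.Normal := by
      rw [hM]
      infer_instance
    have hDG : D ≤ G := by
      rintro _ ⟨d, -, rfl⟩
      exact d.2
    have hNM : N ≤ M := le_sup_left
    have hDM : D ≤ M := le_sup_right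
    have hMG : M ≤ G := sup_le hNG hDG
    letI : Fintype M := Fintype.ofFinite _
    -- `M / N` is abelian
    have hDD : ∀ d₁ ∈ D, ∀ d₂ ∈ D, ⁅d₁, d₂⁆ ∈ N := by
      intro d₁ h₁ d₂ h₂
      apply hk
      rw [derivedSeries_succ, Subgroup.map_commutator]
      exact Subgroup.commutator_mem_commutator h₁ h₂
    have hcomm : ∀ a ∈ M, ∀ b ∈ M, ⁅a, b⁆ ∈ N := by
      intro a ha b hb
      have hmap : M.map (QuotientGroup.mk' N) = D.map (QuotientGroup.mk' N) := by
        rw [hM, Subgroup.map_sup]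
        have : N.map (QuotientGroup.mk' N) = ⊥ := by
          rw [Subgroup.map_eq_bot_iff, QuotientGroup.ker_mk']
        rw [this, bot_sup_eq]
      have ha' : QuotientGroup.mk' N a ∈ D.map (QuotientGroup.mk' N) := by
        rw [← hmap]; exact Subgroup.mem_map_of_mem _ ha
      have hb' : QuotientGroup.mk' N b ∈ D.map (QuotientGroup.mk' N) := by
        rw [← hmap]; exact Subgroup.mem_map_of_mem _ hb
      obtain ⟨d₁, h₁, e₁⟩ := ha'
      obtain ⟨d₂, h₂, e₂⟩ := hb'
      have h3 : QuotientGroup.mk' N ⁅a, b⁆ = 1 := by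
        rw [map_commutatorElement, ← e₁, ← e₂, ← map_commutatorElement]
        exact (QuotientGroup.eq_one_iff _).mpr (hDD d₁ h₁ d₂ h₂)
      exact (QuotientGroup.eq_one_iff _).mp h3
    have hab : commutator M ≤ N.subgroupOf M := by
      rw [commutator_def, Subgroup.commutator_le]
      intro a _ b _
      rw [Subgroup.mem_subgroupOf]
      have : (((⁅a, b⁆ : M)) : Γ) = ⁅(a : Γ), (b : Γ)⁆ := rfl
      rw [this]
      exact hcomm a a.2 b b.2
    have hcop' : (N.relIndex M).Coprime (N₀.relIndex H) := by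
      apply Nat.Coprime.coprime_dvd_left _ hcop
      have h1 : N₀.relIndex N * N.relIndex M = N₀.relIndex M :=
        Subgroup.relIndex_mul_relIndex N₀ N M hN₀N hNM
      have h2 : N₀.relIndex M * M.relIndex G = N₀.relIndex G :=
        Subgroup.relIndex_mul_relIndex N₀ M G (hN₀N.trans hNM) hMG
      rw [← h2, ← h1]
      exact Dvd.dvd.mul_right (Dvd.intro_left _ rfl) _
    obtain ⟨ζ, hζover, hζinv⟩ := abelian_step' M H N₀ N
      (fun s _ g hg => hMn.conj_mem g hg s) hNM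
      (fun s _ n hn => (inferInstance : N.Normal).conj_mem n hn s) (hN₀N.trans hNM) hcop' hab θ hinv
    obtain ⟨χ, hχover, hχinv⟩ := ih M (hN₀N.trans hNM) hMG hDM ζ hζinv
    refine ⟨χ, ?_, hχinv⟩
    exact over_trans N M G hNM hMG θ.2 ζ.2 χ.2 hζover hχover

end Cfsg.Agent.Helper24.OverInv
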