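import Mathlib
import Cfsg.Prelude.Def_Blocks
import Cfsg.Agent.Lib.Helper24.CharLinear
import Cfsg.Agent.Lib.Helper24.CharAlgebra
import Cfsg.Agent.Lib.Helper23.Schur

/-!
# Invariant characters: arithmetic and central-character lemmas (helper24's shared library)
-/

set_option autoImplicit false
set_option linter.style.haveILetI false

namespace Cfsg.Agent.Helper24.OverInv

open Cfsg Cfsg.Agent.Helper24
open scoped ComplexConjugate

universe u

section Arith

/-- The part of `n` coprime to `a`. -/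
def copPart (n a : ℕ) : ℕ := ∏ r ∈ n.primeFactors with ¬ r ∣ a, r ^ n.factorization r

/-- The part of `n` supported on the primes dividing `a`. -/
def piPart (n a : ℕ) : ℕ := ∏ r ∈ n.primeFactors with r ∣ a, r ^ n.factorization r

theorem piPart_mul_copPart {n : ℕ} (hn : n ≠ 0) (a : ℕ) : piPart n a * copPart n a = n := by
  unfold piPart copPart
  rw [Finset.prod_filter_mul_prod_filter_not]
  conv_rhs => rw [← Nat.prod_factorization_pow_eq_self hn]
  rw [Finsupp.prod, Nat.support_factorization]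

theorem copPart_coprime (n a : ℕ) : (copPart n a).Coprime a := by
  unfold copPart
  apply Nat.Coprime.prod_left
  intro r hr
  rw [Finset.mem_filter, Nat.mem_primeFactors] at hr
  exact Nat.Coprime.pow_left _ ((Nat.Prime.coprime_iff_not_dvd hr.1.1).2 hr.2)

theorem dvd_of_prime_dvd_piPart {n a r : ℕ} (hr : r.Prime) (h : r ∣ piPart n a) : r ∣ a := by
  unfold piPart at h
  rw [Prime.dvd_finsetProd_iff hr.prime] at h
  obtain ⟨s, hs, hrs⟩ := h
  rw [Finset.mem_filter, Nat.mem_primeFactors] at hs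
  have h1 : r ∣ s := hr.dvd_of_dvd_pow hrs
  have h2 : r = s := (Nat.prime_dvd_prime_iff_eq hr hs.1.1).1 h1
  rw [h2]
  exact hs.2

theorem piPart_coprime {n a k : ℕ} (hk : k.Coprime a) : (piPart n a).Coprime k := by
  by_contra hcon
  obtain ⟨r, hr, h1, h2⟩ := Nat.Prime.not_coprime_iff_dvd.mp hcon
  have h3 : r ∣ a := dvd_of_prime_dvd_piPart hr h1
  have h4 : r ∣ Nat.gcd k a := Nat.dvd_gcd h2 h3
  rw [hk.gcd_eq_one] at h4
  exact hr.one_lt.ne' (Nat.dvd_one.mp h4)

end Arith

section Central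

variable {G : Type u} [Group G]

/-- An irreducible character lying over a linear character `lam` of a central subgroup (given by
a homomorphism `ι` with central image) takes the values `χ 1 * lam z` there. -/
theorem central_over {N : Type*} [Group N] [Fintype N] (ι : N →* G)
    (hZ : ∀ n, ι n ∈ Subgroup.center G) {χ : G → ℂ}
    (hχ : IsIrrCharacter G χ) (lam : N →* ℂˣ)
    (hover : classInner (fun z : N => χ (ι z)) (fun z : N => ((lam z : ℂˣ) : ℂ)) ≠ 0) (z : N) :
    χ (ι z) = χ 1 * ((lam z : ℂˣ) : ℂ) := by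
  classical
  have h1 := Cfsg.Agent.Helper23.irr_one_ne_zero χ hχ
  have hmul : ∀ a b : N, χ (ι a * ι b) / χ 1 = (χ (ι a) / χ 1) * (χ (ι b) / χ 1) := by
    intro a b
    rw [Cfsg.Agent.Helper23.irr_central_mul χ hχ (ι a) (hZ a) (ι b)]
    field_simp
  let f : N →* ℂ :=
    { toFun := fun a => χ (ι a) / χ 1 * (((lam a)⁻¹ : ℂˣ) : ℂ)
      map_one' := by simp [h1]
      map_mul' := by
        intro a b
        rw [map_mul, hmul a b, map_mul, mul_inv, Units.val_mul]
        ring }
  have hf : ∀ a : N, f a = χ (ι a) / χ 1 * (((lam a)⁻¹ : ℂˣ) : ℂ) := fun _ => rfl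
  have hconj : ∀ a : N, conj ((lam a : ℂˣ) : ℂ) = (((lam a)⁻¹ : ℂˣ) : ℂ) := by
    intro a
    rw [Units.val_inv_eq_inv_val]
    have hpow : ((lam a : ℂˣ) : ℂ) ^ Nat.card N = 1 := by
      rw [← Units.val_pow_eq_pow_val, ← map_pow, pow_card_eq_one', map_one, Units.val_one]
    exact (Complex.inv_eq_conj (Complex.norm_eq_one_of_pow_eq_one hpow Nat.card_pos.ne')).symm
  have hf1 : f = 1 := by
    by_contra hne
    have h2 := sum_hom_units_eq_zero f hne
    apply hover
    unfold classInner
    have h3 : ∑ a : N, χ (ι a) * conj ((lam a : ℂˣ) : ℂ) = χ 1 * ∑ a : N, f a := by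
      rw [Finset.mul_sum]
      refine Finset.sum_congr rfl fun a _ => ?_
      rw [hconj, hf]
      field_simp
    rw [h3, h2, mul_zero, mul_zero]
  have h4 : f z = 1 := by rw [hf1]; rfl
  rw [hf] at h4
  have h5 : ((lam z : ℂˣ) : ℂ) ≠ 0 := Units.ne_zero _
  rw [Units.val_inv_eq_inv_val] at h4
  field_simp at h4
  rw [h4]

end Central

section Stab

variable {Γ : Type u} [Group Γ]

/-- The elements of `Γ` whose conjugation action fixes the function `χ` on the normal subgroup
`G`. -/
def stabSub (G : Subgroup Γ) [hG : G.Normal] (χ : G → ℂ) : Subgroup Γ where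
  carrier := {x | ∀ g g' : G, (g' : Γ) = x * g * x⁻¹ → χ g' = χ g}
  one_mem' := by
    intro g g' h
    have : g' = g := Subtype.ext (by rw [h]; group)
    rw [this]
  mul_mem' := by
    intro x y hx hy g g' h
    have h1 : y * (g : Γ) * y⁻¹ ∈ G := hG.conj_mem g g.2 y
    have h2 := hy g ⟨_, h1⟩ rfl
    have h3 := hx ⟨_, h1⟩ g' (by rw [h]; group)
    rw [h3, h2]
  inv_mem' := by
    intro x hx g g' h
    have h1 := hx g' g (by rw [h]; group)
    exact h1.symm

theorem mem_stabSub (G : Subgroup Γ) [G.Normal] (χ : G → ℂ) (x : Γ) :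
    x ∈ stabSub G χ ↔ ∀ g g' : G, (g' : Γ) = x * g * x⁻¹ → χ g' = χ g := Iff.rfl

theorem le_stabSub (G : Subgroup Γ) [G.Normal] {χ : G → ℂ} (hχ : IsClassFunction G χ) :
    G ≤ stabSub G χ := by
  intro x hx g g' h
  have h1 := hχ g ⟨x, hx⟩
  rw [← h1]
  apply congrArg χ
  apply Subtype.ext
  rw [h]
  rfl

end Stab

end Cfsg.Agent.Helper24.OverInv
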