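import Mathlib
import Cfsg.Prelude.Def_Blocks
import Cfsg.Agent.Lib.Helper24.OverInvA
import Cfsg.Agent.Lib.Helper24.OverInvB
import Cfsg.Agent.Lib.Helper24.CharHom
import Cfsg.Agent.Lib.Helper24.CharBasic
import Cfsg.Agent.Lib.Helper5.Gallagher
import Cfsg.Agent.Lib.Helper23.Schur
import Cfsg.Agent.S0856

/-!
# Invariant characters: general lemmas and the case of a solvable lower quotient
(helper24's shared library)
-/

set_option autoImplicit false
set_option linter.style.haveILetI false

namespace Cfsg.Agent.Helper24.OverInv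

open Cfsg Cfsg.Agent.Helper24 Cfsg.Agent.Helper5

universe u w

section General

variable {G : Type u} [Group G]

/-- **Gallagher, easy half**: the product of an irreducible character whose restriction to the
normal subgroup `N` is irreducible with an irreducible character trivial on `N` is irreducible. -/
theorem gallagher_mul [Fintype G] (N : Subgroup G) [hN : N.Normal] {χ₀ β : G → ℂ}
    (hχ₀ : IsIrrCharacter G χ₀) (hres : IsIrrCharacter N (fun n : N => χ₀ n))
    (hβ : IsIrrCharacter G β) (hk : ∀ n ∈ N, β n = β 1) : IsIrrCharacter G (β * χ₀) := by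
  classical
  have hone : (fun _ : N => (1 : ℂ)) * (fun n : N => χ₀ n) = (fun n : N => χ₀ n) := by
    funext n
    simp
  have hinv : ∀ (g : G) (n : N),
      (fun n : N => χ₀ n) ⟨g * n * g⁻¹, hN.conj_mem (n : G) n.2 g⟩ = (fun n : N => χ₀ n) n := by
    intro g n
    exact Cfsg.Agent.Helper23.irr_conj χ₀ hχ₀ n g
  have hbij := Cfsg.Agent.S0856.result N (fun _ : N => (1 : ℂ)) (fun n : N => χ₀ n)
    isIrrCharacter_one hres (fun g n => rfl) hinv (by rw [hone]; exact hres) χ₀ hχ₀ (fun n => rfl)
  exact (hbij.mapsTo ⟨hβ, constituent_ind_one_of_ntrivial N hβ hk⟩).1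

/-- A representation through which an irreducible representation factors is irreducible. -/
theorem irr_of_factor {K : Type*} [Group K] {V : Type*} [AddCommGroup V] [Module ℂ V]
    (f : K →* G) (σ : Representation ℂ G V) (ρ : Representation ℂ K V)
    (h : ∀ k : K, σ (f k) = ρ k) (hρ : ρ.IsIrreducible) : σ.IsIrreducible := by
  rw [isIrreducible_iff] at hρ ⊢
  refine ⟨hρ.1, ?_⟩
  intro U hU
  apply hρ.2 U
  intro k v hv
  rw [← h k]
  exact hU (f k) v hv

/-- Deflation along a surjective homomorphism. -/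
theorem exists_deflate_surj {H : Type w} [Group H] [Finite H] (f : H →* G) (hf : Function.Surjective f)
    {ψ : H → ℂ} (hψ : IsIrrCharacter H ψ) (hker : ∀ k ∈ f.ker, ψ k = ψ 1) :
    ∃ χ : G → ℂ, IsIrrCharacter G χ ∧ ∀ h : H, χ (f h) = ψ h := by
  obtain ⟨ψ', hψ', heq⟩ := exists_deflate f.ker hψ hker
  let e : H ⧸ f.ker ≃* G := QuotientGroup.quotientKerEquivOfSurjective f hf
  refine ⟨ψ' ∘ e.symm, isIrrCharacter_comp_equiv e.symm hψ', ?_⟩
  intro h
  have h1 : e.symm (f h) = QuotientGroup.mk h := by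
    rw [MulEquiv.symm_apply_eq]
    rfl
  rw [Function.comp_apply, h1, heq]
  rfl

/-- The central character of an irreducible character on a central subgroup. -/
theorem exists_centralHom {χ : G → ℂ} (hχ : IsIrrCharacter G χ) (Z : Subgroup G)
    (hZ : Z ≤ Subgroup.center G) :
    ∃ μ : Z →* ℂˣ, ∀ (z : Z) (g : G), χ (z * g) = ((μ z : ℂˣ) : ℂ) * χ g := by
  have h1 := Cfsg.Agent.Helper23.irr_one_ne_zero χ hχ
  let f : Z →* ℂ :=
    { toFun := fun z => χ z / χ 1
      map_one' := by
        show χ ((1 : Z) : G) / χ 1 = 1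
        rw [Subgroup.coe_one, div_self h1]
      map_mul' := by
        intro a b
        show χ ((a * b : Z) : G) / χ 1 = χ a / χ 1 * (χ b / χ 1)
        rw [Subgroup.coe_mul, Cfsg.Agent.Helper23.irr_central_mul χ hχ a (hZ a.2) b]
        ring }
  refine ⟨f.toHomUnits, ?_⟩
  intro z g
  rw [Cfsg.Agent.Helper23.irr_central_mul χ hχ z (hZ z.2) g]
  rfl

end General

section CaseOne

variable {Γ : Type u} [Group Γ] [Fintype Γ]

/-- **The case of a solvable lower quotient**. -/
theorem case_lower_solvable (G N : Subgroup Γ) [hG : G.Normal] [hN : N.Normal] [Fintype G]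
    [Fintype N] (hNG : N ≤ G) (hcop : (G.index).Coprime (N.relIndex G))
    (hsolv : Group.IsSolvable (G ⧸ N.subgroupOf G)) (θ : IrrCharacter N)
    (hinv : stabSub N (θ : N → ℂ) = ⊤) :
    ∃ χ : IrrCharacter G, classInner (fun n : N => (χ : G → ℂ) ⟨n, hNG n.2⟩) (θ : N → ℂ) ≠ 0 ∧
      stabSub G (χ : G → ℂ) = ⊤ := by
  classical
  -- the derived length
  obtain ⟨k, hk⟩ := hsolv.solvable
  have hkN : (derivedSeries G k).map G.subtype ≤ N := by
    rintro _ ⟨g, hg, rfl⟩
    have h1 : QuotientGroup.mk' (N.subgroupOf G) g ∈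
        (derivedSeries G k).map (QuotientGroup.mk' (N.subgroupOf G)) :=
      Subgroup.mem_map_of_mem _ hg
    have h2 := map_derivedSeries_le_derivedSeries (QuotientGroup.mk' (N.subgroupOf G)) k h1
    rw [hk, Subgroup.mem_bot, QuotientGroup.mk'_apply, QuotientGroup.eq_one_iff,
      Subgroup.mem_subgroupOf] at h2
    exact h2
  -- Schur–Zassenhaus
  let π := QuotientGroup.mk' N
  have hπs : Function.Surjective π := QuotientGroup.mk'_surjective N
  have hπk : π.ker = N := QuotientGroup.ker_mk' N
  set Gb : Subgroup (Γ ⧸ N) := G.map π with hGb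
  haveI hGbn : Gb.Normal := hG.map π hπs
  have hGbidx : Gb.index = G.index := by
    rw [hGb, Subgroup.index_map_eq G hπs (by rw [hπk]; exact hNG)]
  have hGbcard : Nat.card Gb = N.relIndex G := by
    rw [hGb, ← Subgroup.relIndex_ker, hπk]
  obtain ⟨Hb, hcompl⟩ := Subgroup.exists_right_complement'_of_coprime (N := Gb)
    (by rw [hGbidx, hGbcard]; exact hcop.symm)
  have hHbcard : Nat.card Hb = G.index := by
    rw [← hGbidx]
    exact (hcompl.symm.index_eq_card).symm
  set H : Subgroup Γ := Hb.comap π with hH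
  have hNH : N ≤ H := by
    rw [hH]
    exact hπk.ge.trans (MonoidHom.ker_le_comap π Hb)
  have hHidx : N.relIndex H = G.index := by
    have h1 : H.map π = Hb := Subgroup.map_comap_eq_self_of_surjective hπs Hb
    have h2 := Subgroup.relIndex_ker H π
    rw [h1, hHbcard] at h2
    rw [← h2]
    congr 1
    exact hπk.symm
  have hsup : G ⊔ H = ⊤ := by
    have h1 : Gb.comap π = G := by
      rw [hGb, Subgroup.comap_map_eq, hπk, sup_eq_left.mpr hNG]
    rw [← h1, hH, Subgroup.comap_sup_eq π _ _ hπs, hcompl.sup_eq_top, Subgroup.comap_top]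
  -- the chain
  have hinv' : ∀ s ∈ H, ∀ g g' : N, (g' : Γ) = s * g * s⁻¹ →
      (θ : N → ℂ) g' = (θ : N → ℂ) g := by
    intro s _ g g' h
    have hs : s ∈ stabSub N (θ : N → ℂ) := by rw [hinv]; exact Subgroup.mem_top _
    exact hs g g' h
  obtain ⟨χ, hχover, hχinv⟩ := solvable_chain G H N hNG (by rw [hHidx]; exact hcop.symm) k N
    le_rfl hNG hkN θ hinv'
  refine ⟨χ, hχover, ?_⟩
  rw [eq_top_iff, ← hsup]
  apply sup_le
  · exact le_stabSub G (isClassFunction_of_isIrrCharacter χ.2)
  · intro s hs g g' h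
    exact hχinv s hs g g' h

end CaseOne

end Cfsg.Agent.Helper24.OverInv
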