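import Mathlib
import Cfsg.Agent.Lib.Helper24.Cd3Trick
import Cfsg.Agent.Lib.Helper24.OverInvD
import Cfsg.Agent.Lib.Helper24.CoprimeDegree

/-!
# Three character degrees: the nilpotent quotient (helper24's shared library)

If `cd(G) ⊆ {1, a, b}` with `a`, `b` coprime and both occurring, no quotient `G / K` is a
nonabelian nilpotent group all of whose proper quotients are abelian (Gallagher).
-/

set_option autoImplicit false
set_option linter.style.haveILetI false
set_option linter.unusedSectionVars false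
set_option linter.unusedVariables false

namespace Cfsg.Agent.Helper24.Cd3

open Cfsg Cfsg.Agent.Helper24 Cfsg.Agent.Helper5 Cfsg.Agent.Helper24.Cd2
open scoped ComplexConjugate commutatorElement

universe u

/-- A nonabelian nilpotent group all of whose proper quotients are abelian is a `p`-group. -/
theorem exists_card_eq_prime_pow {Q : Type u} [Group Q] [Finite Q] (hnil : Group.IsNilpotent Q)
    (hnab : ∃ x y : Q, x * y ≠ y * x)
    (hqab : ∀ (N' : Subgroup Q) [N'.Normal], N' ≠ ⊥ → ∀ x y : Q ⧸ N', x * y = y * x) :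
    ∃ p n : ℕ, p.Prime ∧ Nat.card Q = p ^ n := by
  classical
  have hle : ∀ (N' : Subgroup Q) [N'.Normal], N' ≠ ⊥ → commutator Q ≤ N' := by
    intro N' hN' hne
    rw [commutator_def, Subgroup.commutator_le]
    intro x _ y _
    rw [← QuotientGroup.eq_one_iff]
    have h1 := hqab N' hne (QuotientGroup.mk x) (QuotientGroup.mk y)
    rw [commutatorElement_def, QuotientGroup.mk_mul, QuotientGroup.mk_mul, QuotientGroup.mk_mul,
      QuotientGroup.mk_inv, QuotientGroup.mk_inv, h1]
    group
  have hQ'ne : commutator Q ≠ ⊥ := by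
    intro h
    obtain ⟨x, y, hxy⟩ := hnab
    apply hxy
    have h1 : ⁅x, y⁆ ∈ commutator Q :=
      Subgroup.commutator_mem_commutator (Subgroup.mem_top _) (Subgroup.mem_top _)
    rw [h, Subgroup.mem_bot, commutatorElement_def] at h1
    calc x * y = (x * y * x⁻¹ * y⁻¹) * (y * x) := by group
      _ = y * x := by rw [h1, one_mul]
  have hcard1 : Nat.card (commutator Q) ≠ 1 := by
    intro h
    exact hQ'ne (Subgroup.card_eq_one.mp h)
  obtain ⟨p, hp, hpd⟩ := Nat.exists_prime_and_dvd hcard1
  haveI : Fact p.Prime := ⟨hp⟩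
  have hpQ : p ∣ Nat.card Q := hpd.trans (Subgroup.card_subgroup_dvd_card _)
  have huniq : ∀ {r : ℕ}, r.Prime → r ∣ Nat.card Q → r = p := by
    intro r hr hrd
    haveI : Fact r.Prime := ⟨hr⟩
    obtain ⟨R⟩ : Nonempty (Sylow r Q) := inferInstance
    haveI hRn : (R : Subgroup Q).Normal :=
      (Group.isNilpotent_of_finite_tfae.out 0 3 rfl rfl).mp hnil r ⟨hr⟩ R
    have hRne : (R : Subgroup Q) ≠ ⊥ := by
      intro h
      have h1 := R.card_eq_multiplicity
      rw [h, Subgroup.card_bot] at h1
      have h2 : (Nat.card Q).factorization r = 0 := by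
        by_contra h3
        have : 1 < r ^ (Nat.card Q).factorization r :=
          Nat.one_lt_pow h3 hr.one_lt
        omega
      have h4 : 0 < (Nat.card Q).factorization r :=
        hr.factorization_pos_of_dvd Nat.card_pos.ne' hrd
      omega
    have h1 := hle (R : Subgroup Q) hRne
    have h2 : p ∣ Nat.card (R : Subgroup Q) :=
      hpd.trans (Subgroup.card_dvd_of_le h1)
    rw [R.card_eq_multiplicity] at h2
    exact ((Nat.prime_dvd_prime_iff_eq hp hr).mp (hp.dvd_of_dvd_pow h2)).symm
  exact ⟨p, _, hp,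
    Nat.eq_prime_pow_of_unique_prime_dvd Nat.card_pos.ne' (fun {r} hr hrd => huniq hr hrd)⟩

/-- **The nilpotent case** is impossible. -/
theorem nil_case {G : Type u} [Group G] [Finite G] {a b : ℕ} (hcd : IsCd3 G a b) (ha : 1 < a)
    (hb : 1 < b) (hcop : a.Coprime b)
    (hexa : ∃ χ : G → ℂ, IsIrrCharacter G χ ∧ charDegree χ = a)
    (hexb : ∃ ψ : G → ℂ, IsIrrCharacter G ψ ∧ charDegree ψ = b)
    (K : Subgroup G) [hK : K.Normal] (hnil : Group.IsNilpotent (G ⧸ K))
    (hnab : ∃ x y : G ⧸ K, x * y ≠ y * x)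
    (hqab : ∀ (N' : Subgroup (G ⧸ K)) [N'.Normal], N' ≠ ⊥ →
      ∀ x y : (G ⧸ K) ⧸ N', x * y = y * x) : False := by
  classical
  letI : Fintype G := Fintype.ofFinite G
  obtain ⟨p, n, hp, hcard⟩ := exists_card_eq_prime_pow hnil hnab hqab
  obtain ⟨β, hβ, hβnl⟩ := exists_nonlinear hnab
  have hβdvd : charDegree β ∣ p ^ n := by
    rw [← hcard]
    exact charDegree_dvd_card hβ
  obtain ⟨j, -, hj⟩ := (Nat.dvd_prime_pow hp).mp hβdvd
  have hj0 : j ≠ 0 := by
    rintro rfl
    rw [pow_zero] at hj
    exact hβnl hj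
  have hpβ : p ∣ charDegree β := by
    rw [hj]
    exact dvd_pow_self p hj0
  set β' : G → ℂ := β ∘ (QuotientGroup.mk' K) with hβ'
  have hβ'irr : IsIrrCharacter G β' :=
    isIrrCharacter_comp_of_surjective _ (QuotientGroup.mk'_surjective K) hβ
  have hβ'deg : charDegree β' = charDegree β := charDegree_comp _ β
  have hβ'ker : ∀ k ∈ K, β' k = β' 1 := by
    intro k hk
    show β (QuotientGroup.mk k) = β (QuotientGroup.mk 1)
    rw [(QuotientGroup.eq_one_iff k).mpr hk, QuotientGroup.mk_one]
  have hKidx : K.index = p ^ n := by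
    rw [Subgroup.index_eq_card, hcard]
  -- the key: a character of degree prime to `p` times `β'` is irreducible
  have key : ∀ χ : G → ℂ, IsIrrCharacter G χ → ¬ p ∣ charDegree χ →
      IsIrrCharacter G (β' * χ) := by
    intro χ hχ hpχ
    have hc : (charDegree χ).Coprime K.index := by
      rw [hKidx]
      exact Nat.Coprime.pow_right n ((Nat.Prime.coprime_iff_not_dvd hp).mpr hpχ).symm
    have hres := CopDeg.restrict_irr_of_coprime K hχ hc
    exact OverInv.gallagher_mul K hχ hres hβ'irr hβ'ker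
  obtain ⟨χa, hχa, hdega⟩ := hexa
  obtain ⟨χb, hχb, hdegb⟩ := hexb
  have hdegmul : ∀ χ : G → ℂ, IsIrrCharacter G χ →
      charDegree (β' * χ) = charDegree β * charDegree χ := by
    intro χ hχ
    rw [charDegree_mul (isCharacter_of_isIrrCharacter hβ'irr) (isCharacter_of_isIrrCharacter hχ),
      hβ'deg]
  rcases hcd _ hβ'irr with h | h | h
  · rw [hβ'deg] at h
    exact hβnl h
  · -- `β(1) = a`, use `χb`
    rw [hβ'deg] at h
    have hpb : ¬ p ∣ charDegree χb := by
      intro hpb
      rw [hdegb] at hpb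
      rw [h] at hpβ
      have := Nat.dvd_gcd hpβ hpb
      rw [hcop] at this
      exact hp.one_lt.ne' (Nat.dvd_one.mp this)
    have hirr := key χb hχb hpb
    have hd := hdegmul χb hχb
    rw [h, hdegb] at hd
    rcases hcd _ hirr with h' | h' | h' <;> rw [hd] at h' <;> nlinarith
  · rw [hβ'deg] at h
    have hpa : ¬ p ∣ charDegree χa := by
      intro hpa
      rw [hdega] at hpa
      rw [h] at hpβ
      have := Nat.dvd_gcd hpa hpβ
      rw [hcop] at this
      exact hp.one_lt.ne' (Nat.dvd_one.mp this)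
    have hirr := key χa hχa hpa
    have hd := hdegmul χa hχa
    rw [h, hdega] at hd
    rcases hcd _ hirr with h' | h' | h' <;> rw [hd] at h' <;> nlinarith

end Cfsg.Agent.Helper24.Cd3
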