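import Mathlib
import Cfsg.Agent.Lib.Helper24.Cd3Trick
import Cfsg.Agent.S4458

/-!
# Three character degrees: utilities on derived series (helper24's shared library)
-/

set_option autoImplicit false
set_option linter.style.haveILetI false
set_option linter.unusedSectionVars false
set_option linter.unusedVariables false

namespace Cfsg.Agent.Helper24.Cd3

open Cfsg Cfsg.Agent.Helper24 Cfsg.Agent.Helper24.Cd2
open scoped commutatorElement

universe u

/-- If the `k`-th derived subgroup of the quotient is trivial, the `k`-th derived subgroup lies in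
the normal subgroup. -/
theorem derived_le_of_quotient {G : Type u} [Group G] (N : Subgroup G) [N.Normal] (k : ℕ)
    (h : derivedSeries (G ⧸ N) k = ⊥) : derivedSeries G k ≤ N := by
  have h1 := map_derivedSeries_eq (QuotientGroup.mk'_surjective N) k
  rw [h] at h1
  intro x hx
  have h2 : (QuotientGroup.mk' N) x ∈ (derivedSeries G k).map (QuotientGroup.mk' N) :=
    Subgroup.mem_map_of_mem _ hx
  rw [h1, Subgroup.mem_bot, QuotientGroup.mk'_apply, QuotientGroup.eq_one_iff] at h2
  exact h2

/-- Derived series of a subgroup containing a term of the derived series. -/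
theorem derived_add_le_map {G : Type u} [Group G] (H : Subgroup G) (j : ℕ)
    (h : derivedSeries G j ≤ H) (n : ℕ) :
    derivedSeries G (j + n) ≤ (derivedSeries H n).map H.subtype := by
  induction n with
  | zero =>
    rw [add_zero, derivedSeries_zero, ← MonoidHom.range_eq_map, Subgroup.range_subtype]
    exact h
  | succ n ih =>
    rw [← add_assoc, derivedSeries_succ, derivedSeries_succ, Subgroup.map_commutator]
    exact Subgroup.commutator_mono ih ih

/-- If the `n`-th derived subgroup of `H ≥ G^{(j)}` is trivial then `G^{(j+n)} = 1`. -/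
theorem derived_add_eq_bot {G : Type u} [Group G] (H : Subgroup G) (j : ℕ)
    (h : derivedSeries G j ≤ H) (n : ℕ) (hn : derivedSeries H n = ⊥) :
    derivedSeries G (j + n) = ⊥ := by
  have h1 := derived_add_le_map H j h n
  rw [hn, Subgroup.map_bot] at h1
  exact le_bot_iff.mp h1

/-- Two character degrees: the second derived subgroup is trivial. -/
theorem derived2_of_cdSub {G : Type u} [Group G] [Finite G] {m : ℕ} (hcd : CdSub G m) :
    derivedSeries G 2 = ⊥ := by
  classical
  by_cases hex : (∃ χ : Cfsg.IrrCharacter G, Cfsg.charDegree (χ : G → ℂ) = m) ∧ m ≠ 1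
  · obtain ⟨hm, hm1⟩ := hex
    have h := Cfsg.Agent.S4458.result m (fun χ => hcd χ.1 χ.2) hm hm1
    rw [derivedSeries_succ, derivedSeries_one, Subgroup.commutator_eq_bot_iff_le_centralizer]
    intro x hx
    rw [Subgroup.mem_centralizer_iff]
    intro y hy
    exact h y hy x hx
  · have hlin : ∀ χ : G → ℂ, IsIrrCharacter G χ → charDegree χ = 1 := by
      intro χ hχ
      rcases hcd χ hχ with h | h
      · exact h
      · by_contra h1
        apply hex
        refine ⟨⟨⟨χ, hχ⟩, h⟩, ?_⟩
        intro hm1
        apply h1
        rw [h, hm1]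
    have hc := comm_of_forall_linear hlin
    have h1 : derivedSeries G 1 = ⊥ := by
      rw [derivedSeries_one, commutator_def, Subgroup.commutator_eq_bot_iff_le_centralizer]
      intro x _
      rw [Subgroup.mem_centralizer_iff]
      intro y _
      exact hc y x
    exact le_bot_iff.mp (h1 ▸ derivedSeries_antitone G (by omega : 1 ≤ 2))

end Cfsg.Agent.Helper24.Cd3
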