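import Mathlib
import Cfsg.Agent.Lib.Helper1.SolvableBasic
import Cfsg.Agent.Lib.Helper1.Coprime

/-!
# Real characters of degree prime to `p` (helper24's shared library), part E: group theory

* `mem_of_pow_mem_of_coprime`: `x ^ m ∈ L`, `x ^ n ∈ L`, `m`, `n` coprime give `x ∈ L`.
* `mem_map_of_prime_pow_order`: if `U` contains all `q`-elements of `G`, its image under a
  surjection contains all `q`-elements of the image.
* `exists_normal_abelian_pgroup`: a nontrivial solvable normal subgroup contains a nontrivial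
  abelian normal `r`-subgroup of the whole group.
* `normal_of_sup_centralizing`: `Q ⊔ C ⊲ G`, `C` centralizing `Q` of coprime order gives `Q ⊲ G`.
-/

set_option autoImplicit false
set_option linter.style.haveILetI false
set_option linter.unusedSectionVars false

namespace Cfsg.Agent.Helper24.RealP

universe u

variable {G : Type u} [Group G]

theorem mem_of_pow_mem_of_coprime (L : Subgroup G) {x : G} {m n : ℕ} (hmn : m.Coprime n)
    (hm : x ^ m ∈ L) (hn : x ^ n ∈ L) : x ∈ L := by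
  have h1 : (1 : ℤ) = m * Nat.gcdA m n + n * Nat.gcdB m n := by
    have := Nat.gcd_eq_gcd_ab m n
    rw [Nat.Coprime.gcd_eq_one hmn] at this
    exact_mod_cast this
  have h2 : x = (x ^ m) ^ (Nat.gcdA m n) * (x ^ n) ^ (Nat.gcdB m n) := by
    rw [← zpow_natCast x m, ← zpow_natCast x n, ← zpow_mul, ← zpow_mul, ← zpow_add, ← h1, zpow_one]
  rw [h2]
  exact L.mul_mem (L.zpow_mem hm _) (L.zpow_mem hn _)

theorem mem_map_of_prime_pow_order [Finite G] {H : Type*} [Group H] (f : G →* H)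
    (hf : Function.Surjective f) (U : Subgroup G) {q : ℕ} (hq : q.Prime)
    (hU : ∀ g : G, (∃ k : ℕ, orderOf g = q ^ k) → g ∈ U) (h : H)
    (hh : ∃ k : ℕ, orderOf h = q ^ k) : h ∈ U.map f := by
  obtain ⟨k, hk⟩ := hh
  obtain ⟨g, rfl⟩ := hf h
  have hn : orderOf g ≠ 0 := (orderOf_pos g).ne'
  obtain ⟨e, m, hm, hem⟩ := Nat.exists_eq_pow_mul_and_not_dvd hn q hq.ne_one
  have h1 : (g ^ m) ^ (q ^ e) = 1 := by
    rw [← pow_mul, mul_comm, ← hem, pow_orderOf_eq_one]
  obtain ⟨i, -, hi⟩ := (Nat.dvd_prime_pow hq).mp (orderOf_dvd_of_pow_eq_one h1)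
  have h2 : g ^ m ∈ U := hU _ ⟨i, hi⟩
  have h3 : (f g) ^ m ∈ U.map f := by
    rw [← map_pow]
    exact Subgroup.mem_map_of_mem f h2
  have h4 : (f g) ^ (q ^ k) ∈ U.map f := by
    rw [← hk, pow_orderOf_eq_one]
    exact Subgroup.one_mem _
  have hcop : m.Coprime (q ^ k) := by
    apply Nat.Coprime.pow_right
    exact (Nat.Prime.coprime_iff_not_dvd hq).mpr hm |>.symm
  exact mem_of_pow_mem_of_coprime _ hcop h3 h4

theorem exists_normal_abelian_pgroup [Finite G] (M : Subgroup G) [hM : M.Normal]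
    (hsol : Group.IsSolvable M) (hne : M ≠ ⊥) :
    ∃ r : ℕ, r.Prime ∧ ∃ V : Subgroup G, V.Normal ∧ V ≤ M ∧ V ≠ ⊥ ∧
      (∀ a b : V, a * b = b * a) ∧ IsPGroup r V := by
  haveI : Nontrivial M := (Subgroup.nontrivial_iff_ne_bot M).mpr hne
  obtain ⟨A, hAchar, hAne, hAc⟩ := Cfsg.Agent.Helper1.exists_normal_abelian_of_solvable M
  haveI := hAchar
  haveI := hAc
  set V1 : Subgroup G := A.map M.subtype with hV1
  haveI hV1n : V1.Normal := inferInstance
  have hV1M : V1 ≤ M := Subgroup.map_subtype_le _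
  have hV1c : ∀ a b : V1, a * b = b * a := by
    rintro ⟨a, ha⟩ ⟨b, hb⟩
    obtain ⟨a', ha', rfl⟩ := ha
    obtain ⟨b', hb', rfl⟩ := hb
    apply Subtype.ext
    show M.subtype a' * M.subtype b' = M.subtype b' * M.subtype a'
    rw [← map_mul, ← map_mul]
    congr 1
    have := hAc.is_comm.comm (⟨a', ha'⟩ : A) ⟨b', hb'⟩
    exact congrArg Subtype.val this
  have hV1ne : V1 ≠ ⊥ := by
    intro h
    apply hAne
    rw [hV1, Subgroup.map_eq_bot_iff_of_injective _ M.subtype_injective] at h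
    exact h
  haveI : IsMulCommutative V1 := ⟨⟨hV1c⟩⟩
  have hcard : Nat.card V1 ≠ 1 := by
    intro h
    exact hV1ne (Subgroup.card_eq_one.mp h)
  obtain ⟨r, hr, hrV⟩ := Nat.exists_prime_and_dvd hcard
  haveI : Fact r.Prime := ⟨hr⟩
  obtain ⟨Q⟩ : Nonempty (Sylow r V1) := inferInstance
  haveI : (Q : Subgroup V1).Normal := inferInstance
  haveI : (Q : Subgroup V1).Characteristic := Sylow.characteristic_of_normal Q inferInstance
  refine ⟨r, hr, (Q : Subgroup V1).map V1.subtype, inferInstance,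
    (Subgroup.map_subtype_le _).trans hV1M, ?_, ?_, Q.2.map _⟩
  · intro h
    have h2 : (Q : Subgroup V1) = ⊥ := by
      rw [Subgroup.map_eq_bot_iff_of_injective _ V1.subtype_injective] at h
      exact h
    exact Q.ne_bot_of_dvd_card hrV h2
  · rintro ⟨a, ha⟩ ⟨b, hb⟩
    obtain ⟨a', -, rfl⟩ := ha
    obtain ⟨b', -, rfl⟩ := hb
    apply Subtype.ext
    show V1.subtype a' * V1.subtype b' = V1.subtype b' * V1.subtype a'
    rw [← map_mul, ← map_mul, hV1c a' b']

theorem normal_of_sup_centralizing [Finite G] (Q C : Subgroup G)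
    (hCQ : C ≤ Subgroup.centralizer (Q : Set G)) (hcop : (Nat.card Q).Coprime (Nat.card C))
    (hN : (Q ⊔ C).Normal) : Q.Normal := by
  constructor
  intro x hx g
  have hy : g * x * g⁻¹ ∈ Q ⊔ C := hN.conj_mem x (le_sup_left (a := Q) hx) g
  have hCn : C ≤ Subgroup.normalizer (Q : Set G) := hCQ.trans (Subgroup.centralizer_le_normalizer (Q : Set G))
  obtain ⟨q, hq, c, hc, hqc⟩ := Cfsg.Agent.Helper1.exists_mul_of_mem_sup hCn hy
  have hcomm : Commute c q := by
    have := (Subgroup.mem_centralizer_iff.mp (hCQ hc)) q hq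
    exact this.symm
  have hy1 : (g * x * g⁻¹) ^ Nat.card Q = 1 := by
    have h1 : (g * x * g⁻¹) ^ Nat.card Q = g * x ^ Nat.card Q * g⁻¹ := conj_pow
    rw [h1]
    have h2 : x ^ Nat.card Q = 1 := by
      have := pow_card_eq_one' (G := Q) (x := ⟨x, hx⟩)
      exact congrArg Subtype.val this
    rw [h2, mul_one, mul_inv_cancel]
  have hq1 : q ^ Nat.card Q = 1 := by
    have := pow_card_eq_one' (G := Q) (x := ⟨q, hq⟩)
    exact congrArg Subtype.val this
  have hc1 : c ^ Nat.card Q = 1 := by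
    rw [hqc, hcomm.symm.mul_pow, hq1, one_mul] at hy1
    exact hy1
  have hc2 : c ^ Nat.card C = 1 := by
    have := pow_card_eq_one' (G := C) (x := ⟨c, hc⟩)
    exact congrArg Subtype.val this
  have hc3 : c = 1 := by
    have h3 : orderOf c ∣ 1 := by
      rw [← Nat.Coprime.gcd_eq_one hcop]
      exact Nat.dvd_gcd (orderOf_dvd_of_pow_eq_one hc1) (orderOf_dvd_of_pow_eq_one hc2)
    exact orderOf_eq_one_iff.mp (Nat.dvd_one.mp h3)
  rw [hqc, hc3, mul_one]
  exact hq

end Cfsg.Agent.Helper24.RealP
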