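import Mathlib
import Cfsg.Agent.Lib.Helper14.TC27Defs
import Cfsg.Agent.Lib.Helper14.TC27Core

/-!
# S3701 piece CENT (helper24): `|C_G(t1)| = |C_G(t2)| = 54`.
-/

set_option autoImplicit false
set_option linter.unusedSectionVars false
set_option linter.unusedVariables false

namespace Cfsg.Agent.Helper14.TC27

open Cfsg

universe u v

section Grp

variable {G : Type u} [Group G] [Finite G] {T : Sylow 3 G}

/-- an element of order dividing 3 which equals its inverse is trivial -/
theorem cent_eq_one_of_inv_eq {t : G} (h3 : t ^ 3 = 1) (hi : t⁻¹ = t) : t = 1 := by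
  have h2 : t * t = 1 := by
    nth_rewrite 1 [← hi]
    exact inv_mul_cancel t
  have : t ^ 3 = t := by
    rw [pow_succ, pow_two, h2, one_mul]
  rw [← this, h3]

theorem cent_t1_ne_one (c : Cfg T) : c.t1 ≠ 1 := by
  intro h1
  have := c.rel.inj 1 0 0 0 0 0 (by simp [h1])
  exact absurd this.1 (by decide)

theorem cent_t2_ne_one (c : Cfg T) : c.t2 ≠ 1 := by
  intro h1
  have := c.rel.inj 0 1 0 0 0 0 (by simp [h1])
  exact absurd this.2.1 (by decide)

theorem cent_t3_ne_one (c : Cfg T) : c.t3 ≠ 1 := by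
  intro h1
  have := c.rel.inj 0 0 1 0 0 0 (by simp [h1])
  exact absurd this.2.2 (by decide)

/-- the generic Lagrange argument -/
theorem cent_card_generic (h : Hyp T) {t x y : G} (ht : t ∈ (T : Subgroup G)) (ht1 : t ≠ 1)
    (hx : x * t * x⁻¹ = t) (hxT : x ∉ (T : Subgroup G))
    (hy : y ∈ Subgroup.normalizer ((T : Subgroup G) : Set G)) (hyt : y * t * y⁻¹ ≠ t)
    (hN : Nat.card (Subgroup.normalizer ((T : Subgroup G) : Set G)) = 108) :
    Nat.card (Subgroup.centralizer ({t} : Set G)) = 54 := by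
  set C := Subgroup.centralizer ({t} : Set G) with hC
  have hmemC : ∀ g : G, g ∈ C ↔ g * t * g⁻¹ = t := by
    intro g
    rw [hC, Subgroup.mem_centralizer_singleton_iff]
    constructor
    · intro hg
      rw [hg, mul_inv_cancel_right]
    · intro hg
      calc g * t = g * t * g⁻¹ * g := by group
        _ = t * g := by rw [hg]
  have hTC : (T : Subgroup G) ≤ C := by
    intro s hs
    rw [hC, Subgroup.mem_centralizer_singleton_iff]
    exact h.comm s hs t ht
  have hCN : C ≤ Subgroup.normalizer ((T : Subgroup G) : Set G) := h.loc t ht ht1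
  have hd1 : 27 ∣ Nat.card C := by
    have := Subgroup.card_dvd_of_le hTC
    rwa [h.card] at this
  have hd2 : Nat.card C ∣ 108 := by
    have := Subgroup.card_dvd_of_le hCN
    rwa [hN] at this
  have hne27 : Nat.card C ≠ 27 := by
    intro h27
    have heq : (T : Subgroup G) = C :=
      Subgroup.eq_of_le_of_card_ge hTC (by rw [h27, h.card])
    apply hxT
    rw [heq]
    exact (hmemC x).mpr hx
  have hne108 : Nat.card C ≠ 108 := by
    intro h108
    have heq : C = Subgroup.normalizer ((T : Subgroup G) : Set G) :=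
      Subgroup.eq_of_le_of_card_ge hCN (by rw [h108, hN])
    apply hyt
    apply (hmemC y).mp
    rw [heq]
    exact hy
  obtain ⟨k, hk⟩ := hd1
  rw [hk] at hd2 hne27 hne108 ⊢
  have hk4 : k ∣ 4 := by
    have : 27 * k ∣ 27 * 4 := by simpa using hd2
    exact (Nat.mul_dvd_mul_iff_left (by norm_num)).mp this
  have hkle : k ≤ 4 := Nat.le_of_dvd (by norm_num) hk4
  interval_cases k <;> simp_all

/-- PIECE CENT: `C_G(t1) = T ∪ abT` -/
theorem card_centralizer_t1 (h : Hyp T) (c : Cfg T)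
    (hN : Nat.card (Subgroup.normalizer ((T : Subgroup G) : Set G)) = 108) :
    Nat.card (Subgroup.centralizer ({c.t1} : Set G)) = 54 := by
  have r := c.rel
  have hab1 : (c.a * c.b) * c.t1 * (c.a * c.b)⁻¹ = c.t1 := by
    calc (c.a * c.b) * c.t1 * (c.a * c.b)⁻¹ = c.a * (c.b * c.t1 * c.b⁻¹) * c.a⁻¹ := by group
      _ = c.a * c.t1⁻¹ * c.a⁻¹ := by rw [r.b1]
      _ = (c.a * c.t1 * c.a⁻¹)⁻¹ := by group
      _ = c.t1 := by rw [r.a1, inv_inv]
  have hab2 : (c.a * c.b) * c.t2 * (c.a * c.b)⁻¹ = c.t2⁻¹ := by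
    calc (c.a * c.b) * c.t2 * (c.a * c.b)⁻¹ = c.a * (c.b * c.t2 * c.b⁻¹) * c.a⁻¹ := by group
      _ = c.t2⁻¹ := by rw [r.b2, r.a2]
  refine cent_card_generic h (x := c.a * c.b) (y := c.a) c.ht1 (cent_t1_ne_one c) hab1 ?_ c.ha ?_ hN
  · intro habT
    have hc := h.comm _ habT _ c.ht2
    have : c.t2⁻¹ = c.t2 := by
      rw [← hab2, hc, mul_inv_cancel_right]
    exact cent_t2_ne_one c (cent_eq_one_of_inv_eq r.o2 this)
  · rw [r.a1]
    intro hi
    exact cent_t1_ne_one c (cent_eq_one_of_inv_eq r.o1 hi)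

/-- PIECE CENT: `C_G(t2) = T ∪ bT` -/
theorem card_centralizer_t2 (h : Hyp T) (c : Cfg T)
    (hN : Nat.card (Subgroup.normalizer ((T : Subgroup G) : Set G)) = 108) :
    Nat.card (Subgroup.centralizer ({c.t2} : Set G)) = 54 := by
  have r := c.rel
  refine cent_card_generic h (x := c.b) (y := c.a) c.ht2 (cent_t2_ne_one c) r.b2 ?_ c.ha ?_ hN
  · intro hbT
    have hc := h.comm _ hbT _ c.ht1
    have : c.t1⁻¹ = c.t1 := by
      rw [← r.b1, hc, mul_inv_cancel_right]
    exact cent_t1_ne_one c (cent_eq_one_of_inv_eq r.o1 this)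
  · rw [r.a2]
    intro hi
    exact cent_t2_ne_one c (cent_eq_one_of_inv_eq r.o2 hi)

end Grp

end Cfsg.Agent.Helper14.TC27
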