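import Mathlib
import Cfsg.Agent.Lib.Helper14.TC27Defs
import Cfsg.Agent.Lib.Helper14.TC27Core

/-!
# S3701 piece CHARS (helper24): the two linear characters `μ = (1,1,0)`, `ν = (1,0,1)` of `T` exist.
-/

set_option autoImplicit false
set_option linter.unusedSectionVars false
set_option linter.unusedVariables false

namespace Cfsg.Agent.Helper14.TC27

open Cfsg

universe u v

section Chr

variable {G : Type u} [Group G] {T : Sylow 3 G}

/-- a primitive cube root of unity in `ℂ`, as a unit -/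
theorem chars_exists_omega : ∃ w : ℂˣ, w ^ 3 = 1 ∧ (w : ℂ) ^ 2 + (w : ℂ) + 1 = 0 := by
  have hp : IsPrimitiveRoot (Complex.exp (2 * Real.pi * Complex.I / ((3 : ℕ) : ℂ))) 3 :=
    Complex.isPrimitiveRoot_exp 3 (by norm_num)
  set z := Complex.exp (2 * Real.pi * Complex.I / ((3 : ℕ) : ℂ)) with hz
  have h3 : z ^ 3 = 1 := hp.pow_eq_one
  have hne1 : z ≠ 1 := hp.ne_one (by norm_num)
  have hz0 : z ≠ 0 := by
    intro h0
    rw [h0] at h3
    norm_num at h3
  have hq : z ^ 2 + z + 1 = 0 := by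
    have hm : (z - 1) * (z ^ 2 + z + 1) = 0 := by
      linear_combination h3
    rcases mul_eq_zero.mp hm with h | h
    · exact absurd (sub_eq_zero.mp h) hne1
    · exact h
  refine ⟨Units.mk0 z hz0, ?_, ?_⟩
  · apply Units.ext
    rw [Units.val_pow_eq_pow_val, Units.val_mk0, h3, Units.val_one]
  · rw [Units.val_mk0]
    exact hq

/-- the coordinates of an element of `T` -/
noncomputable def charsCoord (c : Cfg T) (t : ↥(T : Subgroup G)) : Fin 3 × Fin 3 × Fin 3 :=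
  ⟨(c.gen t.1 t.2).choose, (c.gen t.1 t.2).choose_spec.choose,
    (c.gen t.1 t.2).choose_spec.choose_spec.choose⟩

theorem charsCoord_spec (c : Cfg T) (t : ↥(T : Subgroup G)) :
    (t : G) = c.t1 ^ ((charsCoord c t).1 : ℕ) * c.t2 ^ ((charsCoord c t).2.1 : ℕ) *
      c.t3 ^ ((charsCoord c t).2.2 : ℕ) :=
  (c.gen t.1 t.2).choose_spec.choose_spec.choose_spec

/-- uniqueness of the coordinates modulo 3 -/
theorem charsCoord_eq (c : Cfg T) (t : ↥(T : Subgroup G)) (i j k : ℕ)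
    (ht : (t : G) = c.t1 ^ i * c.t2 ^ j * c.t3 ^ k) :
    ((charsCoord c t).1 : ℕ) = i % 3 ∧ ((charsCoord c t).2.1 : ℕ) = j % 3 ∧
      ((charsCoord c t).2.2 : ℕ) = k % 3 := by
  have r := c.rel
  have e1 : c.t1 ^ i = c.t1 ^ (i % 3) := pow_eq_pow_mod i r.o1
  have e2 : c.t2 ^ j = c.t2 ^ (j % 3) := pow_eq_pow_mod j r.o2
  have e3 : c.t3 ^ k = c.t3 ^ (k % 3) := pow_eq_pow_mod k r.o3
  have hi : i % 3 < 3 := Nat.mod_lt _ (by norm_num)
  have hj : j % 3 < 3 := Nat.mod_lt _ (by norm_num)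
  have hk : k % 3 < 3 := Nat.mod_lt _ (by norm_num)
  have hs := charsCoord_spec c t
  rw [ht, e1, e2, e3] at hs
  have := r.inj ⟨i % 3, hi⟩ ⟨j % 3, hj⟩ ⟨k % 3, hk⟩ (charsCoord c t).1 (charsCoord c t).2.1
    (charsCoord c t).2.2 hs
  refine ⟨?_, ?_, ?_⟩
  · rw [← this.1]
  · rw [← this.2.1]
  · rw [← this.2.2]

/-- the value function of the character with exponents `(p, q, r)` -/
noncomputable def charsFun (c : Cfg T) (w : ℂˣ) (p q r : ℕ) (t : ↥(T : Subgroup G)) : ℂˣ :=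
  w ^ (p * ((charsCoord c t).1 : ℕ) + q * ((charsCoord c t).2.1 : ℕ) + r * ((charsCoord c t).2.2 : ℕ))

theorem charsFun_eq (c : Cfg T) (w : ℂˣ) (hw : w ^ 3 = 1) (p q r : ℕ) (t : ↥(T : Subgroup G))
    (i j k : ℕ) (ht : (t : G) = c.t1 ^ i * c.t2 ^ j * c.t3 ^ k) :
    charsFun c w p q r t = w ^ (p * i + q * j + r * k) := by
  obtain ⟨h1, h2, h3⟩ := charsCoord_eq c t i j k ht
  unfold charsFun
  rw [h1, h2, h3, pow_eq_pow_mod (p * (i % 3) + q * (j % 3) + r * (k % 3)) hw,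
    pow_eq_pow_mod (p * i + q * j + r * k) hw]
  congr 1
  simp [Nat.add_mod, Nat.mul_mod]

/-- the character with exponents `(p, q, r)` -/
noncomputable def charsHom (h : Hyp T) (c : Cfg T) (w : ℂˣ) (hw : w ^ 3 = 1) (p q r : ℕ) :
    ↥(T : Subgroup G) →* ℂˣ where
  toFun := charsFun c w p q r
  map_one' := by
    rw [charsFun_eq c w hw p q r 1 0 0 0 (by simp)]
    simp
  map_mul' := by
    intro s t
    have hs := charsCoord_spec c s
    have ht := charsCoord_spec c t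
    set i := ((charsCoord c s).1 : ℕ)
    set j := ((charsCoord c s).2.1 : ℕ)
    set k := ((charsCoord c s).2.2 : ℕ)
    set i' := ((charsCoord c t).1 : ℕ)
    set j' := ((charsCoord c t).2.1 : ℕ)
    set k' := ((charsCoord c t).2.2 : ℕ)
    have rr := c.rel
    have c12 : Commute c.t1 c.t2 := rr.c12
    have c13 : Commute c.t1 c.t3 := rr.c13
    have c23 : Commute c.t2 c.t3 := rr.c23
    have hst : ((s * t : ↥(T : Subgroup G)) : G) =
        c.t1 ^ (i + i') * c.t2 ^ (j + j') * c.t3 ^ (k + k') := by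
      rw [Subgroup.coe_mul, hs, ht, pow_add, pow_add, pow_add]
      have e1 : Commute (c.t2 ^ j) (c.t1 ^ i') := (c12.pow_pow i' j).symm
      have e2 : Commute (c.t3 ^ k) (c.t1 ^ i') := (c13.pow_pow i' k).symm
      have e3 : Commute (c.t3 ^ k) (c.t2 ^ j') := (c23.pow_pow j' k).symm
      calc c.t1 ^ i * c.t2 ^ j * c.t3 ^ k * (c.t1 ^ i' * c.t2 ^ j' * c.t3 ^ k')
          = c.t1 ^ i * c.t2 ^ j * (c.t3 ^ k * c.t1 ^ i') * c.t2 ^ j' * c.t3 ^ k' := by group
        _ = c.t1 ^ i * c.t2 ^ j * (c.t1 ^ i' * c.t3 ^ k) * c.t2 ^ j' * c.t3 ^ k' := by rw [e2.eq]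
        _ = c.t1 ^ i * (c.t2 ^ j * c.t1 ^ i') * (c.t3 ^ k * c.t2 ^ j') * c.t3 ^ k' := by group
        _ = c.t1 ^ i * (c.t1 ^ i' * c.t2 ^ j) * (c.t2 ^ j' * c.t3 ^ k) * c.t3 ^ k' := by
            rw [e1.eq, e3.eq]
        _ = c.t1 ^ i * c.t1 ^ i' * (c.t2 ^ j * c.t2 ^ j') * (c.t3 ^ k * c.t3 ^ k') := by group
    rw [charsFun_eq c w hw p q r (s * t) _ _ _ hst, charsFun_eq c w hw p q r s _ _ _ hs,
      charsFun_eq c w hw p q r t _ _ _ ht, ← pow_add]
    congr 1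
    ring

theorem charsHom_apply (h : Hyp T) (c : Cfg T) (w : ℂˣ) (hw : w ^ 3 = 1) (p q r : ℕ)
    (t : ↥(T : Subgroup G)) (i j k : ℕ) (ht : (t : G) = c.t1 ^ i * c.t2 ^ j * c.t3 ^ k) :
    charsHom h c w hw p q r t = w ^ (p * i + q * j + r * k) :=
  charsFun_eq c w hw p q r t i j k ht

end Chr

section Main

variable {G : Type u} [Group G] [Fintype G] {T : Sylow 3 G}

/-- PIECE CHARS: the two linear characters exist -/
theorem exists_lin (h : Hyp T) (c : Cfg T) : Nonempty (Lin c) := by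
  obtain ⟨w, hw, hq⟩ := chars_exists_omega
  refine ⟨{ ω := (w : ℂ)
            ωq := hq
            μ := charsHom h c w hw 1 1 0
            ν := charsHom h c w hw 1 0 1
            μ1 := ?_
            μ2 := ?_
            μ3 := ?_
            ν1 := ?_
            ν2 := ?_
            ν3 := ?_ }⟩
  · rw [charsHom_apply h c w hw 1 1 0 ⟨c.t1, c.ht1⟩ 1 0 0 (by simp)]
    simp
  · rw [charsHom_apply h c w hw 1 1 0 ⟨c.t2, c.ht2⟩ 0 1 0 (by simp)]
    simp
  · rw [charsHom_apply h c w hw 1 1 0 ⟨c.t3, c.ht3⟩ 0 0 1 (by simp)]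
    simp
  · rw [charsHom_apply h c w hw 1 0 1 ⟨c.t1, c.ht1⟩ 1 0 0 (by simp)]
    simp
  · rw [charsHom_apply h c w hw 1 0 1 ⟨c.t2, c.ht2⟩ 0 1 0 (by simp)]
    simp
  · rw [charsHom_apply h c w hw 1 0 1 ⟨c.t3, c.ht3⟩ 0 0 1 (by simp)]
    simp

end Main

end Cfsg.Agent.Helper14.TC27
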