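import Mathlib
import Cfsg.Agent.Lib.Helper2.TIHDefs

/-!
# S4118 (TI Hall subgroup of a pi-separable group), PIECE OPI   (helper24)
-/

set_option autoImplicit false
set_option linter.unusedSectionVars false
set_option linter.unusedVariables false

namespace Cfsg.Agent.Helper2.TIH

open Cfsg

namespace OPI

/-- `|K ⊔ L|` divides `|K| |L|` for `K` normal. -/
theorem card_sup_dvd {G : Type*} [Group G] (K L : Subgroup G) [K.Normal] :
    Nat.card ↥(K ⊔ L) ∣ Nat.card K * Nat.card L := by
  have h1 : Nat.card K * K.relIndex (K ⊔ L) = Nat.card ↥(K ⊔ L) := by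
    have h2 := Subgroup.relIndex_mul_relIndex ⊥ K (K ⊔ L) bot_le le_sup_left
    rw [Subgroup.relIndex_bot_left, Subgroup.relIndex_bot_left] at h2
    exact h2
  rw [← h1, Subgroup.relIndex_sup_left]
  exact Nat.mul_dvd_mul_left _ (Subgroup.relIndex_dvd_card K L)

/-- the defining set of `piCore` is closed under `⊔`, so `piCore` belongs to it. -/
theorem piCore_mem {G : Type*} [Group G] [Finite G] (H : Subgroup G) :
    (piCore H).Normal ∧ (Nat.card (piCore H)).Coprime (Nat.card H) := by
  classical
  have hfin : Set.Finite {K : Subgroup G | K.Normal ∧ (Nat.card K).Coprime (Nat.card H)} :=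
    Set.toFinite _
  have hsup : piCore H = hfin.toFinset.sup id := by
    unfold piCore
    rw [Finset.sup_id_eq_sSup, Set.Finite.coe_toFinset]
  rw [hsup]
  refine Finset.sup_induction (p := fun K : Subgroup G =>
    K.Normal ∧ (Nat.card K).Coprime (Nat.card H)) ?_ ?_ ?_
  · refine ⟨inferInstance, ?_⟩
    rw [Subgroup.card_bot]
    exact Nat.coprime_one_left _
  · rintro K ⟨hKn, hKc⟩ L ⟨hLn, hLc⟩
    have := hKn
    have := hLn
    refine ⟨inferInstance, ?_⟩
    exact Nat.Coprime.coprime_dvd_left (card_sup_dvd K L) (Nat.Coprime.mul_left hKc hLc)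
  · intro K hK
    rw [Set.Finite.mem_toFinset] at hK
    exact hK

end OPI

section PartA

variable {G : Type*} [Group G] [Finite G] (H : Subgroup G)

/-- PIECE OPI (1). -/
theorem piCore_normal : (piCore H).Normal := (OPI.piCore_mem H).1

/-- PIECE OPI (2). -/
theorem piCore_coprime : (Nat.card (piCore H)).Coprime (Nat.card H) := (OPI.piCore_mem H).2

/-- PIECE OPI (3). -/
theorem le_piCore (K : Subgroup G) (hK : K.Normal) (hc : (Nat.card K).Coprime (Nat.card H)) :
    K ≤ piCore H := by
  unfold piCore
  exact le_sSup ⟨hK, hc⟩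

end PartA

end Cfsg.Agent.Helper2.TIH
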