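import Mathlib
import Cfsg.Agent.Lib.Helper23.ZS4Defs

/-!
# S3222 piece J3E (helper24): conjugation permutes the point stabilizers of `A₆`,
`A₆` is transitive, distinct points have distinct stabilizers.
-/

set_option autoImplicit false

namespace Cfsg.Agent.Helper23.ZS4

open Equiv

theorem j3e_exists_two : ∀ i j : Fin 6, i ≠ j →
    ∃ k l : Fin 6, k ≠ i ∧ k ≠ j ∧ l ≠ i ∧ l ≠ j ∧ k ≠ l := by
  decide

theorem j3e_map_conj (g : alternatingGroup (Fin 6)) (i : Fin 6) :
    (stabA i).map (MulAut.conj g).toMonoidHom = stabA ((g : Perm (Fin 6)) i) := by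
  ext x
  simp only [Subgroup.mem_map, mem_stabA, MulEquiv.coe_toMonoidHom, MulAut.conj_apply]
  constructor
  · rintro ⟨y, hy, rfl⟩
    simp only [Subgroup.coe_mul, Subgroup.coe_inv, Perm.mul_apply, Perm.coe_inv, symm_apply_apply, hy]
  · intro hx
    refine ⟨g⁻¹ * x * g, ?_, ?_⟩
    · simp only [Subgroup.coe_mul, Subgroup.coe_inv, Perm.mul_apply, hx, Perm.coe_inv, symm_apply_apply]
    · group

theorem j3e_trans (j : Fin 6) : ∃ g : alternatingGroup (Fin 6), (g : Perm (Fin 6)) 0 = j := by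
  by_cases hj : j = 0
  · exact ⟨1, by simp [hj]⟩
  · obtain ⟨k, l, hk0, hkj, -, -, -⟩ := j3e_exists_two 0 j (Ne.symm hj)
    refine ⟨⟨swap 0 k * swap 0 j, ?_⟩, ?_⟩
    · rw [Equiv.Perm.mem_alternatingGroup, Perm.sign_mul, Perm.sign_swap (Ne.symm hk0),
        Perm.sign_swap (Ne.symm hj)]
      decide
    · simp only [Perm.mul_apply, swap_apply_left]
      exact swap_apply_of_ne_of_ne hj (Ne.symm hkj)

theorem j3e_inj (i j : Fin 6) (h : stabA i = stabA j) : i = j := by
  by_contra hij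
  obtain ⟨k, l, hki, hkj, hli, hlj, hkl⟩ := j3e_exists_two i j hij
  have hmem : (⟨swap j k * swap k l, by
      rw [Equiv.Perm.mem_alternatingGroup, Perm.sign_mul, Perm.sign_swap (Ne.symm hkj),
        Perm.sign_swap hkl]
      decide⟩ : alternatingGroup (Fin 6)) ∈ stabA i := by
    rw [mem_stabA]
    simp only [Perm.mul_apply]
    rw [swap_apply_of_ne_of_ne (Ne.symm hki) (Ne.symm hli),
      swap_apply_of_ne_of_ne hij (Ne.symm hki)]
  rw [h, mem_stabA] at hmem
  simp only [Perm.mul_apply] at hmem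
  rw [swap_apply_of_ne_of_ne (Ne.symm hkj) (Ne.symm hlj), swap_apply_left] at hmem
  exact hkj hmem

/-- PIECE J3E. -/
theorem stabA_facts :
    (∀ (g : alternatingGroup (Fin 6)) (i : Fin 6),
      (stabA i).map (MulAut.conj g).toMonoidHom = stabA ((g : Perm (Fin 6)) i)) ∧
    (∀ j : Fin 6, ∃ g : alternatingGroup (Fin 6), (g : Perm (Fin 6)) 0 = j) ∧
    (∀ i j : Fin 6, stabA i = stabA j → i = j) :=
  ⟨j3e_map_conj, j3e_trans, j3e_inj⟩

end Cfsg.Agent.Helper23.ZS4
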