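import Mathlib
import Cfsg.Agent.Lib.Helper23.ZS4Defs
import Cfsg.Agent.Lib.Helper24.ZS4J3E

/-!
# S3222 piece J3C (helper24): a simple subgroup of order 60 of `A₆` that is not a point
stabilizer contains no element of order 3 with a fixed point.
-/

set_option autoImplicit false

namespace Cfsg.Agent.Helper23.ZS4

open Equiv

theorem j3c_stabA_eq (i : Fin 6) :
    stabA i = MulAction.stabilizer (alternatingGroup (Fin 6)) i := by
  ext g
  rfl

theorem j3c_orbit_univ (i : Fin 6) :
    MulAction.orbit (alternatingGroup (Fin 6)) i = Set.univ := by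
  ext j
  simp only [Set.mem_univ, iff_true]
  obtain ⟨g0, hg0⟩ := j3e_trans i
  obtain ⟨g1, hg1⟩ := j3e_trans j
  rw [MulAction.mem_orbit_iff]
  refine ⟨g1 * g0⁻¹, ?_⟩
  change ((g1 * g0⁻¹ : alternatingGroup (Fin 6)) : Perm (Fin 6)) i = j
  rw [← hg0, ← hg1]
  simp only [Subgroup.coe_mul, Subgroup.coe_inv, Perm.mul_apply, Perm.coe_inv, symm_apply_apply]

theorem j3c_card_A6 : Nat.card (alternatingGroup (Fin 6)) = 360 := by
  rw [Nat.card_eq_fintype_card, card_alternatingGroup]
  simp [Nat.factorial]

theorem j3c_card_stabA (i : Fin 6) : Nat.card (stabA i) = 60 := by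
  have h1 := Subgroup.index_mul_card (stabA i)
  rw [j3c_stabA_eq, MulAction.index_stabilizer, j3c_orbit_univ, Set.ncard_univ, j3c_card_A6,
    Nat.card_eq_fintype_card, Fintype.card_fin, ← j3c_stabA_eq] at h1
  omega

theorem j3c_fixed (S : Subgroup (alternatingGroup (Fin 6))) (hS : Nat.card S = 60) (j : Fin 6)
    (h : ∀ g ∈ S, ((g : alternatingGroup (Fin 6)) : Perm (Fin 6)) j = j) : S = stabA j :=
  Subgroup.eq_of_le_of_card_ge (fun g hg => h g hg) (by rw [j3c_card_stabA, hS])

theorem j3c_smul_def (S : Subgroup (alternatingGroup (Fin 6))) (g : S) (i : Fin 6) :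
    g • i = ((g : alternatingGroup (Fin 6)) : Perm (Fin 6)) i := rfl

theorem j3c_orbit_card (S : Subgroup (alternatingGroup (Fin 6))) (hS : Nat.card S = 60)
    (hsimple : IsSimpleGroup ↥S) (i : Fin 6) :
    (MulAction.orbit S i).ncard = 1 ∨ 5 ≤ (MulAction.orbit S i).ncard := by
  let _ := hsimple
  let f := MulAction.toPermHom S (MulAction.orbit S i)
  rcases Subgroup.Normal.eq_bot_or_eq_top (MonoidHom.normal_ker f) with hk | hk
  · right
    have hinj : Function.Injective f := (MonoidHom.ker_eq_bot_iff f).1 hk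
    have hle := Nat.card_le_card_of_injective f hinj
    rw [hS, Nat.card_perm, Nat.card_coe_set_eq] at hle
    by_contra hlt
    push Not at hlt
    have : (MulAction.orbit S i).ncard.factorial ≤ 24 := by
      interval_cases (MulAction.orbit S i).ncard <;> decide
    omega
  · left
    rw [Set.ncard_eq_one]
    refine ⟨i, ?_⟩
    ext x
    simp only [Set.mem_singleton_iff]
    constructor
    · intro hx
      obtain ⟨g, rfl⟩ := MulAction.mem_orbit_iff.1 hx
      have hg : g ∈ f.ker := by rw [hk]; trivial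
      have h2 := congrArg (fun p : Perm (MulAction.orbit S i) =>
        ((p ⟨i, MulAction.mem_orbit_self i⟩ : MulAction.orbit S i) : Fin 6)) (MonoidHom.mem_ker.1 hg)
      exact h2
    · rintro rfl
      exact MulAction.mem_orbit_self _

/-- PIECE J3C. -/
theorem three_fpf_of_simple (S : Subgroup (alternatingGroup (Fin 6))) (hS : Nat.card S = 60)
    (hsimple : IsSimpleGroup ↥S) (hne : ∀ i, S ≠ stabA i) :
    ∀ s ∈ S, orderOf s = 3 → ∀ i, (s : Perm (Fin 6)) i ≠ i := by
  intro s hs hs3 i hsi
  -- orbit-stabilizer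
  have h1 := Subgroup.index_mul_card (MulAction.stabilizer S i)
  rw [MulAction.index_stabilizer, hS] at h1
  -- 3 divides the stabilizer order
  have hmem : (⟨s, hs⟩ : S) ∈ MulAction.stabilizer S i := by
    rw [MulAction.mem_stabilizer_iff]
    exact hsi
  have h3 : 3 ∣ Nat.card (MulAction.stabilizer S i) := by
    have := orderOf_dvd_natCard (⟨⟨s, hs⟩, hmem⟩ : MulAction.stabilizer S i)
    rwa [Subgroup.orderOf_mk, Subgroup.orderOf_mk, hs3] at this
  have hle : (MulAction.orbit S i).ncard ≤ 6 := by
    have := Set.ncard_le_card (MulAction.orbit S i)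
    simpa using this
  have hk := j3c_orbit_card S hS hsimple i
  obtain ⟨m, hm⟩ := h3
  rw [hm] at h1
  have hk5 : (MulAction.orbit S i).ncard = 1 ∨ (MulAction.orbit S i).ncard = 5 := by
    rcases hk with hk | hk
    · exact Or.inl hk
    · right
      have h6 : (MulAction.orbit S i).ncard ≠ 6 := by
        intro h6
        rw [h6] at h1
        omega
      omega
  rcases hk5 with hk1 | hk5
  · -- the orbit is `{i}`
    obtain ⟨a, ha⟩ := Set.ncard_eq_one.1 hk1
    apply hne i
    apply j3c_fixed S hS i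
    intro g hg
    have h1' : (⟨g, hg⟩ : S) • i ∈ MulAction.orbit S i := MulAction.mem_orbit _ _
    have h2' : i ∈ MulAction.orbit S i := MulAction.mem_orbit_self _
    rw [ha, Set.mem_singleton_iff] at h1' h2'
    rw [← h2'] at h1'
    exact h1'
  · -- the complement of the orbit is a point
    have hc := Set.ncard_add_ncard_compl (MulAction.orbit S i)
    rw [hk5] at hc
    have hc1 : (MulAction.orbit S i)ᶜ.ncard = 1 := by
      simp only [Nat.card_eq_fintype_card, Fintype.card_fin] at hc
      omega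
    obtain ⟨j, hj⟩ := Set.ncard_eq_one.1 hc1
    apply hne j
    apply j3c_fixed S hS j
    intro g hg
    have hjc : j ∈ (MulAction.orbit S i)ᶜ := by rw [hj]; rfl
    have : (⟨g, hg⟩ : S) • j ∈ (MulAction.orbit S i)ᶜ := by
      intro hmem'
      apply hjc
      obtain ⟨h, hh⟩ := MulAction.mem_orbit_iff.1 hmem'
      rw [MulAction.mem_orbit_iff]
      refine ⟨(⟨g, hg⟩ : S)⁻¹ * h, ?_⟩
      rw [mul_smul, hh, inv_smul_smul]
    rw [hj, Set.mem_singleton_iff] at this
    exact this

end Cfsg.Agent.Helper23.ZS4
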