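import Mathlib
import Cfsg.Agent.Lib.Helper23.ZS4Defs
import Cfsg.Agent.Lib.Helper24.ZS4J3E
import Cfsg.Agent.Lib.Helper24.ZS4J3C
import Cfsg.Agent.Lib.Helper17.ZS4J3A
import Cfsg.Agent.Lib.Helper15.ZS4J3B

/-!
# S3222 piece J3D (helper24): an automorphism of `A₆` fixing an element of order 3 maps `stabA 0`
to a point stabilizer.
-/

set_option autoImplicit false

namespace Cfsg.Agent.Helper23.ZS4

open Equiv

/-- `y` fixes `0` iff `g y g⁻¹` fixes `g 0`. -/
theorem j3d_conj_fix (g y : alternatingGroup (Fin 6)) (i : Fin 6) :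
    ((g * y * g⁻¹ : alternatingGroup (Fin 6)) : Perm (Fin 6)) ((g : Perm (Fin 6)) i) =
      (g : Perm (Fin 6)) i ↔ (y : Perm (Fin 6)) i = i := by
  simp only [Subgroup.coe_mul, Subgroup.coe_inv, Perm.mul_apply, Perm.coe_inv, symm_apply_apply]
  exact (g : Perm (Fin 6)).injective.eq_iff

/-- If no image of `stabA 0` is a point stabilizer then no image of any `stabA i` is. -/
theorem j3d_all (θ : alternatingGroup (Fin 6) ≃* alternatingGroup (Fin 6))
    (hno : ∀ j : Fin 6, (stabA 0).map θ.toMonoidHom ≠ stabA j) (i j : Fin 6) :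
    (stabA i).map θ.toMonoidHom ≠ stabA j := by
  intro h
  obtain ⟨g, hg⟩ := j3e_trans i
  apply hno ((((θ g)⁻¹ : alternatingGroup (Fin 6)) : Perm (Fin 6)) j)
  have key : ∀ x : alternatingGroup (Fin 6), θ.symm x ∈ stabA i ↔ x ∈ stabA j := by
    intro x
    rw [← Subgroup.mem_map_equiv, h]
  ext x
  rw [Subgroup.mem_map_equiv, mem_stabA, mem_stabA]
  rw [← j3d_conj_fix g (θ.symm x) 0, hg]
  have h1 : g * θ.symm x * g⁻¹ = θ.symm (θ g * x * (θ g)⁻¹) := by
    simp only [map_mul, map_inv, MulEquiv.symm_apply_apply]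
  rw [h1, ← mem_stabA, key, mem_stabA]
  have h2 := j3d_conj_fix (θ g)⁻¹ (θ g * x * (θ g)⁻¹) j
  rw [← h2]
  have h3 : (θ g)⁻¹ * (θ g * x * (θ g)⁻¹) * ((θ g)⁻¹)⁻¹ = x := by group
  rw [h3]

/-- PIECE J3D. -/
theorem aut_stab (θ : alternatingGroup (Fin 6) ≃* alternatingGroup (Fin 6))
    (a : alternatingGroup (Fin 6)) (ha : orderOf a = 3) (hθ : θ a = a) :
    ∃ j : Fin 6, (stabA 0).map θ.toMonoidHom = stabA j := by
  by_contra hno
  push Not at hno
  have hall := j3d_all θ hno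
  -- every image is simple of order 60
  have hfpf : ∀ i : Fin 6, ∀ s ∈ (stabA i).map θ.toMonoidHom, orderOf s = 3 →
      ∀ k, (s : Perm (Fin 6)) k ≠ k := by
    intro i
    have hcard : Nat.card ((stabA i).map θ.toMonoidHom) = 60 := by
      rw [Subgroup.card_map_of_injective θ.injective]
      exact (stabA_simple i).2
    have hsimple : IsSimpleGroup ↥((stabA i).map θ.toMonoidHom) := by
      let _ := (stabA_simple i).1
      exact (MulEquiv.subgroupMap θ (stabA i)).symm.isSimpleGroup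
    exact three_fpf_of_simple _ hcard hsimple (hall i)
  -- `θ` maps `A` into `B`
  set A : Set (alternatingGroup (Fin 6)) :=
    {g | orderOf g = 3 ∧ ∃ i, (g : Perm (Fin 6)) i = i} with hA
  set B : Set (alternatingGroup (Fin 6)) :=
    {g | orderOf g = 3 ∧ ∀ i, (g : Perm (Fin 6)) i ≠ i} with hB
  have hsub : θ '' A ⊆ B := by
    rintro _ ⟨x, ⟨hx3, i, hxi⟩, rfl⟩
    refine ⟨by rw [MulEquiv.orderOf_eq]; exact hx3, ?_⟩
    apply hfpf i (θ x) _ (by rw [MulEquiv.orderOf_eq]; exact hx3)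
    rw [Subgroup.mem_map_equiv, MulEquiv.symm_apply_apply]
    exact hxi
  have hcardA : A.ncard = 40 := card_three.1
  have hcardB : B.ncard = 40 := card_three.2
  have himg : θ '' A = B := by
    apply Set.eq_of_subset_of_ncard_le hsub
    rw [Set.ncard_image_of_injective _ θ.injective, hcardA, hcardB]
  by_cases hfix : ∃ i, (a : Perm (Fin 6)) i = i
  · have haA : a ∈ A := ⟨ha, hfix⟩
    have : θ a ∈ B := hsub ⟨a, haA, rfl⟩
    rw [hθ] at this
    obtain ⟨i, hi⟩ := hfix
    exact this.2 i hi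
  · push Not at hfix
    have haB : a ∈ B := ⟨ha, hfix⟩
    rw [← himg] at haB
    obtain ⟨x, hxA, hxa⟩ := haB
    have : x = a := θ.injective (by rw [hxa, hθ])
    rw [this] at hxA
    obtain ⟨i, hi⟩ := hxA.2
    exact hfix i hi

end Cfsg.Agent.Helper23.ZS4
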