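import Mathlib
import Cfsg.Agent.Lib.Helper2.AICDefs
import Cfsg.Agent.Lib.Helper2.AICGEN
import Cfsg.Agent.Lib.Helper2.AICBAS1
import Cfsg.Agent.S1224
import Cfsg.Agent.S1225

/-!
# S2202, piece SE (A4): `M_P = N_G(P)` is strongly embedded; S1224/S1225 translated to points
-/

set_option autoImplicit false

namespace Cfsg.Agent.Helper2.AIC

variable {G : Type*} [Group G] [Finite G]

theorem se_map_conj_Mn (P : Sylow 2 G) (g : G) :
    (Mn P).map (MulAut.conj g).toMonoidHom = Mn (g • P) := by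
  ext x
  constructor
  · rintro ⟨m, hm, rfl⟩
    exact (conj_mem_Mn P g m).mpr hm
  · intro hx
    refine ⟨g⁻¹ * x * g, ?_, ?_⟩
    · have h1 : g * (g⁻¹ * x * g) * g⁻¹ = x := by group
      exact (conj_mem_Mn P g (g⁻¹ * x * g)).mp (h1.symm ▸ hx)
    · simp only [MulEquiv.coe_toMonoidHom, MulAut.conj_apply]
      group

/-- a subgroup of even order contains an involution -/
theorem se_exists_inv {H : Subgroup G} (h : Even (Nat.card H)) : ∃ v ∈ H, orderOf v = 2 := by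
  haveI : Fact (Nat.Prime 2) := ⟨Nat.prime_two⟩
  obtain ⟨v, hv⟩ := exists_prime_orderOf_dvd_card' (G := H) 2 (even_iff_two_dvd.mp h)
  refine ⟨v.1, v.2, ?_⟩
  rw [← hv, Subgroup.orderOf_coe]

theorem se_odd_of_no_inv {H : Subgroup G} (h : ∀ v ∈ H, orderOf v ≠ 2) : Odd (Nat.card H) := by
  rw [← Nat.not_even_iff_odd]
  intro he
  obtain ⟨v, hv, hv2⟩ := se_exists_inv he
  exact h v hv hv2

theorem se_sylow_le_Mn (P : Sylow 2 G) : (P : Subgroup G) ≤ Mn P := Subgroup.le_normalizer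

/-- involutions of `M_P` lie in `P` -/
theorem se_inv_mem {P : Sylow 2 G} {v : G} (hv : orderOf v = 2) (h : v ∈ Mn P) : v ∈ P :=
  mem_sylow_of_mem_Mn h (k := 1) (by rw [hv, pow_one])

/-- an involution `v ∈ R` fixes only the point `R` (local version, so that this file does not
depend on piece BAS2) -/
theorem se_eq_of_inv_mem_Mn (c : Cfg G) {v : G} (hv : orderOf v = 2) {R Q : Sylow 2 G}
    (hvR : v ∈ R) (h : v ∈ Mn Q) : Q = R := by
  haveI : Fact (Nat.Prime 2) := ⟨Nat.prime_two⟩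
  have hvQ : v ∈ Q := se_inv_mem hv h
  have hC : Cn R = Cn Q := (c.centralizer_eq hvR hv).symm.trans (c.centralizer_eq hvQ hv)
  have hle : (R : Subgroup G) ≤ Q := by
    intro x hx
    have hxC : x ∈ Cn Q := hC ▸ c.sylow_le_Cn R hx
    obtain ⟨k, hk⟩ := (IsPGroup.iff_orderOf.mp R.isPGroup') ⟨x, hx⟩
    rw [Subgroup.orderOf_mk] at hk
    exact c.mem_sylow_of_mem_Cn hxC hk
  exact Sylow.ext (R.is_maximal' Q.isPGroup' hle)

theorem Cfg.odd_card_Dn (c : Cfg G) {P Q : Sylow 2 G} (h : P ≠ Q) : Odd (Nat.card (Dn P Q)) := by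
  apply se_odd_of_no_inv
  intro v hv hv2
  have hvP : v ∈ P := se_inv_mem hv2 hv.1
  exact h (se_eq_of_inv_mem_Mn c hv2 hvP hv.2).symm

theorem Cfg.stronglyEmbedded (c : Cfg G) (P : Sylow 2 G) : Cfsg.IsStronglyEmbedded (Mn P) := by
  refine ⟨?_, ?_, ?_⟩
  · intro htop
    obtain ⟨Q, hQ⟩ := c.nn P
    obtain ⟨g, rfl⟩ := MulAction.exists_smul_eq G P Q
    apply hQ
    exact mem_Mn_iff.mp (htop ▸ Subgroup.mem_top g)
  · obtain ⟨t, htP, ht2⟩ := c.exists_inv P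
    have h1 : orderOf t ∣ Nat.card (Mn P) := by
      have : orderOf (⟨t, se_sylow_le_Mn P htP⟩ : Mn P) = orderOf t := Subgroup.orderOf_mk t _
      rw [← this]
      exact orderOf_dvd_natCard _
    rw [ht2] at h1
    exact even_iff_two_dvd.mpr h1
  · intro g hg
    rw [se_map_conj_Mn]
    apply c.odd_card_Dn
    intro h
    exact hg (mem_Mn_iff.mpr h.symm)

/-- S1224' -/
theorem Cfg.card_swap (c : Cfg G) {P Q : Sylow 2 G} (h : P ≠ Q) :
    Nat.card {w : G // orderOf w = 2 ∧ w • P = Q} = nInv P := by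
  obtain ⟨g, rfl⟩ := MulAction.exists_smul_eq G P Q
  have hne : ((1 : G) : G ⧸ Mn P) ≠ ((g : G) : G ⧸ Mn P) := by
    intro he
    rw [QuotientGroup.eq, inv_one, one_mul] at he
    exact h (mem_Mn_iff.mp he).symm
  have h1 := Cfsg.Agent.S1224.result (Mn P) (c.stronglyEmbedded P) _ _ hne
  have e1 : {i : G // orderOf i = 2 ∧ i • ((1 : G) : G ⧸ Mn P) = ((g : G) : G ⧸ Mn P)} ≃
      {w : G // orderOf w = 2 ∧ w • P = g • P} := by
    refine Equiv.subtypeEquivRight (fun i => and_congr_right (fun _ => ?_))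
    rw [MulAction.Quotient.smul_coe, QuotientGroup.eq, mem_Mn_iff, smul_eq_mul, mul_one, mul_smul,
      inv_smul_eq_iff, eq_comm]
  have e2 : {t : G // orderOf t = 2 ∧ t ∈ Mn P} ≃ {t : G // t ∈ P ∧ orderOf t = 2} := by
    refine Equiv.subtypeEquivRight (fun t => ?_)
    constructor
    · rintro ⟨h2, hM⟩
      exact ⟨se_inv_mem h2 hM, h2⟩
    · rintro ⟨hP, h2⟩
      exact ⟨h2, se_sylow_le_Mn P hP⟩
  rw [← Nat.card_congr e1, h1, Nat.card_congr e2]
  rfl

theorem Cfg.exists_swap (c : Cfg G) {P Q : Sylow 2 G} (h : P ≠ Q) :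
    ∃ u : G, orderOf u = 2 ∧ u • P = Q := by
  have hpos : 0 < Nat.card {w : G // orderOf w = 2 ∧ w • P = Q} := by
    rw [c.card_swap h]
    obtain ⟨t, htP, ht2⟩ := c.exists_inv P
    haveI : Nonempty {t : G // t ∈ P ∧ orderOf t = 2} := ⟨⟨t, htP, ht2⟩⟩
    exact Nat.card_pos
  obtain ⟨⟨u, hu⟩⟩ := (Nat.card_pos_iff.1 hpos).1
  exact ⟨u, hu⟩

/-- S1225' -/
theorem Cfg.Dn_trans (c : Cfg G) {P Q : Sylow 2 G} (h : P ≠ Q) {s t : G} (hs : s ∈ P)
    (hso : orderOf s = 2) (ht : t ∈ P) (hto : orderOf t = 2) : ∃ d ∈ Dn P Q, d * s * d⁻¹ = t := by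
  obtain ⟨u, hu2, huP⟩ := c.exists_swap h
  have huM : u ∉ Mn P := by
    intro hu
    exact h ((mem_Mn_iff.mp hu).symm.trans huP)
  obtain ⟨d, hd, hds⟩ := (Cfsg.Agent.S1225.result (Mn P) (c.stronglyEmbedded P) u hu2 huM s t hso
    (se_sylow_le_Mn P hs) hto (se_sylow_le_Mn P ht)).1
  rw [se_map_conj_Mn, huP] at hd
  exact ⟨d, hd, hds⟩

end Cfsg.Agent.Helper2.AIC
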