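import Mathlib
import Cfsg.Agent.Lib.Helper2.AICDefs
import Cfsg.Agent.Lib.Helper2.AICGEN
import Cfsg.Agent.Lib.Helper2.AICBAS1
import Cfsg.Agent.Lib.Helper24.AICSE

/-!
# S2202, piece ORB (A6, A7): orbit-stabilizer on the involutions of `P`
-/

set_option autoImplicit false

namespace Cfsg.Agent.Helper2.AIC

variable {G : Type*} [Group G] [Finite G]

theorem orb_exists_inv (c : Cfg G) (P : Sylow 2 G) : ∃ t : G, t ∈ P ∧ orderOf t = 2 :=
  c.exists_inv P

/-- conjugation by an element of `M_P` preserves `P` -/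
theorem orb_conj_mem {P : Sylow 2 G} {m : G} (hm : m ∈ Mn P) {x : G} (hx : x ∈ P) :
    m * x * m⁻¹ ∈ P := by
  have := (conj_mem_smul P m x).mpr hx
  rwa [mem_Mn_iff.mp hm] at this

theorem orb_orderOf_conj (m x : G) : orderOf (m * x * m⁻¹) = orderOf x := by
  have : m * x * m⁻¹ = MulAut.conj m x := by simp [MulAut.conj_apply]
  rw [this, MulEquiv.orderOf_eq]

theorem orb_Cn_le_Mn (P : Sylow 2 G) : Cn P ≤ Mn P :=
  Subgroup.centralizer_le_normalizer _

/-- orbit-stabilizer on the involutions of `P` -/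
theorem Cfg.card_of_trans (c : Cfg G) {P : Sylow 2 G} {E : Subgroup G} (hE : E ≤ Mn P)
    (htr : ∀ s t : G, s ∈ P → orderOf s = 2 → t ∈ P → orderOf t = 2 → ∃ e ∈ E, e * s * e⁻¹ = t) :
    Nat.card E = nInv P * Nat.card (E ⊓ Cn P : Subgroup G) := by
  classical
  obtain ⟨s, hsP, hs2⟩ := orb_exists_inv c P
  have hcent : ∀ x : G, x ∈ Cn P ↔ x * s * x⁻¹ = s := by
    intro x
    rw [← c.centralizer_eq hsP hs2, Subgroup.mem_centralizer_singleton_iff]
    constructor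
    · intro h
      rw [h]; group
    · intro h
      calc x * s = x * s * x⁻¹ * x := by group
        _ = s * x := by rw [h]
  choose f hfE hf using fun t : {t : G // t ∈ P ∧ orderOf t = 2} => htr s t.1 hsP hs2 t.2.1 t.2.2
  let φ : {t : G // t ∈ P ∧ orderOf t = 2} × ↥(E ⊓ Cn P : Subgroup G) → ↥E := fun tc =>
    ⟨f tc.1 * (tc.2 : G), E.mul_mem (hfE tc.1) (Subgroup.mem_inf.mp tc.2.2).1⟩
  have hbij : Function.Bijective φ := by
    constructor
    · rintro ⟨t, x⟩ ⟨t', x'⟩ heq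
      have h1 : f t * (x : G) = f t' * (x' : G) := congrArg Subtype.val heq
      have hx := (hcent _).mp (Subgroup.mem_inf.mp x.2).2
      have hx' := (hcent _).mp (Subgroup.mem_inf.mp x'.2).2
      have h2 : (t : G) = t' := by
        calc (t : G) = f t * s * (f t)⁻¹ := (hf t).symm
          _ = f t * ((x : G) * s * (x : G)⁻¹) * (f t)⁻¹ := by rw [hx]
          _ = (f t * (x : G)) * s * (f t * (x : G))⁻¹ := by group
          _ = (f t' * (x' : G)) * s * (f t' * (x' : G))⁻¹ := by rw [h1]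
          _ = f t' * ((x' : G) * s * (x' : G)⁻¹) * (f t')⁻¹ := by group
          _ = f t' * s * (f t')⁻¹ := by rw [hx']
          _ = t' := hf t'
      have h3 : t = t' := Subtype.ext h2
      subst h3
      have h4 : (x : G) = x' := mul_left_cancel h1
      exact Prod.ext rfl (Subtype.ext h4)
    · rintro ⟨e, he⟩
      have heP : e * s * e⁻¹ ∈ P := orb_conj_mem (hE he) hsP
      have he2 : orderOf (e * s * e⁻¹) = 2 := by rw [orb_orderOf_conj, hs2]
      set t : {t : G // t ∈ P ∧ orderOf t = 2} := ⟨e * s * e⁻¹, heP, he2⟩ with ht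
      have hft : f t * s * (f t)⁻¹ = e * s * e⁻¹ := hf t
      have hmem : (f t)⁻¹ * e ∈ (E ⊓ Cn P : Subgroup G) := by
        refine Subgroup.mem_inf.mpr ⟨E.mul_mem (E.inv_mem (hfE t)) he, (hcent _).mpr ?_⟩
        calc (f t)⁻¹ * e * s * ((f t)⁻¹ * e)⁻¹ = (f t)⁻¹ * (e * s * e⁻¹) * f t := by group
          _ = (f t)⁻¹ * (f t * s * (f t)⁻¹) * f t := by rw [hft]
          _ = s := by group
      refine ⟨(t, ⟨(f t)⁻¹ * e, hmem⟩), ?_⟩
      apply Subtype.ext
      show f t * ((f t)⁻¹ * e) = e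
      group
  rw [← Nat.card_congr (Equiv.ofBijective φ hbij), Nat.card_prod]
  rfl

theorem Cfg.Dn_inf_Cn (c : Cfg G) {P Q : Sylow 2 G} (h : P ≠ Q) : Dn P Q ⊓ Cn P = Kn P ⊓ Mn Q := by
  apply le_antisymm
  · intro x hx
    obtain ⟨hxD, hxC⟩ := Subgroup.mem_inf.mp hx
    refine Subgroup.mem_inf.mpr ⟨(c.mem_Kn_iff P).mpr ⟨hxC, ?_⟩, hxD.2⟩
    have hodd := c.odd_card_Dn h
    have hdvd : orderOf x ∣ Nat.card (Dn P Q) := by
      have : orderOf (⟨x, hxD⟩ : Dn P Q) = orderOf x := Subgroup.orderOf_mk x _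
      rw [← this]
      exact orderOf_dvd_natCard _
    exact hodd.of_dvd_nat hdvd
  · intro x hx
    obtain ⟨hxK, hxM⟩ := Subgroup.mem_inf.mp hx
    have hxC : x ∈ Cn P := c.Kn_le_Cn P hxK
    exact Subgroup.mem_inf.mpr ⟨Subgroup.mem_inf.mpr ⟨orb_Cn_le_Mn P hxC, hxM⟩, hxC⟩

theorem Cfg.Mn_eq_mul (c : Cfg G) {P Q : Sylow 2 G} (h : P ≠ Q) {m : G} (hm : m ∈ Mn P) :
    ∃ x ∈ Cn P, ∃ d ∈ Dn P Q, m = x * d := by
  obtain ⟨t, htP, ht2⟩ := orb_exists_inv c P
  have hmP : m⁻¹ * t * m⁻¹⁻¹ ∈ P := orb_conj_mem ((Mn P).inv_mem hm) htP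
  have hm2 : orderOf (m⁻¹ * t * m⁻¹⁻¹) = 2 := by rw [orb_orderOf_conj, ht2]
  obtain ⟨d, hd, hdt⟩ := c.Dn_trans h htP ht2 hmP hm2
  -- `d t d⁻¹ = m⁻¹ t m`, so `m d` centralizes `t`
  refine ⟨m * d, ?_, d⁻¹, (Dn P Q).inv_mem hd, by group⟩
  rw [← c.centralizer_eq htP ht2, Subgroup.mem_centralizer_singleton_iff]
  have h1 : m * d * t * (m * d)⁻¹ = t := by
    calc m * d * t * (m * d)⁻¹ = m * (d * t * d⁻¹) * m⁻¹ := by group
      _ = m * (m⁻¹ * t * m⁻¹⁻¹) * m⁻¹ := by rw [hdt]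
      _ = t := by group
  calc m * d * t = m * d * t * (m * d)⁻¹ * (m * d) := by group
    _ = t * (m * d) := by rw [h1]

theorem Cfg.card_Dn (c : Cfg G) {P Q : Sylow 2 G} (h : P ≠ Q) :
    Nat.card (Dn P Q) = nInv P * Nat.card (Kn P ⊓ Mn Q : Subgroup G) := by
  rw [← c.Dn_inf_Cn h]
  exact c.card_of_trans inf_le_left (fun s t hs hs2 ht ht2 => c.Dn_trans h hs hs2 ht ht2)

theorem Cfg.card_Mn (c : Cfg G) (P : Sylow 2 G) : Nat.card (Mn P) = nInv P * Nat.card (Cn P) := by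
  obtain ⟨Q, hQ⟩ := c.nn P
  have h1 := c.card_of_trans (E := Mn P) le_rfl (fun s t hs hs2 ht ht2 => by
    obtain ⟨d, hd, hdt⟩ := c.Dn_trans hQ.symm hs hs2 ht ht2
    exact ⟨d, hd.1, hdt⟩)
  rw [inf_eq_right.mpr (orb_Cn_le_Mn P)] at h1
  exact h1

/-- A7 : involutions `P → Q` correspond to the elements of `D_{PQ}` inverted by `u` -/
theorem Cfg.card_inverted (c : Cfg G) {P Q : Sylow 2 G} (h : P ≠ Q) {u : G} (hu : orderOf u = 2)
    (huP : u • P = Q) : Nat.card {d : G // d ∈ Dn P Q ∧ u * d * u⁻¹ = d⁻¹} = nInv P := by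
  rw [← c.card_swap h]
  obtain ⟨hu1, huu⟩ := orderOf_eq_iff (by norm_num : 0 < 2) |>.mp hu
  have huu' : u * u = 1 := by rw [← pow_two]; exact hu1
  have huinv : u⁻¹ = u := inv_eq_of_mul_eq_one_left huu'
  have huQ : u • Q = P := swap_symm hu huP
  refine Nat.card_congr ⟨fun d => ⟨d.1 * u, ?_, ?_⟩, fun w => ⟨w.1 * u, ?_, ?_⟩, ?_, ?_⟩
  · -- order of `d * u`
    obtain ⟨d, hd, hdu⟩ := d
    rw [huinv] at hdu
    have hsq : (d * u) * (d * u) = 1 := by
      calc (d * u) * (d * u) = d * (u * d * u) := by group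
        _ = 1 := by rw [hdu]; group
    have hne : d * u ≠ 1 := by
      intro h1
      have : u = d⁻¹ := by
        have := congrArg (fun x => d⁻¹ * x) h1
        simpa using this
      have hM : u ∈ Mn P := this ▸ (Mn P).inv_mem hd.1
      exact h ((mem_Mn_iff.mp hM).symm.trans huP)
    exact orderOf_eq_prime (by rw [pow_two]; exact hsq) hne
  · obtain ⟨d, hd, hdu⟩ := d
    show (d * u) • P = Q
    rw [mul_smul, huP]
    exact mem_Mn_iff.mp hd.2
  · obtain ⟨w, hw2, hwP⟩ := w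
    have hwQ : w • Q = P := swap_symm hw2 hwP
    refine Subgroup.mem_inf.mpr ⟨mem_Mn_iff.mpr ?_, mem_Mn_iff.mpr ?_⟩
    · show (w * u) • P = P
      rw [mul_smul, huP, hwQ]
    · show (w * u) • Q = Q
      rw [mul_smul, huQ, hwP]
  · obtain ⟨w, hw2, hwP⟩ := w
    obtain ⟨hw1, -⟩ := orderOf_eq_iff (by norm_num : 0 < 2) |>.mp hw2
    have hww : w * w = 1 := by rw [← pow_two]; exact hw1
    have hwinv : w⁻¹ = w := inv_eq_of_mul_eq_one_left hww
    show u * (w * u) * u⁻¹ = (w * u)⁻¹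
    rw [mul_inv_rev, huinv, hwinv]
    calc u * (w * u) * u = u * w * (u * u) := by group
      _ = u * w := by rw [huu', mul_one]
  · rintro ⟨d, hd, hdu⟩
    apply Subtype.ext
    show d * u * u = d
    rw [mul_assoc, huu', mul_one]
  · rintro ⟨w, hw2, hwP⟩
    apply Subtype.ext
    show w * u * u = w
    rw [mul_assoc, huu', mul_one]

end Cfsg.Agent.Helper2.AIC
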