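import Mathlib
import Cfsg.Prelude.Def_Blocks
import Cfsg.Agent.Lib.Helper24.CharLinear
import Cfsg.Agent.Lib.Helper24.CharComplete
import Cfsg.Agent.Lib.Helper24.CharBasic

/-!
# Simple groups of order 7920, PIECE T1: character values at involutions   (helper24)
-/

set_option autoImplicit false
set_option linter.unusedSectionVars false
set_option linter.unusedVariables false

namespace Cfsg.Agent.Helper17.M11

open scoped ComplexConjugate
open Cfsg Cfsg.Agent.Helper24

universe u

variable {G : Type u} [Group G] [Fintype G]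

/-- PIECE T1: the value of a character at an involution is an integer of absolute value at most the degree. -/
theorem invol_value {χ : G → ℂ} (hχ : IsCharacter G χ) {t : G} (ht : t * t = 1) :
    ∃ n : ℤ, χ t = (n : ℂ) ∧ |n| ≤ (charDegree χ : ℤ) := by
  classical
  obtain ⟨n, ρ, rfl⟩ := hχ
  have hsq : (ρ t) ^ 2 = 1 := by
    rw [← map_pow, pow_two, ht, map_one]
  obtain ⟨n', b, μ, hμ, hb⟩ := exists_eigenbasis_of_pow_eq_one (ρ t) (by norm_num : 0 < 2) hsq
  have hn' : n' = n := by
    have h1 := finrank_eq_of_basis b
    rw [Module.finrank_fin_fun] at h1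
    exact h1.symm
  have hdeg : charDegree ρ.character = n := by
    apply charDegree_natCast
    rw [Representation.char_one, Module.finrank_fin_fun]
  have htr : ρ.character t = ∑ i, μ i := trace_eq_sum_of_eigenbasis b μ (ρ t) hb
  have hpm : ∀ i, μ i = 1 ∨ μ i = -1 := by
    intro i
    have h1 : (μ i - 1) * (μ i + 1) = 0 := by
      have := hμ i
      linear_combination this
    rcases mul_eq_zero.1 h1 with h | h
    · exact Or.inl (sub_eq_zero.1 h)
    · exact Or.inr (eq_neg_of_add_eq_zero_left h)
  set ε : Fin n' → ℤ := fun i => if μ i = 1 then 1 else -1 with hε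
  have hμε : ∀ i, μ i = (ε i : ℂ) := by
    intro i
    rcases hpm i with h | h
    · simp [hε, h]
    · have hne : μ i ≠ 1 := by
        rw [h]
        norm_num
      simp [hε, h]
  refine ⟨∑ i, ε i, ?_, ?_⟩
  · rw [htr]
    push_cast
    exact Finset.sum_congr rfl fun i _ => hμε i
  · rw [hdeg, ← hn']
    calc |∑ i, ε i| ≤ ∑ i, |ε i| := Finset.abs_sum_le_sum_abs _ _
      _ = ∑ _i : Fin n', (1 : ℤ) := by
          refine Finset.sum_congr rfl fun i _ => ?_
          simp only [hε]
          split_ifs <;> simp
      _ = (n' : ℤ) := by simp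

end Cfsg.Agent.Helper17.M11
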