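import Mathlib
import Cfsg.Prelude.Def_Blocks
import Cfsg.Agent.Lib.Helper24.CharLinear
import Cfsg.Agent.Lib.Helper24.CharComplete
import Cfsg.Agent.Lib.Helper18.GaloisConj
import Cfsg.Agent.Lib.Helper18.GaloisRat
import Cfsg.Agent.Lib.Helper16.ITODefs

/-!
# S4707 (Ito, degree 2p), PIECE RAT (core): exceptional characters are integer-valued on `p`-regular
elements, with the Galois stability of `Y` (piece GALY) as a hypothesis   (helper24)
-/

set_option autoImplicit false
set_option linter.unusedSectionVars false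
set_option linter.unusedVariables false

namespace Cfsg.Agent.Helper16.ITO

open scoped ComplexConjugate
open Cfsg Cfsg.Agent.Helper24

universe u

namespace RAT

/-- a rational algebraic integer is an integer -/
theorem int_of_integral_rat (q : ℚ) (hq : IsIntegral ℤ (q : ℂ)) : ∃ z : ℤ, q = z := by
  have h1 : IsIntegral ℤ q := by
    have : (algebraMap ℚ ℂ) q = (q : ℂ) := rfl
    rw [← this] at hq
    exact (isIntegral_algebraMap_iff (algebraMap ℚ ℂ).injective).mp hq
  obtain ⟨z, hz⟩ := IsIntegrallyClosed.isIntegral_iff.mp h1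
  exact ⟨z, by rw [← hz]; simp⟩

variable {G : Type u} [Group G] [Fintype G]

/-- a character value fixed by all the power twists prime to `|G|` is a rational integer -/
theorem int_of_forall_pow {χ : G → ℂ} (hχ : IsCharacter G χ) (g : G)
    (h : ∀ k : ℕ, Nat.Coprime k (Nat.card G) → χ (g ^ k) = χ g) : ∃ n : ℤ, χ g = (n : ℂ) := by
  have hint : IsIntegral ℤ (χ g) := isIntegral_of_isCharacter hχ g
  obtain ⟨n, ρ, rfl⟩ := hχ
  obtain ⟨μ, hμ, hk, -⟩ := exists_roots_of_unity ρ g
  have h1 : ρ.character g = ∑ i, μ i := by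
    have := hk 1
    simpa using this
  obtain ⟨q, hq⟩ := Cfsg.Agent.Helper18.exists_rat_of_forall_coprime_eq
    (Nat.card_pos (α := G)) μ hμ (fun k hkc => by rw [← hk k, ← h1]; exact h k hkc)
  rw [← h1] at hq
  rw [hq] at hint
  obtain ⟨z, hz⟩ := int_of_integral_rat q hint
  refine ⟨z, ?_⟩
  rw [hq, hz]
  simp

variable {p : ℕ} [Fact p.Prime] {P : Subgroup G}

/-- PIECE RAT with the statement of piece GALY as a hypothesis. -/
theorem int_value_core (D : B0Data p P)
    (hgal : ∀ {k : ℕ} (hk : Nat.Coprime (Nat.card G) k) {ζ : IrrCharacter G}, ζ ∈ D.Y →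
      (⟨fun g => (ζ : G → ℂ) (g ^ k), Cfsg.Agent.Helper18.isIrrCharacter_comp_pow ζ.2 hk⟩ :
        IrrCharacter G) ∈ D.Y)
    {ζ : IrrCharacter G} (hζ : ζ ∈ D.Y) {g : G} (hg : ¬ p ∣ orderOf g) :
    ∃ n : ℤ, (ζ : G → ℂ) g = (n : ℂ) := by
  apply int_of_forall_pow (isCharacter_of_isIrrCharacter ζ.2) g
  intro k hk
  have hk' : Nat.Coprime (Nat.card G) k := hk.symm
  have hmem := hgal hk' hζ
  exact D.regY _ hmem ζ hζ g hg

end RAT

end Cfsg.Agent.Helper16.ITO
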