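import Mathlib
import Cfsg.Prelude.Def_Blocks
import Cfsg.Agent.Lib.Helper24.CharLinear
import Cfsg.Agent.Lib.Helper24.CharComplete
import Cfsg.Agent.Lib.Helper18.GaloisConj
import Cfsg.Agent.Lib.Helper24.ITORATCore

/-!
# Simple groups of order 7920, PIECE T6: rationality from uniqueness of the degree   (helper24)
-/

set_option autoImplicit false
set_option linter.unusedSectionVars false
set_option linter.unusedVariables false

namespace Cfsg.Agent.Helper17.M11

open scoped ComplexConjugate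
open Cfsg Cfsg.Agent.Helper24

universe u

variable {G : Type u} [Group G] [Fintype G]

/-- PIECE T6: if every irreducible character of the same degree as `χ` agrees with `χ` on `⟨g⟩`, then `χ(g) ∈ ℤ`. -/
theorem int_of_unique (χ : IrrCharacter G) (g : G)
    (h : ∀ ψ : IrrCharacter G, charDegree (ψ : G → ℂ) = charDegree (χ : G → ℂ) →
      ∀ k : ℕ, (ψ : G → ℂ) (g ^ k) = (χ : G → ℂ) (g ^ k)) :
    ∃ n : ℤ, (χ : G → ℂ) g = (n : ℂ) := by
  apply Cfsg.Agent.Helper16.ITO.RAT.int_of_forall_pow (isCharacter_of_isIrrCharacter χ.2) g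
  intro k hk
  have hk' : Nat.Coprime (Nat.card G) k := hk.symm
  set ψ : IrrCharacter G :=
    ⟨fun x => (χ : G → ℂ) (x ^ k), Cfsg.Agent.Helper18.isIrrCharacter_comp_pow χ.2 hk'⟩ with hψ
  have hdeg : charDegree (ψ : G → ℂ) = charDegree (χ : G → ℂ) := by
    unfold charDegree
    show ⌊((χ : G → ℂ) (1 ^ k)).re⌋₊ = _
    rw [one_pow]
  have h1 := h ψ hdeg 1
  rw [pow_one] at h1
  exact h1

end Cfsg.Agent.Helper17.M11
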