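import Mathlib
import Cfsg.Prelude.Def_Blocks
import Cfsg.Agent.Lib.Helper24.CharLinear
import Cfsg.Agent.Lib.Helper24.CharComplete
import Cfsg.Agent.Lib.Helper24.CharIntegral
import Cfsg.Agent.Lib.Helper24.ITORATCore

/-!
# Simple groups of order 7920, PIECE T8: integrality of the central character at an integer value   (helper24)
-/

set_option autoImplicit false
set_option linter.unusedSectionVars false
set_option linter.unusedVariables false

namespace Cfsg.Agent.Helper17.M11

open scoped ComplexConjugate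
open Cfsg Cfsg.Agent.Helper24

universe u

variable {G : Type u} [Group G] [Fintype G]

/-- PIECE T8: integrality of the central character at a rational integer value. -/
theorem centralChar_dvd (χ : IrrCharacter G) (g : G) {n : ℤ} (hn : (χ : G → ℂ) g = (n : ℂ)) :
    ((charDegree (χ : G → ℂ) : ℤ) * (Nat.card (Subgroup.centralizer ({g} : Set G)) : ℤ)) ∣
      (Nat.card G : ℤ) * n := by
  set d := charDegree (χ : G → ℂ) with hd
  set C := Subgroup.centralizer ({g} : Set G) with hC
  have hd0 : 0 < d := charDegree_pos χ.2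
  have hχ1 : (χ : G → ℂ) 1 = (d : ℂ) := irr_one_eq_charDegree χ.2
  have hint : IsIntegral ℤ (centralChar (χ : G → ℂ) g) := isIntegral_centralChar χ.2 g
  set q : ℚ := (C.index : ℚ) * (n : ℚ) / (d : ℚ) with hq
  have hqc : centralChar (χ : G → ℂ) g = (q : ℂ) := by
    unfold centralChar
    rw [hn, hχ1, hq]
    push_cast
    rfl
  rw [hqc] at hint
  obtain ⟨m, hm⟩ := Cfsg.Agent.Helper16.ITO.RAT.int_of_integral_rat q hint
  have hdq : (d : ℚ) ≠ 0 := by exact_mod_cast hd0.ne'
  have h1 : (C.index : ℚ) * (n : ℚ) = (m : ℚ) * (d : ℚ) := by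
    rw [← hm, hq]
    field_simp
  have h2 : (C.index : ℤ) * n = m * (d : ℤ) := by exact_mod_cast h1
  have h3 : C.index * Nat.card C = Nat.card G := Subgroup.index_mul_card C
  refine ⟨m, ?_⟩
  have h4 : (Nat.card G : ℤ) = (C.index : ℤ) * (Nat.card C : ℤ) := by exact_mod_cast h3.symm
  rw [h4]
  calc (C.index : ℤ) * (Nat.card C : ℤ) * n = ((C.index : ℤ) * n) * (Nat.card C : ℤ) := by ring
    _ = (m * (d : ℤ)) * (Nat.card C : ℤ) := by rw [h2]
    _ = (d : ℤ) * (Nat.card C : ℤ) * m := by ring

end Cfsg.Agent.Helper17.M11
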