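import Mathlib
import Cfsg.Agent.Lib.Helper24.CharBasic
import Cfsg.Agent.Lib.Helper24.CharLinear
import Cfsg.Agent.Lib.Helper24.CharComplete
import Cfsg.Agent.Lib.Helper16.KF9Defs

/-!
# S3805 (helper24 for helper16): common core of the character pieces RAT3, RAT6, MOD3, MOD2.
-/

set_option autoImplicit false
set_option linter.unusedSectionVars false
set_option linter.unusedVariables false

namespace Cfsg.Agent.Helper16.KF9

open Cfsg Cfsg.Agent.Helper24
open scoped ComplexConjugate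

universe u v

section CharCore

variable {G : Type u} [Group G] {V : Type v} [AddCommGroup V] [Module ℂ V]
  [FiniteDimensional ℂ V] (ρ : Representation ℂ G V)

/-- if `g ^ m = 1` then the character values at the powers of `g` are the power sums of
`finrank` many `m`-th roots of unity -/
theorem charcore_roots (g : G) {m : ℕ} (hm : 0 < m) (hg : g ^ m = 1) :
    ∃ μ : Fin (Module.finrank ℂ V) → ℂ, (∀ i, μ i ^ m = 1) ∧
      ∀ k : ℕ, ρ.character (g ^ k) = ∑ i, μ i ^ k := by
  obtain ⟨n, b, μ, hμ, hb⟩ :=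
    exists_eigenbasis_of_pow_eq_one (ρ g) hm (by rw [← map_pow, hg, map_one])
  have hn : Module.finrank ℂ V = n := finrank_eq_of_basis b
  subst hn
  refine ⟨μ, hμ, ?_⟩
  intro k
  apply trace_eq_sum_of_eigenbasis b
  intro i
  rw [map_pow]
  induction k with
  | zero => simp
  | succ k ih =>
    rw [pow_succ, Module.End.mul_apply, hb i, map_smul, ih, smul_smul, pow_succ]
    ring_nf

/-- an algebraic integer `z` with `2 z ∈ ℤ` is an integer -/
theorem charcore_int_of_two_mul (z : ℂ) (hz : IsIntegral ℤ z) (N : ℤ) (h : 2 * z = (N : ℂ)) :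
    ∃ k : ℤ, z = (k : ℂ) := by
  have hz' : z = (((N : ℚ) / 2 : ℚ) : ℂ) := by
    push_cast
    rw [← h]; ring
  have h1 : IsIntegral ℤ ((N : ℚ) / 2 : ℚ) := by
    have h2 : (algebraMap ℚ ℂ) ((N : ℚ) / 2 : ℚ) = z := by rw [hz']; rfl
    rw [← h2] at hz
    exact (isIntegral_algebraMap_iff (algebraMap ℚ ℂ).injective).mp hz
  obtain ⟨k, hk⟩ := IsIntegrallyClosed.isIntegral_iff.mp h1
  refine ⟨k, ?_⟩
  rw [hz', ← hk]; simp

/-- a root of unity is an algebraic integer -/
theorem charcore_integral_of_pow {μ : ℂ} {m : ℕ} (hm : 0 < m) (h : μ ^ m = 1) : IsIntegral ℤ μ := by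
  refine IsIntegral.of_pow (n := m) hm ?_
  rw [h]
  exact isIntegral_one

/-- a cube root of unity is `1` or a root of `x² + x + 1` -/
theorem charcore_cube {μ : ℂ} (h : μ ^ 3 = 1) : μ = 1 ∨ μ ^ 2 + μ + 1 = 0 := by
  have hfac : (μ - 1) * (μ ^ 2 + μ + 1) = 0 := by
    have h1 : (μ - 1) * (μ ^ 2 + μ + 1) = μ ^ 3 - 1 := by ring
    rw [h1, h, sub_self]
  rcases mul_eq_zero.mp hfac with h0 | h0
  · left; exact sub_eq_zero.mp h0
  · right; exact h0

/-- a sixth root of unity is `±1` or a root of `x² ± x + 1` -/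
theorem charcore_sixth {μ : ℂ} (h : μ ^ 6 = 1) :
    μ = 1 ∨ μ = -1 ∨ μ ^ 2 + μ + 1 = 0 ∨ μ ^ 2 - μ + 1 = 0 := by
  have hfac : (μ - 1) * ((μ + 1) * ((μ ^ 2 + μ + 1) * (μ ^ 2 - μ + 1))) = 0 := by
    have h1 : (μ - 1) * ((μ + 1) * ((μ ^ 2 + μ + 1) * (μ ^ 2 - μ + 1))) = μ ^ 6 - 1 := by ring
    rw [h1, h, sub_self]
  rcases mul_eq_zero.mp hfac with h0 | h0
  · left; exact sub_eq_zero.mp h0
  rcases mul_eq_zero.mp h0 with h0 | h0
  · right; left; exact eq_neg_of_add_eq_zero_left h0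
  rcases mul_eq_zero.mp h0 with h0 | h0
  · right; right; left; exact h0
  · right; right; right; exact h0

end CharCore

end Cfsg.Agent.Helper16.KF9
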