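import Mathlib
import Cfsg.Agent.Lib.Helper17.SLkDefs

/-!
# S2479, piece SLK-BEZ (helper24): Bezout in a commutative group
-/

set_option autoImplicit false

open Polynomial

namespace Cfsg.Agent.Helper17.SLk

open Cfsg.Agent.Helper17.GLk

universe u

theorem slk_bez_two {Z : Type*} [CommGroup Z] (D : Subgroup Z) (m k : ℕ)
    (hm : ∀ c : Z, c ^ m ∈ D) (hk : ∀ c : Z, c ^ k ∈ D) (c : Z) : c ^ Nat.gcd m k ∈ D := by
  have h1 : ((Nat.gcd m k : ℕ) : ℤ) = m * Nat.gcdA m k + k * Nat.gcdB m k := Nat.gcd_eq_gcd_ab m k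
  have h2 : c ^ Nat.gcd m k = (c ^ m) ^ Nat.gcdA m k * (c ^ k) ^ Nat.gcdB m k := by
    rw [← zpow_natCast c (Nat.gcd m k), h1, zpow_add, zpow_mul, zpow_mul, zpow_natCast, zpow_natCast]
  rw [h2]
  exact D.mul_mem (D.zpow_mem (hm c) _) (D.zpow_mem (hk c) _)

/-- PIECE SLK-BEZ: Bezout in a commutative group. -/
theorem pow_gcd_mem {Z : Type*} [CommGroup Z] (D : Subgroup Z) {ι : Type*} (s : Finset ι)
    (e : ι → ℕ) (h : ∀ i ∈ s, ∀ c : Z, c ^ e i ∈ D) (c : Z) : c ^ s.gcd e ∈ D := by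
  classical
  revert c
  induction s using Finset.induction_on with
  | empty =>
    intro c
    rw [Finset.gcd_empty, pow_zero]
    exact D.one_mem
  | insert a s ha ih =>
    intro c
    rw [Finset.gcd_insert]
    have h1 : ∀ c : Z, c ^ e a ∈ D := h a (Finset.mem_insert_self a s)
    have h2 : ∀ c : Z, c ^ s.gcd e ∈ D :=
      ih (fun i hi => h i (Finset.mem_insert_of_mem hi))
    exact slk_bez_two D (e a) (s.gcd e) h1 h2 c

end Cfsg.Agent.Helper17.SLk
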