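import Mathlib
import Cfsg.Agent.Lib.Helper17.SLkDefs

/-!
# S2479, piece SLK-CENT (helper24): a centralizer element from a unit of one factor of the decomposition
-/

set_option autoImplicit false

open Polynomial

namespace Cfsg.Agent.Helper17.SLk

open Cfsg.Agent.Helper17.GLk

universe u

variable {F : Type u} [Field F]

/-- an `F[X]`-linear endomorphism of (a module isomorphic to) the `F[X]`-module of `A` with non-zero
`F`-determinant gives an element of the centralizer of `A` with that determinant -/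
theorem slk_cent_transport {n : ℕ} (A : Matrix.GeneralLinearGroup (Fin n) F) {N : Type u}
    [AddCommGroup N] [Module F[X] N] [Module F N] [IsScalarTower F F[X] N]
    (φ : Module.AEval' (endOf A) ≃ₗ[F[X]] N) (m : N →ₗ[F[X]] N)
    (hdet : LinearMap.det (m.restrictScalars F) ≠ 0) :
    ∃ z : Matrix.GeneralLinearGroup (Fin n) F, z * A = A * z ∧
      (z : Matrix (Fin n) (Fin n) F).det = LinearMap.det (m.restrictScalars F) := by
  obtain ⟨ψ, hψdef⟩ : ∃ ψ : (Fin n → F) ≃ₗ[F] N,
      ψ = (Module.AEval'.of (endOf A)) ≪≫ₗ φ.restrictScalars F := ⟨_, rfl⟩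
  have hψ : ∀ v, ψ (endOf A v) = (X : F[X]) • ψ v := by
    intro v
    rw [hψdef]
    simp only [LinearEquiv.trans_apply, LinearEquiv.restrictScalars_apply]
    rw [← Module.AEval'.X_smul_of, map_smul]
  have hψs : ∀ w : N, ψ.symm ((X : F[X]) • w) = endOf A (ψ.symm w) := by
    intro w
    apply ψ.injective
    rw [hψ, LinearEquiv.apply_symm_apply, LinearEquiv.apply_symm_apply]
  obtain ⟨ζ, hζdef⟩ : ∃ ζ : (Fin n → F) →ₗ[F] (Fin n → F),
      ζ = (ψ.symm : N →ₗ[F] (Fin n → F)) ∘ₗ (m.restrictScalars F) ∘ₗ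
        (ψ.symm.symm : (Fin n → F) →ₗ[F] N) := ⟨_, rfl⟩
  have hζdet : LinearMap.det ζ = LinearMap.det (m.restrictScalars F) := by
    rw [hζdef]
    exact LinearMap.det_conj (m.restrictScalars F) ψ.symm
  have hζapp : ∀ v, ζ v = ψ.symm (m (ψ v)) := by
    intro v
    rw [hζdef]
    rfl
  have hcomm : ∀ v, ζ (endOf A v) = endOf A (ζ v) := by
    intro v
    rw [hζapp, hζapp, hψ, map_smul, hψs]
  obtain ⟨P, hP⟩ : ∃ P : Matrix (Fin n) (Fin n) F, P = LinearMap.toMatrix' ζ := ⟨_, rfl⟩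
  have hPdet : P.det = LinearMap.det (m.restrictScalars F) := by
    rw [hP, LinearMap.det_toMatrix', hζdet]
  have hPA : P * (A : Matrix (Fin n) (Fin n) F) = (A : Matrix (Fin n) (Fin n) F) * P := by
    have e1 : P * (A : Matrix (Fin n) (Fin n) F) =
        LinearMap.toMatrix' (ζ ∘ₗ Matrix.toLin' (A : Matrix (Fin n) (Fin n) F)) := by
      rw [LinearMap.toMatrix'_comp, LinearMap.toMatrix'_toLin', hP]
    have e2 : (A : Matrix (Fin n) (Fin n) F) * P =
        LinearMap.toMatrix' (Matrix.toLin' (A : Matrix (Fin n) (Fin n) F) ∘ₗ ζ) := by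
      rw [LinearMap.toMatrix'_comp, LinearMap.toMatrix'_toLin', hP]
    rw [e1, e2]
    congr 1
    refine LinearMap.ext (fun v => ?_)
    exact hcomm v
  refine ⟨Matrix.GeneralLinearGroup.mkOfDetNeZero P (by rw [hPdet]; exact hdet), ?_, ?_⟩
  · apply Units.ext
    rw [Units.val_mul, Units.val_mul]
    exact hPA
  · exact hPdet

/-- multiplication by `r` on the `F[X]`-module `F[X] ⧸ (g)`, restricted to `F`, is `mulQ g r` -/
theorem slk_cent_smul_eq (g r : F[X]) :
    ((r • (LinearMap.id : (F[X] ⧸ Ideal.span {g}) →ₗ[F[X]] (F[X] ⧸ Ideal.span {g}))).restrictScalars F)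
      = mulQ g r := by
  refine LinearMap.ext (fun x => ?_)
  obtain ⟨y, rfl⟩ := Ideal.Quotient.mk_surjective x
  show r • (Ideal.Quotient.mk (Ideal.span {g}) y) = Ideal.Quotient.mk (Ideal.span {g}) r *
    Ideal.Quotient.mk (Ideal.span {g}) y
  rw [← map_mul]
  rfl

/-- PIECE SLK-CENT. -/
theorem exists_centralizer_det
    (hpi : ∀ {ι : Type u} [Fintype ι] {M : ι → Type u} [∀ i, AddCommGroup (M i)]
      [∀ i, Module F (M i)] [∀ i, FiniteDimensional F (M i)] (f : ∀ i, M i →ₗ[F] M i),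
      LinearMap.det (LinearMap.pi fun i => (f i).comp (LinearMap.proj i)) =
        ∏ i, LinearMap.det (f i))
    {n : ℕ} (A : Matrix.GeneralLinearGroup (Fin n) F) {ι : Type u} [Fintype ι]
    {p : ι → F[X]} {e : ι → ℕ} (h : IsDecomp (endOf A) ι p e) (i : ι) (r : F[X])
    (hr : LinearMap.det (mulQ (p i ^ e i) r) ≠ 0) :
    ∃ z : Matrix.GeneralLinearGroup (Fin n) F, z * A = A * z ∧
      (z : Matrix (Fin n) (Fin n) F).det = LinearMap.det (mulQ (p i ^ e i) r) := by
  classical
  obtain ⟨hirr, _, ⟨φ⟩⟩ := h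
  have hne : ∀ k, p k ^ e k ≠ 0 := fun k => pow_ne_zero _ (hirr k).ne_zero
  haveI hfd : ∀ k, FiniteDimensional F (F[X] ⧸ Ideal.span {p k ^ e k}) :=
    fun k => (AdjoinRoot.powerBasis (hne k)).finite
  -- the coefficients
  obtain ⟨c, hc⟩ : ∃ c : ι → F[X], c = fun k => if k = i then r else 1 := ⟨_, rfl⟩
  -- the `F[X]`-linear map
  obtain ⟨m, hm⟩ : ∃ m : ((k : ι) → F[X] ⧸ Ideal.span {p k ^ e k}) →ₗ[F[X]]
      ((k : ι) → F[X] ⧸ Ideal.span {p k ^ e k}),
      m = LinearMap.pi fun k => ((c k) • (LinearMap.id :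
        (F[X] ⧸ Ideal.span {p k ^ e k}) →ₗ[F[X]] (F[X] ⧸ Ideal.span {p k ^ e k}))).comp
          (LinearMap.proj k) := ⟨_, rfl⟩
  have hmF : m.restrictScalars F = LinearMap.pi fun k => (mulQ (p k ^ e k) (c k)).comp
      (LinearMap.proj k) := by
    refine LinearMap.ext (fun x => ?_)
    funext k
    rw [hm]
    have := LinearMap.congr_fun (slk_cent_smul_eq (p k ^ e k) (c k)) (x k)
    exact this
  have hdetm : LinearMap.det (m.restrictScalars F) = LinearMap.det (mulQ (p i ^ e i) r) := by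
    rw [hmF, hpi]
    rw [Finset.prod_eq_single i]
    · rw [hc]
      simp only [if_pos]
    · intro k _ hki
      have h1 : c k = 1 := by rw [hc]; simp only [if_neg hki]
      rw [h1]
      have h2 : mulQ (p k ^ e k) 1 = LinearMap.id := by
        refine LinearMap.ext (fun x => ?_)
        show Ideal.Quotient.mk (Ideal.span {p k ^ e k}) 1 * x = x
        rw [map_one, one_mul]
      rw [h2, LinearMap.det_id]
    · intro hi
      exact absurd (Finset.mem_univ i) hi
  rw [← hdetm] at hr ⊢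
  exact slk_cent_transport A φ m hr

end Cfsg.Agent.Helper17.SLk
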