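import Mathlib
import Cfsg.Agent.Lib.Helper15.PSLkDefs

/-!
# S2480, piece PSLK-EXPAND (helper24): an invariant monic polynomial with nonzero constant term is a
polynomial in `X ^ e`
-/

set_option autoImplicit false

open Polynomial

namespace Cfsg.Agent.Helper15.PSLk

open Cfsg.Agent.Helper17.GLk Cfsg.Agent.Helper17.SLk

universe u

section pieces
variable {F : Type u} [Field F]

/-- PIECE PSLK-EXPAND. -/
theorem expand_contract_of_inv (c : Fˣ) (he : 1 ≤ orderOf c) (f : F[X]) (hf : f.Monic)
    (h0 : f.coeff 0 ≠ 0) (hinv : scaleRoots f (c : F) = f) :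
    expand F (orderOf c) (contract (orderOf c) f) = f ∧
      f.natDegree = orderOf c * (contract (orderOf c) f).natDegree ∧
      (contract (orderOf c) f).Monic ∧ (contract (orderOf c) f).coeff 0 = f.coeff 0 := by
  obtain ⟨e, hedef⟩ : ∃ e, e = orderOf c := ⟨_, rfl⟩
  rw [← hedef] at he ⊢
  have he0 : e ≠ 0 := by omega
  -- the coefficient relation
  have hco : ∀ k, f.coeff k * (c : F) ^ (f.natDegree - k) = f.coeff k := by
    intro k
    have := congrArg (fun g : F[X] => g.coeff k) hinv
    simp only [coeff_scaleRoots] at this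
    exact this
  have hpow : ∀ j : ℕ, (c : F) ^ j = 1 → e ∣ j := by
    intro j hj
    rw [hedef]
    apply orderOf_dvd_of_pow_eq_one
    apply Units.ext
    rw [Units.val_pow_eq_pow_val, hj, Units.val_one]
  have hN : e ∣ f.natDegree := by
    apply hpow
    have := hco 0
    rw [Nat.sub_zero] at this
    exact mul_left_cancel₀ h0 (by rw [this, mul_one])
  have hdiv : ∀ k, f.coeff k ≠ 0 → e ∣ k := by
    intro k hk
    have hle : k ≤ f.natDegree := le_natDegree_of_ne_zero hk
    have h1 : e ∣ f.natDegree - k := by
      apply hpow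
      exact mul_left_cancel₀ hk (by rw [hco k, mul_one])
    have h2 : f.natDegree - (f.natDegree - k) = k := by omega
    rw [← h2]
    exact (Nat.dvd_sub hN h1)
  -- part 1
  have hexp : expand F e (contract e f) = f := by
    ext n
    rw [coeff_expand (Nat.pos_of_ne_zero he0), coeff_contract he0]
    split_ifs with h
    · rw [Nat.div_mul_cancel h]
    · by_contra hne
      exact h (hdiv n (Ne.symm hne))
  -- part 2
  have hdeg : f.natDegree = e * (contract e f).natDegree := by
    have := natDegree_expand e (contract e f)
    rw [hexp] at this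
    rw [this, mul_comm]
  refine ⟨hexp, hdeg, ?_, ?_⟩
  · show (contract e f).leadingCoeff = 1
    rw [leadingCoeff, coeff_contract he0, mul_comm, ← hdeg]
    exact hf
  · rw [coeff_contract he0, zero_mul]

end pieces

end Cfsg.Agent.Helper15.PSLk
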