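import Mathlib
import Cfsg.Agent.Lib.Helper15.PSLkDefs

/-!
# S2480 piece PSLK-THETA: the contraction map on invariant tuples
-/

open Polynomial

namespace Cfsg.Agent.Helper15.PSLk

open Cfsg.Agent.Helper17.GLk Cfsg.Agent.Helper17.SLk

universe u

section pieces
variable {F : Type u} [Field F]

/-- transfer of a sum along `Fin.castLE` when the tail vanishes -/
theorem pslk_theta_sum_castLE {m n : ℕ} (hle : m ≤ n) (φ : Fin n → ℕ)
    (h : ∀ j : Fin n, m ≤ j.val → φ j = 0) :
    ∑ j : Fin n, φ j = ∑ j : Fin m, φ (Fin.castLE hle j) := by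
  have h1 : ∑ j : Fin m, φ (Fin.castLE hle j) =
      ∑ j ∈ (Finset.univ.map (Fin.castLEEmb hle)), φ j := by
    rw [Finset.sum_map]; rfl
  rw [h1]
  symm
  apply Finset.sum_subset (Finset.subset_univ _)
  intro j _ hj
  apply h
  by_contra hlt
  rw [not_le] at hlt
  apply hj
  rw [Finset.mem_map]
  exact ⟨⟨j.val, hlt⟩, Finset.mem_univ _, by ext; simp⟩

/-- transfer of a product along `Fin.castLE` when the tail is trivial -/
theorem pslk_theta_prod_castLE {M : Type*} [CommMonoid M] {m n : ℕ} (hle : m ≤ n) (φ : Fin n → M)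
    (h : ∀ j : Fin n, m ≤ j.val → φ j = 1) :
    ∏ j : Fin n, φ j = ∏ j : Fin m, φ (Fin.castLE hle j) := by
  have h1 : ∏ j : Fin m, φ (Fin.castLE hle j) =
      ∏ j ∈ (Finset.univ.map (Fin.castLEEmb hle)), φ j := by
    rw [Finset.prod_map]; rfl
  rw [h1]
  symm
  apply Finset.prod_subset (Finset.subset_univ _)
  intro j _ hj
  apply h
  by_contra hlt
  rw [not_le] at hlt
  apply hj
  rw [Finset.mem_map]
  exact ⟨⟨j.val, hlt⟩, Finset.mem_univ _, by ext; simp⟩

/-- entries beyond `m` are trivial -/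
theorem pslk_theta_entry_one {n : ℕ} (e m : ℕ) (hmn : n = e * m) (τ : Fin n → F[X])
    (hmon : ∀ i, (τ i).Monic) (hsum : ∑ i : Fin n, (1 + (i : ℕ)) * (τ i).natDegree = n)
    (hdeg : ∀ i, e ∣ (τ i).natDegree) (j : Fin n) (hj : m ≤ j.val) : τ j = 1 := by
  have h1 : (1 + (j : ℕ)) * (τ j).natDegree ≤ n := by
    calc (1 + (j : ℕ)) * (τ j).natDegree ≤ ∑ i : Fin n, (1 + (i : ℕ)) * (τ i).natDegree :=
        Finset.single_le_sum (f := fun i : Fin n => (1 + (i : ℕ)) * (τ i).natDegree)
          (fun i _ => Nat.zero_le _) (Finset.mem_univ j)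
      _ = n := hsum
  obtain ⟨d, hd⟩ := hdeg j
  rcases Nat.eq_zero_or_pos d with h0 | hpos
  · have : (τ j).natDegree = 0 := by rw [hd, h0, mul_zero]
    exact (Polynomial.Monic.natDegree_eq_zero (hmon j)).mp this
  · exfalso
    have h1' : (1 + (j : ℕ)) * (e * d) ≤ e * m := by
      rw [← hd]; exact le_of_le_of_eq h1 hmn
    have h2 : (1 + m) * (e * 1) ≤ (1 + (j : ℕ)) * (e * d) :=
      Nat.mul_le_mul (by omega) (Nat.mul_le_mul le_rfl hpos)
    have h3 : (1 + m) * (e * 1) = e * m + e := by ring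
    have he : 1 ≤ e := by
      rcases Nat.eq_zero_or_pos e with h | h
      · exfalso
        rw [h, zero_mul] at hmn
        exact absurd j.isLt (by omega)
      · exact h
    omega

theorem pslk_theta_uconst_one : uconst (1 : F[X]) = 1 := by
  unfold uconst
  simp

theorem pslk_theta_dvd_gam {n : ℕ} (f : Fin n → F[X]) (d : ℕ) :
    d ∣ gam f ↔ ∀ j : Fin n, f j ≠ 1 → d ∣ (j : ℕ) + 1 := by
  classical
  unfold gam
  rw [Finset.dvd_gcd_iff]
  simp [Finset.mem_filter]

/-- PIECE PSLK-THETA. -/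
theorem theta_facts
    (hexp : ∀ (c : Fˣ), 1 ≤ orderOf c → ∀ (f : F[X]), f.Monic → f.coeff 0 ≠ 0 →
      scaleRoots f (c : F) = f →
      expand F (orderOf c) (contract (orderOf c) f) = f ∧
      f.natDegree = orderOf c * (contract (orderOf c) f).natDegree ∧
      (contract (orderOf c) f).Monic ∧ (contract (orderOf c) f).coeff 0 = f.coeff 0)
    (husr : ∀ (e : ℕ), 1 ≤ e → ∀ f g : F[X], f.natDegree = e * g.natDegree →
      g.coeff 0 = f.coeff 0 → uconst (scaleRoots g ((-1) ^ (e - 1))) = uconst f)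
    (c : Fˣ) (he : 1 ≤ orderOf c) {m n : ℕ} (hmn : n = orderOf c * m) (hle : m ≤ n) :
    (∀ τ : Fin n → F[X], τ ∈ Tup F n 1 n → InvT (c : F) τ →
      theta (orderOf c) hle τ ∈ Tup F m 1 m ∧ gam (theta (orderOf c) hle τ) = gam τ ∧
        detT (theta (orderOf c) hle τ) = detT τ) ∧
    (∀ τ τ' : Fin n → F[X], τ ∈ Tup F n 1 n → InvT (c : F) τ → τ' ∈ Tup F n 1 n →
      InvT (c : F) τ' → theta (orderOf c) hle τ = theta (orderOf c) hle τ' → τ = τ') := by
  obtain ⟨e, hedef⟩ : ∃ e, e = orderOf c := ⟨_, rfl⟩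
  rw [← hedef] at he hmn ⊢
  obtain ⟨s, hsdef⟩ : ∃ s : F, s = (-1) ^ (e - 1) := ⟨_, rfl⟩
  have hs0 : s ≠ 0 := by rw [hsdef]; exact pow_ne_zero _ (neg_ne_zero.mpr one_ne_zero)
  have hss : s * s = 1 := by
    rw [hsdef, ← pow_add, ← two_mul, pow_mul]; simp
  -- per-entry facts
  have key : ∀ τ : Fin n → F[X], τ ∈ Tup F n 1 n → InvT (c : F) τ → ∀ j : Fin n,
      expand F e (contract e (τ j)) = τ j ∧
      (τ j).natDegree = e * (contract e (τ j)).natDegree ∧
      (contract e (τ j)).Monic ∧ (contract e (τ j)).coeff 0 = (τ j).coeff 0 := by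
    intro τ hτ hinv j
    have := hexp c (hedef ▸ he) (τ j) (hτ.1 j).1 (hτ.1 j).2 (hinv j)
    rw [← hedef] at this
    exact this
  have tail : ∀ τ : Fin n → F[X], τ ∈ Tup F n 1 n → InvT (c : F) τ → ∀ j : Fin n,
      m ≤ j.val → τ j = 1 := by
    intro τ hτ hinv j hj
    exact pslk_theta_entry_one e m hmn τ (fun i => (hτ.1 i).1) hτ.2
      (fun i => ⟨_, (key τ hτ hinv i).2.1⟩) j hj
  have thdef : ∀ (τ : Fin n → F[X]) (j : Fin m),
      theta e hle τ j = scaleRoots (contract e (τ (Fin.castLE hle j))) s := by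
    intro τ j; rw [hsdef]; rfl
  -- theta j = 1 iff tau (castLE j) = 1
  have one_iff : ∀ τ : Fin n → F[X], τ ∈ Tup F n 1 n → InvT (c : F) τ → ∀ j : Fin m,
      theta e hle τ j = 1 ↔ τ (Fin.castLE hle j) = 1 := by
    intro τ hτ hinv j
    obtain ⟨k1, k2, k3, k4⟩ := key τ hτ hinv (Fin.castLE hle j)
    have hm1 : (theta e hle τ j).Monic := by
      rw [thdef]; exact (monic_scaleRoots_iff s).mpr k3
    have hd1 : (theta e hle τ j).natDegree = (contract e (τ (Fin.castLE hle j))).natDegree := by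
      rw [thdef, natDegree_scaleRoots]
    rw [← Polynomial.Monic.natDegree_eq_zero hm1,
      ← Polynomial.Monic.natDegree_eq_zero (hτ.1 (Fin.castLE hle j)).1, hd1, k2]
    constructor
    · intro h; rw [h, mul_zero]
    · intro h
      rcases Nat.mul_eq_zero.mp h with h | h
      · omega
      · exact h
  refine ⟨?_, ?_⟩
  · intro τ hτ hinv
    refine ⟨⟨?_, ?_⟩, ?_, ?_⟩
    · intro j
      obtain ⟨k1, k2, k3, k4⟩ := key τ hτ hinv (Fin.castLE hle j)
      refine ⟨?_, ?_⟩
      · rw [thdef]; exact (monic_scaleRoots_iff s).mpr k3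
      · rw [thdef, coeff_scaleRoots, k4]
        exact mul_ne_zero (hτ.1 _).2 (pow_ne_zero _ hs0)
    · -- the degree sum
      have hsum := hτ.2
      rw [pslk_theta_sum_castLE hle (fun j : Fin n => (1 + (j : ℕ)) * (τ j).natDegree)
        (fun j hj => by
          show (1 + (j : ℕ)) * (τ j).natDegree = 0
          rw [tail τ hτ hinv j hj, natDegree_one, mul_zero])] at hsum
      have h2 : e * ∑ j : Fin m, (1 + (j : ℕ)) * (theta e hle τ j).natDegree = e * m := by
        rw [Finset.mul_sum]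
        refine Eq.trans ?_ (le_antisymm (le_of_eq hsum) (le_of_eq hsum.symm) |>.trans hmn)
        apply Finset.sum_congr rfl
        intro j _
        obtain ⟨k1, k2, k3, k4⟩ := key τ hτ hinv (Fin.castLE hle j)
        show e * ((1 + (j : ℕ)) * (theta e hle τ j).natDegree) =
          (1 + ((Fin.castLE hle j : Fin n) : ℕ)) * (τ (Fin.castLE hle j)).natDegree
        rw [thdef, natDegree_scaleRoots, k2, Fin.val_castLE]
        ring
      exact Nat.eq_of_mul_eq_mul_left he h2
    · -- gam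
      apply Nat.dvd_antisymm
      · rw [pslk_theta_dvd_gam]
        intro j hj
        have hjm : j.val < m := by
          by_contra hcon
          exact hj (tail τ hτ hinv j (not_lt.mp hcon))
        have hcast : Fin.castLE hle ⟨j.val, hjm⟩ = j := by ext; simp
        have hne : theta e hle τ ⟨j.val, hjm⟩ ≠ 1 := by
          rw [Ne, one_iff τ hτ hinv, hcast]; exact hj
        exact (pslk_theta_dvd_gam (theta e hle τ) _).mp dvd_rfl ⟨j.val, hjm⟩ hne
      · rw [pslk_theta_dvd_gam]
        intro j hj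
        have hne : τ (Fin.castLE hle j) ≠ 1 := by
          rw [Ne, ← one_iff τ hτ hinv]; exact hj
        have := (pslk_theta_dvd_gam τ _).mp dvd_rfl (Fin.castLE hle j) hne
        simpa using this
    · -- detT
      unfold detT
      rw [pslk_theta_prod_castLE hle (fun j : Fin n => uconst (τ j) ^ ((j : ℕ) + 1))
        (fun j hj => by
          show uconst (τ j) ^ ((j : ℕ) + 1) = 1
          rw [tail τ hτ hinv j hj, pslk_theta_uconst_one, one_pow])]
      apply Finset.prod_congr rfl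
      intro j _
      obtain ⟨k1, k2, k3, k4⟩ := key τ hτ hinv (Fin.castLE hle j)
      show uconst (theta e hle τ j) ^ ((j : ℕ) + 1) =
        uconst (τ (Fin.castLE hle j)) ^ (((Fin.castLE hle j : Fin n) : ℕ) + 1)
      rw [Fin.val_castLE]
      congr 1
      exact husr e he (τ (Fin.castLE hle j)) (contract e (τ (Fin.castLE hle j))) k2 k4
  · intro τ τ' hτ hinv hτ' hinv' heq
    funext j
    by_cases hjm : j.val < m
    · have hcast : Fin.castLE hle ⟨j.val, hjm⟩ = j := by ext; simp
      have h1 := congrFun heq ⟨j.val, hjm⟩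
      rw [thdef, thdef, hcast] at h1
      have h2 : contract e (τ j) = contract e (τ' j) := by
        have := congrArg (fun p => scaleRoots p s) h1
        simp only [← scaleRoots_mul, hss, scaleRoots_one] at this
        exact this
      rw [← (key τ hτ hinv j).1, ← (key τ' hτ' hinv' j).1, h2]
    · rw [tail τ hτ hinv j (not_lt.mp hjm), tail τ' hτ' hinv' j (not_lt.mp hjm)]

end pieces

end Cfsg.Agent.Helper15.PSLk
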