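import Mathlib
import Cfsg.Agent.Lib.Helper15.S52Defs
import Cfsg.Agent.Lib.Helper12.SL2Pow

/-!
# S3452 piece S52-GOODTR (helper24): an element of order `p + 1` of `SL₂(p)` has a good trace
-/

set_option autoImplicit false
set_option linter.unusedVariables false

namespace Cfsg.Agent.Helper15.S52

open Cfsg.Agent.Helper2

theorem s52_goodtr_pow_eq_one {F : Type*} [Field F] (y : SL2 F) (k : ℕ)
    (h : y.1 ^ k = 1) : y ^ k = 1 := by
  apply Subtype.ext
  rw [Matrix.SpecialLinearGroup.coe_pow]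
  exact h

/-- no nonzero `a` has `a + a⁻¹ = tr y` -/
theorem s52_goodtr_no_root {F : Type*} [Field F] [Fintype F] {p : ℕ} [Fact p.Prime]
    (hF : Fintype.card F = p) (hp5 : 5 ≤ p) (y : SL2 F) (hy : orderOf y = p + 1)
    (a : F) (ha : a ≠ 0) : a + a⁻¹ ≠ y.1.trace := by
  intro has
  have hchar : CharP F p := charP_of_card_eq_prime hF
  have hdet : y.1.det = 1 := y.2
  have hroot : a ^ 2 - y.1.trace * a + 1 = 0 := by
    rw [← has]
    field_simp
    ring
  by_cases h1 : a ^ 2 = 1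
  · -- unipotent case: `y ^ (2p) = 1`
    have hpow := Cfsg.Agent.Helper12.pow_char_eq_smul_of_root y.1 hdet a hroot h1 p
    have h2 : y.1 ^ (2 * p) = 1 := by
      rw [mul_comm, pow_mul, hpow, smul_pow, one_pow, ← pow_mul, mul_comm p 2, pow_mul, h1,
        one_pow, one_smul]
    have h3 : y ^ (2 * p) = 1 := s52_goodtr_pow_eq_one y _ h2
    have h4 : p + 1 ∣ 2 * p := hy ▸ orderOf_dvd_of_pow_eq_one h3
    have hcop : Nat.Coprime (p + 1) p := by
      rw [Nat.coprime_comm]; simp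
    have h5 : p + 1 ∣ 2 := (hcop.dvd_of_dvd_mul_right h4)
    have := Nat.le_of_dvd (by norm_num) h5
    omega
  · -- split case: `y ^ (p - 1) = 1`
    have hfermat : a ^ (p - 1) = 1 := by
      have := FiniteField.pow_card_sub_one_eq_one a ha
      rwa [hF] at this
    have hk : a ^ (2 * (p - 1)) = 1 := by
      rw [mul_comm, pow_mul, hfermat, one_pow]
    have hpow := Cfsg.Agent.Helper12.pow_eq_smul_of_root y.1 hdet a hroot h1 (p - 1) hk
    rw [hfermat, one_smul] at hpow
    have h3 : y ^ (p - 1) = 1 := s52_goodtr_pow_eq_one y _ hpow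
    have h4 : p + 1 ∣ p - 1 := hy ▸ orderOf_dvd_of_pow_eq_one h3
    have := Nat.le_of_dvd (by omega) h4
    omega

/-- PIECE S52-GOODTR -/
theorem goodS_of_orderOf {F : Type*} [Field F] [Fintype F] {p : ℕ} [Fact p.Prime]
    (hF : Fintype.card F = p) (hp5 : 5 ≤ p) (y : SL2 F) (hy : orderOf y = p + 1) :
    GoodS y.1.trace := by
  refine ⟨?_, ?_⟩
  · intro hs
    have hdet : y.1.det = 1 := y.2
    have hsq := Cfsg.Agent.Helper12.sq_eq_of_det_one y.1 hdet
    rw [hs, zero_smul, zero_sub] at hsq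
    have h4 : y.1 ^ 4 = 1 := by
      have : y.1 ^ 4 = (y.1 * y.1) * (y.1 * y.1) := by
        rw [show (4 : ℕ) = 2 + 2 from rfl, pow_add, pow_two]
      rw [this, hsq]
      simp
    have h3 : y ^ 4 = 1 := s52_goodtr_pow_eq_one y _ h4
    have h5 : p + 1 ∣ 4 := hy ▸ orderOf_dvd_of_pow_eq_one h3
    have := Nat.le_of_dvd (by norm_num) h5
    omega
  · intro a ha
    refine ⟨s52_goodtr_no_root hF hp5 y hy a ha, ?_⟩
    intro h
    have hna : -a ≠ 0 := neg_ne_zero.2 ha
    apply s52_goodtr_no_root hF hp5 y hy (-a) hna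
    rw [inv_neg, ← neg_add, h, neg_neg]

end Cfsg.Agent.Helper15.S52
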