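import Mathlib
import Cfsg.Agent.Lib.Helper15.S52Defs

/-!
# S3452 piece S52-PSLU (helper24): the unipotent elements `us b` of `PSL₂(p)`
-/

set_option autoImplicit false
set_option linter.unusedVariables false

namespace Cfsg.Agent.Helper15.S52

open Cfsg.Agent.Helper2

theorem s52_pslu_ub_mul {F : Type*} [Field F] (a b : F) : ub F a * ub F b = ub F (a + b) := by
  apply Subtype.ext
  show (!![1, a; 0, 1] : Matrix (Fin 2) (Fin 2) F) * !![1, b; 0, 1] = !![1, a + b; 0, 1]
  ext i j
  fin_cases i <;> fin_cases j <;> simp [Matrix.mul_apply, Fin.sum_univ_two, add_comm]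

theorem s52_pslu_ub_zero {F : Type*} [Field F] : ub F 0 = 1 := by
  apply Subtype.ext
  show (!![1, 0; 0, 1] : Matrix (Fin 2) (Fin 2) F) = 1
  ext i j
  fin_cases i <;> fin_cases j <;> simp

theorem s52_pslu_ub_pow {F : Type*} [Field F] (b : F) (k : ℕ) : ub F b ^ k = ub F (k • b) := by
  induction k with
  | zero => rw [pow_zero, zero_smul, s52_pslu_ub_zero]
  | succ n ih => rw [pow_succ, ih, s52_pslu_ub_mul, succ_nsmul]

theorem s52_pslu_us_pow {F : Type*} [Field F] [Fintype F] (b : F) (k : ℕ) :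
    us F b ^ k = us F (k • b) := by
  unfold us
  rw [← map_pow, s52_pslu_ub_pow]

theorem s52_pslu_us_ne_one {F : Type*} [Field F] [Fintype F] (b : F) (hb : b ≠ 0) :
    us F b ≠ 1 := by
  intro h
  have h1 : ub F b ∈ Subgroup.center (SL2 F) := (mk_eq_one_iff F (ub F b)).1 h
  obtain ⟨r, hr, hrh⟩ := Matrix.SpecialLinearGroup.mem_center_iff.1 h1
  have h01 := congrFun (congrFun hrh 0) 1
  have h2 : (ub F b).1 0 1 = b := by
    show (!![1, b; 0, 1] : Matrix (Fin 2) (Fin 2) F) 0 1 = b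
    simp
  rw [h2] at h01
  have h3 : (Matrix.scalar (Fin 2) r) 0 1 = 0 := by
    simp [Matrix.scalar_apply]
  rw [h3] at h01
  exact hb h01.symm

/-- PIECE S52-PSLU -/
theorem us_facts {F : Type*} [Field F] [Fintype F] {p : ℕ} [Fact p.Prime]
    (hF : Fintype.card F = p) (hp2 : p ≠ 2) :
    orderOf (us F 1) = p ∧ ∀ b₀ : F, b₀ ≠ 0 → ∀ b : F, ∃ k : ℕ, us F b = us F b₀ ^ k := by
  have hchar : CharP F p := charP_of_card_eq_prime hF
  have hcard : Nat.card F = p := by rw [Nat.card_eq_fintype_card, hF]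
  constructor
  · apply orderOf_eq_prime
    · rw [s52_pslu_us_pow]
      have : (p • (1 : F)) = 0 := by
        rw [nsmul_eq_mul, mul_one]
        exact CharP.cast_eq_zero F p
      rw [this]
      unfold us
      rw [s52_pslu_ub_zero, map_one]
    · exact s52_pslu_us_ne_one 1 one_ne_zero
  · intro b₀ hb₀ b
    have hmem : b ∈ AddSubmonoid.multiples b₀ := mem_multiples_of_prime_card hcard hb₀
    obtain ⟨k, hk⟩ := (AddSubmonoid.mem_multiples_iff _ _).1 hmem
    exact ⟨k, by rw [s52_pslu_us_pow, hk]⟩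

end Cfsg.Agent.Helper15.S52
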