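import Mathlib
import Cfsg.Prelude.Def_Classical
import Cfsg.Agent.Lib.Helper15.S74Defs
import Cfsg.Agent.Lib.Helper19.S74MODEL
import Cfsg.Agent.Lib.Helper12.S74CENT
import Cfsg.Agent.Lib.Helper25.S74RESTR
import Cfsg.Agent.Lib.Helper28.S74DICH1Core

/-!
# S74-DICH2 (S2474, helper24): consequences in the split case of the dichotomy
-/

set_option autoImplicit false

open Cfsg.Agent.Helper15.S62

namespace Cfsg.Agent.Helper15.S74

universe u

variable {F : Type u} [Field F]

/-- an isometry of order dividing 4 which is the identity on a Lagrangian `M = M^⊥` is the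
identity -/
theorem s74_dich2_fix_eq_one {W : Type u} [AddCommGroup W] [Module F W]
    (h2 : (2 : F) ≠ 0) (B : LinearMap.BilinForm F W) (M : Submodule F W)
    (hperp : ∀ x, x ∈ M ↔ ∀ a ∈ M, B a x = 0) (z : Module.End F W) (hz : Isom B z)
    (hzM : ∀ m ∈ M, z m = m) (hz4 : z ^ 4 = 1) : z = 1 := by
  apply LinearMap.ext
  intro w
  obtain ⟨N, hN⟩ : ∃ N, N = z w - w := ⟨_, rfl⟩
  have hNM : N ∈ M := by
    rw [hperp]
    intro a ha
    rw [hN, map_sub]
    have h1 : B a (z w) = B a w := by
      have := hz a w
      rwa [hzM a ha] at this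
    rw [h1, sub_self]
  have hzN : z N = N := hzM N hNM
  have e1 : z w = w + N := by rw [hN]; abel
  have e2 : z (z w) = w + N + N := by rw [e1, map_add, hzN, e1]
  have e3 : z (z (z w)) = w + N + N + N := by rw [e2, map_add, map_add, hzN, e1]
  have e4 : z (z (z (z w))) = w + N + N + N + N := by
    rw [e3, map_add, map_add, map_add, hzN, e1]
  have h4 : (z ^ 4) w = z (z (z (z w))) := by
    simp [pow_succ, Module.End.mul_apply]
  rw [hz4, Module.End.one_apply, e4] at h4
  have h5 : (4 : F) • N = 0 := by
    have h6 : N + N + N + N = 0 := by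
      have : w + N + N + N + N = w + (N + N + N + N) := by abel
      rw [this] at h4
      exact (add_eq_left.mp h4.symm)
    have h7 : (4 : F) • N = N + N + N + N := by
      have : (4 : F) = 1 + 1 + 1 + 1 := by norm_num
      rw [this, add_smul, add_smul, add_smul, one_smul]
    rw [h7, h6]
  have h4F : (4 : F) ≠ 0 := by
    have : (4 : F) = 2 * 2 := by norm_num
    rw [this]
    exact mul_ne_zero h2 h2
  have hN0 : N = 0 := by
    rcases smul_eq_zero.mp h5 with h | h
    · exact absurd h h4F
    · exact h
  rw [Module.End.one_apply, e1, hN0, add_zero]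

/-- the same with `-1` on `M` -/
theorem s74_dich2_neg_eq_neg_one {W : Type u} [AddCommGroup W] [Module F W]
    (h2 : (2 : F) ≠ 0) (B : LinearMap.BilinForm F W) (M : Submodule F W)
    (hperp : ∀ x, x ∈ M ↔ ∀ a ∈ M, B a x = 0) (z : Module.End F W) (hz : Isom B z)
    (hzM : ∀ m ∈ M, z m = -m) (hz4 : z ^ 4 = 1) : z = -1 := by
  have h : -z = 1 := by
    apply s74_dich2_fix_eq_one h2 B M hperp (-z)
    · intro x y
      have h := hz x y
      simp only [LinearMap.neg_apply, map_neg, neg_neg]
      exact h
    · intro m hm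
      rw [LinearMap.neg_apply, hzM m hm, neg_neg]
    · rw [Even.neg_pow (by decide : Even 4), hz4]
  rw [← h, neg_neg]

/-- the multiplier of a restriction of finite order -/
theorem s74_dich2_mu_pow {W : Type u} [AddCommGroup W] [Module F W] (M : Submodule F W)
    {L : Type u} [Field L] [Algebra F L] (φ : L ≃ₗ[F] M) (z : Module.End F W) (hzM : Invar z M)
    (μ : L) (hμ : ∀ x : L, (z.restrict hzM) (φ x) = φ (μ * x)) (j : ℕ) (hj : z ^ j = 1) :
    μ ^ j = 1 := by
  have h1 : (z.restrict hzM) ^ j = 1 := by
    rw [restrict_pow]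
    apply LinearMap.ext
    intro x
    apply Subtype.ext
    rw [LinearMap.restrict_apply]
    simp [hj]
  have h2 := s74_dich1_pow φ (z.restrict hzM) μ hμ j 1
  rw [h1, Module.End.one_apply, mul_one] at h2
  exact (φ.injective h2).symm

/-- S74-DICH2 (uses MODEL, CENT, RESTR): consequences in the split case. -/
theorem dich_split [Fintype F] {W : Type u} [AddCommGroup W] [Module F W] [FiniteDimensional F W]
    (h2 : (2 : F) ≠ 0) (B : LinearMap.BilinForm F W) (hnd : LND B) (y : Module.End F W) (t : ℕ)
    (ht : t.Prime) (htF : (t : F) ≠ 0) (hsum : ∑ i ∈ Finset.range t, y ^ i = 0) (n : ℕ)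
    (hn : 1 ≤ n) (M : Submodule F W) (hM : Invar y M) (hirr : Irred (y.restrict hM))
    (hMdim : Module.finrank F M = n) (hperp : ∀ x, x ∈ M ↔ ∀ a ∈ M, B a x = 0) :
    t ∣ Fintype.card F ^ n - 1 ∧
      ∀ z : Module.End F W, Commute z y → Isom B z → Invar z M → z ^ 4 = 1 →
        (z ^ 2 = 1 → z = 1 ∨ z = -1) ∧ (z ^ 2 ≠ 1 → 4 ∣ Fintype.card F ^ n - 1) := by
  have : Nontrivial M := hirr.1
  obtain ⟨L, iF, iA, iM, φ, ζ, hζ, hφ⟩ := exists_model (y.restrict hM) hirr
  have hcardL : Nat.card Lˣ = Fintype.card F ^ n - 1 := by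
    rw [Nat.card_units, Module.natCard_eq_pow_finrank (K := F) (V := L),
      Nat.card_eq_fintype_card, LinearEquiv.finrank_eq φ, hMdim]
  have hyt : y ^ t = 1 := by
    have := geom_sum_mul y t
    rw [hsum, zero_mul] at this
    exact sub_eq_zero.mp this.symm
  constructor
  · -- `ζ` has order `t`
    have hζt : ζ ^ t = 1 :=
      s74_dich2_mu_pow M φ y hM ζ (fun x => (hφ x).symm) t hyt
    have hζ1 : ζ ≠ 1 := by
      intro h
      have hfix : ∀ m ∈ M, y m = m := by
        intro m hm
        obtain ⟨x, hx⟩ := φ.surjective ⟨m, hm⟩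
        have h3 := hφ x
        rw [h, one_mul, hx] at h3
        have h4 := congrArg Subtype.val h3
        rw [LinearMap.restrict_apply] at h4
        exact h4.symm
      have hpow : ∀ (i : ℕ) (m : W), m ∈ M → (y ^ i) m = m := by
        intro i
        induction i with
        | zero => intro m _; simp
        | succ i ih =>
          intro m hm
          rw [pow_succ, Module.End.mul_apply, hfix m hm, ih m hm]
      obtain ⟨m, hm0⟩ := exists_ne (0 : M)
      have h5 := LinearMap.congr_fun hsum (m : W)
      rw [LinearMap.sum_apply, LinearMap.zero_apply,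
        Finset.sum_congr rfl (fun i _ => hpow i (m : W) m.2), Finset.sum_const,
        Finset.card_range, ← Nat.cast_smul_eq_nsmul F] at h5
      rcases smul_eq_zero.mp h5 with h6 | h6
      · exact htF h6
      · exact hm0 (Subtype.ext h6)
    have hζ0 : ζ ≠ 0 := by
      intro h
      rw [h, zero_pow ht.ne_zero] at hζt
      exact zero_ne_one hζt
    haveI := Fact.mk ht
    have hord : orderOf (Units.mk0 ζ hζ0) = t := by
      apply orderOf_eq_prime
      · apply Units.ext
        simpa using hζt
      · intro h
        apply hζ1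
        have := congrArg Units.val h
        simpa using this
    rw [← hcardL, ← hord]
    exact orderOf_dvd_natCard _
  · intro z hzy hzB hzM hz4
    have hcomm : Commute (z.restrict hzM) (y.restrict hM) := restrict_commute z y M hzM hM hzy
    obtain ⟨μ, hμ⟩ := exists_mul_of_commute' φ ζ hζ (y.restrict hM) (z.restrict hzM) hφ hcomm
    have hμ4 : μ ^ 4 = 1 := s74_dich2_mu_pow M φ z hzM μ hμ 4 hz4
    have key : μ ^ 2 = 1 → z = 1 ∨ z = -1 := by
      intro h
      have h3 : (μ - 1) * (μ + 1) = 0 := by
        have : (μ - 1) * (μ + 1) = μ ^ 2 - 1 := by ring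
        rw [this, h, sub_self]
      have hval : ∀ (m : W) (hm : m ∈ M) (x : L), φ x = ⟨m, hm⟩ →
          z m = ((φ (μ * x) : M) : W) := by
        intro m hm x hx
        have h4 := hμ x
        rw [hx] at h4
        have h5 := congrArg Subtype.val h4
        rw [LinearMap.restrict_apply] at h5
        exact h5
      rcases mul_eq_zero.mp h3 with h4 | h4
      · left
        have hμ1 : μ = 1 := sub_eq_zero.mp h4
        apply s74_dich2_fix_eq_one h2 B M hperp z hzB _ hz4
        intro m hm
        obtain ⟨x, hx⟩ := φ.surjective ⟨m, hm⟩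
        rw [hval m hm x hx, hμ1, one_mul, hx]
      · right
        have hμ1 : μ = -1 := eq_neg_of_add_eq_zero_left h4
        apply s74_dich2_neg_eq_neg_one h2 B M hperp z hzB _ hz4
        intro m hm
        obtain ⟨x, hx⟩ := φ.surjective ⟨m, hm⟩
        rw [hval m hm x hx, hμ1, neg_one_mul, map_neg, hx]
        rfl
    constructor
    · intro hz2
      exact key (s74_dich2_mu_pow M φ z hzM μ hμ 2 hz2)
    · intro hz2
      have hμ2 : μ ^ 2 ≠ 1 := by
        intro h
        rcases key h with h5 | h5
        · exact hz2 (by rw [h5, one_pow])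
        · exact hz2 (by rw [h5, neg_one_sq])
      have hμ0 : μ ≠ 0 := by
        intro h
        rw [h] at hμ4
        norm_num at hμ4
      have hord : orderOf (Units.mk0 μ hμ0) = 2 ^ (1 + 1) := by
        apply orderOf_eq_prime_pow
        · intro h
          apply hμ2
          have := congrArg Units.val h
          simpa using this
        · apply Units.ext
          simpa using hμ4
      have hdvd := orderOf_dvd_natCard (Units.mk0 μ hμ0)
      rw [hord, hcardL] at hdvd
      exact hdvd

end Cfsg.Agent.Helper15.S74
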