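import Mathlib
import Cfsg.Prelude.Def_Classical
import Cfsg.Agent.Lib.Helper15.S74Defs
import Cfsg.Agent.Lib.Helper4.S74INVFORMM
import Cfsg.Agent.Lib.Helper27.S74ORDUTIL

/-!
# S74-DICHA (S2474, helper24): the irreducible case of the dichotomy
-/

set_option autoImplicit false

open Cfsg.Agent.Helper15.S62

namespace Cfsg.Agent.Helper15.S74

universe u

variable {F : Type u} [Field F]

/-- S74-DICHA (uses INVFORMM, ORDUTIL): the irreducible case of the dichotomy
(`invform_model` with `g = y`, `N = t`, `β = B ≠ 0`; `2k = finrank = 2n`). -/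
theorem dich_of_irred [Fintype F] {W : Type u} [AddCommGroup W] [Module F W]
    [FiniteDimensional F W] (B : LinearMap.BilinForm F W) (hnd : LND B) (y : Module.End F W)
    (hy : Isom B y) (t : ℕ) (ht : t.Prime) (ht2 : t ≠ 2) (htF : (t : F) ≠ 0)
    (hsum : ∑ i ∈ Finset.range t, y ^ i = 0) (n : ℕ) (hn : 1 ≤ n)
    (hdim : Module.finrank F W = 2 * n) (hirr : Irred y) :
    ∃ (L : Type u) (_ : Field L) (_ : Algebra F L) (_ : Module.Finite F L) (φ : L ≃ₗ[F] W)
        (ζ : L), Module.finrank F L = 2 * n ∧ Algebra.adjoin F {ζ} = ⊤ ∧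
        (∀ x : L, φ (ζ * x) = y (φ x)) ∧
        ∀ a x y' : L, B (φ (a * x)) (φ y') = B (φ x) (φ (a ^ (Fintype.card F ^ n) * y')) := by
  haveI : Nontrivial W := hirr.1
  have hyt : y ^ t = 1 := by
    have := geom_sum_mul y t
    rw [hsum, zero_mul] at this
    exact sub_eq_zero.mp this.symm
  have hy2 : y ^ 2 ≠ 1 := by
    intro h
    have hdvd := dvd_of_geom_sum_eq_zero y t ht htF hsum 2 h
    exact ht2 ((Nat.prime_dvd_prime_iff_eq ht Nat.prime_two).mp hdvd)
  have hB : B ≠ 0 := by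
    intro h
    obtain ⟨x, hx⟩ := exists_ne (0 : W)
    apply hx
    apply hnd x
    intro z
    rw [h]
    rfl
  obtain ⟨k, L, iF, iA, iM, φ, ζ, hk, hfr, hadjn, hφ, -, hadj⟩ :=
    invform_model y hirr t ht.pos hyt hy2 B hB hy
  have hkn : k = n := by
    have h1 : Module.finrank F L = Module.finrank F W := LinearEquiv.finrank_eq φ
    omega
  subst hkn
  exact ⟨L, iF, iA, iM, φ, ζ, hfr, hadjn, hφ, hadj⟩

end Cfsg.Agent.Helper15.S74
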