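import Mathlib
import Cfsg.Agent.Lib.Helper15.S64Defs
import Cfsg.Agent.Lib.Helper2.OutCongr

/-!
# S3664, PIECE S64-LORD (helper24): the products of two primes among the element orders of
`L = Sz(8) ⋊ Aut(F_8)`
-/

set_option autoImplicit false
set_option linter.unusedSectionVars false
set_option linter.unusedVariables false

namespace Cfsg.Agent.Helper15.S64

open Matrix Cfsg.Agent.Helper2 Cfsg.Agent.Helper2.Sz

variable {F : Type*} [Field F] [Fintype F] (S : SzData F 1)
  (hF : Fintype.card F = 2 ^ (2 * 1 + 1))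

include hF in
/-- a non-trivial automorphism of the field with 8 elements has order 3 -/
theorem s64_lord_orderOf_aut (ψ : F ≃+* F) (hψ : ψ ≠ 1) : orderOf ψ = 3 := by
  haveI : Fact (Nat.Prime 2) := ⟨Nat.prime_two⟩
  have hcard : Nat.card (F ≃+* F) = 3 :=
    OutCongr.card_ringEquiv (p := 2) (n := 3) (by rw [hF])
  haveI := finite_aut (F := F)
  have hdvd : orderOf ψ ∣ 3 := by
    rw [← hcard]
    exact orderOf_dvd_natCard ψ
  rcases (Nat.dvd_prime Nat.prime_three).mp hdvd with h | h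
  · exact absurd (orderOf_eq_one_iff.mp h) hψ
  · exact h

/-- PIECE S64-LORD -/
theorem L_orders
    (h3 : ∀ (x : Lgrp S hF) {t : ℕ}, t.Prime → t ≠ 3 → orderOf x = 3 * t → t = 2 ∨ t = 5)
    (hord : ∀ n : Cfsg.Sz F 1,
      (∃ k : ℕ, orderOf n = 2 ^ k) ∨ orderOf n = 5 ∨ orderOf n = 7 ∨ orderOf n = 13)
    (x : Lgrp S hF) {r s : ℕ} (hr : r.Prime) (hs : s.Prime) (hrs : r ≠ s)
    (hx : orderOf x = r * s) :
    (r = 2 ∧ s = 3) ∨ (r = 3 ∧ s = 2) ∨ (r = 3 ∧ s = 5) ∨ (r = 5 ∧ s = 3) := by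
  by_cases h1 : x.right = 1
  · -- `x` lies in `Sz(8)`
    exfalso
    have hx' : x = SemidirectProduct.inl x.left := by
      apply SemidirectProduct.ext
      · rfl
      · rw [h1]; rfl
    have ho : orderOf x = orderOf x.left := by
      rw [hx']
      exact orderOf_injective (SemidirectProduct.inl : Cfsg.Sz F 1 →* Lgrp S hF)
        SemidirectProduct.inl_injective x.left
    rw [ho] at hx
    have hr2 := hr.two_le
    have hs2 := hs.two_le
    rcases hord x.left with ⟨k, hk⟩ | h5 | h7 | h13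
    · rw [hk] at hx
      have hrd : r ∣ 2 ^ k := ⟨s, hx⟩
      have hsd : s ∣ 2 ^ k := ⟨r, by rw [hx, mul_comm]⟩
      have e1 : r = 2 := (Nat.prime_dvd_prime_iff_eq hr Nat.prime_two).mp (hr.dvd_of_dvd_pow hrd)
      have e2 : s = 2 := (Nat.prime_dvd_prime_iff_eq hs Nat.prime_two).mp (hs.dvd_of_dvd_pow hsd)
      exact hrs (e1.trans e2.symm)
    · rw [h5] at hx
      have hrd : r ∣ 5 := ⟨s, hx⟩
      have e1 : r = 5 := (Nat.prime_dvd_prime_iff_eq hr (by norm_num)).mp hrd
      rw [e1] at hx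
      omega
    · rw [h7] at hx
      have hrd : r ∣ 7 := ⟨s, hx⟩
      have e1 : r = 7 := (Nat.prime_dvd_prime_iff_eq hr (by norm_num)).mp hrd
      rw [e1] at hx
      omega
    · rw [h13] at hx
      have hrd : r ∣ 13 := ⟨s, hx⟩
      have e1 : r = 13 := (Nat.prime_dvd_prime_iff_eq hr (by norm_num)).mp hrd
      rw [e1] at hx
      omega
  · -- the image in `Aut(F)` has order 3
    have ho3 : orderOf x.right = 3 := s64_lord_orderOf_aut hF x.right h1
    have hdvd : 3 ∣ r * s := by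
      rw [← hx, ← ho3]
      exact orderOf_map_dvd (SemidirectProduct.rightHom : Lgrp S hF →* (F ≃+* F)) x
    rcases (Nat.Prime.dvd_mul Nat.prime_three).mp hdvd with h | h
    · have e1 : r = 3 := ((Nat.prime_dvd_prime_iff_eq Nat.prime_three hr).mp h).symm
      subst e1
      have hs3 : s ≠ 3 := fun h => hrs h.symm
      rcases h3 x hs hs3 hx with h2 | h5
      · exact Or.inr (Or.inl ⟨rfl, h2⟩)
      · exact Or.inr (Or.inr (Or.inl ⟨rfl, h5⟩))
    · have e1 : s = 3 := ((Nat.prime_dvd_prime_iff_eq Nat.prime_three hs).mp h).symm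
      subst e1
      rw [mul_comm] at hx
      rcases h3 x hr hrs hx with h2 | h5
      · exact Or.inl ⟨h2, rfl⟩
      · exact Or.inr (Or.inr (Or.inr ⟨h5, rfl⟩))

end Cfsg.Agent.Helper15.S64
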