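import Mathlib
import Cfsg.Agent.Lib.Helper15.S64Defs
import Cfsg.Agent.Lib.Helper24.S64LORD

/-!
# S3664, PIECE S64-LTHREE (helper24): the element orders `3 t` of `L = Sz(8) ⋊ Aut(F_8)`
-/

set_option autoImplicit false
set_option linter.unusedSectionVars false
set_option linter.unusedVariables false

namespace Cfsg.Agent.Helper15.S64

open Matrix Cfsg.Agent.Helper2 Cfsg.Agent.Helper2.Sz

variable {F : Type*} [Field F] [Fintype F] (S : SzData F 1)
  (hF : Fintype.card F = 2 ^ (2 * 1 + 1))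

/-- PIECE S64-LTHREE -/
theorem L_three
    (hsyl : ∀ y : Lgrp S hF, orderOf y = 3 →
      ∃ (c : Lgrp S hF) (ψ : F ≃+* F), ψ ≠ 1 ∧ c * y * c⁻¹ = SemidirectProduct.inr ψ)
    (h7 : ∀ n : Cfsg.Sz F 1, orderOf n = 7 → ∀ ψ : F ≃+* F, ψ ≠ 1 →
      S.fieldAut le_rfl hF ψ n ≠ n)
    (h13 : ∀ n : Cfsg.Sz F 1, orderOf n = 13 → ∀ ψ : F ≃+* F, ψ ≠ 1 →
      S.fieldAut le_rfl hF ψ n ≠ n)
    (hord : ∀ n : Cfsg.Sz F 1,
      (∃ k : ℕ, orderOf n = 2 ^ k) ∨ orderOf n = 5 ∨ orderOf n = 7 ∨ orderOf n = 13)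
    (x : Lgrp S hF) {t : ℕ} (ht : t.Prime) (ht3 : t ≠ 3) (hxo : orderOf x = 3 * t) :
    t = 2 ∨ t = 5 := by
  have htpos : 0 < t := ht.pos
  have hyo : orderOf (x ^ t) = 3 := by
    rw [orderOf_pow_of_dvd ht.ne_zero (by rw [hxo]; exact Dvd.intro_left 3 rfl), hxo,
      Nat.mul_div_cancel _ htpos]
  have hzo : orderOf (x ^ 3) = t := by
    rw [orderOf_pow_of_dvd (by norm_num) (by rw [hxo]; exact Dvd.intro t rfl), hxo,
      Nat.mul_div_cancel_left _ (by norm_num : 0 < 3)]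
  have hcomm : Commute (x ^ 3) (x ^ t) := (Commute.refl x).pow_pow 3 t
  obtain ⟨c, ψ, hψ, hc⟩ := hsyl (x ^ t) hyo
  -- the conjugate of `z`
  obtain ⟨z', hz'⟩ : ∃ z' : Lgrp S hF, z' = c * x ^ 3 * c⁻¹ := ⟨_, rfl⟩
  have hz'o : orderOf z' = t := by
    rw [hz', ← hzo]
    exact (MulAut.conj c).orderOf_eq (x ^ 3)
  have hcomm' : z' * SemidirectProduct.inr ψ = SemidirectProduct.inr ψ * z' := by
    rw [hz', ← hc]
    have e1 : c * x ^ 3 * c⁻¹ * (c * x ^ t * c⁻¹) = c * (x ^ 3 * x ^ t) * c⁻¹ := by group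
    have e2 : c * x ^ t * c⁻¹ * (c * x ^ 3 * c⁻¹) = c * (x ^ t * x ^ 3) * c⁻¹ := by group
    rw [e1, e2, hcomm.eq]
  -- the image of `z'` in `Aut(F)` is trivial
  have hright : z'.right = 1 := by
    by_contra hne
    have ho3 : orderOf z'.right = 3 := s64_lord_orderOf_aut hF z'.right hne
    have hdvd : 3 ∣ t := by
      rw [← hz'o, ← ho3]
      exact orderOf_map_dvd (SemidirectProduct.rightHom : Lgrp S hF →* (F ≃+* F)) z'
    exact ht3 ((Nat.prime_dvd_prime_iff_eq Nat.prime_three ht).mp hdvd).symm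
  have hz'inl : z' = SemidirectProduct.inl z'.left := by
    apply SemidirectProduct.ext
    · rfl
    · rw [hright]; rfl
  have hno : orderOf z'.left = t := by
    rw [← hz'o]
    conv_rhs => rw [hz'inl]
    exact (orderOf_injective (SemidirectProduct.inl : Cfsg.Sz F 1 →* Lgrp S hF)
      SemidirectProduct.inl_injective z'.left).symm
  -- `ψ` fixes `n`
  have hfix : S.fieldAut le_rfl hF ψ z'.left = z'.left := by
    have h1 := congrArg SemidirectProduct.left hcomm'
    rw [SemidirectProduct.mul_left, SemidirectProduct.mul_left, SemidirectProduct.left_inr,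
      SemidirectProduct.right_inr, hright, map_one, one_mul] at h1
    rw [mul_one] at h1
    exact h1.symm
  rcases hord z'.left with ⟨k, hk⟩ | h5 | h7' | h13'
  · left
    rw [hno] at hk
    have hd : 2 ∣ t := by
      rcases Nat.eq_zero_or_pos k with h0 | h0
      · rw [h0, pow_zero] at hk
        exact absurd hk ht.one_lt.ne'
      · rw [hk]
        exact dvd_pow_self 2 h0.ne'
    exact ((Nat.prime_dvd_prime_iff_eq Nat.prime_two ht).mp hd).symm
  · right
    rw [← hno, h5]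
  · exact absurd hfix (h7 z'.left h7' ψ hψ)
  · exact absurd hfix (h13 z'.left h13' ψ hψ)

end Cfsg.Agent.Helper15.S64
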