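import Mathlib
import Cfsg.Prelude.Def_Blocks
import Cfsg.Agent.Lib.Helper24.CharAlgebra

/-!
# The Frobenius–Schur indicator (helper24's shared library)

`fsInd χ = |G|⁻¹ ∑ g, χ (g * g)`.  For an irreducible character it is `0`, `1` or `-1`, and it
is nonzero exactly when `χ` is real-valued (`fsInd_cases`).  The number of square roots of `g`
is `∑ χ, fsInd χ * χ g` (`sum_fsInd_mul`).
-/

set_option autoImplicit false

namespace Cfsg.Agent.Helper24

open Cfsg Module

universe u

open scoped ComplexConjugate Kronecker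

section Swap
variable (n : Type*) [Fintype n] [DecidableEq n]

/-- The swap permutation matrix on `n × n`. -/
def swapMat : Matrix (n × n) (n × n) ℂ := Matrix.of fun p q => if p = q.swap then 1 else 0

variable {n}

omit [Fintype n] in
theorem swapMat_apply (p q : n × n) : swapMat n p q = if p = q.swap then 1 else 0 := rfl

theorem swapMat_mul_apply (M : Matrix (n × n) (n × n) ℂ) (p q : n × n) :
    (swapMat n * M) p q = M p.swap q := by
  rw [Matrix.mul_apply, Finset.sum_eq_single p.swap]
  · simp [swapMat_apply]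
  · intro b _ hb
    have : ¬ p = b.swap := by
      intro h; apply hb; rw [h]; simp
    simp [swapMat_apply, this]
  · intro h; exact absurd (Finset.mem_univ _) h

theorem mul_swapMat_apply (M : Matrix (n × n) (n × n) ℂ) (p q : n × n) :
    (M * swapMat n) p q = M p q.swap := by
  rw [Matrix.mul_apply, Finset.sum_eq_single q.swap]
  · simp [swapMat_apply]
  · intro b _ hb
    simp [swapMat_apply, hb]
  · intro h; exact absurd (Finset.mem_univ _) h

theorem swapMat_mul_self : swapMat n * swapMat n = 1 := by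
  ext p q
  rw [swapMat_mul_apply, swapMat_apply, Matrix.one_apply]
  by_cases h : p = q
  · simp [h]
  · have : ¬ p.swap = q.swap := fun h' => h (Prod.swap_injective h')
    simp [h, this]

theorem swapMat_mul_kronecker (A B : Matrix n n ℂ) :
    swapMat n * (A ⊗ₖ B) = (B ⊗ₖ A) * swapMat n := by
  ext p q
  rw [swapMat_mul_apply, mul_swapMat_apply]
  simp [mul_comm]

theorem trace_swapMat_mul_kronecker (A B : Matrix n n ℂ) :
    (swapMat n * (A ⊗ₖ B)).trace = (A * B).trace := by
  have h1 : ∀ p : n × n, (swapMat n * (A ⊗ₖ B)).diag p = A p.2 p.1 * B p.1 p.2 := by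
    intro p
    rw [Matrix.diag_apply, swapMat_mul_apply]
    simp [Matrix.kronecker_apply]
  unfold Matrix.trace
  simp only [h1, Matrix.diag_apply, Matrix.mul_apply]
  rw [Fintype.sum_prod_type, Finset.sum_comm]

end Swap

section Idem

variable {ι : Type*} [Fintype ι] [DecidableEq ι]

/-- The trace of an idempotent complex matrix is a natural number. -/
theorem exists_nat_trace_of_idempotent (E : Matrix ι ι ℂ) (hE : E * E = E) :
    ∃ r : ℕ, E.trace = r := by
  have hidem : IsIdempotentElem (Matrix.toLin' E) := by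
    show Matrix.toLin' E * Matrix.toLin' E = Matrix.toLin' E
    rw [Module.End.mul_eq_comp, ← Matrix.toLin'_mul, hE]
  have h := (LinearMap.IsIdempotentElem.isProj_range _ hidem).trace
  rw [Matrix.trace_toLin'_eq] at h
  exact ⟨_, h⟩

end Idem

section Abstract

variable {G : Type*} [Group G] [Fintype G] {ι : Type*} [Fintype ι] [DecidableEq ι]

/-- Abstract Frobenius–Schur: for a multiplicative family `K` of matrices commuting with an
involution `T`, the averages `a = tr(avg K)` and `b = tr(T * avg K)` are of the form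
`a = r + s`, `b = r - s` with natural `r, s`. -/
theorem exists_nat_add_sub (K : G →* Matrix ι ι ℂ) (T : Matrix ι ι ℂ) (hT : T * T = 1)
    (hTK : ∀ g, T * K g = K g * T) :
    ∃ r s : ℕ, (Nat.card G : ℂ)⁻¹ * ∑ g, (K g).trace = r + s ∧
      (Nat.card G : ℂ)⁻¹ * ∑ g, (T * K g).trace = (r : ℂ) - s := by
  classical
  have hcard : (Nat.card G : ℂ) ≠ 0 := by exact_mod_cast (Nat.card_pos (α := G)).ne'
  set P : Matrix ι ι ℂ := (Nat.card G : ℂ)⁻¹ • ∑ g, K g with hP
  have hKP : ∀ h, K h * P = P := by
    intro h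
    rw [hP, Matrix.mul_smul, Finset.mul_sum]
    congr 1
    have := Equiv.sum_comp (Equiv.mulLeft h) (fun g => K g)
    rw [← this]
    apply Finset.sum_congr rfl
    intro g _
    simp [map_mul]
  have hPP : P * P = P := by
    nth_rewrite 1 [hP]
    rw [Matrix.smul_mul, Finset.sum_mul]
    simp only [hKP, Finset.sum_const, Finset.card_univ]
    rw [← Nat.card_eq_fintype_card, ← Nat.cast_smul_eq_nsmul ℂ, smul_smul, inv_mul_cancel₀ hcard,
      one_smul]
  have hTP : T * P = P * T := by
    rw [hP, Matrix.mul_smul, Matrix.smul_mul, Finset.mul_sum, Finset.sum_mul]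
    congr 1
    exact Finset.sum_congr rfl (fun g _ => hTK g)
  set Q := T * P with hQ
  have hPQ : P * Q = Q := by rw [hQ, ← Matrix.mul_assoc, ← hTP, Matrix.mul_assoc, hPP]
  have hQP : Q * P = Q := by rw [hQ, Matrix.mul_assoc, hPP]
  have hQQ : Q * Q = P := by
    rw [hQ, Matrix.mul_assoc, ← Matrix.mul_assoc P T P, ← hTP, Matrix.mul_assoc T P P, hPP,
      ← Matrix.mul_assoc, hT, Matrix.one_mul]
  have hE1 : ((1 / 2 : ℂ) • (P + Q)) * ((1 / 2 : ℂ) • (P + Q)) = (1 / 2 : ℂ) • (P + Q) := by
    rw [Matrix.smul_mul, Matrix.mul_smul, smul_smul, Matrix.add_mul, Matrix.mul_add, Matrix.mul_add,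
      hPP, hPQ, hQP, hQQ]
    have : P + Q + (Q + P) = (2 : ℂ) • (P + Q) := by rw [two_smul]; abel
    rw [this, smul_smul]
    norm_num
  have hE2 : ((1 / 2 : ℂ) • (P - Q)) * ((1 / 2 : ℂ) • (P - Q)) = (1 / 2 : ℂ) • (P - Q) := by
    rw [Matrix.smul_mul, Matrix.mul_smul, smul_smul, Matrix.sub_mul, Matrix.mul_sub, Matrix.mul_sub,
      hPP, hPQ, hQP, hQQ]
    have : P - Q - (Q - P) = (2 : ℂ) • (P - Q) := by rw [two_smul]; abel
    rw [this, smul_smul]
    norm_num
  obtain ⟨r, hr⟩ := exists_nat_trace_of_idempotent _ hE1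
  obtain ⟨s, hs⟩ := exists_nat_trace_of_idempotent _ hE2
  rw [Matrix.trace_smul, Matrix.trace_add, smul_eq_mul] at hr
  rw [Matrix.trace_smul, Matrix.trace_sub, smul_eq_mul] at hs
  have hPtr : P.trace = (Nat.card G : ℂ)⁻¹ * ∑ g, (K g).trace := by
    rw [hP, Matrix.trace_smul, Matrix.trace_sum, smul_eq_mul]
  have hQtr : Q.trace = (Nat.card G : ℂ)⁻¹ * ∑ g, (T * K g).trace := by
    rw [hQ, hP, Matrix.mul_smul, Matrix.trace_smul, Finset.mul_sum, Matrix.trace_sum, smul_eq_mul]
  refine ⟨r, s, ?_, ?_⟩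
  · rw [← hPtr, ← hr, ← hs]; ring
  · rw [← hQtr, ← hr, ← hs]; ring

end Abstract

section FS

variable {G : Type u} [Group G] [Fintype G]

/-- The Frobenius–Schur indicator of a function on `G`. -/
noncomputable def fsInd (χ : G → ℂ) : ℂ := (Nat.card G : ℂ)⁻¹ * ∑ g : G, χ (g * g)

/-- The matrix form of a representation on `Fin n → ℂ`. -/
noncomputable def repMat {n : ℕ} (ρ : Representation ℂ G (Fin n → ℂ)) :
    G →* Matrix (Fin n) (Fin n) ℂ :=
  (LinearMap.toMatrixAlgEquiv' (R := ℂ) (n := Fin n)).toAlgHom.toRingHom.toMonoidHom.comp ρ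

theorem repMat_apply {n : ℕ} (ρ : Representation ℂ G (Fin n → ℂ)) (g : G) :
    repMat ρ g = LinearMap.toMatrix' (ρ g) := rfl

theorem trace_repMat {n : ℕ} (ρ : Representation ℂ G (Fin n → ℂ)) (g : G) :
    (repMat ρ g).trace = ρ.character g := by
  rw [repMat_apply, Representation.character,
    LinearMap.trace_eq_matrix_trace ℂ (Pi.basisFun ℂ (Fin n)), LinearMap.toMatrix_eq_toMatrix']

/-- The Kronecker square of a matrix representation. -/
noncomputable def kronSq {n : ℕ} (R : G →* Matrix (Fin n) (Fin n) ℂ) :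
    G →* Matrix (Fin n × Fin n) (Fin n × Fin n) ℂ where
  toFun g := R g ⊗ₖ R g
  map_one' := by rw [map_one, Matrix.one_kronecker_one]
  map_mul' g h := by rw [map_mul, Matrix.mul_kronecker_mul]

/-- The two averages attached to a character. -/
theorem exists_nat_fsInd {χ : G → ℂ} (hχ : IsCharacter G χ) :
    ∃ r s : ℕ, classInner χ (fun g => conj (χ g)) = r + s ∧ fsInd χ = (r : ℂ) - s := by
  obtain ⟨n, ρ, rfl⟩ := hχ
  obtain ⟨r, s, h1, h2⟩ := exists_nat_add_sub (kronSq (repMat ρ)) (swapMat (Fin n))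
    swapMat_mul_self (fun g => swapMat_mul_kronecker _ _)
  refine ⟨r, s, ?_, ?_⟩
  · rw [← h1]
    unfold classInner
    congr 1
    apply Finset.sum_congr rfl
    intro g _
    show _ = (repMat ρ g ⊗ₖ repMat ρ g).trace
    rw [Matrix.trace_kronecker, trace_repMat, Complex.conj_conj]
  · rw [← h2]
    unfold fsInd
    congr 1
    apply Finset.sum_congr rfl
    intro g _
    show _ = (swapMat (Fin n) * (repMat ρ g ⊗ₖ repMat ρ g)).trace
    rw [trace_swapMat_mul_kronecker, ← map_mul, trace_repMat]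

/-- **Frobenius–Schur**: the indicator of an irreducible character is `±1` if the character is
real-valued and `0` otherwise. -/
theorem fsInd_cases {χ : G → ℂ} (hχ : IsIrrCharacter G χ) :
    ((∀ g, conj (χ g) = χ g) ∧ (fsInd χ = 1 ∨ fsInd χ = -1)) ∨
      ((¬ ∀ g, conj (χ g) = χ g) ∧ fsInd χ = 0) := by
  classical
  letI : Fintype (IrrCharacter G) := irrFintype
  obtain ⟨r, s, h1, h2⟩ := exists_nat_fsInd (isCharacter_of_isIrrCharacter hχ)
  rw [irr_orthogonality hχ (isIrrCharacter_conj hχ)] at h1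
  by_cases hreal : ∀ g, conj (χ g) = χ g
  · left
    refine ⟨hreal, ?_⟩
    have heq : χ = fun g => conj (χ g) := by funext g; exact (hreal g).symm
    rw [if_pos heq] at h1
    have h3 : r + s = 1 := by exact_mod_cast h1.symm
    have h4 : (r = 1 ∧ s = 0) ∨ (r = 0 ∧ s = 1) := by omega
    rcases h4 with ⟨hr, hs⟩ | ⟨hr, hs⟩
    · left; rw [h2, hr, hs]; simp
    · right; rw [h2, hr, hs]; simp
  · right
    refine ⟨hreal, ?_⟩
    have hne : ¬ χ = fun g => conj (χ g) := by
      intro heq
      apply hreal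
      intro g
      exact (congrFun heq g).symm
    rw [if_neg hne] at h1
    have h3 : r + s = 0 := by exact_mod_cast h1.symm
    have hr : r = 0 := by omega
    have hs : s = 0 := by omega
    rw [h2, hr, hs]; simp

theorem fsInd_ne_zero_iff {χ : G → ℂ} (hχ : IsIrrCharacter G χ) :
    fsInd χ ≠ 0 ↔ ∀ g, conj (χ g) = χ g := by
  rcases fsInd_cases hχ with ⟨h1, h2 | h2⟩ | ⟨h1, h2⟩
  · simp [h1, h2]
  · simp [h1, h2]
  · simp [h1, h2]

theorem conj_fsInd {χ : G → ℂ} (hχ : IsIrrCharacter G χ) : conj (fsInd χ) = fsInd χ := by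
  rcases fsInd_cases hχ with ⟨-, h2 | h2⟩ | ⟨-, h2⟩ <;> simp [h2]

/-- The number of square roots of `g`, as a complex number. -/
noncomputable def sqrtCount (g : G) : ℂ := by
  classical
  exact ∑ u : G, if u * u = g then (1 : ℂ) else 0

theorem isClassFunction_sqrtCount : IsClassFunction G (sqrtCount (G := G)) := by
  classical
  intro g h
  unfold sqrtCount
  rw [← Equiv.sum_comp (MulAut.conj h).toEquiv]
  apply Finset.sum_congr rfl
  intro u _
  have : (MulAut.conj h).toEquiv u * (MulAut.conj h).toEquiv u = h * g * h⁻¹ ↔ u * u = g := by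
    simp only [MulEquiv.toEquiv_eq_coe, MulEquiv.coe_toEquiv, MulAut.conj_apply]
    constructor
    · intro h1
      have : h * (u * u) * h⁻¹ = h * g * h⁻¹ := by rw [← h1]; group
      simpa using this
    · intro h1
      rw [← h1]; group
  simp only [this]

theorem classInner_sqrtCount {χ : G → ℂ} (hχ : IsIrrCharacter G χ) :
    classInner (sqrtCount (G := G)) χ = fsInd χ := by
  classical
  rw [← conj_fsInd hχ]
  unfold classInner fsInd sqrtCount
  rw [map_mul, map_inv₀, Complex.conj_natCast, map_sum]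
  congr 1
  simp only [Finset.sum_mul]
  rw [Finset.sum_comm]
  apply Finset.sum_congr rfl
  intro u _
  simp only [ite_mul, one_mul, zero_mul]
  rw [Finset.sum_ite_eq]
  simp

/-- The number of square roots of `g` is `∑ χ, ν(χ) χ(g)`. -/
theorem sum_fsInd_mul [Fintype (IrrCharacter G)] (g : G) :
    ∑ χ : IrrCharacter G, fsInd (χ : G → ℂ) * (χ : G → ℂ) g = sqrtCount g := by
  have h := congrFun (classFunction_expansion (isClassFunction_sqrtCount (G := G))) g
  rw [h, Finset.sum_apply]
  apply Finset.sum_congr rfl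
  intro χ _
  rw [Pi.smul_apply, smul_eq_mul, classInner_sqrtCount χ.2]

end FS

end Cfsg.Agent.Helper24
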