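import Mathlib
import Cfsg.Prelude.Def_Blocks
import Cfsg.Agent.Lib.Helper24.CharLinear
import Cfsg.Agent.Lib.Helper24.CharComplete
import Cfsg.Agent.Lib.Helper24.FrobeniusSchur
import Cfsg.Agent.Lib.Helper16.ITODefs

/-!
# S4707 (Ito, degree 2p), PIECE LAM2NAT: the alternating square has natural multiplicities (helper24)
-/

set_option autoImplicit false
set_option linter.unusedSectionVars false
set_option linter.unusedVariables false

namespace Cfsg.Agent.Helper16.ITO

open scoped ComplexConjugate Kronecker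
open Cfsg Cfsg.Agent.Helper24

universe u

namespace LAM2NAT

variable {G : Type u} [Group G] [Fintype G]

/-- the contragredient of a matrix representation -/
noncomputable def dualMat {m : ℕ} (S : G →* Matrix (Fin m) (Fin m) ℂ) :
    G →* Matrix (Fin m) (Fin m) ℂ where
  toFun g := (S g⁻¹).transpose
  map_one' := by rw [inv_one, map_one, Matrix.transpose_one]
  map_mul' g h := by rw [mul_inv_rev, map_mul, Matrix.transpose_mul]

/-- the Kronecker product of two matrix representations -/
noncomputable def kronHom {ι κ : Type*} [Fintype ι] [DecidableEq ι] [Fintype κ] [DecidableEq κ]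
    (A : G →* Matrix ι ι ℂ) (B : G →* Matrix κ κ ℂ) : G →* Matrix (ι × κ) (ι × κ) ℂ where
  toFun g := A g ⊗ₖ B g
  map_one' := by rw [map_one, map_one, Matrix.one_kronecker_one]
  map_mul' g h := by rw [map_mul, map_mul, Matrix.mul_kronecker_mul]

end LAM2NAT

section Chars

variable {G : Type u} [Group G] [Fintype G]

/-- PIECE LAM2NAT. -/
theorem lam2_inner_nat {ζ χ : G → ℂ} (hζ : IsCharacter G ζ) (hχ : IsIrrCharacter G χ) :
    ∃ s : ℕ, classInner (lam2 ζ) χ = (s : ℂ) := by
  classical
  have hχc : IsCharacter G χ := isCharacter_of_isIrrCharacter hχ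
  have hinv : ∀ g : G, χ g⁻¹ = conj (χ g) := fun g => irr_inv hχc g
  obtain ⟨n, ρ, rfl⟩ := hζ
  obtain ⟨m, σ, hσ⟩ := hχc
  set K : G →* Matrix ((Fin n × Fin n) × Fin m) ((Fin n × Fin n) × Fin m) ℂ :=
    LAM2NAT.kronHom (kronSq (repMat ρ)) (LAM2NAT.dualMat (repMat σ)) with hK
  set T : Matrix ((Fin n × Fin n) × Fin m) ((Fin n × Fin n) × Fin m) ℂ :=
    swapMat (Fin n) ⊗ₖ (1 : Matrix (Fin m) (Fin m) ℂ) with hT
  have hKg : ∀ g, K g = (repMat ρ g ⊗ₖ repMat ρ g) ⊗ₖ (repMat σ g⁻¹).transpose := fun g => rfl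
  have hTT : T * T = 1 := by
    rw [hT, ← Matrix.mul_kronecker_mul, swapMat_mul_self, Matrix.one_mul,
      Matrix.one_kronecker_one]
  have hTK : ∀ g, T * K g = K g * T := by
    intro g
    rw [hKg, hT, ← Matrix.mul_kronecker_mul, ← Matrix.mul_kronecker_mul,
      swapMat_mul_kronecker, Matrix.one_mul, Matrix.mul_one]
  obtain ⟨r, s, h1, h2⟩ := exists_nat_add_sub K T hTT hTK
  have htr1 : ∀ g, (K g).trace = ρ.character g ^ 2 * conj (χ g) := by
    intro g
    rw [hKg, Matrix.trace_kronecker, Matrix.trace_kronecker, Matrix.trace_transpose,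
      trace_repMat, trace_repMat, hσ, hinv, pow_two]
  have htr2 : ∀ g, (T * K g).trace = ρ.character (g * g) * conj (χ g) := by
    intro g
    rw [hKg, hT, ← Matrix.mul_kronecker_mul, Matrix.one_mul, Matrix.trace_kronecker,
      Matrix.trace_transpose, trace_swapMat_mul_kronecker, ← map_mul, trace_repMat, trace_repMat,
      hσ, hinv]
  refine ⟨s, ?_⟩
  have hsum : classInner (lam2 ρ.character) χ =
      ((Nat.card G : ℂ)⁻¹ * ∑ g, (K g).trace - (Nat.card G : ℂ)⁻¹ * ∑ g, (T * K g).trace) / 2 := by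
    unfold classInner lam2
    rw [← mul_sub, ← Finset.sum_sub_distrib, mul_div_assoc, Finset.sum_div]
    congr 1
    apply Finset.sum_congr rfl
    intro g _
    rw [htr1, htr2]
    ring
  rw [hsum, h1, h2]
  ring

end Chars

end Cfsg.Agent.Helper16.ITO
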