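import Mathlib
import Cfsg.Agent.Lib.Helper22.W2PDefs
import Cfsg.Agent.Lib.Helper24.CharLinear
import Cfsg.Agent.Lib.Helper24.CharOrtho

/-!
# S0720 piece MULT (helper24): in the situation `Ctx2` the permutation character is multiplicity free
-/

set_option autoImplicit false

namespace Cfsg.Agent.Helper22.W2P

open Cfsg Cfsg.Agent.Helper22.PermCent Cfsg.Agent.Helper24

open scoped ComplexConjugate

universe u v

variable {G : Type u} [Group G] [Fintype G] {Ω : Type v} [Fintype Ω] [DecidableEq Ω]
  [MulAction G Ω]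

variable {p : ℕ} [Fact p.Prime] {π : G} {χ₁ ψ ψ' : G → ℂ}

namespace MULT

/-- the inner product of `θ = 1 + χ₁ + ψ + ψ'` with an irreducible character -/
theorem inner_theta (C : Ctx2 Ω p π χ₁ ψ ψ') {χ : G → ℂ} (hχ : IsIrrCharacter G χ) :
    classInner (theta G Ω) χ =
      (if (fun _ : G => (1 : ℂ)) = χ then 1 else 0) + (if χ₁ = χ then 1 else 0) +
        (if ψ = χ then 1 else 0) + (if ψ' = χ then 1 else 0) := by
  have h : theta G Ω = (fun _ : G => (1 : ℂ)) + χ₁ + ψ + ψ' := by
    rw [C.theta_eq]
    rfl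
  rw [h, classInner_add_left, classInner_add_left, classInner_add_left,
    irr_orthogonality isIrrCharacter_one hχ, irr_orthogonality C.irr₁ hχ,
    irr_orthogonality C.irrψ hχ, irr_orthogonality C.irrψ' hχ]

end MULT

/-- PIECE MULT: all four constituents have multiplicity one, the action is transitive, and the
rank is four. -/
theorem ctx_mult (C : Ctx2 Ω p π χ₁ ψ ψ') (hΩ : Fintype.card Ω = 2 * p) :
    classInner (theta G Ω) χ₁ = 1 ∧ classInner (theta G Ω) ψ = 1 ∧
      classInner (theta G Ω) ψ' = 1 ∧ classInner (theta G Ω) (fun _ => 1) = 1 ∧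
      ∀ χ : G → ℂ, IsIrrCharacter G χ →
        classInner (theta G Ω) χ = 0 ∨ classInner (theta G Ω) χ = 1 := by
  have h1 := C.ne₁
  have h2 := C.neψ
  have h3 := C.neψ'
  have h4 := C.ne₁ψ
  have h5 := C.ne₁ψ'
  have h6 := C.neψψ'
  refine ⟨?_, ?_, ?_, ?_, ?_⟩
  · rw [MULT.inner_theta C C.irr₁, if_neg (Ne.symm h1), if_pos rfl, if_neg (Ne.symm h4),
      if_neg (Ne.symm h5)]
    ring
  · rw [MULT.inner_theta C C.irrψ, if_neg (Ne.symm h2), if_neg h4, if_pos rfl,
      if_neg (Ne.symm h6)]
    ring
  · rw [MULT.inner_theta C C.irrψ', if_neg (Ne.symm h3), if_neg h5, if_neg h6, if_pos rfl]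
    ring
  · rw [MULT.inner_theta C isIrrCharacter_one, if_pos rfl, if_neg h1, if_neg h2, if_neg h3]
    ring
  · intro χ hχ
    rw [MULT.inner_theta C hχ]
    by_cases e0 : (fun _ : G => (1 : ℂ)) = χ
    · right
      subst e0
      rw [if_pos rfl, if_neg h1, if_neg h2, if_neg h3]
      ring
    · by_cases e1 : χ₁ = χ
      · right
        subst e1
        rw [if_neg e0, if_pos rfl, if_neg (Ne.symm h4), if_neg (Ne.symm h5)]
        ring
      · by_cases e2 : ψ = χ
        · right
          subst e2
          rw [if_neg e0, if_neg e1, if_pos rfl, if_neg (Ne.symm h6)]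
          ring
        · by_cases e3 : ψ' = χ
          · right
            rw [if_neg e0, if_neg e1, if_neg e2, if_pos e3]
            ring
          · left
            rw [if_neg e0, if_neg e1, if_neg e2, if_neg e3]
            ring

end Cfsg.Agent.Helper22.W2P
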