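import Mathlib
import Cfsg.Agent.Lib.Helper22.W2PDefs
import Cfsg.Agent.Lib.Helper14.BRBGALIRR
import Cfsg.Agent.Lib.Helper24.CharBasic
import Cfsg.Agent.Lib.Helper24.CharLinear
import Cfsg.Agent.Lib.Helper24.CharAlgebra

/-!
# S0720 piece GALINN (helper24): the multiplicity of a Galois conjugate in the permutation character
-/

set_option autoImplicit false

namespace Cfsg.Agent.Helper22.W2P

open Cfsg Cfsg.Agent.Helper22.PermCent Cfsg.Agent.Helper24

open scoped ComplexConjugate

universe u v

variable {G : Type u} [Group G] [Fintype G] {Ω : Type v} [Fintype Ω] [DecidableEq Ω]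
  [MulAction G Ω]

namespace GALINN

omit [Fintype G] [DecidableEq Ω] in
/-- the permutation character is a character -/
theorem isCharacter_theta : IsCharacter G (theta G Ω) := by
  have h : (Cfsg.permRep ℂ G Ω).character = theta G Ω := by
    funext g
    rw [permRep_character]
    rfl
  rw [← h]
  exact isCharacter_of_rep _

end GALINN

/-- PIECE GALINN. -/
theorem galois_inner (σ : ℂ ≃+* ℂ) {χ : G → ℂ} (hχ : IsIrrCharacter G χ) :
    classInner (theta G Ω) (fun g => σ (χ g)) = classInner (theta G Ω) χ := by
  have hχc := isCharacter_of_isIrrCharacter hχ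
  have hσc := Cfsg.Agent.Helper14.BRB.isCharacter_ringEquiv σ hχc
  have hθ : IsCharacter G (theta G Ω) := GALINN.isCharacter_theta
  letI : Fintype (IrrCharacter G) := irrFintype
  obtain ⟨n, hn⟩ := classInner_char_nat hθ hχc
  have hconj : ∀ g : G, conj (σ (χ g)) = σ (conj (χ g)) := by
    intro g
    rw [← irr_inv hσc g, ← irr_inv hχc g]
  have hθσ : ∀ g : G, σ (theta G Ω g) = theta G Ω g := by
    intro g
    unfold theta
    rw [map_natCast]
  have h2 : classInner (theta G Ω) (fun g => σ (χ g)) = σ (classInner (theta G Ω) χ) := by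
    unfold classInner
    rw [map_mul, map_inv₀, map_natCast, map_sum]
    congr 1
    refine Finset.sum_congr rfl fun g _ => ?_
    rw [map_mul, hconj g, hθσ g]
  rw [h2, hn, map_natCast]

end Cfsg.Agent.Helper22.W2P
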