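import Mathlib
import Cfsg.Prelude.Def_Blocks
import Cfsg.Agent.Lib.Helper24.ITORATCore
import Cfsg.Agent.Lib.Helper12.ITOGALY

/-!
# S4707 (Ito, degree 2p), PIECE RAT: exceptional characters are integer-valued on `p`-regular
elements   (helper24; uses helper12's piece GALY)
-/

set_option autoImplicit false
set_option linter.unusedSectionVars false
set_option linter.unusedVariables false

namespace Cfsg.Agent.Helper16.ITO

open scoped ComplexConjugate
open Cfsg Cfsg.Agent.Helper24

universe u

variable {G : Type u} [Group G] [Fintype G]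
variable (p : ℕ) [Fact p.Prime] (P : Subgroup G)
variable {p} {P}

/-- PIECE RAT: exceptional characters take rational integer values on `p`-regular elements. -/
theorem int_value (D : B0Data p P) (hp : 3 < p) (hcard : Nat.card P = p) {ζ : IrrCharacter G}
    (hζ : ζ ∈ D.Y) {g : G} (hg : ¬ p ∣ orderOf g) : ∃ n : ℤ, (ζ : G → ℂ) g = (n : ℂ) :=
  RAT.int_value_core D (fun hk _ hζ' => galois_mem D hp hcard hk hζ') hζ hg

end Cfsg.Agent.Helper16.ITO
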