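import Mathlib
import Cfsg.Prelude.Def_Transfer
import Cfsg.Agent.Lib.Helper16.KF9Defs

/-!
# S3805, piece GRP0 (helper24 for helper16): unpack the hypotheses of S3805 into `Hyp T`.
-/

set_option autoImplicit false
set_option linter.unusedSectionVars false
set_option linter.unusedVariables false

namespace Cfsg.Agent.Helper16.KF9

open Cfsg

universe u

section Grp

variable {G : Type u} [Group G] [Finite G] (T : Sylow 3 G)

/-- PIECE GRP0: unpack the hypotheses of S3805 -/
theorem hyp_of_statement (hT : Cfsg.IsElementaryAbelian 3 (T : Subgroup G)) (hcard : Nat.card T = 9)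
    (hC : Subgroup.centralizer ((T : Subgroup G) : Set G) = T)
    [hn : ((T : Subgroup G).subgroupOf (Subgroup.normalizer ((T : Subgroup G) : Set G))).Normal]
    (hK : IsKleinFour (↥(Subgroup.normalizer ((T : Subgroup G) : Set G)) ⧸
      (T : Subgroup G).subgroupOf (Subgroup.normalizer ((T : Subgroup G) : Set G))))
    (hloc : ∀ t ∈ (T : Subgroup G), t ≠ 1 →
      Subgroup.centralizer ({t} : Set G) ≤ Subgroup.normalizer ((T : Subgroup G) : Set G)) :
    Hyp T := by
  have hle : (T : Subgroup G) ≤ Subgroup.normalizer ((T : Subgroup G) : Set G) :=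
    Subgroup.le_normalizer
  refine ⟨hcard, hT.2, ?_, hC, hloc, ?_, ?_⟩
  · intro x hx y hy
    have h1 := hT.1.is_comm.comm (⟨x, hx⟩ : (T : Subgroup G)) ⟨y, hy⟩
    exact congrArg Subtype.val h1
  · have h1 := Subgroup.card_eq_card_quotient_mul_card_subgroup
      ((T : Subgroup G).subgroupOf (Subgroup.normalizer ((T : Subgroup G) : Set G)))
    have h2 : Nat.card ((T : Subgroup G).subgroupOf (Subgroup.normalizer ((T : Subgroup G) : Set G)))
        = 9 := by
      rw [Nat.card_congr (Subgroup.subgroupOfEquivOfLe hle).toEquiv]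
      exact hcard
    rw [h1, h2, hK.card_four]
  · intro n hnN
    have h1 : ((⟨n, hnN⟩ : Subgroup.normalizer ((T : Subgroup G) : Set G)) :
        ↥(Subgroup.normalizer ((T : Subgroup G) : Set G)) ⧸
          (T : Subgroup G).subgroupOf (Subgroup.normalizer ((T : Subgroup G) : Set G))) ^ 2 = 1 := by
      rw [← hK.exponent_two]
      exact Monoid.pow_exponent_eq_one _
    rw [← QuotientGroup.mk_pow, QuotientGroup.eq_one_iff, Subgroup.mem_subgroupOf] at h1
    simpa [pow_two] using h1

end Grp

end Cfsg.Agent.Helper16.KF9
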