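import Mathlib
import Cfsg.Agent.Lib.Helper8.S3805ArithDefs

/-!
# S3805 piece LIN (helper24 for helper16): adapter from the five class values to helper8's lattice data.
-/

set_option autoImplicit false

namespace Cfsg.Agent.Helper16.KF9

open Cfsg.Agent.Helper8.S3805A

/-- numerators of `6 A k` in terms of `P 0, ..., P 4` -/
def lin_nA : Fin 3 → Fin 5 → ℤ := ![![1, 0, 2, 3, 0], ![1, 0, 2, -3, 0], ![-2, 0, 2, 0, 0]]
/-- numerators of `6 B j` in terms of `P 0, ..., P 4` -/
def lin_nB : Fin 3 → Fin 5 → ℤ := ![![0, 1, 2, 0, 3], ![0, 1, 2, 0, -3], ![0, -2, 2, 0, 0]]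
/-- the centralizer orders -/
def lin_D : Fin 5 → ℤ := ![18, 18, 9, 6, 6]

theorem lin_gramAA : ∀ k k' : Fin 3,
    ∑ i, lin_nA k i * lin_nA k' i * lin_D i = 36 * (if k = k' then 3 else 0) := by decide

theorem lin_gramBB : ∀ k k' : Fin 3,
    ∑ i, lin_nB k i * lin_nB k' i * lin_D i = 36 * (if k = k' then 3 else 0) := by decide

theorem lin_gramAB : ∀ k j : Fin 3,
    ∑ i, lin_nA k i * lin_nB j i * lin_D i = 36 * 1 := by decide

theorem lin_bilin {ι : Type*} [Fintype ι] (P : Fin 5 → ι → ℤ)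
    (hG : ∀ i j, ∑ X, P i X * P j X = if i = j then lin_D i else 0) (u v : Fin 5 → ℤ) :
    ∑ X, (∑ i, u i * P i X) * (∑ j, v j * P j X) = ∑ i, u i * v i * lin_D i := by
  calc ∑ X, (∑ i, u i * P i X) * (∑ j, v j * P j X)
      = ∑ X, ∑ i, ∑ j, (u i * v j) * (P i X * P j X) := by
        refine Finset.sum_congr rfl fun X _ => ?_
        rw [Finset.sum_mul_sum]
        refine Finset.sum_congr rfl fun i _ => Finset.sum_congr rfl fun j _ => by ring
    _ = ∑ i, ∑ j, ∑ X, (u i * v j) * (P i X * P j X) := by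
        rw [Finset.sum_comm]
        refine Finset.sum_congr rfl fun i _ => Finset.sum_comm
    _ = ∑ i, ∑ j, (u i * v j) * (if i = j then lin_D i else 0) := by
        refine Finset.sum_congr rfl fun i _ => Finset.sum_congr rfl fun j _ => ?_
        rw [← Finset.mul_sum, hG]
    _ = ∑ i, u i * v i * lin_D i := by
        refine Finset.sum_congr rfl fun i _ => ?_
        simp [Finset.sum_ite_eq]

/-- PIECE LIN -/
theorem exists_lattice {ι : Type*} [Fintype ι] [DecidableEq ι] (o : ι) (d : ι → ℤ) (P : Fin 5 → ι → ℤ)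
    (hG : ∀ i j, ∑ X, P i X * P j X = if i = j then ((![18, 18, 9, 6, 6] : Fin 5 → ℤ) i) else 0)
    (hd : ∀ i, ∑ X, P i X * d X = 0)
    (ho : ∀ i, P i o = 1)
    (h30 : ∀ X, (3 : ℤ) ∣ P 0 X - P 2 X) (h31 : ∀ X, (3 : ℤ) ∣ P 1 X - P 2 X)
    (h20 : ∀ X, (2 : ℤ) ∣ P 3 X - P 0 X) (h21 : ∀ X, (2 : ℤ) ∣ P 4 X - P 1 X) :
    ∃ A B : Fin 3 → ι → ℤ, Lat o A B ∧
      (∀ X, p1 A X = P 0 X) ∧ (∀ X, p1 B X = P 1 X) ∧ (∀ X, p3 A X = P 2 X) ∧
      (∀ k, ∑ X, (A k X : ℚ) * (d X : ℚ) = 0) ∧ (∀ j, ∑ X, (B j X : ℚ) * (d X : ℚ) = 0) := by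
  have hG' : ∀ i j, ∑ X, P i X * P j X = if i = j then lin_D i else 0 := hG
  have hdivA : ∀ k X, (6 : ℤ) ∣ ∑ i, lin_nA k i * P i X := by
    intro k X
    have e0 := h30 X
    have e2 := h20 X
    fin_cases k <;> simp [lin_nA, Fin.sum_univ_five] <;> omega
  have hdivB : ∀ k X, (6 : ℤ) ∣ ∑ i, lin_nB k i * P i X := by
    intro k X
    have e1 := h31 X
    have e3 := h21 X
    fin_cases k <;> simp [lin_nB, Fin.sum_univ_five] <;> omega
  obtain ⟨A, hAdef⟩ : ∃ A : Fin 3 → ι → ℤ, A = fun k X => (∑ i, lin_nA k i * P i X) / 6 := ⟨_, rfl⟩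
  obtain ⟨B, hBdef⟩ : ∃ B : Fin 3 → ι → ℤ, B = fun k X => (∑ i, lin_nB k i * P i X) / 6 := ⟨_, rfl⟩
  have hA6 : ∀ k X, 6 * A k X = ∑ i, lin_nA k i * P i X := by
    intro k X
    rw [hAdef]
    exact Int.mul_ediv_cancel' (hdivA k X)
  have hB6 : ∀ k X, 6 * B k X = ∑ i, lin_nB k i * P i X := by
    intro k X
    rw [hBdef]
    exact Int.mul_ediv_cancel' (hdivB k X)
  have hA0 : ∀ X, 6 * A 0 X = P 0 X + 2 * P 2 X + 3 * P 3 X := by
    intro X
    rw [hA6]; simp [lin_nA, Fin.sum_univ_five]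
  have hA1 : ∀ X, 6 * A 1 X = P 0 X + 2 * P 2 X - 3 * P 3 X := by
    intro X
    rw [hA6]; simp [lin_nA, Fin.sum_univ_five]; ring
  have hA2 : ∀ X, 6 * A 2 X = -2 * P 0 X + 2 * P 2 X := by
    intro X
    rw [hA6]; simp [lin_nA, Fin.sum_univ_five]
  have hB0 : ∀ X, 6 * B 0 X = P 1 X + 2 * P 2 X + 3 * P 4 X := by
    intro X
    rw [hB6]; simp [lin_nB, Fin.sum_univ_five]
  have hB1 : ∀ X, 6 * B 1 X = P 1 X + 2 * P 2 X - 3 * P 4 X := by
    intro X
    rw [hB6]; simp [lin_nB, Fin.sum_univ_five]; ring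
  have hB2 : ∀ X, 6 * B 2 X = -2 * P 1 X + 2 * P 2 X := by
    intro X
    rw [hB6]; simp [lin_nB, Fin.sum_univ_five]
  have hAA : ∀ k k', ∑ X, A k X * A k' X = if k = k' then 3 else 0 := by
    intro k k'
    have h1 : 36 * ∑ X, A k X * A k' X = ∑ i, lin_nA k i * lin_nA k' i * lin_D i := by
      rw [← lin_bilin P hG' (lin_nA k) (lin_nA k'), Finset.mul_sum]
      refine Finset.sum_congr rfl fun X _ => ?_
      rw [← hA6 k X, ← hA6 k' X]; ring
    rw [lin_gramAA k k'] at h1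
    exact mul_left_cancel₀ (by norm_num) h1
  have hBB : ∀ k k', ∑ X, B k X * B k' X = if k = k' then 3 else 0 := by
    intro k k'
    have h1 : 36 * ∑ X, B k X * B k' X = ∑ i, lin_nB k i * lin_nB k' i * lin_D i := by
      rw [← lin_bilin P hG' (lin_nB k) (lin_nB k'), Finset.mul_sum]
      refine Finset.sum_congr rfl fun X _ => ?_
      rw [← hB6 k X, ← hB6 k' X]; ring
    rw [lin_gramBB k k'] at h1
    exact mul_left_cancel₀ (by norm_num) h1
  have hAB : ∀ k j, ∑ X, A k X * B j X = 1 := by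
    intro k j
    have h1 : 36 * ∑ X, A k X * B j X = ∑ i, lin_nA k i * lin_nB j i * lin_D i := by
      rw [← lin_bilin P hG' (lin_nA k) (lin_nB j), Finset.mul_sum]
      refine Finset.sum_congr rfl fun X _ => ?_
      rw [← hA6 k X, ← hB6 j X]; ring
    rw [lin_gramAB k j] at h1
    exact mul_left_cancel₀ (by norm_num) h1
  have hdA : ∀ k, ∑ X, A k X * d X = 0 := by
    intro k
    have h1 : 6 * ∑ X, A k X * d X = 0 := by
      rw [Finset.mul_sum]
      calc ∑ X, 6 * (A k X * d X) = ∑ X, ∑ i, lin_nA k i * (P i X * d X) := by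
            refine Finset.sum_congr rfl fun X _ => ?_
            rw [← mul_assoc, hA6 k X, Finset.sum_mul]
            refine Finset.sum_congr rfl fun i _ => by ring
        _ = ∑ i, lin_nA k i * ∑ X, P i X * d X := by
            rw [Finset.sum_comm]
            refine Finset.sum_congr rfl fun i _ => ?_
            rw [Finset.mul_sum]
        _ = 0 := by simp [hd]
    exact (mul_eq_zero.mp h1).resolve_left (by norm_num)
  have hdB : ∀ k, ∑ X, B k X * d X = 0 := by
    intro k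
    have h1 : 6 * ∑ X, B k X * d X = 0 := by
      rw [Finset.mul_sum]
      calc ∑ X, 6 * (B k X * d X) = ∑ X, ∑ i, lin_nB k i * (P i X * d X) := by
            refine Finset.sum_congr rfl fun X _ => ?_
            rw [← mul_assoc, hB6 k X, Finset.sum_mul]
            refine Finset.sum_congr rfl fun i _ => by ring
        _ = ∑ i, lin_nB k i * ∑ X, P i X * d X := by
            rw [Finset.sum_comm]
            refine Finset.sum_congr rfl fun i _ => ?_
            rw [Finset.mul_sum]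
        _ = 0 := by simp [hd]
    exact (mul_eq_zero.mp h1).resolve_left (by norm_num)
  refine ⟨A, B, ⟨hAA, hBB, hAB, ?_, ?_, ?_⟩, ?_, ?_, ?_, ?_, ?_⟩
  · intro X
    rw [Fin.sum_univ_three, Fin.sum_univ_three]
    have := hA0 X; have := hA1 X; have := hA2 X
    have := hB0 X; have := hB1 X; have := hB2 X
    omega
  · intro k
    have h0 := hA0 o; have h1 := hA1 o; have h2 := hA2 o
    simp only [ho] at h0 h1 h2
    fin_cases k <;> simp <;> omega
  · intro k
    have h0 := hB0 o; have h1 := hB1 o; have h2 := hB2 o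
    simp only [ho] at h0 h1 h2
    fin_cases k <;> simp <;> omega
  · intro X
    unfold p1
    have := hA0 X; have := hA1 X; have := hA2 X
    omega
  · intro X
    unfold p1
    have := hB0 X; have := hB1 X; have := hB2 X
    omega
  · intro X
    unfold p3
    have := hA0 X; have := hA1 X; have := hA2 X
    omega
  · intro k
    have h1 : ((∑ X, A k X * d X : ℤ) : ℚ) = 0 := by rw [hdA k]; simp
    rw [← h1]; push_cast; rfl
  · intro k
    have h1 : ((∑ X, B k X * d X : ℤ) : ℚ) = 0 := by rw [hdB k]; simp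
    rw [← h1]; push_cast; rfl

end Cfsg.Agent.Helper16.KF9
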