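import Mathlib
import Cfsg.Agent.Lib.Helper24.KF9CharCore

/-!
# S3805, piece MOD3 (helper24 for helper16): `χ(1) ≡ χ(g) mod 3` for `g` of order 3 with integer value.
-/

set_option autoImplicit false
set_option linter.unusedSectionVars false
set_option linter.unusedVariables false

namespace Cfsg.Agent.Helper16.KF9

open Cfsg Cfsg.Agent.Helper24
open scoped ComplexConjugate

universe u

section Chr

variable {G : Type u} [Group G] [Finite G]

/-- PIECE MOD3: `χ(1) ≡ χ(g) mod 3` for `g` of order 3 with integer value -/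
theorem mod_three {χ : G → ℂ} (hχ : IsCharacter G χ) {g : G} (hg : orderOf g = 3) (n : ℤ)
    (hn : χ g = (n : ℂ)) : ∃ k : ℤ, (charDegree χ : ℤ) - n = 3 * k := by
  have hdeg := char_one_eq_charDegree hχ
  obtain ⟨d, ρ, rfl⟩ := hχ
  have hg3 : g ^ 3 = 1 := by rw [← hg]; exact pow_orderOf_eq_one g
  obtain ⟨μ, hμ, hk⟩ := charcore_roots ρ g (by norm_num : 0 < 3) hg3
  have h0 : ρ.character 1 = ∑ i : Fin (Module.finrank ℂ (Fin d → ℂ)), (1 : ℂ) := by
    have h := hk 0
    simp only [pow_zero] at h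
    exact h
  have h1 : ρ.character g = ∑ i, μ i := by simpa using hk 1
  have h2 : ρ.character (g ^ 2) = ∑ i, μ i ^ 2 := hk 2
  have hg2 : g ^ 2 = g⁻¹ := by
    rw [eq_inv_iff_mul_eq_one, ← pow_succ]; exact hg3
  have h3 : ρ.character (g ^ 2) = (n : ℂ) := by
    rw [hg2, char_inv, hn]; simp
  have hterm : ∀ i, ∃ c : ℤ, 1 + μ i + μ i ^ 2 = 3 * (c : ℂ) := by
    intro i
    rcases charcore_cube (hμ i) with h0 | h0
    · exact ⟨1, by rw [h0]; norm_num⟩
    · exact ⟨0, by push_cast; linear_combination h0⟩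
  choose c hc using hterm
  have hsum : ∑ i, (1 + μ i + μ i ^ 2) = ∑ i, 3 * (c i : ℂ) :=
    Finset.sum_congr rfl (fun i _ => hc i)
  rw [Finset.sum_add_distrib, Finset.sum_add_distrib, ← h0, ← h1, ← h2, h3, hn, hdeg,
    ← Finset.mul_sum] at hsum
  have hZ : ((charDegree ρ.character : ℤ)) + n + n = 3 * ∑ i, c i := by
    have h5 : (((charDegree ρ.character : ℤ) + n + n : ℤ) : ℂ) = ((3 * ∑ i, c i : ℤ) : ℂ) := by
      push_cast
      exact hsum
    exact_mod_cast h5
  exact ⟨∑ i, c i - n, by linarith⟩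

end Chr

end Cfsg.Agent.Helper16.KF9
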