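import Mathlib
import Cfsg.Agent.Lib.Helper16.KF9Defs

/-!
# S3805, piece GEN (helper24 for helper16): coordinates on `T = ⟨t1⟩ × ⟨t2⟩`.
-/

set_option autoImplicit false
set_option linter.unusedSectionVars false
set_option linter.unusedVariables false

namespace Cfsg.Agent.Helper16.KF9

open Cfsg

universe u

section Grp

variable {G : Type u} [Group G] [Finite G] {T : Sylow 3 G}

/-- two cyclic groups of order 3 meeting nontrivially: the generator of one lies in the other -/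
theorem gen_mem_of_mem {t1 t2 z : G} (o2 : orderOf t2 = 3) (hz1 : z ∈ Subgroup.zpowers t1)
    (hz2 : z ∈ Subgroup.zpowers t2) (hne : z ≠ 1) : t2 ∈ Subgroup.zpowers t1 := by
  haveI : Fact (Nat.Prime 3) := ⟨by norm_num⟩
  have hcard : Nat.card (Subgroup.zpowers t2) = 3 := by rw [Nat.card_zpowers, o2]
  have h1 : Subgroup.zpowers (⟨z, hz2⟩ : Subgroup.zpowers t2) = ⊤ :=
    zpowers_eq_top_of_prime_card hcard (by
      intro h
      apply hne
      exact congrArg Subtype.val h)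
  have h2 : (⟨t2, Subgroup.mem_zpowers t2⟩ : Subgroup.zpowers t2) ∈
      Subgroup.zpowers (⟨z, hz2⟩ : Subgroup.zpowers t2) := by
    rw [h1]; trivial
  obtain ⟨n, hn⟩ := Subgroup.mem_zpowers_iff.mp h2
  have h3 : z ^ n = t2 := by
    have h4 := congrArg Subtype.val hn
    simpa using h4
  rw [← h3]
  exact zpow_mem hz1 n

/-- powers below the order 3 are determined by the exponent -/
theorem gen_pow_inj {t : G} (o : orderOf t = 3) (i k : Fin 3) (he : t ^ (i : ℕ) = t ^ (k : ℕ)) :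
    i = k := by
  have h1 := pow_eq_pow_iff_modEq.mp he
  rw [o] at h1
  have hi := i.isLt
  have hk := k.isLt
  unfold Nat.ModEq at h1
  apply Fin.ext
  omega

/-- PIECE GEN: coordinates on `T` are unique -/
theorem coord_inj (h : Hyp T) (c : Cfg T) (i j k l : Fin 3)
    (he : c.t1 ^ (i : ℕ) * c.t2 ^ (j : ℕ) = c.t1 ^ (k : ℕ) * c.t2 ^ (l : ℕ)) : i = k ∧ j = l := by
  have hz : c.t2 ^ (j : ℕ) * (c.t2 ^ (l : ℕ))⁻¹ = (c.t1 ^ (i : ℕ))⁻¹ * c.t1 ^ (k : ℕ) := by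
    have h1 : c.t2 ^ (j : ℕ) = (c.t1 ^ (i : ℕ))⁻¹ * (c.t1 ^ (k : ℕ) * c.t2 ^ (l : ℕ)) := by
      rw [← he]; group
    rw [h1]; group
  have hz1 : c.t2 ^ (j : ℕ) * (c.t2 ^ (l : ℕ))⁻¹ ∈ Subgroup.zpowers c.t1 := by
    rw [hz]
    exact mul_mem (inv_mem (pow_mem (Subgroup.mem_zpowers _) _)) (pow_mem (Subgroup.mem_zpowers _) _)
  have hz2 : c.t2 ^ (j : ℕ) * (c.t2 ^ (l : ℕ))⁻¹ ∈ Subgroup.zpowers c.t2 :=
    mul_mem (pow_mem (Subgroup.mem_zpowers _) _) (inv_mem (pow_mem (Subgroup.mem_zpowers _) _))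
  have hone : c.t2 ^ (j : ℕ) * (c.t2 ^ (l : ℕ))⁻¹ = 1 := by
    by_contra hne
    exact c.ind (gen_mem_of_mem c.o2 hz1 hz2 hne)
  have hjl : j = l := gen_pow_inj c.o2 j l (mul_inv_eq_one.mp hone)
  subst hjl
  exact ⟨gen_pow_inj c.o1 i k (mul_right_cancel he), rfl⟩

/-- PIECE GEN: coordinates on `T` -/
theorem mem_iff_coord (h : Hyp T) (c : Cfg T) (t : G) :
    t ∈ (T : Subgroup G) ↔ ∃ i j : Fin 3, t = c.t1 ^ (i : ℕ) * c.t2 ^ (j : ℕ) := by
  constructor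
  · intro ht
    have hmem : ∀ p : Fin 3 × Fin 3, c.t1 ^ (p.1 : ℕ) * c.t2 ^ (p.2 : ℕ) ∈ (T : Subgroup G) :=
      fun p => mul_mem (pow_mem c.ht1 _) (pow_mem c.ht2 _)
    have hinj : Function.Injective
        (fun p : Fin 3 × Fin 3 => (⟨c.t1 ^ (p.1 : ℕ) * c.t2 ^ (p.2 : ℕ), hmem p⟩ : (T : Subgroup G))) := by
      intro p q hpq
      have h1 := congrArg Subtype.val hpq
      obtain ⟨h2, h3⟩ := coord_inj h c p.1 p.2 q.1 q.2 h1
      exact Prod.ext h2 h3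
    have hbij := hinj.bijective_of_nat_card_le (by
      rw [h.card]; simp)
    obtain ⟨p, hp⟩ := hbij.2 ⟨t, ht⟩
    exact ⟨p.1, p.2, (congrArg Subtype.val hp).symm⟩
  · rintro ⟨i, j, rfl⟩
    exact mul_mem (pow_mem c.ht1 _) (pow_mem c.ht2 _)

end Grp

end Cfsg.Agent.Helper16.KF9
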