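import Mathlib
import Cfsg.Agent.Lib.Helper16.KF9Defs
import Cfsg.Agent.Lib.Helper24.KF9GEN

/-!
# S3805, piece NORM (helper24 for helper16): every element of `N_G(T)` acts on `T` like `1`, `a`, `b` or `a b`.
-/

set_option autoImplicit false
set_option linter.unusedSectionVars false
set_option linter.unusedVariables false

namespace Cfsg.Agent.Helper16.KF9

open Cfsg

universe u

section Grp

variable {G : Type u} [Group G] [Finite G] {T : Sylow 3 G}

/-- the action of `n ∈ N_G(T)` on `T` commutes with the action of an involution `x ∈ N_G(T)`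
(because `N_G(T)/T` has exponent 2): it preserves the fixed points of `x` -/
theorem norm_fix (h : Hyp T) {x n t : G}
    (hx : x ∈ Subgroup.normalizer ((T : Subgroup G) : Set G)) (hxx : x * x = 1)
    (hn : n ∈ Subgroup.normalizer ((T : Subgroup G) : Set G)) (ht : t ∈ (T : Subgroup G))
    (hxt : x * t * x⁻¹ = t) : x * (n * t * n⁻¹) * x⁻¹ = n * t * n⁻¹ := by
  have hx_inv : x⁻¹ = x := inv_eq_of_mul_eq_one_right hxx
  have hu : x * n * (x * n) ∈ (T : Subgroup G) := h.sq (x * n) (mul_mem hx hn)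
  have hv : n * n ∈ (T : Subgroup G) := h.sq n hn
  have hw : x * n * x⁻¹ * n⁻¹ = (x * n * (x * n)) * (n * n)⁻¹ := by
    rw [hx_inv]; group
  have hwT : x * n * x⁻¹ * n⁻¹ ∈ (T : Subgroup G) := by
    rw [hw]; exact mul_mem hu (inv_mem hv)
  have hs : n * t * n⁻¹ ∈ (T : Subgroup G) := (Subgroup.mem_normalizer_iff.mp hn t).mp ht
  have hxt' : x⁻¹ * t * x = t := by
    calc x⁻¹ * t * x = x⁻¹ * (x * t * x⁻¹) * x := by rw [hxt]
      _ = t := by group
  calc x * (n * t * n⁻¹) * x⁻¹ = x * n * (x⁻¹ * t * x) * n⁻¹ * x⁻¹ := by rw [hxt']; group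
    _ = (x * n * x⁻¹ * n⁻¹) * (n * t * n⁻¹) * (x * n * x⁻¹ * n⁻¹)⁻¹ := by group
    _ = n * t * n⁻¹ := by
        rw [h.comm _ hwT _ hs]; group

/-- `t ^ j = t⁻¹ ^ j` with `t` of order 3 and `j < 3` forces `j = 0` -/
theorem norm_exp_zero {t : G} (o : orderOf t = 3) (j : Fin 3)
    (he : t ^ (j : ℕ) = t⁻¹ ^ (j : ℕ)) : j = 0 := by
  have h1 : t ^ (2 * (j : ℕ)) = 1 := by
    rw [two_mul, pow_add]
    nth_rewrite 2 [he]
    rw [inv_pow, mul_inv_cancel]
  have h2 := orderOf_dvd_of_pow_eq_one h1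
  rw [o] at h2
  have hj := j.isLt
  apply Fin.ext
  simp only [Fin.val_zero]
  omega

/-- a nontrivial power of an element of order 3 is the element or its inverse -/
theorem norm_pow_cases {t s : G} (o : orderOf t = 3) (i : Fin 3) (hs : s = t ^ (i : ℕ))
    (hne : s ≠ 1) : s = t ∨ s = t⁻¹ := by
  have h3 : t ^ 3 = 1 := by rw [← o]; exact pow_orderOf_eq_one t
  fin_cases i
  · exfalso; apply hne; rw [hs]; simp
  · left; rw [hs]; simp
  · right
    rw [hs]
    show t ^ 2 = t⁻¹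
    rw [eq_inv_iff_mul_eq_one, ← pow_succ]; exact h3

/-- PIECE NORM: every element of `N_G(T)` acts on `T` like `1`, `a`, `b` or `a b` -/
theorem normalizer_action (h : Hyp T) (c : Cfg T) {n : G}
    (hn : n ∈ Subgroup.normalizer ((T : Subgroup G) : Set G)) :
    (n * c.t1 * n⁻¹ = c.t1 ∨ n * c.t1 * n⁻¹ = c.t1⁻¹) ∧
      (n * c.t2 * n⁻¹ = c.t2 ∨ n * c.t2 * n⁻¹ = c.t2⁻¹) := by
  have hne1 : c.t1 ≠ 1 := by
    intro h1
    have := c.o1
    rw [h1, orderOf_one] at this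
    norm_num at this
  have hne2 : c.t2 ≠ 1 := by
    intro h1
    have := c.o2
    rw [h1, orderOf_one] at this
    norm_num at this
  constructor
  · have hs : n * c.t1 * n⁻¹ ∈ (T : Subgroup G) := (Subgroup.mem_normalizer_iff.mp hn _).mp c.ht1
    have hfix := norm_fix h c.hb c.bb hn c.ht1 c.b1
    obtain ⟨i, j, hij⟩ := (mem_iff_coord h c _).mp hs
    have hconj : c.b * (c.t1 ^ (i : ℕ) * c.t2 ^ (j : ℕ)) * c.b⁻¹ =
        c.t1 ^ (i : ℕ) * c.t2⁻¹ ^ (j : ℕ) := by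
      calc c.b * (c.t1 ^ (i : ℕ) * c.t2 ^ (j : ℕ)) * c.b⁻¹
          = (c.b * c.t1 ^ (i : ℕ) * c.b⁻¹) * (c.b * c.t2 ^ (j : ℕ) * c.b⁻¹) := by group
        _ = c.t1 ^ (i : ℕ) * c.t2⁻¹ ^ (j : ℕ) := by
            rw [← conj_pow, ← conj_pow, c.b1, c.b2]
    rw [hij, hconj] at hfix
    have hj : j = 0 := norm_exp_zero c.o2 j (mul_left_cancel hfix).symm
    rw [hj] at hij
    simp only [Fin.val_zero, pow_zero, mul_one] at hij
    refine norm_pow_cases c.o1 i hij ?_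
    intro h1
    apply hne1
    have : c.t1 = n⁻¹ * (n * c.t1 * n⁻¹) * n := by group
    rw [this, h1]; group
  · have hs : n * c.t2 * n⁻¹ ∈ (T : Subgroup G) := (Subgroup.mem_normalizer_iff.mp hn _).mp c.ht2
    have hfix := norm_fix h c.ha c.aa hn c.ht2 c.a2
    obtain ⟨i, j, hij⟩ := (mem_iff_coord h c _).mp hs
    have hconj : c.a * (c.t1 ^ (i : ℕ) * c.t2 ^ (j : ℕ)) * c.a⁻¹ =
        c.t1⁻¹ ^ (i : ℕ) * c.t2 ^ (j : ℕ) := by
      calc c.a * (c.t1 ^ (i : ℕ) * c.t2 ^ (j : ℕ)) * c.a⁻¹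
          = (c.a * c.t1 ^ (i : ℕ) * c.a⁻¹) * (c.a * c.t2 ^ (j : ℕ) * c.a⁻¹) := by group
        _ = c.t1⁻¹ ^ (i : ℕ) * c.t2 ^ (j : ℕ) := by
            rw [← conj_pow, ← conj_pow, c.a1, c.a2]
    rw [hij, hconj] at hfix
    have hi : i = 0 := norm_exp_zero c.o1 i (mul_right_cancel hfix).symm
    rw [hi] at hij
    simp only [Fin.val_zero, pow_zero, one_mul] at hij
    refine norm_pow_cases c.o2 j hij ?_
    intro h1
    apply hne2
    have : c.t2 = n⁻¹ * (n * c.t2 * n⁻¹) * n := by group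
    rw [this, h1]; group

end Grp

end Cfsg.Agent.Helper16.KF9
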