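import Mathlib
import Cfsg.Agent.Lib.Helper24.KF9CharCore

/-!
# S3805, piece RAT3 (helper24 for helper16): a character is integer valued on a real element of order 3.
-/

set_option autoImplicit false
set_option linter.unusedSectionVars false
set_option linter.unusedVariables false

namespace Cfsg.Agent.Helper16.KF9

open Cfsg Cfsg.Agent.Helper24
open scoped ComplexConjugate

universe u

section Chr

variable {G : Type u} [Group G] [Finite G]

/-- PIECE RAT3: a character is integer valued on an element of order 3 conjugate to its inverse -/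
theorem int_of_order_three {χ : G → ℂ} (hχ : IsCharacter G χ) {g : G} (hg : orderOf g = 3)
    (hc : IsConj g g⁻¹) : ∃ n : ℤ, χ g = (n : ℂ) := by
  have hcf := isClassFunction_of_isCharacter hχ
  have hint : IsIntegral ℤ (χ g) := isIntegral_of_isCharacter hχ g
  obtain ⟨n, ρ, rfl⟩ := hχ
  have hg3 : g ^ 3 = 1 := by rw [← hg]; exact pow_orderOf_eq_one g
  obtain ⟨μ, hμ, hk⟩ := charcore_roots ρ g (by norm_num : 0 < 3) hg3
  have h1 : ρ.character g = ∑ i, μ i := by simpa using hk 1
  have h2 : ρ.character (g ^ 2) = ∑ i, μ i ^ 2 := hk 2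
  have hg2 : g ^ 2 = g⁻¹ := by
    rw [eq_inv_iff_mul_eq_one, ← pow_succ]; exact hg3
  have h3 : ρ.character (g ^ 2) = ρ.character g := by
    rw [hg2]
    obtain ⟨c, hc'⟩ := isConj_iff.mp hc
    rw [← hc']; exact hcf g c
  have hterm : ∀ i, ∃ c : ℤ, μ i + μ i ^ 2 = (c : ℂ) := by
    intro i
    rcases charcore_cube (hμ i) with h0 | h0
    · exact ⟨2, by rw [h0]; norm_num⟩
    · exact ⟨-1, by push_cast; linear_combination h0⟩
  choose c hc' using hterm
  apply charcore_int_of_two_mul _ hint (∑ i, c i)
  have h4 : (2 : ℂ) * ρ.character g = ∑ i, (μ i + μ i ^ 2) := by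
    rw [Finset.sum_add_distrib, ← h1, ← h2, h3]; ring
  rw [h4]
  push_cast
  exact Finset.sum_congr rfl (fun i _ => hc' i)

end Chr

end Cfsg.Agent.Helper16.KF9
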