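import Mathlib
import Cfsg.Agent.Lib.Helper8.S3805ArithDefs

/-!
# S3805, piece CELL (helper24 for helper8): every cell `(k,j)` carries exactly one character `W k j`.
-/

set_option autoImplicit false

namespace Cfsg.Agent.Helper8.S3805A

variable {ι : Type*} [Fintype ι] [DecidableEq ι]

namespace CELL

/-- entries of an integer vector of norm 3 are in `{0,1,-1}` -/
theorem entries (f : ι → ℤ) (hf : ∑ X, f X * f X = 3) (X : ι) :
    f X = 0 ∨ f X = 1 ∨ f X = -1 := by
  have h1 : f X * f X ≤ ∑ Y, f Y * f Y :=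
    Finset.single_le_sum (f := fun Y => f Y * f Y) (fun Y _ => mul_self_nonneg (f Y))
      (Finset.mem_univ X)
  rw [hf] at h1
  have h2 : -1 ≤ f X := by nlinarith
  have h3 : f X ≤ 1 := by nlinarith
  omega

/-- an integer vector of norm 3 has exactly three nonzero entries -/
theorem card_supp (f : ι → ℤ) (hf : ∑ X, f X * f X = 3) :
    (Finset.univ.filter (fun X => f X ≠ 0)).card = 3 := by
  have h1 : ∀ X, f X * f X = if f X ≠ 0 then 1 else 0 := by
    intro X
    rcases entries f hf X with h | h | h <;> simp [h]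
  have h2 : ∑ X, f X * f X = ((Finset.univ.filter (fun X => f X ≠ 0)).card : ℤ) := by
    rw [Finset.sum_congr rfl (fun X _ => h1 X), Finset.sum_boole]
  rw [hf] at h2
  exact_mod_cast h2.symm

/-- two norm-3 vectors with inner product 1, plus a third vector `h` orthogonal to `f` with
`(h,g) = 1`: the supports of `f` and `g` meet in exactly one point, where `f = g`. -/
theorem overlap (f g h : ι → ℤ) (hf : ∀ X, f X = 0 ∨ f X = 1 ∨ f X = -1)
    (hg : ∀ X, g X = 0 ∨ g X = 1 ∨ g X = -1)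
    (hff : ∑ X, f X * f X = 3) (hgg : ∑ X, g X * g X = 3) (hfg : ∑ X, f X * g X = 1)
    (hhf : ∑ X, h X * f X = 0) (hhg : ∑ X, h X * g X = 1) :
    (∀ X, f X ≠ 0 → g X ≠ 0 → f X = g X) ∧
      (Finset.univ.filter (fun X => f X ≠ 0 ∧ g X ≠ 0)).card = 1 := by
  have key : ∀ X, f X ≠ 0 → g X ≠ 0 → f X = g X := by
    intro Z hfZ hgZ
    by_contra hne
    have h4 : (f Z - g Z) * (f Z - g Z) = 4 := by
      rcases hf Z with h1 | h1 | h1 <;> rcases hg Z with h2 | h2 | h2 <;> simp_all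
    have hsum : ∑ X, (f X - g X) * (f X - g X) = 4 := by
      have hexp : ∀ X, (f X - g X) * (f X - g X) = f X * f X - 2 * (f X * g X) + g X * g X :=
        fun X => by ring
      simp only [hexp, Finset.sum_add_distrib, Finset.sum_sub_distrib, ← Finset.mul_sum, hff, hgg,
        hfg]
      norm_num
    have hz : ∀ X, X ≠ Z → f X = g X := by
      intro X hX
      have h1 : ∑ X ∈ ({X, Z} : Finset ι), (f X - g X) * (f X - g X) ≤
          ∑ X, (f X - g X) * (f X - g X) :=
        Finset.sum_le_sum_of_subset_of_nonneg (Finset.subset_univ _)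
          (fun i _ _ => mul_self_nonneg _)
      rw [Finset.sum_pair hX, hsum, h4] at h1
      have h2 : (f X - g X) * (f X - g X) ≤ 0 := by linarith
      have h3 : f X - g X = 0 := by nlinarith [mul_self_nonneg (f X - g X)]
      linarith
    have h5 : ∑ X, h X * (f X - g X) = h Z * (f Z - g Z) := by
      apply Finset.sum_eq_single Z
      · intro X _ hX
        rw [hz X hX]; ring
      · intro hZ
        exact absurd (Finset.mem_univ Z) hZ
    have h6 : ∑ X, h X * (f X - g X) = -1 := by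
      simp only [mul_sub, Finset.sum_sub_distrib, hhf, hhg]
      norm_num
    rw [h5] at h6
    rcases hf Z with h1 | h1 | h1 <;> rcases hg Z with h2 | h2 | h2 <;> simp_all <;> omega
  refine ⟨key, ?_⟩
  have h1 : ∀ X, f X * g X = if (f X ≠ 0 ∧ g X ≠ 0) then 1 else 0 := by
    intro X
    by_cases hfX : f X = 0
    · simp [hfX]
    by_cases hgX : g X = 0
    · simp [hgX]
    rw [if_pos ⟨hfX, hgX⟩, ← key X hfX hgX]
    rcases hf X with h | h | h <;> simp_all
  have h2 : ∑ X, f X * g X =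
      ((Finset.univ.filter (fun X => f X ≠ 0 ∧ g X ≠ 0)).card : ℤ) := by
    rw [Finset.sum_congr rfl (fun X _ => h1 X), Finset.sum_boole]
  rw [hfg] at h2
  exact_mod_cast h2.symm

theorem succ_ne : ∀ k : Fin 3, k + 1 ≠ k := by decide

end CELL

/-- PIECE CELL (steps 1-2 of the plan): every cell `(k,j)` carries exactly one character `W k j`. -/
theorem cell (o : ι) (A B : Fin 3 → ι → ℤ) (h : Lat o A B) :
    (∀ k X, A k X = 0 ∨ A k X = 1 ∨ A k X = -1) ∧ (∀ j X, B j X = 0 ∨ B j X = 1 ∨ B j X = -1) ∧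
    (∀ k, (Finset.univ.filter (fun X => A k X ≠ 0)).card = 3) ∧
    (∀ j, (Finset.univ.filter (fun X => B j X ≠ 0)).card = 3) ∧
    ∃ W : Fin 3 → Fin 3 → ι, W 0 0 = o ∧
      (∀ k j, A k (W k j) ≠ 0 ∧ B j (W k j) = A k (W k j)) ∧
      (∀ k j X, A k X ≠ 0 → B j X ≠ 0 → X = W k j) := by
  have hAA : ∀ k, ∑ X, A k X * A k X = 3 := fun k => by simpa using h.hAA k k
  have hBB : ∀ j, ∑ X, B j X * B j X = 3 := fun j => by simpa using h.hBB j j
  have hA : ∀ k X, A k X = 0 ∨ A k X = 1 ∨ A k X = -1 := fun k X => CELL.entries (A k) (hAA k) X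
  have hB : ∀ j X, B j X = 0 ∨ B j X = 1 ∨ B j X = -1 := fun j X => CELL.entries (B j) (hBB j) X
  have hov : ∀ k j, (∀ X, A k X ≠ 0 → B j X ≠ 0 → A k X = B j X) ∧
      (Finset.univ.filter (fun X => A k X ≠ 0 ∧ B j X ≠ 0)).card = 1 := by
    intro k j
    refine CELL.overlap (A k) (B j) (A (k + 1)) (hA k) (hB j) (hAA k) (hBB j) (h.hAB k j) ?_
      (h.hAB (k + 1) j)
    have h1 := h.hAA (k + 1) k
    rwa [if_neg (CELL.succ_ne k)] at h1
  choose W hW using fun k j => Finset.card_eq_one.mp (hov k j).2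
  have hmem : ∀ k j X, (A k X ≠ 0 ∧ B j X ≠ 0) ↔ X = W k j := by
    intro k j X
    have h1 : X ∈ Finset.univ.filter (fun X => A k X ≠ 0 ∧ B j X ≠ 0) ↔ X ∈ ({W k j} : Finset ι) := by
      rw [hW k j]
    simpa using h1
  refine ⟨hA, hB, fun k => CELL.card_supp (A k) (hAA k), fun j => CELL.card_supp (B j) (hBB j),
    W, ?_, ?_, ?_⟩
  · have h1 : A 0 o ≠ 0 ∧ B 0 o ≠ 0 := by
      rw [h.hAo 0, h.hBo 0]; simp
    exact ((hmem 0 0 o).mp h1).symm
  · intro k j
    have h1 := (hmem k j (W k j)).mpr rfl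
    exact ⟨h1.1, ((hov k j).1 _ h1.1 h1.2).symm⟩
  · intro k j X h1 h2
    exact (hmem k j X).mp ⟨h1, h2⟩

end Cfsg.Agent.Helper8.S3805A
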