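import Mathlib
import Cfsg.Agent.Lib.Helper8.S3805ArithDefs
import Cfsg.Agent.Lib.Helper24.S3805CELL

/-!
# S3805, piece STRUCT (helper24 for helper8): `Lat` gives the GRID or an EXOTIC configuration.
-/

set_option autoImplicit false

namespace Cfsg.Agent.Helper8.S3805A

variable {ι : Type*} [Fintype ι] [DecidableEq ι]

namespace STRUCT

theorem fin3_inter : ∀ P P' : Finset (Fin 3), 2 ≤ P.card → 2 ≤ P'.card →
    ∃ k, k ∈ P ∧ k ∈ P' := by decide

theorem fin3_card_two : ∀ P : Finset (Fin 3), P.card = 2 → ∃ k0, ∀ k, k ∈ P ↔ k ≠ k0 := by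
  decide

theorem fin3_card_three : ∀ P : Finset (Fin 3), P.card = 3 → (0 : Fin 3) ∈ P := by decide

theorem fin3_card_le : ∀ P : Finset (Fin 3), P.card ≤ 3 := by decide

end STRUCT

/-- PIECE STRUCT (step 3 of the plan; uses `cell`). -/
theorem struct (o : ι) (A B : Fin 3 → ι → ℤ) (h : Lat o A B) :
    IsGrid o A B ∨ ∃ k0 j0, IsExotic o A B k0 j0 := by
  obtain ⟨hA, hB, hcA, hcB, W, hW0, hW, hWu⟩ := cell o A B h
  -- sign uniformity
  have hsign : ∀ X k j, A k X ≠ 0 → B j X ≠ 0 → A k X = B j X := by
    intro X k j h1 h2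
    have hX := hWu k j X h1 h2
    rw [hX]; exact ((hW k j).2).symm
  have hWB : ∀ k j, B j (W k j) ≠ 0 := by
    intro k j
    rw [(hW k j).2]; exact (hW k j).1
  have hPm : ∀ X k, k ∈ Finset.univ.filter (fun k => A k X ≠ 0) ↔ A k X ≠ 0 := by
    intro X k; simp
  have hQm : ∀ X j, j ∈ Finset.univ.filter (fun j => B j X ≠ 0) ↔ B j X ≠ 0 := by
    intro X j; simp
  -- |P| = |Q| when both nonempty
  have hcard : ∀ X k j, A k X ≠ 0 → B j X ≠ 0 →
      (Finset.univ.filter (fun k => A k X ≠ 0)).card =
        (Finset.univ.filter (fun j => B j X ≠ 0)).card := by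
    intro X k0 j0 hk0 hj0
    have hAe : ∀ k, A k X = if A k X ≠ 0 then A k0 X else 0 := by
      intro k
      by_cases hk : A k X = 0
      · simp [hk]
      · rw [if_pos hk]; exact (hsign X k j0 hk hj0).trans (hsign X k0 j0 hk0 hj0).symm
    have hBe : ∀ j, B j X = if B j X ≠ 0 then A k0 X else 0 := by
      intro j
      by_cases hj : B j X = 0
      · simp [hj]
      · rw [if_pos hj]; exact (hsign X k0 j hk0 hj).symm
    have h1 : ∑ k, A k X =
        ((Finset.univ.filter (fun k => A k X ≠ 0)).card : ℤ) * A k0 X := by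
      rw [Finset.sum_congr rfl (fun k _ => hAe k), ← Finset.sum_filter, Finset.sum_const,
        nsmul_eq_mul]
    have h2 : ∑ j, B j X =
        ((Finset.univ.filter (fun j => B j X ≠ 0)).card : ℤ) * A k0 X := by
      rw [Finset.sum_congr rfl (fun j _ => hBe j), ← Finset.sum_filter, Finset.sum_const,
        nsmul_eq_mul]
    have h3 := h.hrel X
    rw [h1, h2] at h3
    exact_mod_cast mul_right_cancel₀ hk0 h3
  have hAo' : ∀ k, A k o ≠ 0 → k = 0 := by
    intro k hk
    by_contra hne
    exact hk (by rw [h.hAo k, if_neg hne])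
  have hBo' : ∀ j, B j o ≠ 0 → j = 0 := by
    intro j hj
    by_contra hne
    exact hj (by rw [h.hBo j, if_neg hne])
  have heps : ∀ k j, A k (W k j) = 1 ∨ A k (W k j) = -1 := by
    intro k j
    rcases hA k (W k j) with h1 | h1 | h1
    · exact absurd h1 (hW k j).1
    · left; exact h1
    · right; exact h1
  have heps0 : A 0 (W 0 0) = 1 := by
    rw [hW0, h.hAo 0]; simp
  by_cases hinj : ∀ k j k' j', W k j = W k' j' → k = k' ∧ j = j'
  · left
    refine ⟨W, fun k j => A k (W k j), hW0, heps0, hinj, heps, ?_, ?_, ?_⟩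
    · intro k j k'
      by_cases hk : k' = k
      · subst hk; simp
      · rw [if_neg hk]
        by_contra hne
        have h1 := hWu k' j (W k j) hne (hWB k j)
        exact hk ((hinj _ _ _ _ h1).1).symm
    · intro k j j'
      by_cases hj : j' = j
      · subst hj; simp [(hW k j').2]
      · rw [if_neg hj]
        by_contra hne
        have h1 := hWu k j' (W k j) (hW k j).1 hne
        exact hj ((hinj _ _ _ _ h1).2).symm
    · intro X hX
      constructor
      · intro k
        by_contra hne
        have himg : Finset.univ.image (fun j => W k j) =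
            Finset.univ.filter (fun X => A k X ≠ 0) := by
          apply Finset.eq_of_subset_of_card_le
          · intro Y hY
            obtain ⟨j, -, rfl⟩ := Finset.mem_image.mp hY
            simp [(hW k j).1]
          · rw [hcA k, Finset.card_image_of_injective _ (fun j j' hjj => (hinj k j k j' hjj).2)]
            simp
        have h1 : X ∈ Finset.univ.image (fun j => W k j) := by
          rw [himg]; simp [hne]
        obtain ⟨j, -, hj⟩ := Finset.mem_image.mp h1
        exact hX k j hj.symm
      · intro j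
        by_contra hne
        have himg : Finset.univ.image (fun k => W k j) =
            Finset.univ.filter (fun X => B j X ≠ 0) := by
          apply Finset.eq_of_subset_of_card_le
          · intro Y hY
            obtain ⟨k, -, rfl⟩ := Finset.mem_image.mp hY
            simp [hWB k j]
          · rw [hcB j, Finset.card_image_of_injective _ (fun k k' hkk => (hinj k j k' j hkk).1)]
            simp
        have h1 : X ∈ Finset.univ.image (fun k => W k j) := by
          rw [himg]; simp [hne]
        obtain ⟨k, -, hk⟩ := Finset.mem_image.mp h1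
        exact hX k j hk.symm
  · right
    push_neg at hinj
    obtain ⟨k1, j1, k2, j2, hWeq, hne⟩ := hinj
    obtain ⟨Y, hY⟩ : ∃ Y, Y = W k1 j1 := ⟨_, rfl⟩
    have hk1 : A k1 Y ≠ 0 := by rw [hY]; exact (hW k1 j1).1
    have hj1 : B j1 Y ≠ 0 := by rw [hY]; exact hWB k1 j1
    have hk2 : A k2 Y ≠ 0 := by rw [hY, hWeq]; exact (hW k2 j2).1
    have hj2 : B j2 Y ≠ 0 := by rw [hY, hWeq]; exact hWB k2 j2
    have hcY := hcard Y k1 j1 hk1 hj1
    have h2P : 2 ≤ (Finset.univ.filter (fun k => A k Y ≠ 0)).card := by
      by_cases hk : k1 = k2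
      · have hj := hne hk
        rw [hcY]
        calc 2 = ({j1, j2} : Finset (Fin 3)).card := (Finset.card_pair hj).symm
          _ ≤ _ := Finset.card_le_card (by
            intro x hx
            simp only [Finset.mem_insert, Finset.mem_singleton] at hx
            rcases hx with rfl | rfl
            · exact (hQm _ _).mpr hj1
            · exact (hQm _ _).mpr hj2)
      · calc 2 = ({k1, k2} : Finset (Fin 3)).card := (Finset.card_pair hk).symm
          _ ≤ _ := Finset.card_le_card (by
            intro x hx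
            simp only [Finset.mem_insert, Finset.mem_singleton] at hx
            rcases hx with rfl | rfl
            · exact (hPm _ _).mpr hk1
            · exact (hPm _ _).mpr hk2)
    have h2Q : 2 ≤ (Finset.univ.filter (fun j => B j Y ≠ 0)).card := hcY ▸ h2P
    have hno : ¬ (A 0 Y ≠ 0 ∧ B 0 Y ≠ 0) := by
      rintro ⟨ha, hb⟩
      have hYo : Y = o := (hWu 0 0 Y ha hb).trans hW0
      have h1 : (Finset.univ.filter (fun k => A k Y ≠ 0)).card ≤ 1 := by
        rw [hYo]
        apply Finset.card_le_one.mpr
        intro a ha b hb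
        rw [hPm] at ha hb
        rw [hAo' a ha, hAo' b hb]
      omega
    have hP2 : (Finset.univ.filter (fun k => A k Y ≠ 0)).card = 2 := by
      have h3 := STRUCT.fin3_card_le (Finset.univ.filter (fun k => A k Y ≠ 0))
      by_contra hne2
      have h33 : (Finset.univ.filter (fun k => A k Y ≠ 0)).card = 3 := by omega
      have h0P := STRUCT.fin3_card_three _ h33
      have h0Q := STRUCT.fin3_card_three _ (hcY ▸ h33)
      exact hno ⟨(hPm Y 0).mp h0P, (hQm Y 0).mp h0Q⟩
    have hQ2 : (Finset.univ.filter (fun j => B j Y ≠ 0)).card = 2 := hcY ▸ hP2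
    obtain ⟨k0, hk0⟩ := STRUCT.fin3_card_two _ hP2
    obtain ⟨j0, hj0⟩ := STRUCT.fin3_card_two _ hQ2
    have hAY : ∀ k, A k Y ≠ 0 ↔ k ≠ k0 := fun k => (hPm Y k).symm.trans (hk0 k)
    have hBY : ∀ j, B j Y ≠ 0 ↔ j ≠ j0 := fun j => (hQm Y j).symm.trans (hj0 j)
    have hnotY : ∀ k j, (k = k0 ∨ j = j0) → W k j ≠ Y := by
      intro k j hkj hWY
      have h1 : A k Y ≠ 0 := by rw [← hWY]; exact (hW k j).1
      have h2 : B j Y ≠ 0 := by rw [← hWY]; exact hWB k j
      rcases hkj with rfl | rfl
      · exact (hAY _).mp h1 rfl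
      · exact (hBY _).mp h2 rfl
    have hside1 : ∀ k j, (k = k0 ∨ j = j0) →
        (∀ k', A k' (W k j) ≠ 0 → k' = k) ∧ (∀ j', B j' (W k j) ≠ 0 → j' = j) := by
      intro k j hkj
      have hkX : A k (W k j) ≠ 0 := (hW k j).1
      have hjX : B j (W k j) ≠ 0 := hWB k j
      have hcX := hcard (W k j) k j hkX hjX
      have hle : (Finset.univ.filter (fun k' => A k' (W k j) ≠ 0)).card ≤ 1 := by
        by_contra hgt
        have h2 : 2 ≤ (Finset.univ.filter (fun k' => A k' (W k j) ≠ 0)).card := by omega
        obtain ⟨k', hk'1, hk'2⟩ := STRUCT.fin3_inter _ _ h2 h2P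
        obtain ⟨j', hj'1, hj'2⟩ := STRUCT.fin3_inter _ _ (hcX ▸ h2) h2Q
        rw [hPm] at hk'1 hk'2
        rw [hQm] at hj'1 hj'2
        have e1 := hWu k' j' _ hk'1 hj'1
        have e2 := hWu k' j' _ hk'2 hj'2
        exact hnotY k j hkj (e1.trans e2.symm)
      constructor
      · intro k' hk'
        exact Finset.card_le_one.mp hle k' ((hPm _ _).mpr hk') k ((hPm _ _).mpr hkX)
      · intro j' hj'
        exact Finset.card_le_one.mp (hcX ▸ hle) j' ((hQm _ _).mpr hj') j ((hQm _ _).mpr hjX)
    refine ⟨k0, j0, Y, A k1 Y, W, fun k j => A k (W k j), ?_, hW0, heps0, ?_, ?_, ?_, hnotY, ?_,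
      heps, ?_, ?_, ?_⟩
    · by_contra hcon
      push_neg at hcon
      exact hno ⟨(hAY 0).mpr hcon.1.symm, (hBY 0).mpr hcon.2.symm⟩
    · rcases hA k1 Y with h1 | h1 | h1
      · exact absurd h1 hk1
      · left; exact h1
      · right; exact h1
    · intro k
      by_cases hk : k = k0
      · rw [if_pos hk]
        by_contra hne'
        exact (hAY k).mp hne' hk
      · rw [if_neg hk]
        have h1 : A k Y ≠ 0 := (hAY k).mpr hk
        exact (hsign Y k j1 h1 hj1).trans (hsign Y k1 j1 hk1 hj1).symm
    · intro j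
      by_cases hj : j = j0
      · rw [if_pos hj]
        by_contra hne'
        exact (hBY j).mp hne' hj
      · rw [if_neg hj]
        have h1 : B j Y ≠ 0 := (hBY j).mpr hj
        exact (hsign Y k1 j hk1 h1).symm
    · intro k j k' j' hkj hkj' heq
      obtain ⟨h1, h2⟩ := hside1 k j hkj
      have h3 : A k' (W k j) ≠ 0 := by rw [heq]; exact (hW k' j').1
      have h4 : B j' (W k j) ≠ 0 := by rw [heq]; exact hWB k' j'
      exact ⟨(h1 k' h3).symm, (h2 j' h4).symm⟩
    · intro k j k' hkj
      by_cases hk : k' = k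
      · subst hk; simp
      · rw [if_neg hk]
        by_contra hne'
        exact hk ((hside1 k j hkj).1 k' hne')
    · intro k j j' hkj
      by_cases hj : j' = j
      · subst hj; simp [(hW k j').2]
      · rw [if_neg hj]
        by_contra hne'
        exact hj ((hside1 k j hkj).2 j' hne')
    · intro X hXY hXW
      have hone : (∀ k, A k X = 0) ∨ (∀ j, B j X = 0) := by
        by_contra hcon
        push_neg at hcon
        obtain ⟨⟨k, hk⟩, ⟨j, hj⟩⟩ := hcon
        have hXkj := hWu k j X hk hj
        by_cases hkj : k = k0 ∨ j = j0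
        · exact hXW k j hkj hXkj
        · push_neg at hkj
          have h1 := hWu k j Y ((hAY k).mpr hkj.1) ((hBY j).mpr hkj.2)
          exact hXY (hXkj.trans h1.symm)
      refine ⟨?_, hone⟩
      rcases hone with h1 | h1
      · simp [h1]
      · rw [h.hrel X]; simp [h1]

end Cfsg.Agent.Helper8.S3805A
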