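import Mathlib
import Cfsg.Agent.Lib.Helper6.UniDefs

/-!
# A representative of the longest element of `W_A` (helper24; for the `SplitData` of S2316 and others)

For any finite group with a `(B, N)`-pair `P` and any set `A` of generators there is `n ∈ N_A = ⟨A, B ∩ N⟩`
all of whose left multiples by the generators in `A` are descents (`s B n` meets `B n B`).  These are
exactly the fields `n_mem`, `n_desc` of helper6's `SplitData`.
-/

set_option autoImplicit false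

namespace Cfsg.Agent.Helper24.Spu

open Cfsg Cfsg.Agent.Helper2.WordLen Cfsg.Agent.Helper2.BN Cfsg.Agent.Helper17.BNCox
  Cfsg.Agent.Helper6.Uni

variable {G : Type*} [Group G] (P : Cfsg.BNPair G)

/-- an element of `N_A` of maximal length has all the generators in `A` as left descents -/
theorem exists_nA [Finite G] (A : Set P.S) :
    ∃ n ∈ NA P A, ∀ s ∈ A, ∃ b ∈ P.B, ∃ b' ∈ P.B, ∃ b'' ∈ P.B,
      (s : G) * b * n = b' * n * b'' := by
  have hfin : Finite (NA P A) := inferInstance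
  obtain ⟨n₀, hmax⟩ :=
    Finite.exists_max (fun n : NA P A => ℓ P (π P ⟨n.1, NA_le P A n.2⟩))
  refine ⟨n₀.1, n₀.2, ?_⟩
  intro s hs
  have hsN : (s : G) ∈ NA P A := by
    unfold NA
    apply Subgroup.mem_sup_left
    exact Subgroup.subset_closure ⟨s, hs, rfl⟩
  have hsn : (s : G) * n₀.1 ∈ NA P A := (NA P A).mul_mem hsN n₀.2
  have h1 := hmax ⟨(s : G) * n₀.1, hsn⟩
  have h2 : π P ⟨(s : G) * n₀.1, NA_le P A hsn⟩ = σ P s * π P ⟨n₀.1, NA_le P A n₀.2⟩ := by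
    rw [σ, ← map_mul]
    rfl
  simp only at h1
  rw [h2] at h1
  have h3 := ℓ_gen_mul_ne P s (π P ⟨n₀.1, NA_le P A n₀.2⟩)
  have h4 : ℓ P (σ P s * π P ⟨n₀.1, NA_le P A n₀.2⟩) < ℓ P (π P ⟨n₀.1, NA_le P A n₀.2⟩) :=
    lt_of_le_of_ne h1 h3
  rw [← not_Up_iff_lt] at h4
  obtain ⟨g, hg, hsg⟩ := exists_of_not_Up P h4
  rw [mem_C_iff] at hg hsg
  obtain ⟨b₁, hb₁, b₂, hb₂, rfl⟩ := hg
  obtain ⟨b', hb', b'', hb'', h⟩ := hsg
  refine ⟨b₁, hb₁, b', hb', b'' * b₂⁻¹, P.B.mul_mem hb'' (P.B.inv_mem hb₂), ?_⟩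
  have e : (s : G) * b₁ * n₀.1 = (s : G) * (b₁ * n₀.1 * b₂) * b₂⁻¹ := by group
  rw [e]
  show (s : G) * (b₁ * ((⟨n₀.1, NA_le P A n₀.2⟩ : P.N) : G) * b₂) * b₂⁻¹ = _
  rw [h]
  show b' * n₀.1 * b'' * b₂⁻¹ = b' * n₀.1 * (b'' * b₂⁻¹)
  group

end Cfsg.Agent.Helper24.Spu
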