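import Mathlib
import Cfsg.Agent.Lib.Helper2.Psln25
import Cfsg.Agent.Lib.Helper2.OutCongr
import Cfsg.Agent.Lib.Helper10.EOAssembly

/-!
# AO-CNTA (S2262, helper24): powers of a matrix whose minimal polynomial is `σ`-stable lie in
the span over the fixed field of the first `n` powers
-/

set_option autoImplicit false

namespace Cfsg.Agent.Helper17.AO

open Polynomial Matrix Cfsg.Agent.Helper2.PN
open Cfsg.Agent.Helper10.EO (star)
open Cfsg.Agent.Helper13.FAut (fixedField mem_fixedField)

section mat
variable {F : Type*} [Field F] {n : ℕ}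

/-- AO-CNTA -/
theorem powers_mem_span (σ : RingAut F) (M : Matrix (Fin n) (Fin n) F)
    (hμ : (minpoly F M).map (σ : F →+* F) = minpoly F M) (j : ℕ) :
    M ^ j ∈ Submodule.span (fixedField σ)
      (Set.range fun i : Fin n => M ^ (i : ℕ)) := by
  have hmonic : (minpoly F M).Monic := minpoly.monic (Matrix.isIntegral M)
  have hdeg : (minpoly F M).natDegree ≤ n := by
    have h1 : minpoly F M ∣ M.charpoly := Matrix.minpoly_dvd_charpoly M
    have h2 := Polynomial.natDegree_le_of_dvd h1 (M.charpoly_monic.ne_zero)
    rwa [Matrix.charpoly_natDegree_eq_dim, Fintype.card_fin] at h2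
  have hcoef : ∀ i, (minpoly F M).coeff i ∈ fixedField σ := by
    intro i
    rw [mem_fixedField]
    have h := congrArg (fun p => p.coeff i) hμ
    simpa [Polynomial.coeff_map] using h
  have hrel : M ^ (minpoly F M).natDegree =
      - ∑ i ∈ Finset.range (minpoly F M).natDegree, (minpoly F M).coeff i • M ^ i := by
    have h0 : Polynomial.aeval M (minpoly F M) = 0 := minpoly.aeval F M
    rw [Polynomial.aeval_eq_sum_range, Finset.sum_range_succ, hmonic.coeff_natDegree,
      one_smul] at h0
    exact eq_neg_of_add_eq_zero_right h0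
  induction j using Nat.strong_induction_on with
  | _ j ih =>
    by_cases hj : j < (minpoly F M).natDegree
    · exact Submodule.subset_span ⟨⟨j, lt_of_lt_of_le hj hdeg⟩, rfl⟩
    · push_neg at hj
      obtain ⟨k, rfl⟩ := Nat.exists_eq_add_of_le hj
      rw [pow_add, hrel, neg_mul, Finset.sum_mul]
      apply Submodule.neg_mem
      apply Submodule.sum_mem
      intro i hi
      rw [smul_mul_assoc, ← pow_add]
      have hlt : i + k < (minpoly F M).natDegree + k := by
        have := Finset.mem_range.mp hi
        omega
      have h3 := ih (i + k) hlt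
      exact Submodule.smul_mem _ (⟨(minpoly F M).coeff i, hcoef i⟩ : fixedField σ) h3

end mat

end Cfsg.Agent.Helper17.AO
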