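import Mathlib
import Cfsg.Prelude.Def_Characters
import Cfsg.Prelude.Def_Blocks
import Cfsg.Agent.Lib.Helper18.PermCharOrbits
import Cfsg.Agent.Lib.Helper18.GenChar
import Cfsg.Agent.Lib.Helper23.PermChars

/-!
# S0679, piece PERMCH (helper24 for helper27): for a doubly transitive action on at least two points,
`π - 1` is an irreducible character.
-/

set_option autoImplicit false
set_option linter.unusedSectionVars false
set_option linter.unusedVariables false

namespace Cfsg.Agent.Helper27.D11

open Cfsg Equiv MulAction
open Cfsg.Agent.Helper18 Cfsg.Agent.Helper24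
open scoped ComplexConjugate

universe u

namespace PERMCH

variable {H : Type u} [Group H] [Fintype H] {X : Type u} [Fintype X] [DecidableEq X] [MulAction H X]

theorem permChar_one_eq : permChar H X (1 : H) = (Fintype.card X : ℂ) := by
  rw [permChar_apply, Nat.card_eq_fintype_card]
  congr 1
  apply Fintype.card_congr
  exact
    { toFun := fun x => x.1
      invFun := fun x => ⟨x, by simp⟩
      left_inv := fun x => rfl
      right_inv := fun x => rfl }

theorem norm_sub_one (h1 : classInner (permChar H X) (permChar H X) = 2)
    (h2 : classInner (permChar H X) (fun _ => (1 : ℂ)) = 1) :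
    classInner (fun g => permChar H X g - 1) (fun g => permChar H X g - 1) = 1 := by
  have hG0 : (Nat.card H : ℂ) ≠ 0 := by
    have : Nat.card H ≠ 0 := Nat.card_pos.ne'
    exact_mod_cast this
  have e : ∀ g : H, (permChar H X g - 1) * conj (permChar H X g - 1) =
      permChar H X g * conj (permChar H X g) - 2 * (permChar H X g * conj (1 : ℂ)) + 1 := by
    intro g
    rw [map_sub, map_one, conj_permChar]; ring
  unfold classInner at h1 h2 ⊢
  have hS2 : ∑ g : H, permChar H X g * conj (permChar H X g) = 2 * (Nat.card H : ℂ) := by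
    rw [← h1]; field_simp
  have hS1 : ∑ g : H, permChar H X g * conj (1 : ℂ) = (Nat.card H : ℂ) := by
    have h3 : (Nat.card H : ℂ)⁻¹ * ∑ g : H, permChar H X g * conj (1 : ℂ) = 1 := h2
    calc ∑ g : H, permChar H X g * conj (1 : ℂ)
        = (Nat.card H : ℂ) * ((Nat.card H : ℂ)⁻¹ * ∑ g : H, permChar H X g * conj (1 : ℂ)) := by
          rw [mul_inv_cancel_left₀ hG0]
      _ = (Nat.card H : ℂ) := by rw [h3, mul_one]
  rw [Finset.sum_congr rfl (fun g _ => e g), Finset.sum_add_distrib, Finset.sum_sub_distrib,
    ← Finset.mul_sum, hS2, hS1]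
  simp only [Finset.sum_const, Finset.card_univ, nsmul_eq_mul, mul_one, ← Nat.card_eq_fintype_card]
  field_simp
  ring

end PERMCH

/-- PIECE PERMCH (with the extra hypothesis `2 ≤ |X|`, without which the statement is false). -/
theorem exists_irr_perm {H : Type u} [Group H] [Fintype H] {X : Type u} [Fintype X] [DecidableEq X]
    [MulAction H X] (h2 : IsMultiplyPretransitive H X 2) (hX : 2 ≤ Fintype.card X) :
    ∃ χ : IrrCharacter H, ∀ g : H, (χ : H → ℂ) g = (Nat.card (fixedBy X g) : ℂ) - 1 := by
  have : IsPretransitive H X := by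
    have := h2
    exact is_one_pretransitive_iff.mp
      (isMultiplyPretransitive_of_le (n := 2) (by norm_num)
        (by rw [Nat.card_eq_fintype_card]; exact hX))
  have : Nonempty X := Fintype.card_pos_iff.mp (by omega)
  obtain ⟨a⟩ := ‹Nonempty X›
  have hb : ∃ b : X, b ≠ a := by
    by_contra hcon
    push Not at hcon
    have : Fintype.card X ≤ 1 := Fintype.card_le_one_iff.mpr (fun x y => by rw [hcon x, hcon y])
    omega
  have h1 : classInner (permChar H X) (permChar H X) = 2 := by
    rw [inner_permChar_self a, card_orbits_stabilizer_of_two_transitive h2 a hb]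
    norm_num
  have h3 : classInner (permChar H X) (fun _ => (1 : ℂ)) = 1 := inner_permChar_one
  have hgen : IsGeneralizedCharacter H (fun g => permChar H X g - 1) := by
    have h4 : (fun g => permChar H X g - 1) = permChar H X - fun _ => (1 : ℂ) := by
      funext g; rfl
    rw [h4]
    exact isGenChar_sub (isGenChar_of_isCharacter
      Cfsg.Agent.Helper23.PermMom.isCharacter_permChar_of_transitive) isGenChar_one
  have hirr : IsIrrCharacter H (fun g => permChar H X g - 1) := by
    apply Cfsg.Agent.Helper23.PermMom.isIrr_of_genChar_norm_one_pos hgen (PERMCH.norm_sub_one h1 h3)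
    show 0 < (permChar H X 1 - 1).re
    rw [PERMCH.permChar_one_eq]
    have : (2 : ℝ) ≤ (Fintype.card X : ℝ) := by exact_mod_cast hX
    simp
    linarith
  exact ⟨⟨_, hirr⟩, fun g => rfl⟩

end Cfsg.Agent.Helper27.D11
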