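import Mathlib
import Cfsg.Prelude.Def_Characters
import Cfsg.Prelude.Def_Blocks
import Cfsg.Agent.Lib.Helper17.M11Asm2
import Cfsg.Agent.Lib.Helper24.D11PERMCH

/-!
# S0679, piece FIX3 (helper24 for helper27): in a simple doubly transitive group of order 7920 and
degree 11 an element of order 3 fixes exactly two points.
-/

set_option autoImplicit false
set_option linter.unusedSectionVars false
set_option linter.unusedVariables false

namespace Cfsg.Agent.Helper27.D11

open Cfsg Equiv MulAction
open Cfsg.Agent.Helper24 Cfsg.Agent.Helper17.M11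

universe u

variable {α : Type u} [Fintype α] [DecidableEq α]

/-- PIECE FIX3. -/
theorem card_fixedBy_order_three (hα : Fintype.card α = 11) (G : Subgroup (Perm α))
    (hs : IsSimpleGroup G) (hc : Nat.card G = 7920) (h2 : IsMultiplyPretransitive G α 2)
    {z : G} (hz : orderOf z = 3) : Nat.card (fixedBy α z) = 2 := by
  classical
  letI : Fintype G := Fintype.ofFinite G
  obtain ⟨χ, hχ⟩ := exists_irr_perm (H := G) (X := α) h2 (by rw [hα]; norm_num)
  obtain ⟨P⟩ : Nonempty (Sylow 11 G) := inferInstance
  obtain ⟨Q⟩ : Nonempty (Sylow 5 G) := inferInstance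
  obtain ⟨T⟩ := main_ct hs hc P Q
  have h11 : ∀ P' : Sylow 11 G,
      Subgroup.centralizer ((P' : Subgroup G) : Set G) = (P' : Subgroup G) :=
    fun P' => (syl11 hs hc P').2.1
  have h5 : ∀ Q' : Sylow 5 G,
      Subgroup.centralizer ((Q' : Subgroup G) : Set G) = (Q' : Subgroup G) :=
    fun Q' => (syl5_all hs hc Q').2.1
  obtain ⟨-, a1, a2, a3, a4, a5, a6, a7, a8, a9⟩ := ord3_values hc h11 h5 T hz
  have hdeg : charDegree (χ : G → ℂ) = 10 := by
    apply charDegree_natCast 10
    rw [hχ 1]
    have h1 : (Nat.card (fixedBy α (1 : G)) : ℂ) = (Fintype.card α : ℂ) :=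
      PERMCH.permChar_one_eq (H := G) (X := α)
    rw [h1, hα]
    norm_num
  have hval : (χ : G → ℂ) z = 1 := by
    rcases S13.all_cases T χ with h | h | h | h | h | h | h | h | h | h
    · rw [h, S13.charDegree_principal] at hdeg; omega
    · rw [h, T.b.deg1] at hdeg; omega
    · rw [h]; exact a2
    · rw [h]; exact a3
    · rw [h]; exact a4
    · rw [h, T.b.degθ] at hdeg; omega
    · rw [h, T.b.degθ'] at hdeg; omega
    · rw [h, T.degα] at hdeg; omega
    · rw [h, T.degβ] at hdeg; omega
    · rw [h, T.degγ] at hdeg; omega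
  rw [hχ z] at hval
  have h3 : (Nat.card (fixedBy α z) : ℂ) = ((2 : ℕ) : ℂ) := by
    push_cast
    linear_combination hval
  exact_mod_cast h3

end Cfsg.Agent.Helper27.D11
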