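import Mathlib
import Cfsg.Agent.Lib.Helper17.TSLDefs
import Cfsg.Agent.Lib.Helper2.TSLZCENT
import Cfsg.Agent.Lib.Helper6.TSLFRAT
import Cfsg.Agent.Lib.Helper6.TSLDECOMP
import Cfsg.Agent.Lib.Helper24.TSLCENTCore

/-! # S3366 piece CENT (helper24): `C_R(t) = Z` (exact skeleton signature), wrapping `cent_t_core`
with the landed pieces ZCENT (helper2), FRAT and DECOMP (helper6). -/

set_option autoImplicit false

namespace Cfsg.Agent.Helper17.TSL

variable {X : Type*} [Group X] [Finite X] (S : Setup X)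

/-- piece CENT: `C_R(t) = Z` -/
theorem cent_t (t : X) (ht : t * t = 1) (hπ : S.π t = negOne) (r : X) (hr : r ∈ S.R)
    (hc : t * r = r * t) : r ∈ S.Z :=
  cent_t_core S (fun g w hw => Z_central S g w hw) t ht hπ (fun g => frattini S t ht hπ g)
    (fun r hr => decomp S t ht r hr) r hr hc

end Cfsg.Agent.Helper17.TSL
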