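import Mathlib
import Cfsg.Prelude.Def_Classical
import Cfsg.Agent.Lib.Helper17.TSLDefs
import Cfsg.Agent.Lib.Helper2.SpCenter

/-! # S3366 piece CENTISO (helper24): in `PSp(4,3)` the image `c` of the transvection `tv u0 1` has order 3
and its centraliser is isomorphic to the stabiliser of `u0` in `Sp(4,3)`. -/

set_option autoImplicit false

namespace Cfsg.Agent.Helper17.TSL

open Cfsg.Agent.Helper2.Symp
open scoped Cfsg.Agent.Helper2.Symp

set_option maxRecDepth 100000 in
theorem centiso_fact1 : ∀ v : Fin 2 ⊕ Fin 2 → ZMod 3, (tv v 1 : G3) = tv u0 1 → v = u0 ∨ v = -u0 := by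
  decide

set_option maxRecDepth 100000 in
theorem centiso_fact2 : ∀ v : Fin 2 ⊕ Fin 2 → ZMod 3,
    (tv v 1 : G3) ≠ Cfsg.Agent.Helper2.Sp.negOne (Fin 2) (ZMod 3) * tv u0 1 := by
  decide

set_option maxRecDepth 100000 in
theorem centiso_c0_ne_one : (tv u0 1 : G3) ≠ 1 := by decide

set_option maxRecDepth 100000 in
theorem centiso_c0_ne_negOne : (tv u0 1 : G3) ≠ Cfsg.Agent.Helper2.Sp.negOne (Fin 2) (ZMod 3) := by
  decide

set_option maxRecDepth 100000 in
theorem centiso_negOne_smul : (Cfsg.Agent.Helper2.Sp.negOne (Fin 2) (ZMod 3) : G3) • u0 = -u0 := by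
  decide

set_option maxRecDepth 100000 in
theorem centiso_u0_ne : -u0 ≠ u0 := by decide

theorem centiso_c0_pow : (tv u0 1 : G3) ^ 3 = 1 := by
  have h3 : (1 : ZMod 3) + 1 + 1 = 0 := by decide
  rw [pow_succ, pow_two, tv_mul_tv, tv_mul_tv, h3, tv_zero_right]

/-- the centre of `Sp(4,3)` is `{1, -1}` -/
theorem centiso_mem_center (z : G3) :
    z ∈ Subgroup.center G3 ↔ z = 1 ∨ z = Cfsg.Agent.Helper2.Sp.negOne (Fin 2) (ZMod 3) :=
  Cfsg.Agent.Helper2.Sp.mem_center_iff z

/-- the element `c` -/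
noncomputable def centiso_c : Cfsg.PSp 2 (ZMod 3) :=
  QuotientGroup.mk' (Subgroup.center G3) (tv u0 1)

theorem centiso_order : orderOf centiso_c = 3 := by
  have : Fact (Nat.Prime 3) := ⟨by norm_num⟩
  apply orderOf_eq_prime
  · unfold centiso_c
    rw [← map_pow, centiso_c0_pow, map_one]
  · unfold centiso_c
    intro h
    rw [QuotientGroup.mk'_apply, QuotientGroup.eq_one_iff, centiso_mem_center] at h
    rcases h with h | h
    · exact centiso_c0_ne_one h
    · exact centiso_c0_ne_negOne h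

/-- the map `g ↦ g Z` on the stabiliser -/
noncomputable def centiso_phi : MulAction.stabilizer G3 u0 →* Cfsg.PSp 2 (ZMod 3) :=
  (QuotientGroup.mk' (Subgroup.center G3)).comp (Subgroup.subtype _)

theorem centiso_phi_mem (g : MulAction.stabilizer G3 u0) :
    centiso_phi g ∈ Subgroup.centralizer ({centiso_c} : Set (Cfsg.PSp 2 (ZMod 3))) := by
  rw [Subgroup.mem_centralizer_iff]
  intro x hx
  rw [Set.mem_singleton_iff.1 hx]
  unfold centiso_phi centiso_c
  rw [MonoidHom.comp_apply, Subgroup.subtype_apply, ← map_mul, ← map_mul]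
  congr 1
  have hg : (g : G3) • u0 = u0 := g.2
  have h := conj_tv (g : G3) u0 (1 : ZMod 3)
  rw [hg] at h
  calc tv u0 1 * (g : G3) = ((g : G3) * tv u0 1 * (g : G3)⁻¹) * (g : G3) := by rw [h]
    _ = (g : G3) * tv u0 1 := by group

theorem centiso_phi_inj : Function.Injective centiso_phi := by
  rw [injective_iff_map_eq_one]
  intro g hg
  unfold centiso_phi at hg
  rw [MonoidHom.comp_apply, Subgroup.subtype_apply, QuotientGroup.mk'_apply,
    QuotientGroup.eq_one_iff, centiso_mem_center] at hg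
  rcases hg with h | h
  · exact Subtype.ext h
  · exfalso
    have h1 : (g : G3) • u0 = u0 := g.2
    rw [h, centiso_negOne_smul] at h1
    exact centiso_u0_ne h1

theorem centiso_phi_surj (x : Cfsg.PSp 2 (ZMod 3))
    (hx : x ∈ Subgroup.centralizer ({centiso_c} : Set (Cfsg.PSp 2 (ZMod 3)))) :
    ∃ g : MulAction.stabilizer G3 u0, centiso_phi g = x := by
  obtain ⟨g, rfl⟩ := QuotientGroup.mk'_surjective (Subgroup.center G3) x
  rw [Subgroup.mem_centralizer_iff] at hx
  have h1 := hx centiso_c (Set.mem_singleton _)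
  unfold centiso_c at h1
  rw [← map_mul, ← map_mul, QuotientGroup.mk'_apply, QuotientGroup.mk'_apply,
    QuotientGroup.eq] at h1
  -- h1 : (tv u0 1 * g)⁻¹ * (g * tv u0 1) ∈ center
  rw [centiso_mem_center] at h1
  have hconj := conj_tv g u0 (1 : ZMod 3)
  rcases h1 with h | h
  · -- g c0 g⁻¹ = c0
    have h2 : g * tv u0 1 * g⁻¹ = tv u0 1 := by
      have : g * tv u0 1 = tv u0 1 * g := by
        calc g * tv u0 1 = (tv u0 1 * g) * ((tv u0 1 * g)⁻¹ * (g * tv u0 1)) := by group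
          _ = tv u0 1 * g := by rw [h, mul_one]
      rw [this]; group
    rw [hconj] at h2
    rcases centiso_fact1 _ h2 with h3 | h3
    · exact ⟨⟨g, h3⟩, rfl⟩
    · -- g • u0 = -u0 : use -g
      have h4 : (Cfsg.Agent.Helper2.Sp.negOne (Fin 2) (ZMod 3) * g) • u0 = u0 := by
        rw [mul_smul, h3, smul_neg, centiso_negOne_smul, neg_neg]
      refine ⟨⟨_, h4⟩, ?_⟩
      unfold centiso_phi
      rw [MonoidHom.comp_apply, Subgroup.subtype_apply, QuotientGroup.mk'_apply,
        QuotientGroup.mk'_apply, QuotientGroup.eq]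
      have : (Cfsg.Agent.Helper2.Sp.negOne (Fin 2) (ZMod 3) * g)⁻¹ * g =
          (Cfsg.Agent.Helper2.Sp.negOne (Fin 2) (ZMod 3))⁻¹ := by
        have hc := Subgroup.mem_center_iff.1
          (Cfsg.Agent.Helper2.Sp.negOne_mem_center (l := Fin 2) (R := ZMod 3)) g
        rw [← hc]; group
      show (Cfsg.Agent.Helper2.Sp.negOne (Fin 2) (ZMod 3) * g)⁻¹ * g ∈ Subgroup.center G3
      rw [this]
      exact Subgroup.inv_mem _ Cfsg.Agent.Helper2.Sp.negOne_mem_center
  · -- g c0 g⁻¹ = -c0 : impossible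
    exfalso
    have hc := Subgroup.mem_center_iff.1
      (Cfsg.Agent.Helper2.Sp.negOne_mem_center (l := Fin 2) (R := ZMod 3))
    have h2 : g * tv u0 1 * g⁻¹ = Cfsg.Agent.Helper2.Sp.negOne (Fin 2) (ZMod 3) * tv u0 1 := by
      have : g * tv u0 1 = tv u0 1 * g * Cfsg.Agent.Helper2.Sp.negOne (Fin 2) (ZMod 3) := by
        calc g * tv u0 1 = (tv u0 1 * g) * ((tv u0 1 * g)⁻¹ * (g * tv u0 1)) := by group
          _ = tv u0 1 * g * Cfsg.Agent.Helper2.Sp.negOne (Fin 2) (ZMod 3) := by rw [h]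
      rw [this, hc (tv u0 1 * g)]
      group
    rw [hconj] at h2
    exact centiso_fact2 _ h2

/-- piece CENTISO -/
theorem cent_iso : ∃ c : Cfsg.PSp 2 (ZMod 3), orderOf c = 3 ∧
    Nonempty (MulAction.stabilizer G3 u0 ≃*
      Subgroup.centralizer ({c} : Set (Cfsg.PSp 2 (ZMod 3)))) := by
  refine ⟨centiso_c, centiso_order, ⟨?_⟩⟩
  let ψ : MulAction.stabilizer G3 u0 →*
      Subgroup.centralizer ({centiso_c} : Set (Cfsg.PSp 2 (ZMod 3))) :=
    centiso_phi.codRestrict _ centiso_phi_mem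
  refine MulEquiv.ofBijective ψ ⟨?_, ?_⟩
  · intro a b hab
    apply centiso_phi_inj
    exact congrArg Subtype.val hab
  · rintro ⟨x, hx⟩
    obtain ⟨g, hg⟩ := centiso_phi_surj x hx
    exact ⟨g, Subtype.ext hg⟩

end Cfsg.Agent.Helper17.TSL
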