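import Mathlib
import Cfsg.Prelude.Def_Blocks
import Cfsg.Agent.Lib.Helper24.CharLinear
import Cfsg.Agent.Lib.Helper24.CharComplete
import Cfsg.Agent.Lib.Helper5.DetChar
import Cfsg.Agent.Lib.Helper1.BRBSCAL
import Cfsg.Agent.Lib.Helper23.B2Defs

/-!
# S4705 (Brauer, degree `p - 2`), PIECE TW: the twist by a power of the determinant   (helper24)

`ζ₁ := β⁻¹ ζ` with `β = (det ζ)^j`, `j (p-2) ≡ 1 (mod |Z(G)|_2)`.
-/

set_option autoImplicit false
set_option linter.unusedSectionVars false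
set_option linter.unusedVariables false

namespace Cfsg.Agent.Helper23.B2

open scoped ComplexConjugate
open Cfsg Cfsg.Agent.Helper24 Cfsg.Agent.Helper5

universe u

variable {G : Type u} [Group G] [Fintype G]

namespace TW

/-- the values of a homomorphism from a finite group to `ℂˣ` have norm one -/
theorem norm_hom_eq_one (β : G →* ℂˣ) (g : G) : ‖((β g : ℂˣ) : ℂ)‖ = 1 := by
  have h1 : ((β g : ℂˣ) : ℂ) ^ (Fintype.card G) = 1 := by
    rw [← Units.val_pow_eq_pow_val, ← map_pow, pow_card_eq_one, map_one, Units.val_one]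
  exact Complex.norm_eq_one_of_pow_eq_one h1 Fintype.card_ne_zero

/-- an inverse of an odd number modulo a power of two -/
theorem exists_inv_mod (n e : ℕ) (hn : Odd n) : ∃ j : ℕ, n * j ≡ 1 [MOD 2 ^ e] := by
  by_cases he : e = 0
  · subst he
    exact ⟨0, by simp [Nat.modEq_one]⟩
  · have hcop : Nat.Coprime n (2 ^ e) := Nat.Coprime.pow_right e hn.coprime_two_right
    have h1 : 1 < 2 ^ e := Nat.one_lt_two_pow he
    obtain ⟨m, -, hm⟩ := Nat.exists_mul_mod_eq_one_of_coprime hcop h1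
    refine ⟨m, ?_⟩
    unfold Nat.ModEq
    rw [hm, Nat.mod_eq_of_lt h1]

/-- a central element acts as a scalar in an irreducible representation; trace and determinant -/
theorem central_scalar {n : ℕ} (R : Representation ℂ G (Fin n → ℂ)) (hR : R.IsIrreducible)
    {z : G} (hz : z ∈ Subgroup.center G) :
    ∃ c : ℂ, R z = c • (1 : Module.End ℂ (Fin n → ℂ)) ∧ R.character z = (n : ℂ) * c ∧
      LinearMap.det (R z) = c ^ n ∧ c ^ orderOf z = 1 := by
  have hnt : Nontrivial (Fin n → ℂ) := ((Cfsg.Agent.Helper24.isIrreducible_iff R).1 hR).1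
  obtain ⟨c, hc⟩ := exists_scalar_of_comm R hR (R z) (by
    intro h
    rw [← Module.End.mul_eq_comp, ← Module.End.mul_eq_comp, ← map_mul, ← map_mul,
      (Subgroup.mem_center_iff.1 hz h)])
  refine ⟨c, hc, ?_, ?_, ?_⟩
  · show LinearMap.trace ℂ (Fin n → ℂ) (R z) = _
    rw [hc, map_smul, LinearMap.trace_one, Module.finrank_fin_fun, smul_eq_mul, mul_comm]
  · rw [hc, LinearMap.det_smul, Module.finrank_fin_fun]
    simp
  · have h1 : R (z ^ orderOf z) = (c ^ orderOf z) • (1 : Module.End ℂ (Fin n → ℂ)) := by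
      rw [map_pow, hc, smul_pow, one_pow]
    rw [pow_orderOf_eq_one, map_one] at h1
    obtain ⟨v, hv⟩ := exists_ne (0 : Fin n → ℂ)
    have h2 := LinearMap.congr_fun h1 v
    simp only [Module.End.one_apply, LinearMap.smul_apply] at h2
    have h3 : ((1 : ℂ) - c ^ orderOf z) • v = 0 := by
      rw [sub_smul, one_smul, ← h2, sub_self]
    rcases smul_eq_zero.1 h3 with h | h
    · exact (sub_eq_zero.1 h).symm
    · exact absurd h hv

end TW

/-- PIECE TW (§0): from the hypotheses of S4705 to the CORE hypotheses. -/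
theorem exists_core (p : ℕ) [Fact p.Prime] (hp : 5 < p) (P : Sylow p G)
    (hP : Nat.card (P : Subgroup G) = p) (hnn : ¬ (P : Subgroup G).Normal) (ζ : G → ℂ)
    (hζ : IsIrrCharacter G ζ) (hfaith : ∀ g : G, ζ g = ζ 1 → g = 1)
    (hdeg : charDegree ζ = p - 2) : ∃ ζ₁ : IrrCharacter G, Core p P ζ₁ := by
  classical
  have hc : IsCharacter G ζ := isCharacter_of_isIrrCharacter hζ
  have hζ1 : ζ 1 = ((p - 2 : ℕ) : ℂ) := by rw [irr_one_eq_charDegree hζ, hdeg]
  have hp2 : ((p - 2 : ℕ) : ℂ) = (p : ℂ) - 2 := by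
    rw [Nat.cast_sub (by omega)]
    norm_num
  have hodd : Odd (p - 2) := by
    have hpp : p.Prime := Fact.out
    rcases hpp.eq_two_or_odd' with h | h
    · omega
    · rcases h with ⟨k, hk⟩
      exact ⟨k - 1, by omega⟩
  -- the exponent
  set e : ℕ := (Nat.card (Subgroup.center G)).factorization 2 with he
  obtain ⟨j, hj⟩ := TW.exists_inv_mod (p - 2) e hodd
  -- the twisting homomorphism
  set β : G →* ℂˣ := ((detHom hc) ^ j)⁻¹ with hβ
  have hβval : ∀ g : G, ((β g : ℂˣ) : ℂ) = ((detChar ζ g) ^ j)⁻¹ := by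
    intro g
    rw [hβ]
    simp [MonoidHom.inv_apply, MonoidHom.pow_apply]
  have hirr : IsIrrCharacter G (fun g => ((β g : ℂˣ) : ℂ) * ζ g) := isIrrCharacter_twist β hζ
  refine ⟨⟨fun g => ((β g : ℂˣ) : ℂ) * ζ g, hirr⟩, ?_⟩
  have hnormβ : ∀ g : G, ‖((β g : ℂˣ) : ℂ)‖ = 1 := TW.norm_hom_eq_one β
  refine ⟨hp, hP, ?_, ?_, hnn, ?_⟩
  · -- degree
    show ((β 1 : ℂˣ) : ℂ) * ζ 1 = (p : ℂ) - 2
    rw [map_one, Units.val_one, one_mul, hζ1, hp2]
  · -- (O2)
    intro g hg
    have hg' : ‖ζ g‖ = (p : ℝ) - 2 := by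
      have : ‖((β g : ℂˣ) : ℂ) * ζ g‖ = (p : ℝ) - 2 := hg
      rwa [norm_mul, hnormβ g, one_mul] at this
    have hre : (ζ 1).re = (p : ℝ) - 2 := by
      rw [hζ1, hp2]
      simp
    rw [Subgroup.mem_center_iff]
    intro c
    have h1 := Cfsg.Agent.Helper14.BRB.comm_mem_ker_of_norm_eq hζ g (by rw [hg', hre]) c
    have h2 := hfaith _ h1
    -- g c g⁻¹ c⁻¹ = 1
    have h3 : g * c = c * g := by
      have : g * c * g⁻¹ * c⁻¹ = 1 := h2
      calc g * c = (g * c * g⁻¹ * c⁻¹) * (c * g) := by group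
        _ = c * g := by rw [this, one_mul]
    exact h3.symm
  · -- (O4)
    intro z hz hz2
    obtain ⟨k, hk⟩ := hz2
    obtain ⟨n, R, hR, hRζ⟩ := hζ
    obtain ⟨c, hcR, htr, hdet, hord⟩ := TW.central_scalar R hR hz
    -- `n = p - 2`
    have hn : n = p - 2 := by
      have h1 : ζ 1 = (n : ℂ) := by
        rw [← hRζ, Representation.char_one, Module.finrank_fin_fun]
      rw [hζ1] at h1
      exact_mod_cast h1.symm
    -- `c ^ (2 ^ e) = 1`
    have hce : c ^ (2 ^ e) = 1 := by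
      have h1 : orderOf z ∣ Nat.card (Subgroup.center G) :=
        Subgroup.orderOf_dvd_natCard _ hz
      have hcard0 : Nat.card (Subgroup.center G) ≠ 0 := Nat.card_pos.ne'
      have h2 : k ≤ e := by
        rw [hk] at h1
        exact (Nat.prime_two.pow_dvd_iff_le_factorization hcard0).1 h1
      have h3 : orderOf z ∣ 2 ^ e := by
        rw [hk]
        exact pow_dvd_pow 2 h2
      obtain ⟨m, hm⟩ := h3
      rw [hm, pow_mul, hord, one_pow]
    -- the determinant
    have hdetz : detChar ζ z = c ^ n := by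
      have hζ' : IsIrrCharacter G ζ := ⟨n, R, hR, hRζ⟩
      rw [detChar_eq_det hζ' R hRζ z, hdet]
    have hpow : (c ^ n) ^ j = c := by
      rw [← pow_mul, hn]
      have h1 := pow_eq_pow_mod ((p - 2) * j) hce
      rw [h1]
      have h2 : (p - 2) * j % 2 ^ e = 1 % 2 ^ e := hj
      rw [h2, ← pow_eq_pow_mod 1 hce, pow_one]
    have hc0 : c ≠ 0 := by
      intro h0
      rw [h0] at hce
      have : (0 : ℂ) ^ (2 ^ e) = 0 := zero_pow (by positivity)
      rw [this] at hce
      exact zero_ne_one hce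
    show ((β z : ℂˣ) : ℂ) * ζ z = ((β 1 : ℂˣ) : ℂ) * ζ 1
    rw [map_one, Units.val_one, one_mul, hβval z, hdetz, hpow, ← hRζ, htr,
      Representation.char_one, Module.finrank_fin_fun]
    field_simp

end Cfsg.Agent.Helper23.B2
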