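import Mathlib
import Cfsg.Prelude.Def_Blocks
import Cfsg.Agent.Lib.Helper24.B2TW
import Cfsg.Agent.Lib.Helper19.ClassSize

/-!
# S4705 (Brauer, degree `p - 2`), PIECE OVER: constituents of a character with central character `w²`   (helper24)
-/

set_option autoImplicit false
set_option linter.unusedSectionVars false
set_option linter.unusedVariables false

namespace Cfsg.Agent.Helper23.B2

open scoped ComplexConjugate
open Cfsg Cfsg.Agent.Helper24 Cfsg.Agent.Helper16.ITO

universe u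

variable {G : Type u} [Group G] [Fintype G]

namespace OVER

/-- the scalar by which a central element acts: `χ z / χ 1` -/
noncomputable def sc (χ : IrrCharacter G) (z : G) : ℂ := (χ : G → ℂ) z / (χ : G → ℂ) 1

theorem one_ne_zero' (χ : IrrCharacter G) : (χ : G → ℂ) 1 ≠ 0 := by
  rw [irr_one_eq_charDegree χ.2]
  exact_mod_cast (charDegree_pos χ.2).ne'

/-- a central element acts as the scalar `sc χ z`, a root of unity -/
theorem sc_spec (χ : IrrCharacter G) {z : G} (hz : z ∈ Subgroup.center G) :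
    sc χ z ^ orderOf z = 1 ∧ ∀ g : G, (χ : G → ℂ) (g * z) = sc χ z * (χ : G → ℂ) g := by
  obtain ⟨n, R, hR, hRχ⟩ := χ.2
  obtain ⟨c, hcR, htr, -, hord⟩ := TW.central_scalar R hR hz
  have h1 : ∀ g : G, (χ : G → ℂ) (g * z) = c * (χ : G → ℂ) g := by
    intro g
    rw [← hRχ]
    show LinearMap.trace ℂ (Fin n → ℂ) (R (g * z)) = c * LinearMap.trace ℂ (Fin n → ℂ) (R g)
    rw [map_mul, hcR, mul_smul_comm, mul_one, map_smul, smul_eq_mul]
  have h2 : sc χ z = c := by
    unfold sc
    have := h1 1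
    rw [one_mul] at this
    rw [this, mul_div_assoc, div_self (one_ne_zero' χ), mul_one]
  rw [h2]
  exact ⟨hord, h1⟩

theorem sc_mul (χ : IrrCharacter G) {y z : G} (hy : y ∈ Subgroup.center G)
    (hz : z ∈ Subgroup.center G) : sc χ (y * z) = sc χ y * sc χ z := by
  have h1 := (sc_spec χ hz).2 y
  unfold sc at h1 ⊢
  rw [h1]
  field_simp [one_ne_zero' χ]

theorem sc_one (χ : IrrCharacter G) : sc χ 1 = 1 := by
  unfold sc
  exact div_self (one_ne_zero' χ)

theorem sc_pow (χ : IrrCharacter G) {z : G} (hz : z ∈ Subgroup.center G) (n : ℕ) :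
    sc χ (z ^ n) = sc χ z ^ n := by
  induction n with
  | zero => rw [pow_zero, pow_zero, sc_one]
  | succ n ih => rw [pow_succ, pow_succ, sc_mul χ (Subgroup.pow_mem _ hz n) hz, ih]

theorem norm_sc (χ : IrrCharacter G) {z : G} (hz : z ∈ Subgroup.center G) : ‖sc χ z‖ = 1 :=
  Complex.norm_eq_one_of_pow_eq_one (sc_spec χ hz).1 (orderOf_pos z).ne'

variable {p : ℕ} [Fact p.Prime] {P : Sylow p G} {ζ : IrrCharacter G}

/-- central elements are `p`-regular, because `P` is not normal -/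
theorem center_regular (h : Core p P ζ) {y : G} (hy : y ∈ Subgroup.center G) :
    ¬ p ∣ orderOf y := by
  intro hdvd
  have hpp : p.Prime := Fact.out
  set y' := y ^ (orderOf y / p) with hy'
  have hord : orderOf y' = p := orderOf_pow_orderOf_div (orderOf_pos y).ne' hdvd
  have hy'c : y' ∈ Subgroup.center G := Subgroup.pow_mem _ hy _
  set Q : Subgroup G := Subgroup.zpowers y' with hQ
  have hQcard : Nat.card Q = p := by rw [hQ, Nat.card_zpowers, hord]
  have hQp : IsPGroup p Q := IsPGroup.of_card (n := 1) (by rw [hQcard, pow_one])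
  obtain ⟨S, hS⟩ := hQp.exists_le_sylow
  obtain ⟨g, hg⟩ := MulAction.exists_smul_eq G S P
  have hScard : Nat.card (S : Subgroup G) = p := by
    have e1 := Sylow.card_eq_multiplicity S
    have e2 := Sylow.card_eq_multiplicity P
    rw [e1, ← e2, h.cardP]
  have hQS : Q = (S : Subgroup G) :=
    Subgroup.eq_of_le_of_card_ge hS (by rw [hScard, hQcard])
  have hQle : Q ≤ Subgroup.center G := by
    rw [hQ, Subgroup.zpowers_le]
    exact hy'c
  have hSn : (S : Subgroup G).Normal := by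
    rw [← hQS]
    constructor
    intro n hn g'
    have hnc := hQle hn
    have : g' * n * g'⁻¹ = n := by
      rw [Subgroup.mem_center_iff] at hnc
      rw [hnc g', mul_assoc, mul_inv_cancel, mul_one]
    rw [this]
    exact hn
  have hPS : P = S := by
    rw [← hg]
    exact Sylow.smul_eq_of_normal
  exact h.nn (hPS ▸ hSn)

end OVER

variable {p : ℕ} [Fact p.Prime] {P : Sylow p G} {ζ : IrrCharacter G}

open OVER in
/-- PIECE OVER (§3): a constituent `χ^(r)` of a character `Θ` with `Θ(gz) = w(z)² Θ(g)` (`w = ζ z / ζ 1`) has `χ`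
over `w`. -/
theorem over_of_constituent (h : Core p P ζ) {r : ℕ} (hr : IsR p P r) {Θ : G → ℂ}
    (hΘ : ∀ z ∈ Subgroup.center G, ∀ g : G,
      Θ (g * z) * (ζ : G → ℂ) 1 ^ 2 = (ζ : G → ℂ) z ^ 2 * Θ g)
    (χ : IrrCharacter G) (hχ : classInner Θ (gal χ hr.cop : G → ℂ) ≠ 0) :
    Over (ζ : G → ℂ) (χ : G → ℂ) := by
  classical
  have hζ1 := one_ne_zero' ζ
  have hχ1 := one_ne_zero' χ
  -- (M1) `sc χ (y^r) = (sc ζ y)²` for central `y`
  have M1 : ∀ y ∈ Subgroup.center G, sc χ (y ^ r) = sc ζ y ^ 2 := by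
    intro y hy
    have hyr : y ^ r ∈ Subgroup.center G := Subgroup.pow_mem _ hy r
    set S : ℂ := ∑ g : G, Θ g * conj ((gal χ hr.cop : G → ℂ) g) with hS
    have hS0 : S ≠ 0 := by
      intro h0
      apply hχ
      unfold classInner
      rw [← hS, h0, mul_zero]
    have hΘy : ∀ g : G, Θ (g * y) = sc ζ y ^ 2 * Θ g := by
      intro g
      have h1 := hΘ y hy g
      have h2 : (ζ : G → ℂ) y = sc ζ y * (ζ : G → ℂ) 1 := by
        have := (sc_spec ζ hy).2 1
        rwa [one_mul] at this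
      rw [h2, mul_pow] at h1
      have h3 : Θ (g * y) * (ζ : G → ℂ) 1 ^ 2 = (sc ζ y ^ 2 * Θ g) * (ζ : G → ℂ) 1 ^ 2 := by
        rw [h1]; ring
      exact mul_right_cancel₀ (pow_ne_zero 2 hζ1) h3
    have hgal : ∀ g : G, (gal χ hr.cop : G → ℂ) (g * y) =
        sc χ (y ^ r) * (gal χ hr.cop : G → ℂ) g := by
      intro g
      show (χ : G → ℂ) ((g * y) ^ r) = sc χ (y ^ r) * (χ : G → ℂ) (g ^ r)
      have hcomm : Commute g y := by
        show g * y = y * g
        exact (Subgroup.mem_center_iff.1 hy g)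
      rw [hcomm.mul_pow, (sc_spec χ hyr).2 (g ^ r)]
    have hreidx : S = ∑ g : G, Θ (g * y) * conj ((gal χ hr.cop : G → ℂ) (g * y)) := by
      rw [hS]
      exact (Fintype.sum_equiv (Equiv.mulRight y) _ _ (fun g => rfl)).symm
    have hS2 : S = (sc ζ y ^ 2 * conj (sc χ (y ^ r))) * S := by
      conv_lhs => rw [hreidx]
      rw [hS, Finset.mul_sum]
      refine Finset.sum_congr rfl fun g _ => ?_
      rw [hΘy g, hgal g, map_mul]
      ring
    have hprod : sc ζ y ^ 2 * conj (sc χ (y ^ r)) = 1 := by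
      have h1 : (sc ζ y ^ 2 * conj (sc χ (y ^ r)) - 1) * S = 0 := by
        rw [sub_mul, one_mul, ← hS2, sub_self]
      rcases mul_eq_zero.1 h1 with h2 | h2
      · exact sub_eq_zero.1 h2
      · exact absurd h2 hS0
    have hnorm := norm_sc χ hyr
    have hconj : sc χ (y ^ r) * conj (sc χ (y ^ r)) = 1 := by
      rw [Complex.mul_conj, Complex.normSq_eq_norm_sq, hnorm]
      simp
    have hne : conj (sc χ (y ^ r)) ≠ 0 := by
      intro h0
      rw [h0, mul_zero] at hconj
      exact zero_ne_one hconj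
    exact mul_right_cancel₀ hne (hconj.trans hprod.symm)
  -- the statement
  intro z hz
  obtain ⟨a, b, hdec, ⟨i, hi⟩, hcop, -⟩ :=
    Cfsg.Agent.Helper19.ClassSize.exists_pow_decomp z 2 Nat.prime_two
  have hza : z ^ a ∈ Subgroup.center G := Subgroup.pow_mem _ hz a
  have hzb : z ^ b ∈ Subgroup.center G := Subgroup.pow_mem _ hz b
  have hoddb : Odd (orderOf (z ^ b)) := Nat.coprime_two_right.1 hcop
  -- (M2)
  have hζa : sc ζ (z ^ a) = 1 := by
    unfold sc
    rw [h.two _ hza ⟨i, hi⟩, div_self hζ1]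
  have hχa : sc χ (z ^ a) = 1 := by
    have h1 := M1 _ hza
    rw [hr.onTwo _ ⟨i, hi⟩, hζa, one_pow] at h1
    exact h1
  -- (M3)
  have hχb : sc χ (z ^ b) = sc ζ (z ^ b) := by
    have h1 := M1 _ hzb
    rw [hr.onOdd _ hoddb (center_regular h hzb), sc_mul χ hzb hzb, ← pow_two] at h1
    set m := orderOf (z ^ b) with hm
    have h2 : sc χ (z ^ b) ^ m = 1 := (sc_spec χ hzb).1
    have h3 : sc ζ (z ^ b) ^ m = 1 := (sc_spec ζ hzb).1
    obtain ⟨l, hl⟩ := hoddb
    have hζb0 : sc ζ (z ^ b) ≠ 0 := by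
      intro h0
      rw [h0, zero_pow (by rw [hl]; omega)] at h3
      exact zero_ne_one h3
    -- `x = x^m * x / x^m`: use `x^(2l+1) = (x^2)^l * x`
    have e1 : sc χ (z ^ b) ^ m = (sc ζ (z ^ b) ^ 2) ^ l * sc χ (z ^ b) := by
      rw [hl, pow_succ, pow_mul, h1]
    have e2 : sc ζ (z ^ b) ^ m = (sc ζ (z ^ b) ^ 2) ^ l * sc ζ (z ^ b) := by
      rw [hl, pow_succ, pow_mul]
    have hne : (sc ζ (z ^ b) ^ 2) ^ l ≠ 0 := pow_ne_zero _ (pow_ne_zero _ hζb0)
    have : (sc ζ (z ^ b) ^ 2) ^ l * sc χ (z ^ b) = (sc ζ (z ^ b) ^ 2) ^ l * sc ζ (z ^ b) := by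
      rw [← e1, ← e2, h2, h3]
    exact mul_left_cancel₀ hne this
  -- (M4)
  have hfin : sc χ z = sc ζ z := by
    have e1 : sc χ z = sc χ (z ^ a) * sc χ (z ^ b) := by
      conv_lhs => rw [hdec]
      exact sc_mul χ hza hzb
    have e2 : sc ζ z = sc ζ (z ^ a) * sc ζ (z ^ b) := by
      conv_lhs => rw [hdec]
      exact sc_mul ζ hza hzb
    rw [e1, e2, hχa, hζa, hχb]
  unfold sc at hfin
  field_simp at hfin
  linear_combination hfin

end Cfsg.Agent.Helper23.B2
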