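import Mathlib
import Cfsg.Agent.Lib.Helper24.Cd2Basic
import Cfsg.Agent.Lib.Helper5.CharCenter
import Cfsg.Agent.Lib.Helper5.CenterDvd
import Cfsg.Agent.Lib.Helper19.PGroupBasic

/-!
# `p`-groups with character degrees `1` and `p`: the central quotient (helper24's shared library)

A nonabelian `p`-group `P` with `cd(P) ⊆ {1, p}` has a normal subgroup `Z` of index `p²` with
`P / Z` elementary abelian and an irreducible character of degree `p` vanishing off `Z`, of absolute
value `p` on `Z`.
-/

set_option autoImplicit false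
set_option linter.style.haveILetI false
set_option linter.unusedSectionVars false

namespace Cfsg.Agent.Helper24.CdP

open Cfsg Cfsg.Agent.Helper24 Cfsg.Agent.Helper24.Cd2 Cfsg.Agent.Helper5 Cfsg.Agent.Helper23
open scoped commutatorElement ComplexConjugate

universe u

/-- An irreducible character whose kernel contains the commutator subgroup is linear. -/
theorem linear_of_commutator_le_ker {G : Type u} [Group G] [Finite G] {χ : G → ℂ}
    (hχ : IsIrrCharacter G χ) (h : ∀ x ∈ commutator G, χ x = χ 1) : charDegree χ = 1 := by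
  obtain ⟨ψ, hψ, heq⟩ := exists_deflate (commutator G) hχ h
  have h1 : charDegree ψ = 1 := by
    apply linear_of_comm _ hψ
    intro a b
    have := mul_comm (show Abelianization G from a) (show Abelianization G from b)
    exact this
  rw [heq]
  have := charDegree_comp (QuotientGroup.mk' (commutator G)) ψ
  rw [← h1, ← this]
  rfl

/-- In a `p`-group all of whose proper quotients are abelian, a nonlinear irreducible character
vanishes off the centre, and its degree squared is the index of the centre. -/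
theorem central_type_of_minimal {Q : Type u} [Group Q] [Finite Q] {p : ℕ} [Fact p.Prime]
    (hQ : IsPGroup p Q)
    (hq : ∀ N' : Subgroup Q, N'.Normal → N' ≠ ⊥ → commutator Q ≤ N')
    {ψ : Q → ℂ} (hψ : IsIrrCharacter Q ψ) (hnl : charDegree ψ ≠ 1) :
    commutator Q ≤ Subgroup.center Q ∧ (∀ g, g ∉ Subgroup.center Q → ψ g = 0) ∧
      charDegree ψ ^ 2 = (Subgroup.center Q).index := by
  classical
  letI : Fintype Q := Fintype.ofFinite Q
  have hψc := isCharacter_of_isIrrCharacter hψ
  have hcne : commutator Q ≠ ⊥ := by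
    intro hbot
    apply hnl
    apply linear_of_comm _ hψ
    intro a b
    have h1 : ⁅a, b⁆ ∈ commutator Q := by
      rw [commutator_def]
      exact Subgroup.commutator_mem_commutator (Subgroup.mem_top _) (Subgroup.mem_top _)
    rw [hbot, Subgroup.mem_bot, commutatorElement_def] at h1
    calc a * b = (a * b * a⁻¹ * b⁻¹) * (b * a) := by group
      _ = b * a := by rw [h1, one_mul]
  have hN := Cfsg.Agent.Helper19.normal_inf_center_ne_bot hQ (commutator Q) hcne
  have hle : commutator Q ≤ Subgroup.center Q :=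
    (hq _ inferInstance hN).trans inf_le_right
  -- `ψ` is faithful on the commutator subgroup
  have hfaith : ∀ z ∈ commutator Q, ψ z = ψ 1 → z = 1 := by
    intro z hz hz1
    by_contra hne
    haveI := charKer_normal hψc
    have hker : charKer hψc ≠ ⊥ := by
      intro hbot
      have : z ∈ charKer hψc := hz1
      rw [hbot, Subgroup.mem_bot] at this
      exact hne this
    have h2 := hq _ (charKer_normal hψc) hker
    apply hnl
    apply linear_of_commutator_le_ker hψ
    intro x hx
    exact h2 hx
  have hvan : ∀ g, g ∉ Subgroup.center Q → ψ g = 0 := by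
    intro g hg
    rw [Subgroup.mem_center_iff] at hg
    push Not at hg
    obtain ⟨x, hx⟩ := hg
    set z : Q := g⁻¹ * x⁻¹ * g * x with hz
    have hzc : z ∈ commutator Q := by
      have : z = ⁅g⁻¹, x⁻¹⁆ := by rw [commutatorElement_def, hz]; group
      rw [this, commutator_def]
      exact Subgroup.commutator_mem_commutator (Subgroup.mem_top _) (Subgroup.mem_top _)
    have hz1 : z ≠ 1 := by
      intro h
      apply hx
      have : x * g = g * x * z⁻¹ := by rw [hz]; group
      rw [this, h, inv_one, mul_one]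
    have hzne : ψ z ≠ ψ 1 := fun h => hz1 (hfaith z hzc h)
    have h1 : ψ (x⁻¹ * g * x⁻¹⁻¹) = ψ g := isClassFunction_of_isIrrCharacter hψ g x⁻¹
    have h2 : x⁻¹ * g * x⁻¹⁻¹ = z * g := by
      have hcomm := Subgroup.mem_center_iff.mp (hle hzc) g
      rw [← hcomm, hz]
      group
    rw [h2, irr_central_mul ψ hψ z (hle hzc) g] at h1
    have h0 := irr_one_ne_zero ψ hψ
    by_contra hg0
    apply hzne
    have h3 : ψ z / ψ 1 = 1 := by
      have := mul_right_cancel₀ hg0 (h1.trans (one_mul _).symm)
      exact this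
    field_simp at h3
    exact h3
  refine ⟨hle, hvan, ?_⟩
  letI : Fintype (Subgroup.center Q) := Fintype.ofFinite _
  exact sq_degree_of_vanish_off_central (Subgroup.center Q) le_rfl hψ hvan

/-- If the centre has index `p²` in a nonabelian group then `p`-th powers are central. -/
theorem pow_mem_center_of_index {Q : Type u} [Group Q] [Finite Q] {p : ℕ} [hp : Fact p.Prime]
    (hidx : (Subgroup.center Q).index = p ^ 2) (hnab : ∃ a b : Q, a * b ≠ b * a) (g : Q) :
    g ^ p ∈ Subgroup.center Q := by
  classical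
  have hcard : Nat.card (Q ⧸ Subgroup.center Q) = p ^ 2 := by
    rw [← Subgroup.index_eq_card, hidx]
  have hord : orderOf (QuotientGroup.mk g : Q ⧸ Subgroup.center Q) ∣ p ^ 2 := by
    rw [← hcard]
    exact orderOf_dvd_natCard _
  obtain ⟨j, hj, hjeq⟩ := (Nat.dvd_prime_pow hp.out).mp hord
  have hj2 : j ≠ 2 := by
    intro h2
    rw [h2, ← hcard] at hjeq
    haveI : IsCyclic (Q ⧸ Subgroup.center Q) := isCyclic_of_orderOf_eq_card _ hjeq
    obtain ⟨a, b, hab⟩ := hnab
    apply hab
    have hc := MonoidHom.isMulCommutative_of_isCyclic_of_ker_le_center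
      (QuotientGroup.mk' (Subgroup.center Q)) (by rw [QuotientGroup.ker_mk'])
    exact hc.is_comm.comm a b
  have hj1 : j ≤ 1 := by omega
  have hpow : (QuotientGroup.mk g : Q ⧸ Subgroup.center Q) ^ p = 1 := by
    apply orderOf_dvd_iff_pow_eq_one.mp
    rw [hjeq]
    calc p ^ j ∣ p ^ 1 := pow_dvd_pow p hj1
      _ = p := pow_one p
  rw [← QuotientGroup.mk_pow, QuotientGroup.eq_one_iff] at hpow
  exact hpow

/-- **The central quotient** of a nonabelian `p`-group with `cd ⊆ {1, p}`. -/
theorem exists_central_quotient {P : Type u} [Group P] [Finite P] {p : ℕ} [hp : Fact p.Prime]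
    (hP : IsPGroup p P) (hcd : CdSub P p) (hnab : ∃ a b : P, a * b ≠ b * a) :
    ∃ Z : Subgroup P, Z.Normal ∧ Z.index = p ^ 2 ∧ (∀ g : P, g ^ p ∈ Z) ∧
      (∀ g h : P, g * h * g⁻¹ * h⁻¹ ∈ Z) ∧
      ∃ ψ : P → ℂ, IsIrrCharacter P ψ ∧ (∀ g, g ∉ Z → ψ g = 0) ∧
        ∀ z ∈ Z, ψ z * conj (ψ z) = (p : ℂ) ^ 2 := by
  classical
  letI : Fintype P := Fintype.ofFinite P
  let S : Set (Subgroup P) := {K | ∃ h : K.Normal, ∃ a b : P ⧸ K, a * b ≠ b * a}
  have hS : S.Nonempty := by
    obtain ⟨a, b, hab⟩ := hnab
    refine ⟨⊥, inferInstance, QuotientGroup.mk a, QuotientGroup.mk b, ?_⟩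
    intro h
    apply hab
    rw [← QuotientGroup.mk_mul, ← QuotientGroup.mk_mul, QuotientGroup.eq] at h
    rw [Subgroup.mem_bot] at h
    exact inv_mul_eq_one.mp h
  obtain ⟨K, ⟨hK, hKnab⟩, hKmax⟩ := (wellFounded_gt (α := Subgroup P)).has_min S hS
  haveI := hK
  have hQ : IsPGroup p (P ⧸ K) := hP.to_quotient K
  have hq : ∀ N' : Subgroup (P ⧸ K), N'.Normal → N' ≠ ⊥ → commutator (P ⧸ K) ≤ N' := by
    intro N' hN' hne
    set K' : Subgroup P := N'.comap (QuotientGroup.mk' K) with hK'
    haveI : K'.Normal := Subgroup.Normal.comap hN' _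
    have hKK' : K ≤ K' := by
      intro k hk
      rw [hK', Subgroup.mem_comap, QuotientGroup.mk'_apply, (QuotientGroup.eq_one_iff k).mpr hk]
      exact N'.one_mem
    have hlt : K < K' := by
      refine lt_of_le_of_ne hKK' ?_
      intro heq
      apply hne
      rw [Subgroup.eq_bot_iff_forall]
      intro q hq
      obtain ⟨g, rfl⟩ := QuotientGroup.mk_surjective q
      have : g ∈ K' := hq
      rw [← heq] at this
      exact (QuotientGroup.eq_one_iff g).mpr this
    have hab' : ∀ a b : P ⧸ K', a * b = b * a := by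
      by_contra hcon
      push Not at hcon
      exact hKmax K' ⟨inferInstance, hcon⟩ hlt
    rw [commutator_def, Subgroup.commutator_le]
    intro x _ y _
    obtain ⟨a, rfl⟩ := QuotientGroup.mk_surjective x
    obtain ⟨b, rfl⟩ := QuotientGroup.mk_surjective y
    have h1 : a * b * a⁻¹ * b⁻¹ ∈ K' := by
      rw [← QuotientGroup.eq_one_iff]
      rw [QuotientGroup.mk_mul, QuotientGroup.mk_mul, QuotientGroup.mk_mul,
        hab' (QuotientGroup.mk a) (QuotientGroup.mk b), QuotientGroup.mk_inv, QuotientGroup.mk_inv]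
      group
    have h2 : ⁅(QuotientGroup.mk a : P ⧸ K), QuotientGroup.mk b⁆ =
        QuotientGroup.mk' K (a * b * a⁻¹ * b⁻¹) := by
      rw [commutatorElement_def]
      rfl
    rw [h2]
    exact h1
  obtain ⟨ψ, hψ, hψnl⟩ := exists_nonlinear hKnab
  have hψdeg : charDegree ψ = p := ((hcd.quotient K) ψ hψ).resolve_left hψnl
  obtain ⟨hle, hvan, hsq⟩ := central_type_of_minimal hQ hq hψ hψnl
  rw [hψdeg] at hsq
  have hpowQ := pow_mem_center_of_index hsq.symm hKnab
  refine ⟨(Subgroup.center (P ⧸ K)).comap (QuotientGroup.mk' K), inferInstance, ?_, ?_, ?_,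
    ψ ∘ (QuotientGroup.mk' K), ?_, ?_, ?_⟩
  · rw [Subgroup.index_comap_of_surjective _ (QuotientGroup.mk'_surjective K), ← hsq]
  · intro g
    rw [Subgroup.mem_comap, map_pow]
    exact hpowQ _
  · intro g h
    rw [Subgroup.mem_comap]
    apply hle
    have h2 : QuotientGroup.mk' K (g * h * g⁻¹ * h⁻¹) =
        ⁅(QuotientGroup.mk g : P ⧸ K), QuotientGroup.mk h⁆ := by
      rw [commutatorElement_def]
      rfl
    rw [h2, commutator_def]
    exact Subgroup.commutator_mem_commutator (Subgroup.mem_top _) (Subgroup.mem_top _)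
  · exact isIrrCharacter_comp_of_surjective _ (QuotientGroup.mk'_surjective K) hψ
  · intro g hg
    exact hvan _ hg
  · intro z hz
    letI : Fintype (P ⧸ K) := Fintype.ofFinite _
    have h1 := irr_central_normSq hψ (QuotientGroup.mk' K z) hz
    rw [Function.comp_apply, h1, irr_one_eq_charDegree hψ, hψdeg]
    ring

end Cfsg.Agent.Helper24.CdP
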