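import Mathlib
import Cfsg.Agent.Lib.Helper24.CdPCenter

/-!
# `p`-groups with character degrees `1` and `p`: the subgroup `Z` is abelian
(helper24's shared library)
-/

set_option autoImplicit false
set_option linter.style.haveILetI false
set_option linter.unusedSectionVars false

namespace Cfsg.Agent.Helper24.CdP

open Cfsg Cfsg.Agent.Helper24 Cfsg.Agent.Helper24.Cd2 Cfsg.Agent.Helper5 Cfsg.Agent.Helper23
  Cfsg.Agent.Helper18
open scoped commutatorElement ComplexConjugate

universe u

/-- If an irreducible character of degree `p` vanishes off the normal subgroup `Z` of index `p²`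
(and `cd(P) ⊆ {1, p}`) then `Z` is abelian. -/
theorem abelian_of_central_quotient {P : Type u} [Group P] [Finite P] {p : ℕ} [hp : Fact p.Prime]
    (hcd : CdSub P p) (Z : Subgroup P) [hZ : Z.Normal] (hidx : Z.index = p ^ 2)
    {ψ : P → ℂ} (hψ : IsIrrCharacter P ψ) (hvan : ∀ g, g ∉ Z → ψ g = 0)
    (hnorm : ∀ z ∈ Z, ψ z * conj (ψ z) = (p : ℂ) ^ 2) :
    ∀ a ∈ Z, ∀ b ∈ Z, a * b = b * a := by
  classical
  letI : Fintype P := Fintype.ofFinite P
  letI : Fintype Z := Fintype.ofFinite Z
  have hp2 : 2 ≤ p := hp.out.two_le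
  suffices h : ∀ θ : Z → ℂ, IsIrrCharacter Z θ → charDegree θ = 1 by
    intro a ha b hb
    have := comm_of_forall_linear h ⟨a, ha⟩ ⟨b, hb⟩
    exact congrArg Subtype.val this
  intro θ hθ
  by_contra hnl
  obtain ⟨χ, hχ, hcon⟩ := exists_over Z hθ
  have hdvd := degree_dvd_of_constituent Z hχ hθ hcon
  have hχdeg : charDegree χ = p := by
    rcases hcd χ hχ with h1 | h1
    · rw [h1, Nat.dvd_one] at hdvd
      exact absurd hdvd hnl
    · exact h1
  have hθdeg : charDegree θ = p := by
    rw [hχdeg] at hdvd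
    rcases (Nat.dvd_prime hp.out).mp hdvd with h1 | h1
    · exact absurd h1 hnl
    · exact h1
  have hχc := isCharacter_of_isIrrCharacter hχ
  have hψc := isCharacter_of_isIrrCharacter hψ
  have hχZ : IsCharacter Z (fun z : Z => χ z) := isCharacter_restrict Z hχc
  obtain ⟨ρ, hρ, hsum⟩ := exists_add_of_constituent hχZ hθ hcon
  have hρ1 : ρ 1 = 0 := by
    have := congrFun hsum 1
    simp only [Pi.add_apply, Subgroup.coe_one] at this
    rw [irr_one_eq_charDegree hχ, irr_one_eq_charDegree hθ, hχdeg, hθdeg] at this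
    linear_combination -this
  have hρ0 := char_eq_zero_of_one_eq_zero hρ hρ1
  have hres : ∀ z : Z, χ z = θ z := by
    intro z
    have := congrFun hsum z
    rw [hρ0, add_zero] at this
    exact this
  -- degree of `ψ`
  have hψdeg : charDegree ψ = p := by
    have h1 := hnorm 1 Z.one_mem
    rw [irr_one_eq_charDegree hψ, Complex.conj_natCast] at h1
    have h2 : charDegree ψ * charDegree ψ = p ^ 2 := by exact_mod_cast h1
    have h3 : charDegree ψ ^ 2 = p ^ 2 := by rw [sq]; exact h2
    exact Nat.pow_left_injective (by norm_num : (2 : ℕ) ≠ 0) h3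
  -- the product is irreducible
  have hφc : IsCharacter P (χ * ψ) := isCharacter_mul hχc hψc
  have hinner : classInner (χ * ψ) (χ * ψ) = 1 := by
    unfold classInner
    have h1 := sum_eq_sum_subgroup_add Z (fun g => (χ * ψ) g * conj ((χ * ψ) g))
    have h0 : ∑ g ∈ Finset.univ.filter (fun g : P => ¬ g ∈ Z),
        (χ * ψ) g * conj ((χ * ψ) g) = 0 := by
      apply Finset.sum_eq_zero
      intro g hg
      rw [Finset.mem_filter] at hg
      rw [Pi.mul_apply, hvan g hg.2, mul_zero, zero_mul]
    have h2 : ∑ z : Z, (χ * ψ) z * conj ((χ * ψ) z) = (p : ℂ) ^ 2 * (Nat.card Z : ℂ) := by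
      have : ∀ z : Z, (χ * ψ) z * conj ((χ * ψ) z) = (p : ℂ) ^ 2 * (θ z * conj (θ z)) := by
        intro z
        rw [Pi.mul_apply, map_mul, hres z]
        have := hnorm z z.2
        calc θ z * ψ z * (conj (θ z) * conj (ψ z))
            = (ψ z * conj (ψ z)) * (θ z * conj (θ z)) := by ring
          _ = (p : ℂ) ^ 2 * (θ z * conj (θ z)) := by rw [this]
      rw [Finset.sum_congr rfl (fun z _ => this z), ← Finset.mul_sum, sum_mul_conj_irr hθ]
    rw [h1, h0, add_zero, h2, ← Z.card_mul_index, hidx]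
    have hZ0 : (Nat.card Z : ℂ) ≠ 0 := by
      rw [Nat.cast_ne_zero]; exact Nat.card_pos.ne'
    have hp0 : (p : ℂ) ≠ 0 := by
      rw [Nat.cast_ne_zero]; omega
    push_cast
    field_simp
  letI := irrFintype (G := P)
  have hirr := isIrrCharacter_of_classInner_self_eq_one hφc hinner
  have hdeg : charDegree (χ * ψ) = p * p := by
    apply charDegree_natCast
    rw [Pi.mul_apply, irr_one_eq_charDegree hχ, irr_one_eq_charDegree hψ, hχdeg, hψdeg]
    push_cast
    ring
  rcases hcd _ hirr with h1 | h1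
  · rw [hdeg] at h1
    nlinarith
  · rw [hdeg] at h1
    nlinarith

end Cfsg.Agent.Helper24.CdP
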