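import Mathlib

/-!
# An action of `C_p × C_p` in which every point has a nontrivial stabilizer
(helper24's shared library)

Let `G` act on the abelian group `V` by automorphisms, trivially on the normal subgroup `Z` of index
`p²` with `G / Z` elementary abelian.  If the action of `G / Z` is faithful and every element of `V`
is fixed by some element outside `Z`, then `[V, G]` is cyclic of order `p`.
-/

set_option autoImplicit false
set_option linter.style.haveILetI false
set_option linter.unusedSectionVars false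

namespace Cfsg.Agent.Helper24.CdP

open scoped Pointwise

section Module

variable {G : Type*} [Group G] [Finite G] {V : Type*} [CommGroup V] {p : ℕ} [hp : Fact p.Prime]
  (α : G → V →* V) (Z : Subgroup G) [hZn : Z.Normal]
  (hmul : ∀ g h v, α (g * h) v = α h (α g v))
  (hZ : ∀ z ∈ Z, ∀ v, α z v = v)
  (hcomm : ∀ g h : G, g * h * g⁻¹ * h⁻¹ ∈ Z)

include hmul hZ in
theorem act_one (v : V) : α 1 v = v := hZ 1 Z.one_mem v

include hmul hZ hcomm in
theorem act_comm (g h : G) (v : V) : α g (α h v) = α h (α g v) := by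
  have e : g * h = (g * h * g⁻¹ * h⁻¹) * (h * g) := by group
  calc α g (α h v) = α (h * g) v := (hmul h g v).symm
    _ = α (h * g) (α (g * h * g⁻¹ * h⁻¹) v) := by rw [hZ _ (hcomm g h)]
    _ = α ((g * h * g⁻¹ * h⁻¹) * (h * g)) v := (hmul _ _ v).symm
    _ = α (g * h) v := by rw [← e]
    _ = α h (α g v) := hmul g h v

/-- The stabilizer of a point. -/
def stab (hmul : ∀ g h v, α (g * h) v = α h (α g v)) (hZ : ∀ z ∈ Z, ∀ v, α z v = v) (v : V) :
    Subgroup G where
  carrier := {g | α g v = v}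
  one_mem' := hZ 1 Z.one_mem v
  mul_mem' := by
    intro a b ha hb
    simp only [Set.mem_ofPred_eq] at ha hb ⊢
    rw [hmul, ha, hb]
  inv_mem' := by
    intro a ha
    simp only [Set.mem_ofPred_eq] at ha ⊢
    have h1 := hmul a a⁻¹ v
    rw [mul_inv_cancel, hZ 1 Z.one_mem v, ha] at h1
    exact h1.symm

theorem mem_stab (v : V) (g : G) : g ∈ stab α Z hmul hZ v ↔ α g v = v := Iff.rfl

theorem le_stab (v : V) : Z ≤ stab α Z hmul hZ v := fun z hz => hZ z hz v

include hcomm in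
theorem stab_normal (v : V) : (stab α Z hmul hZ v).Normal := by
  constructor
  intro t ht g
  rw [mem_stab] at ht ⊢
  rw [hmul, hmul, act_comm α Z hmul hZ hcomm g⁻¹ t, ← hmul g g⁻¹, mul_inv_cancel,
    act_one α Z hmul hZ, ht]

theorem eq_of_le_of_index_eq {H K : Subgroup G} (h : H ≤ K) (hi : H.index = K.index) : H = K := by
  apply le_antisymm h
  rw [← Subgroup.relIndex_eq_one]
  have h1 := Subgroup.relIndex_mul_index h
  rw [hi] at h1
  have h0 : K.index ≠ 0 := Subgroup.index_ne_zero_of_finite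
  have : H.relIndex K * K.index = 1 * K.index := by rw [h1, one_mul]
  exact Nat.eq_of_mul_eq_mul_right (Nat.pos_of_ne_zero h0) this

/-- A subgroup strictly between has index `1` or `p`. -/
theorem index_of_lt (hidx : Z.index = p ^ 2) {T : Subgroup G} (hZT : Z ≤ T) (hne : T ≠ Z) :
    T.index = 1 ∨ T.index = p := by
  have h1 : T.index ∣ p ^ 2 := by
    rw [← hidx]
    exact Subgroup.index_dvd_of_le hZT
  obtain ⟨j, hj, hjeq⟩ := (Nat.dvd_prime_pow hp.out).mp h1
  have hj2 : j ≠ 2 := by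
    intro h2
    apply hne
    symm
    apply eq_of_le_of_index_eq hZT
    rw [hidx, hjeq, h2]
  interval_cases j
  · left; rw [hjeq, pow_zero]
  · right; rw [hjeq, pow_one]
  · exact absurd rfl hj2

include hcomm in
/-- If `b` moves `v` by the invariant element `μ`, every element moves `v` by a power of `μ`. -/
theorem rel_of_generator (hpow : ∀ g : G, g ^ p ∈ Z) (v μ : V) (b : G)
    (hi : (stab α Z hmul hZ v).index = p) (hb : b ∉ stab α Z hmul hZ v) (hbv : α b v = v * μ)
    (hμ : ∀ g, α g μ = μ) : μ ^ p = 1 ∧ ∀ g, ∃ k : ℕ, α g v = v * μ ^ k := by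
  have hnat : ∀ n : ℕ, α (b ^ n) v = v * μ ^ n := by
    intro n
    induction n with
    | zero => rw [pow_zero, pow_zero, mul_one, act_one α Z hmul hZ]
    | succ n ih =>
      rw [pow_succ, hmul, ih, map_mul, map_pow, hbv, hμ, pow_succ]
      rw [mul_assoc, mul_comm μ]
  have hμp : μ ^ p = 1 := by
    have h1 := hnat p
    rw [hZ _ (hpow b)] at h1
    have : v * 1 = v * μ ^ p := by rw [mul_one]; exact h1
    exact (mul_left_cancel this).symm
  refine ⟨hμp, ?_⟩
  intro g
  haveI := stab_normal α Z hmul hZ hcomm v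
  set T := stab α Z hmul hZ v with hT
  have htop : T ⊔ Subgroup.zpowers b = ⊤ := by
    rw [← Subgroup.index_eq_one]
    have h1 : (T ⊔ Subgroup.zpowers b).index ∣ p := by
      rw [← hi]
      exact Subgroup.index_dvd_of_le le_sup_left
    rcases (Nat.dvd_prime hp.out).mp h1 with h2 | h2
    · exact h2
    · exfalso
      apply hb
      have : T = T ⊔ Subgroup.zpowers b := by
        apply eq_of_le_of_index_eq le_sup_left
        rw [hi, h2]
      rw [this]
      exact (le_sup_right : Subgroup.zpowers b ≤ _) (Subgroup.mem_zpowers b)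
  have hg : g ∈ (T : Set G) * (Subgroup.zpowers b : Set G) := by
    rw [← Subgroup.normal_mul, htop]
    exact Set.mem_univ g
  obtain ⟨t, ht, c, hc, rfl⟩ := hg
  have hc' : c ∈ Submonoid.powers b :=
    (isOfFinOrder_of_finite b).mem_powers_iff_mem_zpowers.mpr hc
  obtain ⟨n, rfl⟩ := hc'
  refine ⟨n, ?_⟩
  have ht' : α t v = v := ht
  show α (t * b ^ n) v = v * μ ^ n
  rw [hmul, ht', hnat]

include hcomm in
theorem stab_index (hidx : Z.index = p ^ 2) (hstab : ∀ v, ∃ g, g ∉ Z ∧ α g v = v) (v : V)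
    (hv : stab α Z hmul hZ v ≠ ⊤) : (stab α Z hmul hZ v).index = p := by
  have hne : stab α Z hmul hZ v ≠ Z := by
    intro h
    obtain ⟨g, hg, hgv⟩ := hstab v
    apply hg
    rw [← h]
    exact hgv
  rcases index_of_lt Z hidx (le_stab α Z hmul hZ v) hne with h1 | h1
  · exact absurd (Subgroup.index_eq_one.mp h1) hv
  · exact h1

include hcomm in
/-- Two points with different proper stabilizers are moved inside a common cyclic group. -/
theorem pair_lemma (hpow : ∀ g : G, g ^ p ∈ Z) (hidx : Z.index = p ^ 2)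
    (hstab : ∀ v, ∃ g, g ∉ Z ∧ α g v = v) (v w : V)
    (hv : stab α Z hmul hZ v ≠ ⊤) (hw : stab α Z hmul hZ w ≠ ⊤)
    (hne : stab α Z hmul hZ v ≠ stab α Z hmul hZ w) :
    ∃ (μ : V) (a : G), μ ^ p = 1 ∧ (∀ g, α g μ = μ) ∧ (∀ g, ∃ k : ℕ, α g v = v * μ ^ k) ∧
      (∀ g, ∃ k : ℕ, α g w = w * μ ^ k) ∧ α a w = w * μ⁻¹ := by
  haveI hTvn := stab_normal α Z hmul hZ hcomm v
  haveI hTwn := stab_normal α Z hmul hZ hcomm w
  have hiv := stab_index α Z hmul hZ hcomm hidx hstab v hv
  have hiw := stab_index α Z hmul hZ hcomm hidx hstab w hw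
  set Tv := stab α Z hmul hZ v with hTv
  set Tw := stab α Z hmul hZ w with hTw
  -- the join is everything
  have htop : Tv ⊔ Tw = ⊤ := by
    rw [← Subgroup.index_eq_one]
    have h1 : (Tv ⊔ Tw).index ∣ p := by
      rw [← hiv]
      exact Subgroup.index_dvd_of_le le_sup_left
    rcases (Nat.dvd_prime hp.out).mp h1 with h2 | h2
    · exact h2
    · exfalso
      apply hne
      have e1 : Tv = Tv ⊔ Tw := by
        apply eq_of_le_of_index_eq le_sup_left
        rw [hiv, h2]
      have e2 : Tw = Tv ⊔ Tw := by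
        apply eq_of_le_of_index_eq le_sup_right
        rw [hiw, h2]
      rw [e1]
      exact e2.symm
  -- the meet is `Z`
  have hinf : Tv ⊓ Tw = Z := by
    by_contra hcon
    have hZI : Z ≤ Tv ⊓ Tw := le_inf (le_stab α Z hmul hZ v) (le_stab α Z hmul hZ w)
    rcases index_of_lt Z hidx hZI hcon with h1 | h1
    · have h2 := Subgroup.index_eq_one.mp h1
      apply hv
      rw [eq_top_iff, ← h2]
      exact inf_le_left
    · apply hne
      have e1 : Tv ⊓ Tw = Tv := by
        apply eq_of_le_of_index_eq inf_le_left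
        rw [h1, hiv]
      have e2 : Tv ⊓ Tw = Tw := by
        apply eq_of_le_of_index_eq inf_le_right
        rw [h1, hiw]
      rw [← e1]
      exact e2
  obtain ⟨c, hcZ, hcvw⟩ := hstab (v * w)
  have hc : c ∈ (Tv : Set G) * (Tw : Set G) := by
    rw [← Subgroup.normal_mul, htop]
    exact Set.mem_univ c
  obtain ⟨a, ha, b, hb, rfl⟩ := hc
  have hav : α a v = v := ha
  have hbw : α b w = w := hb
  have e1 : α (a * b) v = α b v := by rw [hmul, hav]
  have e2 : α (a * b) w = α a w := by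
    rw [hmul, act_comm α Z hmul hZ hcomm b a, hbw]
  have hprod : α b v * α a w = v * w := by
    rw [← e1, ← e2, ← map_mul]
    exact hcvw
  have hbv : b ∉ Tv := by
    intro hbTv
    have h1 : α b v = v := hbTv
    rw [h1] at hprod
    have h2 : α a w = w := mul_left_cancel hprod
    have h3 : a * b ∈ Tv ⊓ Tw := ⟨Tv.mul_mem ha hbTv, Tw.mul_mem h2 hb⟩
    rw [hinf] at h3
    exact hcZ h3
  set μ : V := α b v * v⁻¹ with hμ
  have hbvμ : α b v = v * μ := by
    rw [hμ, mul_comm (α b v), ← mul_assoc, mul_inv_cancel, one_mul]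
  have hawμ : α a w = w * μ⁻¹ := by
    have h1 : α a w = (α b v)⁻¹ * (v * w) := by
      rw [← hprod]; group
    rw [h1, hμ, mul_inv_rev, inv_inv]
    ac_rfl
  have hμv : ∀ t ∈ Tv, α t μ = μ := by
    intro t ht
    have htv : α t v = v := ht
    rw [hμ, map_mul, map_inv, act_comm α Z hmul hZ hcomm t b, htv]
  have hμw : ∀ t ∈ Tw, α t μ = μ := by
    intro t ht
    have htw : α t w = w := ht
    have h1 : μ = (α a w * w⁻¹)⁻¹ := by
      rw [hawμ, mul_comm w, mul_assoc, mul_inv_cancel, mul_one, inv_inv]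
    rw [h1, map_inv, map_mul, map_inv, act_comm α Z hmul hZ hcomm t a, htw]
  have hμall : ∀ g, α g μ = μ := by
    intro g
    have hg : g ∈ (Tv : Set G) * (Tw : Set G) := by
      rw [← Subgroup.normal_mul, htop]
      exact Set.mem_univ g
    obtain ⟨t, ht, u, hu, rfl⟩ := hg
    rw [hmul, hμv t ht, hμw u hu]
  obtain ⟨hμp, hRv⟩ := rel_of_generator α Z hmul hZ hcomm hpow v μ b hiv hbv hbvμ hμall
  have haw : a ∉ Tw := by
    intro haTw
    have h1 : α a w = w := haTw
    rw [h1] at hawμ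
    have h2 : μ⁻¹ = 1 := by
      have : w * 1 = w * μ⁻¹ := by rw [mul_one]; exact hawμ
      exact (mul_left_cancel this).symm
    apply hbv
    show α b v = v
    rw [hbvμ, inv_eq_one.mp h2, mul_one]
  have hμinv : ∀ g, α g μ⁻¹ = μ⁻¹ := by
    intro g
    rw [map_inv, hμall]
  obtain ⟨-, hRw⟩ := rel_of_generator α Z hmul hZ hcomm hpow w μ⁻¹ a hiw haw hawμ hμinv
  refine ⟨μ, a, hμp, hμall, hRv, ?_, hawμ⟩
  intro g
  obtain ⟨k, hk⟩ := hRw g
  refine ⟨k * (p - 1), ?_⟩
  rw [hk]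
  congr 1
  have hp1 : 1 ≤ p := hp.out.one_le
  have : μ⁻¹ = μ ^ (p - 1) := by
    rw [inv_eq_iff_mul_eq_one, ← pow_succ', Nat.sub_add_cancel hp1, hμp]
  rw [this, ← pow_mul, mul_comm]

include hmul hZ hcomm in
/-- **The commutator `[V, G]` is cyclic of order dividing `p`.** -/
theorem exists_common (hpow : ∀ g : G, g ^ p ∈ Z) (hidx : Z.index = p ^ 2)
    (hstab : ∀ v, ∃ g, g ∉ Z ∧ α g v = v) (hfaith : ∀ g, g ∉ Z → ∃ v, α g v ≠ v) :
    ∃ μ : V, μ ^ p = 1 ∧ ∀ g v, ∃ k : ℕ, α g v = v * μ ^ k := by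
  have hp1 : 1 ≤ p := hp.out.one_le
  have hZtop : Z ≠ ⊤ := by
    intro h
    rw [h, Subgroup.index_top] at hidx
    have : 2 ≤ p := hp.out.two_le
    nlinarith
  obtain ⟨g₀, hg₀⟩ : ∃ g₀, g₀ ∉ Z := by
    by_contra hcon
    push Not at hcon
    exact hZtop (eq_top_iff.mpr (fun x _ => hcon x))
  obtain ⟨v₀, hv₀⟩ := hfaith g₀ hg₀
  have hTv₀ : stab α Z hmul hZ v₀ ≠ ⊤ := by
    intro h
    have : g₀ ∈ stab α Z hmul hZ v₀ := by rw [h]; exact Subgroup.mem_top _
    exact hv₀ this
  obtain ⟨g₁, hg₁Z, hg₁v⟩ := hstab v₀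
  obtain ⟨w₀, hw₀⟩ := hfaith g₁ hg₁Z
  have hTw₀ : stab α Z hmul hZ w₀ ≠ ⊤ := by
    intro h
    have : g₁ ∈ stab α Z hmul hZ w₀ := by rw [h]; exact Subgroup.mem_top _
    exact hw₀ this
  have hne₀ : stab α Z hmul hZ v₀ ≠ stab α Z hmul hZ w₀ := by
    intro h
    have : g₁ ∈ stab α Z hmul hZ w₀ := by rw [← h]; exact hg₁v
    exact hw₀ this
  obtain ⟨μ, -, hμp, hμall, hRv₀, hRw₀, -⟩ :=
    pair_lemma α Z hmul hZ hcomm hpow hidx hstab v₀ w₀ hTv₀ hTw₀ hne₀
  refine ⟨μ, hμp, ?_⟩
  intro g v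
  by_cases hTv : stab α Z hmul hZ v = ⊤
  · refine ⟨0, ?_⟩
    have : g ∈ stab α Z hmul hZ v := by rw [hTv]; exact Subgroup.mem_top _
    rw [pow_zero, mul_one]
    exact this
  · -- choose `u ∈ {v₀, w₀}` with a different stabilizer
    have key : ∀ u : V, stab α Z hmul hZ u ≠ ⊤ → stab α Z hmul hZ v ≠ stab α Z hmul hZ u →
        (∀ g, ∃ k : ℕ, α g u = u * μ ^ k) → ∃ k : ℕ, α g v = v * μ ^ k := by
      intro u hTu hne hRu
      obtain ⟨μ', a', hμ'p, -, hRv, -, ha'⟩ :=
        pair_lemma α Z hmul hZ hcomm hpow hidx hstab v u hTv hTu hne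
      obtain ⟨k₀, hk₀⟩ := hRu a'
      have h1 : μ'⁻¹ = μ ^ k₀ := by
        have : u * μ'⁻¹ = u * μ ^ k₀ := by rw [← ha', hk₀]
        exact mul_left_cancel this
      have h2 : μ' = μ ^ (k₀ * (p - 1)) := by
        have h3 : μ' = (μ ^ k₀)⁻¹ := by rw [← h1, inv_inv]
        rw [h3, pow_mul]
        rw [inv_eq_iff_mul_eq_one, ← pow_succ', Nat.sub_add_cancel hp1, ← pow_mul, mul_comm,
          pow_mul, hμp, one_pow]
      obtain ⟨k, hk⟩ := hRv g
      refine ⟨k₀ * (p - 1) * k, ?_⟩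
      rw [hk, h2, ← pow_mul]
    by_cases h1 : stab α Z hmul hZ v = stab α Z hmul hZ v₀
    · apply key w₀ hTw₀ _ hRw₀
      rw [h1]
      exact hne₀
    · exact key v₀ hTv₀ h1 hRv₀

end Module

end Cfsg.Agent.Helper24.CdP
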