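import Mathlib
import Cfsg.Agent.Lib.Helper24.CdPAbelian
import Cfsg.Agent.Lib.Helper24.CdPModule
import Cfsg.Agent.Lib.Helper24.Gagola

/-!
# `p`-groups with character degrees `1` and `p` (helper24's shared library)

A nonabelian `p`-group with `cd(P) ⊆ {1, p}` has an abelian subgroup of index `p` or its centre has
index `p³`.
-/

set_option autoImplicit false
set_option linter.style.haveILetI false
set_option linter.unusedSectionVars false

namespace Cfsg.Agent.Helper24.CdP

open Cfsg Cfsg.Agent.Helper24 Cfsg.Agent.Helper24.Cd2 Cfsg.Agent.Helper5 Cfsg.Agent.Helper23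
  Cfsg.Agent.Helper18
open scoped commutatorElement ComplexConjugate

universe u

/-- The index of the inertia group of a constituent divides the degree. -/
theorem inertia_index_dvd {G : Type u} [Group G] [Finite G] (N : Subgroup G) [N.Normal]
    [Fintype N] {χ : G → ℂ} (hχ : IsIrrCharacter G χ) {ϑ : N → ℂ} (hϑ : IsIrrCharacter N ϑ)
    (hcon : classInner (fun n : N => χ n) ϑ ≠ 0) : (inertia N ϑ).index ∣ charDegree χ := by
  classical
  letI : Fintype G := Fintype.ofFinite G
  letI := irrFintype (G := N)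
  have h1 := degree_eq_of_constituent N hχ hϑ hcon
  have hχN : IsCharacter N (fun n : N => χ n) :=
    isCharacter_restrict N (isCharacter_of_isIrrCharacter hχ)
  obtain ⟨e, he⟩ := classInner_char_nat hχN (isCharacter_of_isIrrCharacter hϑ)
  rw [he, irr_one_eq_charDegree hχ, irr_one_eq_charDegree hϑ] at h1
  have h2 : charDegree χ = e * (inertia N ϑ).index * charDegree ϑ := by exact_mod_cast h1
  rw [h2]
  exact Dvd.dvd.mul_right (dvd_mul_left _ _) _

/-- Homomorphisms to `ℂˣ` separate the points of a finite abelian group. -/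
theorem eq_one_of_forall_hom {A : Type u} [Group A] [Finite A] (hcomm : ∀ a b : A, a * b = b * a)
    (x : A) (h : ∀ f : A →* ℂˣ, f x = 1) : x = 1 := by
  apply eq_one_of_forall_irr_eq
  intro ψ
  have hψc := isCharacter_of_isIrrCharacter ψ.2
  have h1 : charDegree (ψ : A → ℂ) = 1 := linear_of_comm hcomm ψ.2
  have h1' : (ψ : A → ℂ) 1 = 1 := (charDegree_eq_one_iff ψ.2).mp h1
  have h2 := h (linHom hψc h1')
  have h3 := congrArg (fun u : ℂˣ => (u : ℂ)) h2
  simp only [linHom_apply, Units.val_one] at h3
  rw [h3, h1']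

/-- The action on linear characters of a normal subgroup. -/
noncomputable def linAct {P : Type u} [Group P] (Z : Subgroup P) [hZ : Z.Normal] (g : P) :
    (Z →* ℂˣ) →* (Z →* ℂˣ) where
  toFun f := f.comp (MulAut.conjNormal g : Z ≃* Z).toMonoidHom
  map_one' := rfl
  map_mul' _ _ := rfl

theorem linAct_apply {P : Type u} [Group P] (Z : Subgroup P) [hZ : Z.Normal] (g : P)
    (f : Z →* ℂˣ) (z : Z) : linAct Z g f z = f (MulAut.conjNormal g z) := rfl

theorem linAct_mul {P : Type u} [Group P] (Z : Subgroup P) [hZ : Z.Normal] (g h : P)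
    (f : Z →* ℂˣ) : linAct Z (g * h) f = linAct Z h (linAct Z g f) := by
  ext z
  rw [linAct_apply, linAct_apply, linAct_apply, map_mul, MulAut.mul_apply]

/-- An abelian subgroup generated by an abelian normal subgroup with abelian quotient and a
centralizing element. -/
theorem exists_abelian_of_centralizing {P : Type u} [Group P] [Finite P] {p : ℕ}
    [hp : Fact p.Prime] (Z : Subgroup P) [hZn : Z.Normal] (hidx : Z.index = p ^ 2)
    (hZab : ∀ a ∈ Z, ∀ b ∈ Z, a * b = b * a) (hcomm : ∀ g h : P, g * h * g⁻¹ * h⁻¹ ∈ Z)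
    (hnab : ∃ a b : P, a * b ≠ b * a) (g : P) (hg : g ∉ Z) (hgc : ∀ z ∈ Z, g * z = z * g) :
    ∃ B : Subgroup P, B.Normal ∧ (∀ a ∈ B, ∀ b ∈ B, a * b = b * a) ∧ B.index = p := by
  set S : Set P := (Z : Set P) ∪ {g} with hS
  have hScomm : ∀ x ∈ S, ∀ y ∈ S, x * y = y * x := by
    intro x hx y hy
    rcases hx with hx | hx <;> rcases hy with hy | hy
    · exact hZab x hx y hy
    · rw [Set.mem_singleton_iff] at hy
      rw [hy]
      exact (hgc x hx).symm
    · rw [Set.mem_singleton_iff] at hx
      rw [hx]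
      exact hgc y hy
    · rw [Set.mem_singleton_iff] at hx hy
      rw [hx, hy]
  set B : Subgroup P := Subgroup.closure S with hB
  have hZB : Z ≤ B := fun z hz => Subgroup.subset_closure (Or.inl hz)
  have hgB : g ∈ B := Subgroup.subset_closure (Or.inr rfl)
  have hBab : ∀ a ∈ B, ∀ b ∈ B, a * b = b * a := by
    intro a ha b hb
    have hc := Subgroup.isMulCommutative_closure hScomm
    have := hc.is_comm.comm (⟨a, ha⟩ : Subgroup.closure S) ⟨b, hb⟩
    exact congrArg Subtype.val this
  have hBn : B.Normal := by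
    constructor
    intro b hb x
    have : x * b * x⁻¹ = (x * b * x⁻¹ * b⁻¹) * b := by group
    rw [this]
    exact B.mul_mem (hZB (hcomm x b)) hb
  refine ⟨B, hBn, hBab, ?_⟩
  have hne : B ≠ Z := by
    intro h
    apply hg
    rw [← h]
    exact hgB
  rcases index_of_lt Z hidx hZB hne with h1 | h1
  · exfalso
    have htop := Subgroup.index_eq_one.mp h1
    obtain ⟨a, b, hab⟩ := hnab
    apply hab
    apply hBab a _ b _ <;> rw [htop] <;> exact Subgroup.mem_top _
  · exact h1

/-- **Isaacs–Passman for `p`-groups**: a nonabelian `p`-group with `cd ⊆ {1, p}` has an abelian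
subgroup of index `p`, or its centre has index `p³`. -/
theorem pgroup_cd_p {P : Type u} [Group P] [Finite P] {p : ℕ} [hp : Fact p.Prime]
    (hP : IsPGroup p P) (hcd : CdSub P p) (hnab : ∃ a b : P, a * b ≠ b * a) :
    (∃ B : Subgroup P, B.Normal ∧ (∀ a ∈ B, ∀ b ∈ B, a * b = b * a) ∧ B.index = p) ∨
      (Subgroup.center P).index = p ^ 3 := by
  classical
  letI : Fintype P := Fintype.ofFinite P
  have hp2 : 2 ≤ p := hp.out.two_le
  obtain ⟨Z, hZn, hidx, hpow, hcomm, ψ, hψ, hvan, hnorm⟩ := exists_central_quotient hP hcd hnab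
  haveI := hZn
  letI : Fintype Z := Fintype.ofFinite Z
  have hZab := abelian_of_central_quotient hcd Z hidx hψ hvan hnorm
  have hZab' : ∀ a b : Z, a * b = b * a := fun a b => Subtype.ext (hZab a a.2 b b.2)
  by_cases hcent : ∃ g, g ∉ Z ∧ ∀ z ∈ Z, g * z = z * g
  · left
    obtain ⟨g, hg, hgc⟩ := hcent
    exact exists_abelian_of_centralizing Z hidx hZab hcomm hnab g hg hgc
  right
  push Not at hcent
  -- the action on the linear characters of `Z`
  have hmul : ∀ g h (f : Z →* ℂˣ), linAct Z (g * h) f = linAct Z h (linAct Z g f) :=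
    fun g h f => linAct_mul Z g h f
  have hZtriv : ∀ z ∈ Z, ∀ f : Z →* ℂˣ, linAct Z z f = f := by
    intro z hz f
    ext x
    rw [linAct_apply]
    congr 2
    apply Subtype.ext
    rw [MulAut.conjNormal_apply]
    have := hZab z hz x x.2
    rw [this]
    group
  have hstab : ∀ f : Z →* ℂˣ, ∃ g, g ∉ Z ∧ linAct Z g f = f := by
    intro f
    have hf : IsIrrCharacter Z (fun z => ((f z : ℂˣ) : ℂ)) := isIrrCharacter_of_monoidHom f
    obtain ⟨χ, hχ, hcon⟩ := exists_over Z hf
    have hdvd := inertia_index_dvd Z hχ hf hcon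
    have hle := le_inertia Z (isClassFunction_of_isIrrCharacter hf)
    have hne : inertia Z (fun z => ((f z : ℂˣ) : ℂ)) ≠ Z := by
      intro heq
      rw [heq, hidx] at hdvd
      rcases hcd χ hχ with h1 | h1
      · rw [h1, Nat.dvd_one] at hdvd
        nlinarith
      · rw [h1] at hdvd
        have := Nat.le_of_dvd (by omega) hdvd
        nlinarith
    have hex : ∃ g, g ∈ inertia Z (fun z => ((f z : ℂˣ) : ℂ)) ∧ g ∉ Z := by
      by_contra hcon2
      push Not at hcon2
      exact hne (le_antisymm hcon2 hle)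
    obtain ⟨g, hgI, hgZ⟩ := hex
    refine ⟨g, hgZ, ?_⟩
    rw [mem_inertia] at hgI
    ext x
    have := congrFun hgI x
    rw [Helper5.conjFun_apply] at this
    rw [linAct_apply]
    exact this
  have hsep : ∀ (g : P) (z : Z), (∀ f : Z →* ℂˣ, linAct Z g f z = f z) → g * z = z * g := by
    intro g z h
    have h1 : (MulAut.conjNormal g z : Z) * z⁻¹ = 1 := by
      apply eq_one_of_forall_hom hZab'
      intro f
      rw [map_mul, map_inv, ← linAct_apply, h f, mul_inv_cancel]
    have h2 : (MulAut.conjNormal g z : Z) = z := mul_inv_eq_one.mp h1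
    have h3 := congrArg Subtype.val h2
    rw [MulAut.conjNormal_apply] at h3
    calc g * z = g * z * g⁻¹ * g := by group
      _ = z * g := by rw [h3]
  have hfaith : ∀ g, g ∉ Z → ∃ f : Z →* ℂˣ, linAct Z g f ≠ f := by
    intro g hg
    by_contra hcon
    push Not at hcon
    obtain ⟨z, hz, hgz⟩ := hcent g hg
    apply hgz
    have := hsep g ⟨z, hz⟩ (fun f => by rw [hcon f])
    exact this
  obtain ⟨μ, hμp, hμ⟩ := exists_common (fun g => linAct Z g) Z hmul hZtriv hcomm hpow hidx hstab
    hfaith
  -- the kernel of `μ` is central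
  have hker : (μ.ker).map Z.subtype ≤ Subgroup.center P := by
    rintro _ ⟨z, hz, rfl⟩
    rw [Subgroup.mem_center_iff]
    intro g
    have hz1 : μ z = 1 := hz
    apply hsep g z
    intro f
    obtain ⟨k, hk⟩ := hμ g f
    rw [hk, MonoidHom.mul_apply, MonoidHom.pow_apply, hz1, one_pow, mul_one]
  -- the kernel of `μ` has index dividing `p`
  have hkidx : μ.ker.index ∣ p := by
    rw [Subgroup.index_eq_card, Nat.card_congr (QuotientGroup.quotientKerEquivRange μ).toEquiv]
    have hle : μ.range ≤ rootsOfUnity p ℂ := by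
      rintro _ ⟨z, rfl⟩
      rw [mem_rootsOfUnity]
      have := congrArg (fun f : Z →* ℂˣ => f z) hμp
      simpa using this
    haveI : NeZero p := ⟨by omega⟩
    rw [← Complex.card_rootsOfUnity p]
    exact Subgroup.card_dvd_of_le hle
  -- the centre lies strictly inside `Z`
  have hCZ : Subgroup.center P ≤ Z := by
    intro c hc
    by_contra hcZ
    obtain ⟨z, hz, hgz⟩ := hcent c hcZ
    apply hgz
    exact (Subgroup.mem_center_iff.mp hc z).symm
  have hZtop : Z ≠ ⊤ := by
    intro h
    rw [h, Subgroup.index_top] at hidx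
    nlinarith
  have hCne : Subgroup.center P ≠ Z := by
    intro heq
    obtain ⟨g₀, hg₀⟩ : ∃ g₀, g₀ ∉ Z := by
      by_contra hcon
      push Not at hcon
      exact hZtop (eq_top_iff.mpr (fun x _ => hcon x))
    obtain ⟨z, hz, hgz⟩ := hcent g₀ hg₀
    apply hgz
    rw [← heq] at hz
    exact Subgroup.mem_center_iff.mp hz g₀
  have h1 : (Subgroup.center P).relIndex Z * Z.index = (Subgroup.center P).index :=
    Subgroup.relIndex_mul_index hCZ
  have h2 : (Subgroup.center P).index ∣ μ.ker.index * Z.index := by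
    rw [← Subgroup.index_map_subtype]
    exact Subgroup.index_dvd_of_le hker
  rw [← h1] at h2
  have hZpos : 0 < Z.index := Nat.pos_of_ne_zero Subgroup.index_ne_zero_of_finite
  have h3 : (Subgroup.center P).relIndex Z ∣ p :=
    dvd_trans (Nat.dvd_of_mul_dvd_mul_right hZpos h2) hkidx
  rcases (Nat.dvd_prime hp.out).mp h3 with h4 | h4
  · exfalso
    apply hCne
    exact le_antisymm hCZ (Subgroup.relIndex_eq_one.mp h4)
  · rw [← h1, h4, hidx]
    ring

end Cfsg.Agent.Helper24.CdP
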