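import Mathlib

set_option autoImplicit false

namespace Cfsg.Agent.Helper24.Spread

/-- A sum of integer squares equal to one has exactly one nonzero term, which is `±1`. -/
theorem unique_of_sum_sq_eq_one {ι : Type*} [Fintype ι] (z : ι → ℤ)
    (h : ∑ i, z i ^ 2 = 1) :
    ∃ i₀, (z i₀ = 1 ∨ z i₀ = -1) ∧ ∀ i, i ≠ i₀ → z i = 0 := by
  classical
  have hex : ∃ i₀, z i₀ ≠ 0 := by
    by_contra hcon
    push Not at hcon
    have : ∑ i, z i ^ 2 = 0 := Finset.sum_eq_zero (fun i _ => by rw [hcon i]; ring)
    rw [this] at h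
    exact zero_ne_one h
  obtain ⟨i₀, hi₀⟩ := hex
  have hsplit : z i₀ ^ 2 + ∑ i ∈ Finset.univ.erase i₀, z i ^ 2 = ∑ i, z i ^ 2 :=
    Finset.add_sum_erase Finset.univ (fun i => z i ^ 2) (Finset.mem_univ i₀)
  rw [h] at hsplit
  have hnn : 0 ≤ ∑ i ∈ Finset.univ.erase i₀, z i ^ 2 := Finset.sum_nonneg (fun i _ => sq_nonneg _)
  have h1 : 1 ≤ z i₀ ^ 2 := by
    have : 0 < z i₀ ^ 2 := by positivity
    omega
  have h2 : z i₀ ^ 2 = 1 := by omega
  have h3 : ∑ i ∈ Finset.univ.erase i₀, z i ^ 2 = 0 := by omega
  refine ⟨i₀, ?_, ?_⟩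
  · have : (z i₀ - 1) * (z i₀ + 1) = 0 := by ring_nf; omega
    rcases mul_eq_zero.mp this with h | h
    · left; omega
    · right; omega
  · intro i hi
    have := (Finset.sum_eq_zero_iff_of_nonneg (fun i _ => sq_nonneg (z i))).mp h3 i
      (Finset.mem_erase.mpr ⟨hi, Finset.mem_univ i⟩)
    exact pow_eq_zero_iff (two_ne_zero) |>.mp this

/-- **Spread lemma**: for integers `a i` indexed by a type of size `n ≥ 2`, the quantity
`D = n Σ a² − (Σ a)²` is `0` (and `a` is constant) or at least `n − 1`, and `D = n − 1` forces `a`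
to be constant except at one index where it differs by one. -/
theorem spread {ι : Type*} [Fintype ι] (a : ι → ℤ) (n : ℤ) (hn : n = Fintype.card ι)
    (hn2 : 2 ≤ n) (D : ℤ) (hD : D = n * ∑ i, a i ^ 2 - (∑ i, a i) ^ 2) :
    (D = 0 → ∀ i j, a i = a j) ∧ (D ≠ 0 → n - 1 ≤ D) ∧
      (D = n - 1 → ∃ i₀ m, (∀ i, i ≠ i₀ → a i = m) ∧ (a i₀ = m + 1 ∨ a i₀ = m - 1)) := by
  classical
  set S1 := ∑ i, a i with hS1
  set b : ι → ℤ := fun i => n * a i - S1 with hb
  have hcard : (∑ _i : ι, (1 : ℤ)) = n := by
    rw [Finset.sum_const, Finset.card_univ, hn]; simp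
  have hb_sum : ∑ i, b i = 0 := by
    simp only [hb, Finset.sum_sub_distrib, ← Finset.mul_sum, Finset.sum_const, Finset.card_univ,
      nsmul_eq_mul]
    rw [← hn, ← hS1]; ring
  have hb_sq : ∑ i, b i ^ 2 = n * D := by
    have e : ∀ i, b i ^ 2 = n ^ 2 * a i ^ 2 - 2 * n * S1 * a i + S1 ^ 2 * 1 := by
      intro i; simp only [hb]; ring
    rw [Finset.sum_congr rfl (fun i _ => e i), Finset.sum_add_distrib, Finset.sum_sub_distrib,
      ← Finset.mul_sum, ← Finset.mul_sum, ← Finset.mul_sum, hcard, ← hS1, hD]
    ring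
  set r := (-S1) % n with hr
  have hnpos : 0 < n := by omega
  have hr0 : 0 ≤ r := Int.emod_nonneg _ hnpos.ne'
  have hrn : r < n := Int.emod_lt_of_pos _ hnpos
  have hdiv : ∀ i, ∃ c, b i = r + n * c := by
    intro i
    refine ⟨a i + (-S1) / n, ?_⟩
    have := Int.emod_add_mul_ediv (-S1) n
    simp only [hb]
    rw [← hr] at this
    linarith
  choose c hc using hdiv
  have hc_sum : ∑ i, c i = -r := by
    have e : ∑ i, b i = n * r + n * ∑ i, c i := by
      rw [Finset.sum_congr rfl (fun i _ => hc i), Finset.sum_add_distrib, ← Finset.mul_sum,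
        Finset.sum_const, Finset.card_univ, nsmul_eq_mul, ← hn]
    rw [hb_sum] at e
    have : n * (r + ∑ i, c i) = 0 := by linarith
    rcases mul_eq_zero.mp this with h | h
    · omega
    · linarith
  have hD2 : D = n * ∑ i, c i ^ 2 - r ^ 2 := by
    have e : ∑ i, b i ^ 2 = n * r ^ 2 + 2 * r * n * ∑ i, c i + n ^ 2 * ∑ i, c i ^ 2 := by
      have e1 : ∀ i, b i ^ 2 = r ^ 2 * 1 + 2 * r * n * c i + n ^ 2 * c i ^ 2 := by
        intro i; rw [hc i]; ring
      rw [Finset.sum_congr rfl (fun i _ => e1 i), Finset.sum_add_distrib, Finset.sum_add_distrib,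
        ← Finset.mul_sum, ← Finset.mul_sum, ← Finset.mul_sum, hcard]
      ring
    rw [hb_sq, hc_sum] at e
    have : n * D = n * (n * ∑ i, c i ^ 2 - r ^ 2) := by linarith
    exact mul_left_cancel₀ hnpos.ne' this
  have hcc : ∀ i, 0 ≤ c i ^ 2 + c i := by
    intro i
    have : c i ^ 2 + c i = c i * (c i + 1) := by ring
    rw [this]
    rcases le_or_gt 0 (c i) with h | h
    · exact mul_nonneg h (by omega)
    · exact mul_nonneg_of_nonpos_of_nonpos (by omega) (by omega)
  have hc_ge : r ≤ ∑ i, c i ^ 2 := by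
    have : 0 ≤ ∑ i, (c i ^ 2 + c i) := Finset.sum_nonneg (fun i _ => hcc i)
    rw [Finset.sum_add_distrib, hc_sum] at this
    linarith
  refine ⟨?_, ?_, ?_⟩
  · intro h0 i j
    have hz : ∑ i, b i ^ 2 = 0 := by rw [hb_sq, h0, mul_zero]
    have hbz : ∀ i, b i = 0 := by
      intro i
      have := (Finset.sum_eq_zero_iff_of_nonneg (fun i _ => sq_nonneg (b i))).mp hz i
        (Finset.mem_univ i)
      exact pow_eq_zero_iff (two_ne_zero) |>.mp this
    have hi := hbz i
    have hj := hbz j
    simp only [hb] at hi hj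
    have : n * a i = n * a j := by linarith
    exact mul_left_cancel₀ hnpos.ne' this
  · intro hne
    by_cases hr1 : r = 0
    · rw [hr1] at hD2
      have : 1 ≤ ∑ i, c i ^ 2 := by
        by_contra hlt
        have h0 : ∑ i, c i ^ 2 = 0 := by
          have : 0 ≤ ∑ i, c i ^ 2 := Finset.sum_nonneg (fun i _ => sq_nonneg _)
          omega
        rw [h0] at hD2
        apply hne
        rw [hD2]; ring
      nlinarith
    · have hr1' : 1 ≤ r := by omega
      nlinarith [mul_nonneg (show 0 ≤ r - 1 by omega) (show 0 ≤ n - 1 - r by omega)]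
  · intro hDn
    have hr1 : r ≠ 0 := by
      intro hr1
      rw [hr1] at hD2
      have h1 : n ∣ D := ⟨∑ i, c i ^ 2, by rw [hD2]; ring⟩
      rw [hDn] at h1
      have h2 : n ∣ 1 := by
        have : n ∣ n - (n - 1) := dvd_sub (dvd_refl n) h1
        simpa using this
      have := Int.le_of_dvd one_pos h2
      omega
    have hr1' : 1 ≤ r := by omega
    have hprod : (r - 1) * (n - 1 - r) ≤ 0 := by nlinarith
    have hcase : r = 1 ∨ r = n - 1 := by
      by_contra hcon
      push Not at hcon
      have h1 : 0 < r - 1 := by omega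
      have h2 : 0 < n - 1 - r := by omega
      have := mul_pos h1 h2
      omega
    rcases hcase with hr' | hr'
    · -- `r = 1`
      have hsq : ∑ i, c i ^ 2 = 1 := by
        rw [hr'] at hD2
        have : n * ∑ i, c i ^ 2 = n * 1 := by linarith
        exact mul_left_cancel₀ hnpos.ne' this
      obtain ⟨i₀, hi₀, hother⟩ := unique_of_sum_sq_eq_one c hsq
      have hci₀ : c i₀ = -1 := by
        have hsplit : c i₀ + ∑ i ∈ Finset.univ.erase i₀, c i = ∑ i, c i :=
          Finset.add_sum_erase Finset.univ c (Finset.mem_univ i₀)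
        have hz : ∑ i ∈ Finset.univ.erase i₀, c i = 0 :=
          Finset.sum_eq_zero (fun i hi => hother i (Finset.mem_erase.mp hi).1)
        rw [hz, hc_sum, hr'] at hsplit
        omega
      -- `n * a i = S1 + 1 + n * c i`
      have hai : ∀ i, n * a i = S1 + 1 + n * c i := by
        intro i
        have := hc i
        simp only [hb] at this
        rw [hr'] at this
        linarith
      have hdvd : n ∣ S1 + 1 := by
        have := hai i₀
        exact ⟨a i₀ - c i₀, by linarith⟩
      obtain ⟨m, hm⟩ := hdvd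
      refine ⟨i₀, m, ?_, ?_⟩
      · intro i hi
        have := hai i
        rw [hother i hi, hm] at this
        have : n * a i = n * m := by linarith
        exact mul_left_cancel₀ hnpos.ne' this
      · right
        have := hai i₀
        rw [hci₀, hm] at this
        have : n * a i₀ = n * (m - 1) := by linarith
        exact mul_left_cancel₀ hnpos.ne' this
    · -- `r = n - 1`
      have hsq : ∑ i, c i ^ 2 = n - 1 := by
        rw [hr'] at hD2
        have : n * ∑ i, c i ^ 2 = n * (n - 1) := by nlinarith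
        exact mul_left_cancel₀ hnpos.ne' this
      have hz : ∑ i, (c i ^ 2 + c i) = 0 := by
        rw [Finset.sum_add_distrib, hsq, hc_sum, hr']; ring
      have hci : ∀ i, c i ^ 2 + c i = 0 := fun i =>
        (Finset.sum_eq_zero_iff_of_nonneg (fun i _ => hcc i)).mp hz i (Finset.mem_univ i)
      have hsq' : ∑ i, (c i + 1) ^ 2 = 1 := by
        have e : ∀ i, (c i + 1) ^ 2 = (c i ^ 2 + c i) + c i + 1 := by intro i; ring
        rw [Finset.sum_congr rfl (fun i _ => e i), Finset.sum_add_distrib, Finset.sum_add_distrib,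
          hz, hc_sum, hcard, hr']
        ring
      obtain ⟨i₀, hi₀, hother⟩ := unique_of_sum_sq_eq_one (fun i => c i + 1) hsq'
      have hci₀ : c i₀ = 0 := by
        have h1 := hci i₀
        have h2 : c i₀ * (c i₀ + 1) = 0 := by linarith [h1]
        rcases hi₀ with h | h
        · have h' : c i₀ + 1 = 1 := h
          omega
        · have h' : c i₀ + 1 = -1 := h
          exfalso
          have : c i₀ = -2 := by omega
          rw [this] at h2
          norm_num at h2
      have hai : ∀ i, n * a i = S1 + (n - 1) + n * c i := by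
        intro i
        have := hc i
        simp only [hb] at this
        rw [hr'] at this
        linarith
      have hdvd : n ∣ S1 - 1 := by
        have := hai i₀
        rw [hci₀] at this
        exact ⟨a i₀ - 1, by linarith⟩
      obtain ⟨m, hm⟩ := hdvd
      refine ⟨i₀, m, ?_, ?_⟩
      · intro i hi
        have h1 := hai i
        have h2 : c i = -1 := by
          have h3 : c i + 1 = 0 := hother i hi
          omega
        rw [h2] at h1
        have : n * a i = n * m := by linarith
        exact mul_left_cancel₀ hnpos.ne' this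
      · left
        have := hai i₀
        rw [hci₀] at this
        have : n * a i₀ = n * (m + 1) := by linarith
        exact mul_left_cancel₀ hnpos.ne' this

end Cfsg.Agent.Helper24.Spread
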