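import Mathlib
import Cfsg.Prelude.Def_Blocks
import Cfsg.Agent.Lib.Helper24.CharAbelian
import Cfsg.Agent.Lib.Helper24.CharAlgebra
import Cfsg.Agent.Lib.Helper24.Spread

/-!
# Characters of an abelian group with small off-identity norm (helper24's shared library)

For a character `ψ` of a finite abelian group `S` of order `n ≥ 2`, the sum
`D = ∑_{x ≠ 1} |ψ x|²` is an integer which is `0` or at least `n - 1`.  If `D = 0` then `n ∣ ψ 1`;
if `D = n - 1` then `ψ = m ρ ± μ` with `ρ` the regular character and `μ` linear.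
-/

set_option autoImplicit false
set_option linter.style.haveILetI false
set_option linter.unusedSectionVars false

namespace Cfsg.Agent.Helper24.AbSpread

open Cfsg Cfsg.Agent.Helper24
open scoped ComplexConjugate

universe u

variable {S : Type u} [Group S] [Fintype S]

theorem card_irr_of_comm [Fintype (IrrCharacter S)] (hcomm : ∀ a b : S, a * b = b * a) :
    Fintype.card (IrrCharacter S) = Fintype.card S := by
  classical
  have hbij : Function.Bijective (ConjClasses.mk : S → ConjClasses S) := by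
    refine ⟨?_, ConjClasses.mk_surjective⟩
    intro a b hab
    rw [ConjClasses.mk_eq_mk_iff_isConj, isConj_iff] at hab
    obtain ⟨c, hc⟩ := hab
    rw [← hc, hcomm c a, mul_inv_cancel_right]
  have hcard : Nat.card (IrrCharacter S) = Nat.card S := by
    rw [card_irr_eq_card_conjClasses]
    exact (Nat.card_congr (Equiv.ofBijective _ hbij)).symm
  rw [Nat.card_eq_fintype_card, Nat.card_eq_fintype_card] at hcard
  exact hcard

theorem irr_one_of_comm [Fintype (IrrCharacter S)] (hcomm : ∀ a b : S, a * b = b * a)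
    (lam : IrrCharacter S) : (lam : S → ℂ) 1 = 1 := by
  have h2 := charDegree_eq_one_of_comm hcomm lam.2
  have h3 := irr_one_eq_charDegree lam.2
  rw [h2] at h3
  simpa using h3

/-- The regular character of an abelian group vanishes off the identity. -/
theorem sum_irr_apply_eq_zero [Fintype (IrrCharacter S)] (hcomm : ∀ a b : S, a * b = b * a)
    {x : S} (hx : x ≠ 1) : ∑ lam : IrrCharacter S, (lam : S → ℂ) x = 0 := by
  classical
  have h := second_orthogonality' x (1 : S)
  rw [if_neg (by rw [isConj_one_right]; exact hx)] at h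
  rw [← h]
  apply Finset.sum_congr rfl
  intro lam _
  rw [irr_one_of_comm hcomm lam, map_one, mul_one]

/-- Analysis of a character of an abelian group through `D = ∑_{x ≠ 1} |ψ x|²`. -/
theorem analysis [DecidableEq S] (hcomm : ∀ a b : S, a * b = b * a) (hn2 : 2 ≤ Fintype.card S)
    {ψ : S → ℂ} (hψ : IsCharacter S ψ) :
    ∃ D : ℤ, (∑ x ∈ (Finset.univ : Finset S).erase 1, ψ x * conj (ψ x) = (D : ℂ)) ∧
      (D = 0 → (∃ m : ℕ, ψ 1 = (Fintype.card S : ℂ) * m) ∧ ∀ x : S, x ≠ 1 → ψ x = 0) ∧
      (D ≠ 0 → (Fintype.card S : ℤ) - 1 ≤ D) ∧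
      (D = (Fintype.card S : ℤ) - 1 → ∃ (m : ℕ) (ε : ℤ) (μ : S → ℂ), (ε = 1 ∨ ε = -1) ∧
        IsIrrCharacter S μ ∧ ψ 1 = (Fintype.card S : ℂ) * m + ε ∧
        ∀ x : S, x ≠ 1 → ψ x = (ε : ℂ) * μ x) := by
  classical
  letI := irrFintype (G := S)
  obtain ⟨hnat, hdec⟩ := isCharacter_decomp hψ
  choose a ha using hnat
  have hcardI : Fintype.card (IrrCharacter S) = Fintype.card S := card_irr_of_comm hcomm
  have hval : ∀ x : S, ψ x = ∑ lam : IrrCharacter S, (a lam : ℂ) * (lam : S → ℂ) x := by
    intro x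
    conv_lhs => rw [hdec]
    rw [Finset.sum_apply]
    apply Finset.sum_congr rfl
    intro lam _
    rw [Pi.smul_apply, smul_eq_mul, ha]
  have hone : ψ 1 = ((∑ lam : IrrCharacter S, (a lam : ℤ) : ℤ) : ℂ) := by
    rw [hval 1]
    push_cast
    apply Finset.sum_congr rfl
    intro lam _
    rw [irr_one_of_comm hcomm lam, mul_one]
  have hcf := isClassFunction_of_isCharacter hψ
  have hnorm : ∑ x : S, ψ x * conj (ψ x) =
      (Fintype.card S : ℂ) * ((∑ lam : IrrCharacter S, (a lam : ℤ) ^ 2 : ℤ) : ℂ) := by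
    have h1 := classInner_eq_sum_mul hcf ψ
    have hS0 : (Nat.card S : ℂ) ≠ 0 := by
      rw [Nat.cast_ne_zero]; exact Nat.card_pos.ne'
    have h2 : ∑ x : S, ψ x * conj (ψ x) = (Nat.card S : ℂ) * classInner ψ ψ := by
      unfold classInner
      rw [← mul_assoc, mul_inv_cancel₀ hS0, one_mul]
    rw [h2, h1, Nat.card_eq_fintype_card]
    congr 1
    push_cast
    apply Finset.sum_congr rfl
    intro lam _
    rw [ha, Complex.conj_natCast]
    ring
  set D : ℤ := (Fintype.card S : ℤ) * ∑ lam : IrrCharacter S, (a lam : ℤ) ^ 2 -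
    (∑ lam : IrrCharacter S, (a lam : ℤ)) ^ 2 with hD
  have hDsum : ∑ x ∈ (Finset.univ : Finset S).erase 1, ψ x * conj (ψ x) = (D : ℂ) := by
    have hsplit := Finset.add_sum_erase Finset.univ (fun x : S => ψ x * conj (ψ x))
      (Finset.mem_univ (1 : S))
    have h3 : ∑ x ∈ (Finset.univ : Finset S).erase 1, ψ x * conj (ψ x) =
        ∑ x : S, ψ x * conj (ψ x) - ψ 1 * conj (ψ 1) := by
      rw [← hsplit]; ring
    rw [h3, hnorm, hone, map_intCast, hD]
    push_cast
    ring
  have hsp := Spread.spread (fun lam : IrrCharacter S => (a lam : ℤ)) (Fintype.card S : ℤ)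
    (by rw [hcardI]) (by exact_mod_cast hn2) D hD
  obtain ⟨hsp0, hsp1, hsp2⟩ := hsp
  have hnonempty : Nonempty (IrrCharacter S) := by
    rw [← Fintype.card_pos_iff, hcardI]; omega
  refine ⟨D, hDsum, ?_, hsp1, ?_⟩
  · intro h0
    have hconst := hsp0 h0
    obtain ⟨lam0⟩ := hnonempty
    refine ⟨⟨a lam0, ?_⟩, ?_⟩
    · rw [hone]
      have : ∑ lam : IrrCharacter S, (a lam : ℤ) = (Fintype.card S : ℤ) * (a lam0 : ℤ) := by
        rw [Finset.sum_congr rfl (fun lam _ => hconst lam lam0), Finset.sum_const,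
          Finset.card_univ, hcardI, nsmul_eq_mul]
      rw [this]
      push_cast
      ring
    · intro x hx
      rw [hval x]
      have e : ∀ lam : IrrCharacter S, (a lam : ℂ) * (lam : S → ℂ) x =
          (a lam0 : ℂ) * (lam : S → ℂ) x := by
        intro lam
        have h1 : (a lam : ℤ) = (a lam0 : ℤ) := hconst lam lam0
        have h2 : a lam = a lam0 := by exact_mod_cast h1
        rw [h2]
      rw [Finset.sum_congr rfl (fun lam _ => e lam), ← Finset.mul_sum,
        sum_irr_apply_eq_zero hcomm hx, mul_zero]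
  · intro hDn
    obtain ⟨i₀, m', hother, hi₀⟩ := hsp2 hDn
    -- some index other than `i₀`
    have hex : ∃ i : IrrCharacter S, i ≠ i₀ := by
      by_contra hcon
      push Not at hcon
      have : Fintype.card (IrrCharacter S) ≤ 1 :=
        Fintype.card_le_one_iff.mpr (fun x y => by rw [hcon x, hcon y])
      omega
    obtain ⟨i₁, hi₁⟩ := hex
    have hm'0 : 0 ≤ m' := by
      have h1 : (a i₁ : ℤ) = m' := hother i₁ hi₁
      omega
    obtain ⟨m, hm⟩ := Int.eq_ofNat_of_zero_le hm'0
    set ε : ℤ := (a i₀ : ℤ) - m' with hε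
    have hεpm : ε = 1 ∨ ε = -1 := by
      rcases hi₀ with h | h
      · left
        have h' : (a i₀ : ℤ) = m' + 1 := h
        omega
      · right
        have h' : (a i₀ : ℤ) = m' - 1 := h
        omega
    have hd : ∀ lam : IrrCharacter S, (a lam : ℂ) = (m : ℂ) + (if lam = i₀ then (ε : ℂ) else 0) := by
      intro lam
      by_cases hl : lam = i₀
      · rw [if_pos hl, hl, hε, hm]
        push_cast
        ring
      · rw [if_neg hl, add_zero]
        have h1 : (a lam : ℤ) = m' := hother lam hl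
        rw [hm] at h1
        exact_mod_cast h1
    have hval' : ∀ x : S, ψ x = (m : ℂ) * ∑ lam : IrrCharacter S, (lam : S → ℂ) x +
        (ε : ℂ) * (i₀ : S → ℂ) x := by
      intro x
      rw [hval x, Finset.mul_sum]
      have e : ∀ lam : IrrCharacter S, (a lam : ℂ) * (lam : S → ℂ) x =
          (m : ℂ) * (lam : S → ℂ) x + (if lam = i₀ then (ε : ℂ) * (lam : S → ℂ) x else 0) := by
        intro lam
        rw [hd lam]
        split_ifs <;> ring
      rw [Finset.sum_congr rfl (fun lam _ => e lam), Finset.sum_add_distrib,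
        Finset.sum_ite_eq' Finset.univ i₀, if_pos (Finset.mem_univ _)]
    refine ⟨m, ε, (i₀ : S → ℂ), hεpm, i₀.2, ?_, ?_⟩
    · rw [hval' 1, irr_one_of_comm hcomm i₀, mul_one]
      have : ∑ lam : IrrCharacter S, (lam : S → ℂ) 1 = (Fintype.card S : ℂ) := by
        rw [Finset.sum_congr rfl (fun lam _ => irr_one_of_comm hcomm lam), Finset.sum_const,
          Finset.card_univ, hcardI, nsmul_eq_mul, mul_one]
      rw [this]
      ring
    · intro x hx
      rw [hval' x, sum_irr_apply_eq_zero hcomm hx, mul_zero, zero_add]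

end Cfsg.Agent.Helper24.AbSpread
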