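import Mathlib
import Cfsg.Prelude.Def_Blocks
import Cfsg.Agent.S0868
import Cfsg.Agent.Lib.Helper24.AbelianSpread
import Cfsg.Agent.Lib.Helper24.CharHom
import Cfsg.Agent.Lib.Helper5.Clifford

/-!
# Coset averages against an extension, abelian quotient (helper24's shared library)

`N ⊴ T` with `T/N` abelian, `ϑ̂ ∈ Irr(T)` restricting irreducibly to `N`.  For a character `ξ` of
`T`, the coset average `Ψ(t) = |N|⁻¹ ∑_{n ∈ N} ξ(nt) conj ϑ̂(nt)` is a character of `T/N`; if
`ξ_N = e ϑ̂_N` then `ξ = Ψ ϑ̂`.  If moreover `∑_{n} |ξ(nt)|² = |N|` off `N`, then `|T:N|` divides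
`e - 1` or `e + 1`.
-/

set_option autoImplicit false
set_option linter.style.haveILetI false
set_option linter.unusedSectionVars false

namespace Cfsg.Agent.Helper24.RamCyc

open Cfsg Cfsg.Agent.Helper24 Cfsg.Agent.Helper5
open scoped ComplexConjugate

universe u

variable {T : Type u} [Group T] [Fintype T] (N : Subgroup T) [hN : N.Normal] [Fintype N]

/-- The coset average of `ψ conj χ`. -/
noncomputable def cosetAvg (ψ χ : T → ℂ) : T → ℂ :=
  fun g => (Nat.card N : ℂ)⁻¹ * ∑ n : N, ψ ((n : T) * g) * conj (χ ((n : T) * g))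

theorem cosetAvg_apply (ψ χ : T → ℂ) (g : T) :
    cosetAvg N ψ χ g =
      (Nat.card N : ℂ)⁻¹ * ∑ n : N, ψ ((n : T) * g) * conj (χ ((n : T) * g)) := rfl

theorem cosetAvg_mul_left (ψ χ : T → ℂ) (n' : N) (g : T) :
    cosetAvg N ψ χ ((n' : T) * g) = cosetAvg N ψ χ g := by
  rw [cosetAvg_apply, cosetAvg_apply]
  congr 1
  rw [← Equiv.sum_comp (Equiv.mulRight n')
    (fun n : N => ψ ((n : T) * g) * conj (χ ((n : T) * g)))]
  apply Finset.sum_congr rfl
  intro n _
  simp only [Equiv.coe_mulRight, Subgroup.coe_mul, mul_assoc]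

theorem cosetAvg_sum_left {ι : Type*} (s : Finset ι) (c : ι → ℂ) (f : ι → T → ℂ) (χ : T → ℂ) :
    cosetAvg N (∑ i ∈ s, c i • f i) χ = ∑ i ∈ s, c i • cosetAvg N (f i) χ := by
  funext g
  rw [cosetAvg_apply, Finset.sum_apply]
  simp only [Finset.sum_apply, Pi.smul_apply, smul_eq_mul, cosetAvg_apply, Finset.sum_mul,
    Finset.mul_sum]
  rw [Finset.sum_comm]
  apply Finset.sum_congr rfl
  intro i _
  apply Finset.sum_congr rfl
  intro n _
  ring

/-- The coset average of an irreducible character against an extension is a character. -/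
theorem isCharacter_cosetAvg_irr {ϑh : T → ℂ} (hϑh : IsIrrCharacter T ϑh)
    (hϑN : IsIrrCharacter N (fun n : N => ϑh n)) {μ : T → ℂ} (hμ : IsIrrCharacter T μ) :
    IsCharacter T (cosetAvg N μ ϑh) := by
  have h := Cfsg.Agent.S0868.result N ϑh hϑh hϑN μ hμ (cosetAvg N μ ϑh) rfl
  by_cases h0 : classInner (fun n : N => μ n) (fun n : N => ϑh n) = 0
  · rw [h.2.1 h0]
    exact isCharacter_zero
  · exact isCharacter_of_isIrrCharacter (h.1 h0)

theorem isCharacter_cosetAvg {ϑh : T → ℂ} (hϑh : IsIrrCharacter T ϑh)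
    (hϑN : IsIrrCharacter N (fun n : N => ϑh n)) {ξ : T → ℂ} (hξ : IsCharacter T ξ) :
    IsCharacter T (cosetAvg N ξ ϑh) := by
  classical
  letI := irrFintype (G := T)
  obtain ⟨hnat, hdec⟩ := isCharacter_decomp hξ
  rw [hdec, cosetAvg_sum_left]
  apply isCharacter_sum
  intro μ _
  obtain ⟨k, hk⟩ := hnat μ
  rw [hk]
  exact isCharacter_natCast_smul k (isCharacter_cosetAvg_irr N hϑh hϑN μ.2)

omit hN in
/-- Sums over `T` as averaged sums over cosets. -/
theorem sum_eq_avg (F : T → ℂ) :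
    ∑ t : T, F t = (Nat.card N : ℂ)⁻¹ * ∑ t : T, ∑ n : N, F ((n : T) * t) := by
  have hN0 : (Nat.card N : ℂ) ≠ 0 := by
    rw [Nat.cast_ne_zero]; exact Nat.card_pos.ne'
  rw [Finset.sum_comm]
  have : ∀ n : N, ∑ t : T, F ((n : T) * t) = ∑ t : T, F t := by
    intro n
    exact Equiv.sum_comp (Equiv.mulLeft (n : T)) F
  rw [Finset.sum_congr rfl (fun n _ => this n), Finset.sum_const, Finset.card_univ,
    nsmul_eq_mul, ← Nat.card_eq_fintype_card, ← mul_assoc, inv_mul_cancel₀ hN0, one_mul]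

/-- **Gallagher for an abelian quotient**: an irreducible character over `ϑ` is the extension
times a linear character, namely its coset average. -/
theorem gallagher (hab : ∀ a b : T ⧸ N, a * b = b * a) {ϑh : T → ℂ}
    (hϑh : IsIrrCharacter T ϑh) (hϑN : IsIrrCharacter N (fun n : N => ϑh n)) {μ : T → ℂ}
    (hμ : IsIrrCharacter T μ)
    (hover : classInner (fun n : N => μ n) (fun n : N => ϑh n) ≠ 0) :
    μ = cosetAvg N μ ϑh * ϑh := by
  classical
  letI := irrFintype (G := T)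
  set η := cosetAvg N μ ϑh with hη
  have hηirr : IsIrrCharacter T η :=
    (Cfsg.Agent.S0868.result N ϑh hϑh hϑN μ hμ η rfl).1 hover
  have hηc := isCharacter_of_isIrrCharacter hηirr
  have hηN : ∀ n ∈ N, η n = η 1 := by
    intro n hn
    have := cosetAvg_mul_left N μ ϑh ⟨n, hn⟩ 1
    rwa [mul_one] at this
  -- `η` is linear
  have hη1 : η 1 = 1 := by
    obtain ⟨ψ, hψ, hψeq⟩ := exists_deflate N hηirr hηN
    letI : Fintype (T ⧸ N) := Fintype.ofFinite _
    letI := irrFintype (G := T ⧸ N)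
    have h2 := charDegree_eq_one_of_comm hab hψ
    have h3 := irr_one_eq_charDegree hψ
    rw [h2] at h3
    rw [hψeq]
    show ψ ((1 : T) : T ⧸ N) = 1
    rw [QuotientGroup.mk_one, h3]
    simp
  have hηmul := char_mul_of_degree_one hηc hη1
  have hηabs : ∀ t : T, conj (η t) * η t = 1 := by
    intro t
    rw [← irr_inv hηc t, ← hηmul, inv_mul_cancel, hη1]
  have hprod : IsIrrCharacter T (ϑh * η) := isIrrCharacter_mul_linear hϑh hηc hη1
  have hinner : classInner μ (ϑh * η) = 1 := by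
    unfold classInner
    have hT0 : (Nat.card T : ℂ) ≠ 0 := by
      rw [Nat.cast_ne_zero]; exact Nat.card_pos.ne'
    have hN0 : (Nat.card N : ℂ) ≠ 0 := by
      rw [Nat.cast_ne_zero]; exact Nat.card_pos.ne'
    rw [sum_eq_avg N]
    have h1 : ∀ t : T, ∑ n : N, μ ((n : T) * t) * conj ((ϑh * η) ((n : T) * t)) =
        (Nat.card N : ℂ) * (conj (η t) * η t) := by
      intro t
      have e : ∀ n : N, μ ((n : T) * t) * conj ((ϑh * η) ((n : T) * t)) =
          conj (η t) * (μ ((n : T) * t) * conj (ϑh ((n : T) * t))) := by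
        intro n
        rw [Pi.mul_apply, map_mul]
        have : η ((n : T) * t) = η t := cosetAvg_mul_left N μ ϑh n t
        rw [this]
        ring
      rw [Finset.sum_congr rfl (fun n _ => e n), ← Finset.mul_sum]
      have : η t = (Nat.card N : ℂ)⁻¹ *
          ∑ n : N, μ ((n : T) * t) * conj (ϑh ((n : T) * t)) := rfl
      rw [this]
      field_simp
    rw [Finset.sum_congr rfl (fun t _ => h1 t)]
    simp only [hηabs, mul_one, Finset.sum_const, Finset.card_univ, nsmul_eq_mul]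
    rw [← Nat.card_eq_fintype_card]
    field_simp
  have horth := irr_orthogonality hμ hprod
  rw [hinner] at horth
  by_cases heq : μ = ϑh * η
  · rw [heq, mul_comm]
  · rw [if_neg heq] at horth
    exact absurd horth one_ne_zero

/-- A constituent of a character whose restriction to `N` is a multiple of `ϑ` lies over `ϑ`. -/
theorem over_of_constituent {ϑ : N → ℂ} (hϑ : IsIrrCharacter N ϑ) {ξ : T → ℂ}
    (hξ : IsCharacter T ξ) (c : ℂ) (hξN : (fun n : N => ξ n) = c • ϑ) {μ : T → ℂ}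
    (hμ : IsIrrCharacter T μ) (hcon : classInner ξ μ ≠ 0) :
    classInner (fun n : N => μ n) ϑ ≠ 0 := by
  classical
  obtain ⟨ρ, hρ, hsum⟩ := exists_add_of_constituent hξ hμ hcon
  have hμc := isCharacter_of_isIrrCharacter hμ
  have hμN : IsCharacter N (fun n : N => μ n) := isCharacter_restrict N hμc
  have hρN : IsCharacter N (fun n : N => ρ n) := isCharacter_restrict N hρ
  have hμ0 : (fun n : N => μ n) ≠ 0 := by
    intro h
    have h1 := congrFun h 1
    obtain ⟨d, hd, hd1⟩ := irr_one_eq hμ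
    have h2 : μ 1 = 0 := h1
    rw [hd1] at h2
    have : d = 0 := by exact_mod_cast h2
    omega
  obtain ⟨φ, hφ, hφcon⟩ := exists_constituent hμN hμ0
  have h1 : classInner ((fun n : N => μ n) + (fun n : N => ρ n)) φ ≠ 0 :=
    classInner_add_ne_zero hμN hρN (isCharacter_of_isIrrCharacter hφ) hφcon
  have h2 : (fun n : N => μ n) + (fun n : N => ρ n) = c • ϑ := by
    rw [← hξN, hsum]
    rfl
  rw [h2, classInner_smul_left, irr_orthogonality hϑ hφ] at h1
  by_cases heq : ϑ = φ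
  · rw [heq]; exact hφcon
  · rw [if_neg heq, mul_zero] at h1
    exact absurd rfl h1

/-- **Main lemma**. -/
theorem main (hab : ∀ a b : T ⧸ N, a * b = b * a) (hm2 : 2 ≤ N.index)
    {ϑh : T → ℂ} (hϑh : IsIrrCharacter T ϑh) (hϑN : IsIrrCharacter N (fun n : N => ϑh n))
    {ξ : T → ℂ} (hξ : IsCharacter T ξ) (e : ℕ)
    (hξN : ∀ n : N, ξ n = (e : ℂ) * ϑh n)
    (hnorm : ∀ t : T, t ∉ N →
      ∑ n : N, ξ ((n : T) * t) * conj (ξ ((n : T) * t)) = (Nat.card N : ℂ)) :
    (N.index : ℤ) ∣ (e : ℤ) - 1 ∨ (N.index : ℤ) ∣ (e : ℤ) + 1 := by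
  classical
  letI := irrFintype (G := T)
  letI : Fintype (T ⧸ N) := Fintype.ofFinite _
  have hN0 : (Nat.card N : ℂ) ≠ 0 := by
    rw [Nat.cast_ne_zero]; exact Nat.card_pos.ne'
  obtain ⟨hnat, hdec⟩ := isCharacter_decomp hξ
  choose b hb using hnat
  set Ψ := cosetAvg N ξ ϑh with hΨ
  have hΨchar : IsCharacter T Ψ := isCharacter_cosetAvg N hϑh hϑN hξ
  have hΨN : ∀ n ∈ N, Ψ n = Ψ 1 := by
    intro n hn
    have := cosetAvg_mul_left N ξ ϑh ⟨n, hn⟩ 1
    rwa [mul_one] at this
  obtain ⟨Ψq, hΨq, hΨeq⟩ := exists_deflate_char N hΨchar hΨN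
  have hΨqt : ∀ t : T, Ψq (t : T ⧸ N) = Ψ t := fun t => (congrFun hΨeq t).symm
  -- `Ψ 1 = e`
  have hΨ1 : Ψ 1 = (e : ℂ) := by
    have h1 : Ψ 1 = (e : ℂ) * classInner (fun n : N => ϑh n) (fun n : N => ϑh n) := by
      rw [hΨ, cosetAvg_apply]
      unfold classInner
      rw [mul_left_comm]
      congr 1
      rw [Finset.mul_sum]
      apply Finset.sum_congr rfl
      intro n _
      rw [mul_one, hξN n]
      ring
    rw [h1, irr_orthogonality hϑN hϑN, if_pos rfl, mul_one]
  -- `ξ = Ψ ϑh`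
  have hξNfun : (fun n : N => ξ n) = (e : ℂ) • (fun n : N => ϑh n) := by
    funext n
    rw [Pi.smul_apply, smul_eq_mul]
    exact hξN n
  have hprod : ∀ t : T, ξ t = Ψ t * ϑh t := by
    intro t
    have h1 : Ψ = ∑ μ : IrrCharacter T, classInner ξ (μ : T → ℂ) • cosetAvg N (μ : T → ℂ) ϑh := by
      rw [hΨ]
      conv_lhs => rw [hdec]
      rw [cosetAvg_sum_left]
    have h2 := congrFun hdec t
    rw [Finset.sum_apply] at h2
    rw [h2, h1, Finset.sum_apply, Finset.sum_mul]
    apply Finset.sum_congr rfl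
    intro μ _
    rw [Pi.smul_apply, Pi.smul_apply, smul_eq_mul, smul_eq_mul]
    by_cases hbμ : classInner ξ (μ : T → ℂ) = 0
    · rw [hbμ, zero_mul, zero_mul, zero_mul]
    · have hover := over_of_constituent N hϑN hξ (e : ℂ) hξNfun μ.2 hbμ
      have hg := gallagher N hab hϑh hϑN μ.2 hover
      have hg' := congrFun hg t
      rw [Pi.mul_apply] at hg'
      rw [mul_assoc, ← hg']
  -- `|Ψ t|² = 1` off `N`
  have hΨabs : ∀ t : T, t ∉ N → Ψ t * conj (Ψ t) = 1 := by
    intro t ht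
    have h1 := hnorm t ht
    have h2 : ∀ n : N, ξ ((n : T) * t) * conj (ξ ((n : T) * t)) =
        (Ψ t * conj (Ψ t)) * (ϑh ((n : T) * t) * conj (ϑh ((n : T) * t))) := by
      intro n
      rw [hprod ((n : T) * t), map_mul]
      have : Ψ ((n : T) * t) = Ψ t := cosetAvg_mul_left N ξ ϑh n t
      rw [this]
      ring
    rw [Finset.sum_congr rfl (fun n _ => h2 n), ← Finset.mul_sum] at h1
    have h3 := (Cfsg.Agent.S0868.result N ϑh hϑh hϑN ϑh hϑh (cosetAvg N ϑh ϑh) rfl).2.2 rfl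
    have h4 : (Nat.card N : ℂ)⁻¹ *
        ∑ n : N, ϑh ((n : T) * t) * conj (ϑh ((n : T) * t)) = 1 := congrFun h3 t
    have h5 : ∑ n : N, ϑh ((n : T) * t) * conj (ϑh ((n : T) * t)) = (Nat.card N : ℂ) := by
      have : (Nat.card N : ℂ) * ((Nat.card N : ℂ)⁻¹ *
          ∑ n : N, ϑh ((n : T) * t) * conj (ϑh ((n : T) * t))) = (Nat.card N : ℂ) * 1 := by
        rw [h4]
      rw [← mul_assoc, mul_inv_cancel₀ hN0, one_mul, mul_one] at this
      exact this
    rw [h5] at h1
    have : Ψ t * conj (Ψ t) * (Nat.card N : ℂ) = 1 * (Nat.card N : ℂ) := by rw [h1, one_mul]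
    exact mul_right_cancel₀ hN0 this
  -- analysis on the quotient
  have hcardq : Fintype.card (T ⧸ N) = N.index := by
    rw [← Nat.card_eq_fintype_card]
    rfl
  obtain ⟨D, hDsum, -, -, hDn⟩ := AbSpread.analysis hab (by rw [hcardq]; exact hm2) hΨq
  rw [hcardq] at hDn
  have hmpos : 0 < N.index := by omega
  have hDval : D = (N.index : ℤ) - 1 := by
    have h1 : ∀ a ∈ (Finset.univ : Finset (T ⧸ N)).erase 1, Ψq a * conj (Ψq a) = 1 := by
      intro a ha
      have hane : a ≠ 1 := Finset.ne_of_mem_erase ha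
      induction a using QuotientGroup.induction_on with
      | H t =>
        rw [hΨqt t]
        apply hΨabs t
        intro htN
        apply hane
        exact (QuotientGroup.eq_one_iff t).mpr htN
    rw [Finset.sum_congr rfl h1, Finset.sum_const, Finset.card_erase_of_mem (Finset.mem_univ _),
      Finset.card_univ, hcardq, nsmul_eq_mul, mul_one] at hDsum
    have h2 : ((N.index - 1 : ℕ) : ℂ) = ((N.index : ℤ) - 1 : ℤ) := by
      rw [Nat.cast_sub hmpos]
      push_cast
      ring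
    rw [h2] at hDsum
    exact_mod_cast hDsum.symm
  obtain ⟨k, ε, μ, hε, -, h1, -⟩ := hDn hDval
  have h2 : Ψq 1 = (e : ℂ) := by
    have := hΨqt 1
    rw [QuotientGroup.mk_one] at this
    rw [this, hΨ1]
  rw [h2] at h1
  have h3 : ((e : ℤ) : ℂ) = (((N.index : ℤ) * k + ε : ℤ) : ℂ) := by
    push_cast
    exact h1
  have h4 : (e : ℤ) = (N.index : ℤ) * k + ε := by exact_mod_cast h3
  rcases hε with h | h
  · left
    exact ⟨k, by rw [h4, h]; ring⟩
  · right
    exact ⟨k, by rw [h4, h]; ring⟩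

end Cfsg.Agent.Helper24.RamCyc
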