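import Mathlib
import Cfsg.Prelude.Def_Blocks
import Cfsg.Agent.Lib.Helper24.GlaubPGroup
import Cfsg.Agent.Lib.Helper24.NormalizerAct

/-!
# Transfer between "subgroups of an ambient group" and abstract actions
(helper24's shared library)

For subgroups `G, S` of `Γ` with `S` normalizing `G`: the conjugation homomorphism
`conjHom : S →* MulAut G`, the identification of its fixed points with `G ⊓ C_Γ(S)`, and
the transport of irreducible characters and inner products.
-/

set_option autoImplicit false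
set_option linter.style.haveILetI false

namespace Cfsg.Agent.Helper24.Glaub

open Cfsg Cfsg.Agent.Helper24

universe u

variable {Γ : Type u} [Group Γ] (G S : Subgroup Γ)
  (hSG : S ≤ Subgroup.normalizer (G : Set Γ))

/-- Conjugation by elements of `S` as automorphisms of `G`. -/
noncomputable def conjHom : S →* MulAut G where
  toFun s := normConj G s.1 (hSG s.2)
  map_one' := by
    apply MulEquiv.ext
    intro g
    apply Subtype.ext
    show ((1 : S) : Γ) * g * ((1 : S) : Γ)⁻¹ = g
    simp
  map_mul' s t := by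
    apply MulEquiv.ext
    intro g
    apply Subtype.ext
    show ((s * t : S) : Γ) * g * ((s * t : S) : Γ)⁻¹ = (s : Γ) * ((t : Γ) * g * (t : Γ)⁻¹) * (s : Γ)⁻¹
    rw [Subgroup.coe_mul]
    group

theorem conjHom_apply (s : S) (g : G) :
    ((conjHom G S hSG s g : G) : Γ) = (s : Γ) * g * (s : Γ)⁻¹ := rfl

theorem isInv_conjHom_iff (χ : G → ℂ) :
    IsInv (conjHom G S hSG) χ ↔
      ∀ s ∈ S, ∀ g g' : G, (g' : Γ) = s * g * s⁻¹ → χ g' = χ g := by
  constructor
  · intro h s hs g g' hgg'
    have := h ⟨s, hs⟩ g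
    rw [← this]
    apply congrArg χ
    apply Subtype.ext
    rw [hgg', conjHom_apply]
  · intro h s g
    exact h s.1 s.2 g _ (conjHom_apply G S hSG s g)

theorem mem_fixedSub_conjHom_iff (g : G) :
    g ∈ fixedSub (conjHom G S hSG) ↔ (g : Γ) ∈ Subgroup.centralizer (S : Set Γ) := by
  rw [mem_fixedSub, Subgroup.mem_centralizer_iff]
  constructor
  · intro h s hs
    have := congrArg Subtype.val (h ⟨s, hs⟩)
    rw [conjHom_apply] at this
    have h2 : s * (g : Γ) * s⁻¹ = g := this
    calc s * (g : Γ) = s * (g : Γ) * s⁻¹ * s := by group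
      _ = (g : Γ) * s := by rw [h2]
  · intro h s
    apply Subtype.ext
    rw [conjHom_apply]
    have := h s.1 s.2
    calc (s : Γ) * g * (s : Γ)⁻¹ = (g : Γ) * s * (s : Γ)⁻¹ := by rw [this]
      _ = g := by group

/-- The fixed points of the conjugation action, identified with `C = G ⊓ C_Γ(S)`. -/
noncomputable def fixedEquiv (C : Subgroup Γ)
    (hC : C = G ⊓ Subgroup.centralizer (S : Set Γ)) : fixedSub (conjHom G S hSG) ≃* C where
  toFun c := ⟨c.1.1, by
    rw [hC]
    exact ⟨c.1.2, (mem_fixedSub_conjHom_iff G S hSG c.1).mp c.2⟩⟩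
  invFun c := ⟨⟨c.1, by
      have h : (c : Γ) ∈ G ⊓ Subgroup.centralizer (S : Set Γ) := hC ▸ c.2
      exact h.1⟩, by
    rw [mem_fixedSub_conjHom_iff]
    have h : (c : Γ) ∈ G ⊓ Subgroup.centralizer (S : Set Γ) := hC ▸ c.2
    exact h.2⟩
  left_inv c := rfl
  right_inv c := rfl
  map_mul' a b := rfl

theorem fixedEquiv_apply (C : Subgroup Γ)
    (hC : C = G ⊓ Subgroup.centralizer (S : Set Γ)) (c : fixedSub (conjHom G S hSG)) :
    ((fixedEquiv G S hSG C hC c : C) : Γ) = ((c : G) : Γ) := rfl

section Transport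

variable (C : Subgroup Γ) (hC : C = G ⊓ Subgroup.centralizer (S : Set Γ))

/-- Transport of an irreducible character of `C` to the fixed-point subgroup. -/
noncomputable def toFix (β : IrrCharacter C) : IrrCharacter (fixedSub (conjHom G S hSG)) :=
  ⟨(β : C → ℂ) ∘ (fixedEquiv G S hSG C hC),
    Cfsg.Agent.Helper5.isIrrCharacter_comp_equiv (fixedEquiv G S hSG C hC) β.2⟩

/-- Transport of an irreducible character of the fixed-point subgroup to `C`. -/
noncomputable def ofFix (β : IrrCharacter (fixedSub (conjHom G S hSG))) : IrrCharacter C :=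
  ⟨(β : fixedSub (conjHom G S hSG) → ℂ) ∘ (fixedEquiv G S hSG C hC).symm,
    Cfsg.Agent.Helper5.isIrrCharacter_comp_equiv (fixedEquiv G S hSG C hC).symm β.2⟩

theorem toFix_ofFix (β : IrrCharacter (fixedSub (conjHom G S hSG))) :
    toFix G S hSG C hC (ofFix G S hSG C hC β) = β := by
  apply Subtype.ext
  funext c
  show (β : fixedSub (conjHom G S hSG) → ℂ)
    ((fixedEquiv G S hSG C hC).symm (fixedEquiv G S hSG C hC c)) = _
  rw [MulEquiv.symm_apply_apply]

theorem ofFix_toFix (β : IrrCharacter C) :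
    ofFix G S hSG C hC (toFix G S hSG C hC β) = β := by
  apply Subtype.ext
  funext c
  show (β : C → ℂ) ((fixedEquiv G S hSG C hC) ((fixedEquiv G S hSG C hC).symm c)) = _
  rw [MulEquiv.apply_symm_apply]

theorem toFix_injective : Function.Injective (toFix G S hSG C hC) := by
  intro β β' h
  rw [← ofFix_toFix G S hSG C hC β, h, ofFix_toFix]

theorem classInner_toFix [Fintype C] [Fintype (fixedSub (conjHom G S hSG))] (hCG : C ≤ G)
    (χ : G → ℂ) (β : IrrCharacter C) :
    classInner (fun c : fixedSub (conjHom G S hSG) => χ c)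
        (toFix G S hSG C hC β : fixedSub (conjHom G S hSG) → ℂ) =
      classInner (fun c : C => χ ⟨c, hCG c.2⟩) (β : C → ℂ) := by
  have h1 : (fun c : fixedSub (conjHom G S hSG) => χ c) =
      (fun c : C => χ ⟨c, hCG c.2⟩) ∘ (fixedEquiv G S hSG C hC) := by
    funext c
    rfl
  have h2 : (toFix G S hSG C hC β : fixedSub (conjHom G S hSG) → ℂ) =
      (β : C → ℂ) ∘ (fixedEquiv G S hSG C hC) := rfl
  rw [h1, h2]
  exact Cfsg.Agent.Helper5.classInner_comp_equiv _ _ _

theorem isGl_toFix_iff [Fintype C] [Fintype (fixedSub (conjHom G S hSG))] (hCG : C ≤ G) (p : ℕ)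
    (χ : G → ℂ) (β : IrrCharacter C) :
    IsGl (conjHom G S hSG) p χ (toFix G S hSG C hC β : fixedSub (conjHom G S hSG) → ℂ) ↔
      ∃ m : ℕ, classInner (fun c : C => χ ⟨c, hCG c.2⟩) (β : C → ℂ) = m ∧ ¬ p ∣ m := by
  unfold IsGl
  rw [classInner_toFix G S hSG C hC hCG χ β]

end Transport

end Cfsg.Agent.Helper24.Glaub
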