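import Mathlib
import Cfsg.Prelude.Def_Blocks
import Cfsg.Agent.Lib.Helper24.FrobeniusSchur

/-!
# The Frobenius–Schur indicator and restriction (helper24's shared library)

Let `f : H →* G` be a homomorphism of finite groups and `χ` a character of `G`.

* `fsInd_eq_of_restrict`: if `∑_{x ∈ H} χ(f(x)²) = ∑_{x ∈ H} χ(f(x))²` (the swap acts trivially on
  the `H`-invariants of `V ⊗ V`), then `fsInd χ = |G|⁻¹ ∑ χ(g)²`.
* `fsInd_restrict_eq_one`: if `fsInd χ = 1 = |G|⁻¹ ∑ χ(g)²` and `|H|⁻¹ ∑ χ(f x)² = 1`, then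
  `|H|⁻¹ ∑ χ(f(x)²) = 1`.
-/

set_option autoImplicit false
set_option linter.style.haveILetI false
set_option linter.unusedSectionVars false

namespace Cfsg.Agent.Helper24.FSRes

open Cfsg Cfsg.Agent.Helper24 Module

universe u

open scoped ComplexConjugate Kronecker

section Idem

variable {ι : Type*} [Fintype ι] [DecidableEq ι]

/-- An idempotent complex matrix of trace zero vanishes. -/
theorem eq_zero_of_idempotent_of_trace_eq_zero (E : Matrix ι ι ℂ) (hE : E * E = E)
    (htr : E.trace = 0) : E = 0 := by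
  have hidem : IsIdempotentElem (Matrix.toLin' E) := by
    show Matrix.toLin' E * Matrix.toLin' E = Matrix.toLin' E
    rw [Module.End.mul_eq_comp, ← Matrix.toLin'_mul, hE]
  have hproj := LinearMap.IsIdempotentElem.isProj_range _ hidem
  have h := hproj.trace
  rw [Matrix.trace_toLin'_eq, htr] at h
  have h0 : finrank ℂ (LinearMap.range (Matrix.toLin' E)) = 0 := by exact_mod_cast h.symm
  have hbot : LinearMap.range (Matrix.toLin' E) = ⊥ := Submodule.finrank_eq_zero.mp h0
  have h1 : Matrix.toLin' E = 0 := LinearMap.range_eq_bot.mp hbot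
  have := congrArg LinearMap.toMatrix' h1
  simpa using this

end Idem

section Avg

variable {G H : Type*} [Group G] [Fintype G] [Group H] [Fintype H] {ι : Type*} [Fintype ι]
  [DecidableEq ι]

/-- The average of a matrix representation. -/
noncomputable def avgMat (K : G →* Matrix ι ι ℂ) : Matrix ι ι ℂ :=
  (Nat.card G : ℂ)⁻¹ • ∑ g, K g

theorem card_ne_zero : (Nat.card G : ℂ) ≠ 0 := by
  exact_mod_cast (Nat.card_pos (α := G)).ne'

theorem mul_avgMat (K : G →* Matrix ι ι ℂ) (h : G) : K h * avgMat K = avgMat K := by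
  unfold avgMat
  rw [Matrix.mul_smul, Finset.mul_sum]
  congr 1
  have := Equiv.sum_comp (Equiv.mulLeft h) (fun g => K g)
  rw [← this]
  apply Finset.sum_congr rfl
  intro g _
  simp [map_mul]

theorem avgMat_idem (K : G →* Matrix ι ι ℂ) : avgMat K * avgMat K = avgMat K := by
  nth_rewrite 1 [avgMat]
  rw [Matrix.smul_mul, Finset.sum_mul]
  simp only [mul_avgMat, Finset.sum_const, Finset.card_univ]
  rw [← Nat.card_eq_fintype_card, ← Nat.cast_smul_eq_nsmul ℂ, smul_smul,
    inv_mul_cancel₀ (card_ne_zero (G := G)), one_smul]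

theorem comm_avgMat (K : G →* Matrix ι ι ℂ) (T : Matrix ι ι ℂ) (hTK : ∀ g, T * K g = K g * T) :
    T * avgMat K = avgMat K * T := by
  unfold avgMat
  rw [Matrix.mul_smul, Matrix.smul_mul, Finset.mul_sum, Finset.sum_mul]
  congr 1
  exact Finset.sum_congr rfl (fun g _ => hTK g)

theorem avgMat_comp_mul (K : G →* Matrix ι ι ℂ) (f : H →* G) :
    avgMat (K.comp f) * avgMat K = avgMat K := by
  nth_rewrite 1 [avgMat]
  rw [Matrix.smul_mul, Finset.sum_mul]
  simp only [MonoidHom.comp_apply, mul_avgMat, Finset.sum_const, Finset.card_univ]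
  rw [← Nat.card_eq_fintype_card, ← Nat.cast_smul_eq_nsmul ℂ, smul_smul,
    inv_mul_cancel₀ (card_ne_zero (G := H)), one_smul]

theorem trace_avgMat (K : G →* Matrix ι ι ℂ) :
    (avgMat K).trace = (Nat.card G : ℂ)⁻¹ * ∑ g, (K g).trace := by
  unfold avgMat
  rw [Matrix.trace_smul, Matrix.trace_sum, smul_eq_mul]

theorem trace_mul_avgMat (K : G →* Matrix ι ι ℂ) (T : Matrix ι ι ℂ) :
    (T * avgMat K).trace = (Nat.card G : ℂ)⁻¹ * ∑ g, (T * K g).trace := by
  unfold avgMat
  rw [Matrix.mul_smul, Matrix.trace_smul, Finset.mul_sum, Matrix.trace_sum, smul_eq_mul]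

/-- `½ (P ∓ T P)` is idempotent. -/
theorem half_sub_idem (P T : Matrix ι ι ℂ) (hT : T * T = 1) (hP : P * P = P) (hTP : T * P = P * T) :
    ((1 / 2 : ℂ) • (P - T * P)) * ((1 / 2 : ℂ) • (P - T * P)) = (1 / 2 : ℂ) • (P - T * P) := by
  have h1 : P * (T * P) = T * P := by rw [← Matrix.mul_assoc, ← hTP, Matrix.mul_assoc, hP]
  have h2 : T * P * P = T * P := by rw [Matrix.mul_assoc, hP]
  have h3 : T * P * (T * P) = P := by
    rw [Matrix.mul_assoc, ← Matrix.mul_assoc P T P, ← hTP, Matrix.mul_assoc T P P, hP,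
      ← Matrix.mul_assoc, hT, Matrix.one_mul]
  rw [Matrix.smul_mul, Matrix.mul_smul, smul_smul, Matrix.sub_mul, Matrix.mul_sub, Matrix.mul_sub,
    hP, h1, h2, h3]
  have : P - T * P - (T * P - P) = (2 : ℂ) • (P - T * P) := by rw [two_smul]; abel
  rw [this, smul_smul]
  norm_num

theorem half_add_idem (P T : Matrix ι ι ℂ) (hT : T * T = 1) (hP : P * P = P) (hTP : T * P = P * T) :
    ((1 / 2 : ℂ) • (P + T * P)) * ((1 / 2 : ℂ) • (P + T * P)) = (1 / 2 : ℂ) • (P + T * P) := by
  have h1 : P * (T * P) = T * P := by rw [← Matrix.mul_assoc, ← hTP, Matrix.mul_assoc, hP]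
  have h2 : T * P * P = T * P := by rw [Matrix.mul_assoc, hP]
  have h3 : T * P * (T * P) = P := by
    rw [Matrix.mul_assoc, ← Matrix.mul_assoc P T P, ← hTP, Matrix.mul_assoc T P P, hP,
      ← Matrix.mul_assoc, hT, Matrix.one_mul]
  rw [Matrix.smul_mul, Matrix.mul_smul, smul_smul, Matrix.add_mul, Matrix.mul_add, Matrix.mul_add,
    hP, h1, h2, h3]
  have : P + T * P + (T * P + P) = (2 : ℂ) • (P + T * P) := by rw [two_smul]; abel
  rw [this, smul_smul]
  norm_num

/-- If `tr P = tr (T P)` for an idempotent `P` commuting with the involution `T`, then `T P = P`. -/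
theorem mul_eq_of_trace_eq (P T : Matrix ι ι ℂ) (hT : T * T = 1) (hP : P * P = P)
    (hTP : T * P = P * T) (htr : P.trace = (T * P).trace) : T * P = P := by
  have h0 := eq_zero_of_idempotent_of_trace_eq_zero _ (half_sub_idem P T hT hP hTP) (by
    rw [Matrix.trace_smul, Matrix.trace_sub, htr, sub_self, smul_zero])
  have h1 : P - T * P = 0 := by
    have := congrArg (fun M => (2 : ℂ) • M) h0
    simpa [smul_smul] using this
  exact (sub_eq_zero.mp h1).symm

/-- **Going up**. -/
theorem abstract_up (K : G →* Matrix ι ι ℂ) (T : Matrix ι ι ℂ) (hT : T * T = 1)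
    (hTK : ∀ g, T * K g = K g * T) (f : H →* G)
    (h : (avgMat (K.comp f)).trace = (T * avgMat (K.comp f)).trace) :
    (avgMat K).trace = (T * avgMat K).trace := by
  have h1 := mul_eq_of_trace_eq (avgMat (K.comp f)) T hT (avgMat_idem _)
    (comm_avgMat _ T (fun x => hTK (f x))) h
  have h2 : T * avgMat K = avgMat K := by
    rw [← avgMat_comp_mul K f, ← Matrix.mul_assoc, h1]
  rw [h2]

/-- **Going down**. -/
theorem abstract_down (K : G →* Matrix ι ι ℂ) (T : Matrix ι ι ℂ) (hT : T * T = 1)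
    (hTK : ∀ g, T * K g = K g * T) (f : H →* G)
    (h1 : (avgMat K).trace = 1) (h2 : (T * avgMat K).trace = 1)
    (h3 : (avgMat (K.comp f)).trace = 1) : (T * avgMat (K.comp f)).trace = 1 := by
  set P := avgMat K with hP
  set Q := avgMat (K.comp f) with hQ
  have hTP : T * P = P := mul_eq_of_trace_eq P T hT (avgMat_idem _) (comm_avgMat _ T hTK)
    (by rw [h1, h2])
  have hQQ : Q * Q = Q := avgMat_idem _
  have hTQ : T * Q = Q * T := comm_avgMat _ T (fun x => hTK (f x))
  have hQP : Q * P = P := avgMat_comp_mul K f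
  obtain ⟨r, hr⟩ := exists_nat_trace_of_idempotent _ (half_add_idem Q T hT hQQ hTQ)
  obtain ⟨s, hs⟩ := exists_nat_trace_of_idempotent _ (half_sub_idem Q T hT hQQ hTQ)
  rw [Matrix.trace_smul, Matrix.trace_add, smul_eq_mul, h3] at hr
  rw [Matrix.trace_smul, Matrix.trace_sub, smul_eq_mul, h3] at hs
  have hrs : r + s = 1 := by
    have : ((r + s : ℕ) : ℂ) = 1 := by
      push_cast
      rw [← hr, ← hs]
      ring
    exact_mod_cast this
  have hr0 : r ≠ 0 := by
    rintro rfl
    have hz := eq_zero_of_idempotent_of_trace_eq_zero _ (half_add_idem Q T hT hQQ hTQ) (by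
      rw [Matrix.trace_smul, Matrix.trace_add, smul_eq_mul, h3, hr]; simp)
    have h4 : ((1 / 2 : ℂ) • (Q + T * Q)) * P = P := by
      rw [Matrix.smul_mul, Matrix.add_mul, Matrix.mul_assoc, hQP, hTP, ← two_smul ℂ P, smul_smul]
      norm_num
    rw [hz, Matrix.zero_mul] at h4
    rw [← h4] at h1
    simp at h1
  have hr1 : r = 1 := by omega
  have hs0 : s = 0 := by omega
  rw [hs0] at hs
  have : (1 : ℂ) - (T * Q).trace = 0 := by
    have := hs
    simp only [Nat.cast_zero] at this
    rcases mul_eq_zero.mp this with h | h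
    · norm_num at h
    · exact h
  linear_combination -this

end Avg

section Char

variable {G H : Type u} [Group G] [Fintype G] [Group H] [Fintype H]

/-- **Going up**, for characters. -/
theorem fsInd_eq_of_restrict (f : H →* G) {χ : G → ℂ} (hχ : IsCharacter G χ)
    (h : ∑ x : H, χ (f x * f x) = ∑ x : H, χ (f x) * χ (f x)) :
    fsInd χ = (Nat.card G : ℂ)⁻¹ * ∑ g, χ g * χ g := by
  obtain ⟨n, ρ, rfl⟩ := hχ
  have htr1 : ∀ g : G, (kronSq (repMat ρ) g).trace = ρ.character g * ρ.character g := by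
    intro g
    show (repMat ρ g ⊗ₖ repMat ρ g).trace = _
    rw [Matrix.trace_kronecker, trace_repMat]
  have htr2 : ∀ g : G, (swapMat (Fin n) * kronSq (repMat ρ) g).trace = ρ.character (g * g) := by
    intro g
    show (swapMat (Fin n) * (repMat ρ g ⊗ₖ repMat ρ g)).trace = _
    rw [trace_swapMat_mul_kronecker, ← map_mul, trace_repMat]
  have := abstract_up (kronSq (repMat ρ)) (swapMat (Fin n)) swapMat_mul_self
    (fun g => swapMat_mul_kronecker _ _) f (by
      rw [trace_avgMat, trace_mul_avgMat]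
      congr 1
      simp only [MonoidHom.comp_apply, htr1, htr2]
      exact h.symm)
  rw [trace_avgMat, trace_mul_avgMat] at this
  simp only [htr1, htr2] at this
  exact this.symm

/-- **Going down**, for characters. -/
theorem fsInd_restrict_eq_one (f : H →* G) {χ : G → ℂ} (hχ : IsCharacter G χ)
    (h1 : fsInd χ = 1) (h2 : (Nat.card G : ℂ)⁻¹ * ∑ g, χ g * χ g = 1)
    (h3 : (Nat.card H : ℂ)⁻¹ * ∑ x : H, χ (f x) * χ (f x) = 1) :
    (Nat.card H : ℂ)⁻¹ * ∑ x : H, χ (f x * f x) = 1 := by
  obtain ⟨n, ρ, rfl⟩ := hχ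
  have htr1 : ∀ g : G, (kronSq (repMat ρ) g).trace = ρ.character g * ρ.character g := by
    intro g
    show (repMat ρ g ⊗ₖ repMat ρ g).trace = _
    rw [Matrix.trace_kronecker, trace_repMat]
  have htr2 : ∀ g : G, (swapMat (Fin n) * kronSq (repMat ρ) g).trace = ρ.character (g * g) := by
    intro g
    show (swapMat (Fin n) * (repMat ρ g ⊗ₖ repMat ρ g)).trace = _
    rw [trace_swapMat_mul_kronecker, ← map_mul, trace_repMat]
  have := abstract_down (kronSq (repMat ρ)) (swapMat (Fin n)) swapMat_mul_self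
    (fun g => swapMat_mul_kronecker _ _) f (by
      rw [trace_avgMat]
      simp only [htr1]
      exact h2) (by
      rw [trace_mul_avgMat]
      simp only [htr2]
      exact h1) (by
      rw [trace_avgMat]
      simp only [MonoidHom.comp_apply, htr1]
      exact h3)
  rw [trace_mul_avgMat] at this
  simp only [MonoidHom.comp_apply, htr2] at this
  exact this

end Char

end Cfsg.Agent.Helper24.FSRes
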