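import Mathlib
import Cfsg.Prelude.Def_Blocks
import Cfsg.Agent.Lib.Helper24.CoprimeDegree
import Cfsg.Agent.Lib.Helper18.CliffordCorr2

/-!
# Linear characters and induction from an inertia group (helper24's shared library)

`N ⊲ G`, `φ ∈ Irr(N)` with inertia group `I`, `ψ ∈ Irr(I)` an extension of `φ`.  If every linear
character of `G` is trivial on `N`, then `λ ↦ (λ_I ψ)^G` maps the linear characters of `G` to
irreducible characters of degree `φ(1) [G : I]` with fibres of size at most `[G : I]`.
-/

set_option autoImplicit false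
set_option linter.style.haveILetI false
set_option linter.unusedSectionVars false

namespace Cfsg.Agent.Helper24.LinInd

open Cfsg Cfsg.Agent.Helper24 Cfsg.Agent.Helper5 Cfsg.Agent.Helper18
open scoped ComplexConjugate

universe u

variable {G : Type u} [Group G] [Finite G]

/-- The homomorphisms `G →* ℂˣ` form a finite set. -/
theorem finite_monoidHom : Finite (G →* ℂˣ) := by
  apply Nat.finite_of_card_ne_zero
  rw [card_monoidHom_units]
  exact Subgroup.index_ne_zero_of_finite

/-- The number of linear characters trivial on a subgroup `I` is at most `[G : I]`. -/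
theorem card_trivOn_le (I : Subgroup G) :
    Nat.card {h : G →* ℂˣ // I ≤ h.ker} ≤ I.index := by
  set M := Subgroup.normalClosure (I : Set G) with hM
  haveI : M.Normal := Subgroup.normalClosure_normal
  have h1 : Nat.card {h : G →* ℂˣ // I ≤ h.ker} = Nat.card {h : G →* ℂˣ // M ≤ h.ker} := by
    apply Nat.card_congr
    apply Equiv.subtypeEquivRight
    intro h
    constructor
    · intro hI
      exact Subgroup.normalClosure_le_normal hI
    · intro hMk
      exact Subgroup.le_normalClosure.trans hMk
  rw [h1, Nat.card_congr (CopDeg.kerEquiv M), card_monoidHom_units]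
  have h2 : (commutator (G ⧸ M)).index ≤ M.index := by
    rw [Subgroup.index_eq_card M]
    exact Nat.le_of_dvd Nat.card_pos (Subgroup.index_dvd_card _)
  refine h2.trans ?_
  exact Nat.le_of_dvd (Nat.pos_of_ne_zero Subgroup.index_ne_zero_of_finite)
    (Subgroup.index_dvd_of_le Subgroup.le_normalClosure)

/-- A non-abelian minimal normal subgroup lies in the kernel of every linear character. -/
theorem le_ker_of_minimal (N : Subgroup G) [hN : N.Normal]
    (hmin : ∀ M : Subgroup G, M.Normal → M ≤ N → M = ⊥ ∨ M = N) (hna : ¬ IsMulCommutative N)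
    (f : G →* ℂˣ) : N ≤ f.ker := by
  have hnorm : (⁅N, N⁆ : Subgroup G).Normal := inferInstance
  have hle : ⁅N, N⁆ ≤ N := Subgroup.commutator_le_right N N
  rcases hmin _ hnorm hle with h | h
  · exfalso
    apply hna
    rw [Subgroup.commutator_eq_bot_iff_le_centralizer] at h
    apply IsMulCommutative.of_comm
    intro a b
    apply Subtype.ext
    have := (Subgroup.mem_centralizer_iff.mp (h a.2)) b b.2
    exact this.symm
  · intro n hn
    rw [← h] at hn
    have h2 : ⁅N, N⁆ ≤ commutator G := by
      rw [commutator_def]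
      exact Subgroup.commutator_mono le_top le_top
    exact Abelianization.commutator_subset_ker f (h2 hn)

section Main

variable [Fintype G] (N : Subgroup G) [hN : N.Normal] {φ : N → ℂ} (hφ : IsIrrCharacter N φ) (I : Subgroup G)
  (hNI : N ≤ I) (hIle : inertia N φ ≤ I) (hIinv : ∀ g ∈ I, Cfsg.Agent.Helper5.conjFun N g φ = φ)
  {ψ : I → ℂ} (hψ : IsIrrCharacter I ψ) (hext : ∀ n : N, ψ ⟨n, hNI n.2⟩ = φ n)
  (hker : ∀ f : G →* ℂˣ, N ≤ f.ker)

/-- The twist of `ψ` by the restriction of a linear character of `G`. -/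
noncomputable def tw (ψ : I → ℂ) (f : G →* ℂˣ) : I → ℂ := fun i => ((f i : ℂˣ) : ℂ) * ψ i

include hψ in
theorem tw_irr (f : G →* ℂˣ) : IsIrrCharacter I (tw I ψ f) :=
  isIrrCharacter_twist (f.comp I.subtype) hψ

include hext hker in
theorem tw_res (f : G →* ℂˣ) : resFun hNI (tw I ψ f) = φ := by
  funext n
  rw [resFun_apply]
  show ((f (n : G) : ℂˣ) : ℂ) * ψ ⟨n, hNI n.2⟩ = φ n
  have : f (n : G) = 1 := hker f n.2
  rw [this, Units.val_one, one_mul, hext]

include hφ hIle hψ hext hker in
theorem ind_irr (f : G →* ℂˣ) : IsIrrCharacter G (indFun I (tw I ψ f)) := by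
  classical
  letI : Fintype N := Fintype.ofFinite N
  letI : Fintype I := Fintype.ofFinite I
  refine (clifford_induce_irr N I hNI hφ hIle (tw_irr I hψ f) ?_).1
  rw [tw_res N I hNI hext hker f, irr_orthogonality hφ hφ, if_pos rfl]
  exact one_ne_zero

include hφ hψ hext in
theorem ind_degree (f : G →* ℂˣ) :
    charDegree (indFun I (tw I ψ f)) = charDegree φ * I.index := by
  apply charDegree_natCast
  rw [Cfsg.Agent.Helper5.indFun_one]
  show (I.index : ℂ) * (((f ((1 : I) : G) : ℂˣ) : ℂ) * ψ 1) = _
  have h1 : ψ 1 = φ 1 := hext 1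
  rw [Subgroup.coe_one, map_one, Units.val_one, one_mul, h1, irr_one_eq_charDegree hφ]
  push_cast
  ring

include hφ hIle hIinv hψ hext hker in
theorem ind_inj {f f' : G →* ℂˣ} (h : indFun I (tw I ψ f) = indFun I (tw I ψ f')) :
    f.comp I.subtype = f'.comp I.subtype := by
  classical
  letI : Fintype N := Fintype.ofFinite N
  letI : Fintype I := Fintype.ofFinite I
  have hne : ∀ f : G →* ℂˣ, classInner (resFun hNI (tw I ψ f)) φ ≠ 0 := by
    intro f
    rw [tw_res N I hNI hext hker f, irr_orthogonality hφ hφ, if_pos rfl]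
    exact one_ne_zero
  have h1 := clifford_induce_inj N I hNI hφ hIle (tw_irr I hψ f) (tw_irr I hψ f') (hne f) (hne f') h
  have hθ : IsIrrCharacter (N.subgroupOf I) (thetaSub N I hNI φ) :=
    isIrrCharacter_comp_equiv _ hφ
  have hinv : CopDeg.Inv (N.subgroupOf I) (thetaSub N I hNI φ) := by
    intro g n
    rw [thetaSub_apply, thetaSub_apply]
    have := congrFun (hIinv (g : G) g.2) ⟨((n : I) : G), Subgroup.mem_subgroupOf.mp n.2⟩
    rw [Cfsg.Agent.Helper5.conjFun_apply] at this
    exact this
  have hext' : ∀ n : N.subgroupOf I, ψ n = thetaSub N I hNI φ n := by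
    intro n
    rw [thetaSub_apply, ← hext]
  have hf : ∀ f : G →* ℂˣ, N.subgroupOf I ≤ (f.comp I.subtype).ker := by
    intro f x hx
    rw [MonoidHom.mem_ker, MonoidHom.comp_apply]
    exact hker f (Subgroup.mem_subgroupOf.mp hx)
  exact CopDeg.twist_injective (N.subgroupOf I) hθ hinv hψ hext' (hf f) (hf f')
    (fun x => congrFun h1 x)

include hφ hIle hIinv hψ hext hker in
/-- **Main count**. -/
theorem card_linear_le :
    Nat.card {χ : IrrCharacter G // charDegree (χ : G → ℂ) = 1} ≤
      I.index * Nat.card {χ : IrrCharacter G // charDegree (χ : G → ℂ) = charDegree φ * I.index} := by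
  classical
  letI := irrFintype (G := G)
  haveI := finite_monoidHom (G := G)
  letI : Fintype (G →* ℂˣ) := Fintype.ofFinite _
  letI : Fintype {χ : IrrCharacter G // charDegree (χ : G → ℂ) = charDegree φ * I.index} :=
    Fintype.ofFinite _
  rw [card_linear_characters', ← card_monoidHom_units]
  let Φ : (G →* ℂˣ) → {χ : IrrCharacter G // charDegree (χ : G → ℂ) = charDegree φ * I.index} :=
    fun f => ⟨⟨indFun I (tw I ψ f), ind_irr N hφ I hNI hIle hψ hext hker f⟩,
      ind_degree N hφ I hNI hψ hext f⟩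
  rw [Nat.card_eq_fintype_card, Nat.card_eq_fintype_card, ← Finset.card_univ, ← Finset.card_univ]
  apply Finset.card_le_mul_card_image_of_maps_to (f := Φ) (fun a _ => Finset.mem_univ _)
  intro b _
  by_cases hb : (Finset.univ.filter fun f => Φ f = b) = ∅
  · rw [hb, Finset.card_empty]
    exact Nat.zero_le _
  obtain ⟨f₀, hf₀⟩ := Finset.nonempty_iff_ne_empty.mpr hb
  rw [Finset.mem_filter] at hf₀
  refine le_trans ?_ (card_trivOn_le I)
  letI : Fintype {h : G →* ℂˣ // I ≤ h.ker} := Fintype.ofFinite _
  rw [Nat.card_eq_fintype_card, ← Finset.card_univ]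
  have hmem : ∀ f ∈ Finset.univ.filter (fun f => Φ f = b), I ≤ (f * f₀⁻¹).ker := by
    intro f hf
    rw [Finset.mem_filter] at hf
    have h1 : Φ f = Φ f₀ := hf.2.trans hf₀.2.symm
    have h2 : indFun I (tw I ψ f) = indFun I (tw I ψ f₀) :=
      congrArg (fun x => ((x.1 : IrrCharacter G) : G → ℂ)) h1
    have h3 := ind_inj N hφ I hNI hIle hIinv hψ hext hker h2
    intro i hi
    rw [MonoidHom.mem_ker, MonoidHom.mul_apply, MonoidHom.inv_apply]
    have h4 := DFunLike.congr_fun h3 ⟨i, hi⟩
    simp only [MonoidHom.comp_apply, Subgroup.subtype_apply] at h4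
    rw [h4, mul_inv_cancel]
  apply Finset.card_le_card_of_injOn (fun f => if hf : I ≤ (f * f₀⁻¹).ker then
    (⟨f * f₀⁻¹, hf⟩ : {h : G →* ℂˣ // I ≤ h.ker}) else ⟨1, fun x _ => by simp⟩)
  · intro f _
    exact Finset.mem_univ _
  · intro f hf f' hf' hff'
    simp only at hff'
    rw [dif_pos (hmem f hf), dif_pos (hmem f' hf')] at hff'
    have := congrArg Subtype.val hff'
    exact mul_right_cancel this

include hφ hIle hIinv hψ hext hker in
/-- **Main count**, relative version: `A` a finite family of linear characters, `Q` a property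
inherited by the induced characters. -/
theorem card_le_of_injective {A : Type*} [Finite A] (e : A → (G →* ℂˣ))
    (he : Function.Injective e) (Q : IrrCharacter G → Prop)
    (hQ : ∀ a, Q ⟨indFun I (tw I ψ (e a)), ind_irr N hφ I hNI hIle hψ hext hker (e a)⟩) :
    Nat.card A ≤ I.index *
      Nat.card {χ : IrrCharacter G // charDegree (χ : G → ℂ) = charDegree φ * I.index ∧ Q χ} := by
  classical
  letI := irrFintype (G := G)
  haveI := finite_monoidHom (G := G)
  letI : Fintype A := Fintype.ofFinite _
  letI : Fintype {χ : IrrCharacter G // charDegree (χ : G → ℂ) = charDegree φ * I.index ∧ Q χ} :=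
    Fintype.ofFinite _
  let Φ : A → {χ : IrrCharacter G // charDegree (χ : G → ℂ) = charDegree φ * I.index ∧ Q χ} :=
    fun a => ⟨⟨indFun I (tw I ψ (e a)), ind_irr N hφ I hNI hIle hψ hext hker (e a)⟩,
      ind_degree N hφ I hNI hψ hext (e a), hQ a⟩
  rw [Nat.card_eq_fintype_card, Nat.card_eq_fintype_card, ← Finset.card_univ, ← Finset.card_univ]
  apply Finset.card_le_mul_card_image_of_maps_to (f := Φ) (fun a _ => Finset.mem_univ _)
  intro b _
  by_cases hb : (Finset.univ.filter fun a => Φ a = b) = ∅
  · rw [hb, Finset.card_empty]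
    exact Nat.zero_le _
  obtain ⟨a₀, ha₀⟩ := Finset.nonempty_iff_ne_empty.mpr hb
  rw [Finset.mem_filter] at ha₀
  refine le_trans ?_ (card_trivOn_le I)
  letI : Fintype {h : G →* ℂˣ // I ≤ h.ker} := Fintype.ofFinite _
  rw [Nat.card_eq_fintype_card, ← Finset.card_univ]
  have hmem : ∀ a ∈ Finset.univ.filter (fun a => Φ a = b), I ≤ (e a * (e a₀)⁻¹).ker := by
    intro a ha
    rw [Finset.mem_filter] at ha
    have h1 : Φ a = Φ a₀ := ha.2.trans ha₀.2.symm
    have h2 : indFun I (tw I ψ (e a)) = indFun I (tw I ψ (e a₀)) :=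
      congrArg (fun x => ((x.1 : IrrCharacter G) : G → ℂ)) h1
    have h3 := ind_inj N hφ I hNI hIle hIinv hψ hext hker h2
    intro i hi
    rw [MonoidHom.mem_ker, MonoidHom.mul_apply, MonoidHom.inv_apply]
    have h4 := DFunLike.congr_fun h3 ⟨i, hi⟩
    simp only [MonoidHom.comp_apply, Subgroup.subtype_apply] at h4
    rw [h4, mul_inv_cancel]
  apply Finset.card_le_card_of_injOn (fun a => if hf : I ≤ (e a * (e a₀)⁻¹).ker then
    (⟨e a * (e a₀)⁻¹, hf⟩ : {h : G →* ℂˣ // I ≤ h.ker}) else ⟨1, fun x _ => by simp⟩)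
  · intro a _
    exact Finset.mem_univ _
  · intro a ha a' ha' haa'
    simp only at haa'
    rw [dif_pos (hmem a ha), dif_pos (hmem a' ha')] at haa'
    have := congrArg Subtype.val haa'
    exact he (mul_right_cancel this)

end Main

end Cfsg.Agent.Helper24.LinInd
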