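import Mathlib
import Cfsg.Prelude.Def_Blocks
import Cfsg.Agent.Lib.Helper24.FSRestrict
import Cfsg.Agent.Lib.Helper24.LinInduce

/-!
# The Frobenius–Schur indicator and the Clifford correspondence (helper24's shared library)

`N ⊲ G`, `φ ∈ Irr(N)` with inertia group (contained in) `I`, `ψ ∈ Irr(I)` an extension of `φ` with
Frobenius–Schur indicator `1`.  Then `φ` and `ψ^G` have Frobenius–Schur indicator `1`.
-/

set_option autoImplicit false
set_option linter.style.haveILetI false
set_option linter.unusedSectionVars false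

namespace Cfsg.Agent.Helper24.FSInd

open Cfsg Cfsg.Agent.Helper24 Cfsg.Agent.Helper5 Cfsg.Agent.Helper18 Cfsg.Agent.Helper24.FSRes
open scoped ComplexConjugate

universe u

section Basic

variable {G : Type u} [Group G] [Fintype G]

theorem fsInd_add (α β : G → ℂ) : fsInd (α + β) = fsInd α + fsInd β := by
  unfold fsInd
  simp only [Pi.add_apply, Finset.sum_add_distrib, mul_add]

theorem fsInd_smul (c : ℂ) (α : G → ℂ) : fsInd (c • α) = c * fsInd α := by
  unfold fsInd
  simp only [Pi.smul_apply, smul_eq_mul, ← Finset.mul_sum]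
  ring

theorem fsInd_sum {ι : Type*} (s : Finset ι) (f : ι → G → ℂ) :
    fsInd (∑ i ∈ s, f i) = ∑ i ∈ s, fsInd (f i) := by
  classical
  induction s using Finset.induction_on with
  | empty =>
    simp only [Finset.sum_empty]
    unfold fsInd
    simp
  | insert a s ha ih =>
    rw [Finset.sum_insert ha, Finset.sum_insert ha, fsInd_add, ih]

/-- For a real-valued irreducible character, `|G|⁻¹ ∑ χ(g)² = 1`. -/
theorem sum_sq_of_real {χ : G → ℂ} (hχ : IsIrrCharacter G χ) (hreal : ∀ g, conj (χ g) = χ g) :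
    (Nat.card G : ℂ)⁻¹ * ∑ g, χ g * χ g = 1 := by
  have h := irr_orthogonality hχ hχ
  rw [if_pos rfl] at h
  rw [← h]
  unfold classInner
  congr 1
  apply Finset.sum_congr rfl
  intro g _
  rw [hreal g]

end Basic

section Main

variable {G : Type u} [Group G] [Fintype G] (N : Subgroup G) [hN : N.Normal] [Fintype N]
  {φ : N → ℂ} (hφ : IsIrrCharacter N φ) (I : Subgroup G) [Fintype I] (hNI : N ≤ I)
  (hIle : inertia N φ ≤ I)
  {ψ : I → ℂ} (hψ : IsIrrCharacter I ψ) (hext : ∀ n : N, ψ ⟨n, hNI n.2⟩ = φ n)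
  (hν : fsInd ψ = 1)

include hψ hν in
theorem real_of_fsInd (i : I) : conj (ψ i) = ψ i :=
  (fsInd_ne_zero_iff hψ).mp (by rw [hν]; exact one_ne_zero) i

include hψ hext hν in
theorem real_base (n : N) : conj (φ n) = φ n := by
  rw [← hext]
  exact real_of_fsInd I hψ hν _

include hφ hψ hext hν in
/-- The restriction `φ` has indicator `1`. -/
theorem fsInd_base : fsInd φ = 1 := by
  have h2 := sum_sq_of_real hψ (real_of_fsInd I hψ hν)
  have h3 : (Nat.card N : ℂ)⁻¹ * ∑ x : N, ψ (Subgroup.inclusion hNI x) * ψ (Subgroup.inclusion hNI x)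
      = 1 := by
    rw [← sum_sq_of_real hφ (real_base N I hNI hψ hext hν)]
    congr 1
    apply Finset.sum_congr rfl
    intro n _
    rw [← hext]
    rfl
  have h4 := fsInd_restrict_eq_one (Subgroup.inclusion hNI) (isCharacter_of_isIrrCharacter hψ) hν
    h2 h3
  unfold fsInd
  rw [← h4]
  congr 1
  apply Finset.sum_congr rfl
  intro n _
  rw [← hext]
  rfl

include hψ hν in
/-- The induced character is real-valued. -/
theorem real_indFun (g : G) : conj (indFun I ψ g) = indFun I ψ g := by
  unfold indFun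
  rw [map_mul, map_inv₀, Complex.conj_natCast, map_sum]
  congr 1
  apply Finset.sum_congr rfl
  intro x _
  by_cases hx : x⁻¹ * g * x ∈ I
  · rw [extendByZero_of_mem I ψ hx]
    exact real_of_fsInd I hψ hν _
  · rw [extendByZero_of_not_mem I ψ hx, map_zero]

include hφ hIle hψ hext hν in
/-- **The induced character has indicator `1`**. -/
theorem fsInd_indFun : fsInd (indFun I ψ) = 1 := by
  classical
  letI : Fintype (IrrCharacter N) := irrFintype
  have hres : resFun hNI ψ = φ := by
    funext n
    exact hext n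
  have hne : classInner (resFun hNI ψ) φ ≠ 0 := by
    rw [hres, irr_orthogonality hφ hφ, if_pos rfl]
    exact one_ne_zero
  obtain ⟨hirr, hmult⟩ := clifford_induce_irr N I hNI hφ hIle hψ hne
  rw [hres, irr_orthogonality hφ hφ, if_pos rfl] at hmult
  set χ := indFun I ψ with hχdef
  have hχc := isCharacter_of_isIrrCharacter hirr
  have hcf := isClassFunction_of_isIrrCharacter hirr
  have hχN : IsCharacter N (fun n : N => χ n) := isCharacter_restrict N hχc
  have hreal := real_indFun I hψ hν
  have hνφ := fsInd_base N hφ I hNI hψ hext hν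
  -- the coefficients of the restriction
  set S : Set (IrrCharacter N) := {θ : IrrCharacter N | ∃ g : G, Cfsg.Agent.Helper5.conjFun N g φ = (θ : N → ℂ)}
    with hS
  have hcoef : ∀ θ : IrrCharacter N, classInner (fun n : N => χ n) (θ : N → ℂ) =
      if θ ∈ S then 1 else 0 := by
    intro θ
    split_ifs with hθ
    · obtain ⟨g, hg⟩ := hθ
      rw [← hg, classInner_restrict_conjFun N g hcf φ, hmult]
    · by_contra hne'
      have h1 : classInner (fun n : N => χ n) φ ≠ 0 := by rw [hmult]; exact one_ne_zero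
      obtain ⟨x, hx⟩ := clifford_conj N hirr hφ θ.2 h1 hne'
      exact hθ ⟨x, hx⟩
  obtain ⟨-, hdec⟩ := isCharacter_decomp hχN
  have hνS : ∀ θ : IrrCharacter N, θ ∈ S → fsInd (θ : N → ℂ) = 1 := by
    rintro θ ⟨g, hg⟩
    rw [← hg, ← hνφ]
    unfold fsInd
    congr 1
    have h2 := Equiv.sum_comp (MulAut.conjNormal g : MulAut N).toEquiv (fun n : N => φ (n * n))
    rw [← h2]
    apply Finset.sum_congr rfl
    intro n _
    rw [Cfsg.Agent.Helper5.conjFun_apply]
    apply congrArg φ
    apply Subtype.ext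
    simp only [MulEquiv.toEquiv_eq_coe, MulEquiv.coe_toEquiv, Subgroup.coe_mul,
      MulAut.conjNormal_apply]
    group
  have hA : fsInd (fun n : N => χ n) = ∑ θ : IrrCharacter N, if θ ∈ S then (1 : ℂ) else 0 := by
    conv_lhs => rw [hdec]
    rw [fsInd_sum]
    apply Finset.sum_congr rfl
    intro θ _
    rw [fsInd_smul, hcoef θ]
    split_ifs with hθ
    · rw [hνS θ hθ, mul_one]
    · rw [zero_mul]
  have hB : (Nat.card N : ℂ)⁻¹ * ∑ n : N, χ n * χ n =
      ∑ θ : IrrCharacter N, if θ ∈ S then (1 : ℂ) else 0 := by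
    have h1 : (Nat.card N : ℂ)⁻¹ * ∑ n : N, χ n * χ n =
        classInner (fun n : N => χ n) (fun n : N => χ n) := by
      unfold classInner
      congr 1
      apply Finset.sum_congr rfl
      intro n _
      rw [hreal]
    rw [h1, classInner_eq_sum_mul (isClassFunction_of_isCharacter hχN)]
    apply Finset.sum_congr rfl
    intro θ _
    rw [hcoef θ]
    split_ifs <;> simp
  have hN0 : (Nat.card N : ℂ) ≠ 0 := by exact_mod_cast (Nat.card_pos (α := N)).ne'
  have hAB : ∑ x : N, χ (N.subtype x * N.subtype x) = ∑ x : N, χ (N.subtype x) * χ (N.subtype x) := by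
    have h1 : (Nat.card N : ℂ)⁻¹ * ∑ x : N, χ (N.subtype x * N.subtype x) =
        (Nat.card N : ℂ)⁻¹ * ∑ x : N, χ (N.subtype x) * χ (N.subtype x) := by
      have hA' : fsInd (fun n : N => χ n) =
          (Nat.card N : ℂ)⁻¹ * ∑ x : N, χ (N.subtype x * N.subtype x) := rfl
      rw [← hA', hA]
      exact hB.symm
    exact mul_left_cancel₀ (inv_ne_zero hN0) h1
  rw [fsInd_eq_of_restrict N.subtype hχc hAB]
  exact sum_sq_of_real hirr hreal

end Main

end Cfsg.Agent.Helper24.FSInd
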