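import Mathlib
import Cfsg.Agent.Lib.Helper24.FSInduce
import Cfsg.Agent.Lib.Helper24.CharComplete
import Cfsg.Agent.Lib.Helper24.CharHom
import Cfsg.Agent.Lib.Helper5.Clifford
import Cfsg.Agent.Lib.Helper5.RelDegree
import Cfsg.Agent.S0161

/-!
# Strongly real characters over a normal subgroup of odd index
-/

set_option autoImplicit false
set_option linter.style.haveILetI false

namespace Cfsg.Agent.Helper24.OddReal

open Cfsg Cfsg.Agent.Helper24 Cfsg.Agent.Helper24.FSInd
open scoped ComplexConjugate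

universe u

variable {G : Type u} [Group G]

theorem gcd_two_odd {m : ℕ} (hm : Odd m) : Nat.gcd 2 m = 1 := by
  rcases hm with ⟨k, rfl⟩
  simp

/-- In a group with a normal subgroup of odd index, square roots of elements of `N` lie in `N`. -/
theorem mem_of_sq_mem [Finite G] (N : Subgroup G) [N.Normal] (hodd : Odd N.index) {u : G}
    (h : u * u ∈ N) : u ∈ N := by
  have h1 : ((u : G ⧸ N)) ^ 2 = 1 := by
    rw [pow_two, ← QuotientGroup.mk_mul]
    exact (QuotientGroup.eq_one_iff _).mpr h
  have d1 := orderOf_dvd_of_pow_eq_one h1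
  have d2 : orderOf (u : G ⧸ N) ∣ N.index := by
    rw [Subgroup.index_eq_card]
    exact orderOf_dvd_natCard _
  have hd : orderOf (u : G ⧸ N) ∣ Nat.gcd 2 N.index := Nat.dvd_gcd d1 d2
  rw [gcd_two_odd hodd, Nat.dvd_one, orderOf_eq_one_iff] at hd
  exact (QuotientGroup.eq_one_iff u).mp hd

theorem sqrtCount_subgroup [Fintype G] (N : Subgroup G) [N.Normal] [Fintype N]
    (hodd : Odd N.index) (n : N) : sqrtCount (n : G) = sqrtCount n := by
  classical
  have h1 : sqrtCount (n : G) = ∑ u : G, if u * u = (n : G) then (1 : ℂ) else 0 := by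
    unfold sqrtCount
    apply Finset.sum_congr rfl
    intro u _
    congr
  have h2 : sqrtCount n = ∑ v : N, if v * v = n then (1 : ℂ) else 0 := by
    unfold sqrtCount
    apply Finset.sum_congr rfl
    intro u _
    congr
  rw [h1, h2, sum_eq_sum_subgroup N (fun u => if u * u = (n : G) then (1 : ℂ) else 0)]
  · apply Finset.sum_congr rfl
    intro v _
    have : ((v : G) * (v : G) = (n : G)) ↔ v * v = n := by
      rw [← Subgroup.coe_mul]
      exact Subtype.ext_iff.symm
    simp only [this]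
  · intro x hx
    rw [if_neg]
    intro h
    apply hx
    apply mem_of_sq_mem N hodd
    rw [h]
    exact n.2

/-- `∑ χ, ν(χ) [χ_N, φ] = ν(φ)` for `N` of odd index. -/
theorem sum_fsInd_inner [Fintype G] [Fintype (IrrCharacter G)] (N : Subgroup G) [N.Normal]
    [Fintype N] (hodd : Odd N.index) {φ : N → ℂ} (hφ : IsIrrCharacter N φ) :
    ∑ χ : IrrCharacter G, fsInd (χ : G → ℂ) * classInner (fun n : N => (χ : G → ℂ) n) φ =
      fsInd φ := by
  rw [← classInner_sqrtCount hφ]
  have h1 : sqrtCount (G := N) =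
      ∑ χ : IrrCharacter G, fsInd (χ : G → ℂ) • (fun n : N => (χ : G → ℂ) n) := by
    funext n
    rw [← sqrtCount_subgroup N hodd n, ← sum_fsInd_mul, Finset.sum_apply]
    rfl
  rw [h1, classInner_sum_left]
  apply Finset.sum_congr rfl
  intro χ _
  rw [classInner_smul_left]


open Cfsg.Agent.Helper5 in
/-- Clifford: the multiplicities of the irreducible constituents of `χ_N`. -/
theorem clifford_mult [Fintype G] (N : Subgroup G) [N.Normal] [Fintype N] {χ : G → ℂ}
    (hχ : IsIrrCharacter G χ) {φ ψ : N → ℂ} (hφ : IsIrrCharacter N φ) (hψ : IsIrrCharacter N ψ)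
    (hcon : classInner (fun n : N => χ n) φ ≠ 0) :
    classInner (fun n : N => χ n) ψ =
      if (∃ g : G, Cfsg.Agent.Helper5.conjFun N g φ = ψ) then classInner (fun n : N => χ n) φ
      else 0 := by
  by_cases h : ∃ g : G, Cfsg.Agent.Helper5.conjFun N g φ = ψ
  · rw [if_pos h]
    obtain ⟨g, rfl⟩ := h
    exact classInner_restrict_conjFun N g (isClassFunction_of_isIrrCharacter hχ) φ
  · rw [if_neg h]
    by_contra h0
    exact h (clifford_conj N hχ hφ hψ hcon h0)

open Cfsg.Agent.Helper5 in
/-- For `χ₁, χ₂` over the same `φ`, with `N` of odd index, `[(χ₁)_N, (χ₂)_N]` is odd. -/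
theorem inner_restrict_odd [Fintype G] (N : Subgroup G) [N.Normal] [Fintype N]
    (hodd : Odd N.index) {χ₁ χ₂ : G → ℂ} (h₁ : IsIrrCharacter G χ₁) (h₂ : IsIrrCharacter G χ₂)
    {φ : N → ℂ} (hφ : IsIrrCharacter N φ)
    (hc1 : classInner (fun n : N => χ₁ n) φ ≠ 0) (hc2 : classInner (fun n : N => χ₂ n) φ ≠ 0) :
    ∃ m : ℕ, Odd m ∧ classInner (fun n : N => χ₁ n) (fun n : N => χ₂ n) = m := by
  classical
  letI : Fintype (IrrCharacter N) := irrFintype
  have hχ1N : IsCharacter N (fun n : N => χ₁ n) :=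
    isCharacter_restrict N (isCharacter_of_isIrrCharacter h₁)
  have hχ2N : IsCharacter N (fun n : N => χ₂ n) :=
    isCharacter_restrict N (isCharacter_of_isIrrCharacter h₂)
  obtain ⟨a, ha⟩ := classInner_char_nat hχ1N (isCharacter_of_isIrrCharacter hφ)
  obtain ⟨b, hb⟩ := classInner_char_nat hχ2N (isCharacter_of_isIrrCharacter hφ)
  set Ω := Finset.univ.filter
    (fun ψ : IrrCharacter N => ∃ g : G, Cfsg.Agent.Helper5.conjFun N g φ = (ψ : N → ℂ)) with hΩ
  have hm1 : ∀ ψ : IrrCharacter N, classInner (fun n : N => χ₁ n) (ψ : N → ℂ) =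
      if ψ ∈ Ω then (a : ℂ) else 0 := by
    intro ψ
    rw [clifford_mult N h₁ hφ ψ.2 hc1, ha]
    simp only [hΩ, Finset.mem_filter, Finset.mem_univ, true_and]
  have hm2 : ∀ ψ : IrrCharacter N, classInner (fun n : N => χ₂ n) (ψ : N → ℂ) =
      if ψ ∈ Ω then (b : ℂ) else 0 := by
    intro ψ
    rw [clifford_mult N h₂ hφ ψ.2 hc2, hb]
    simp only [hΩ, Finset.mem_filter, Finset.mem_univ, true_and]
  have hdegΩ : ∀ ψ ∈ Ω, (ψ : N → ℂ) 1 = φ 1 := by
    intro ψ hψ
    obtain ⟨g, hg⟩ := (Finset.mem_filter.mp hψ).2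
    rw [← hg, Cfsg.Agent.Helper5.conjFun_apply]
    congr 1
    apply Subtype.ext
    simp
  -- degrees
  have hdeg : ∀ (χ : G → ℂ) (c : ℕ), IsCharacter N (fun n : N => χ n) →
      (∀ ψ : IrrCharacter N, classInner (fun n : N => χ n) (ψ : N → ℂ) =
        if ψ ∈ Ω then (c : ℂ) else 0) → χ 1 = ((Ω.card * c : ℕ) : ℂ) * φ 1 := by
    intro χ c hχN hm
    have hdec := (isCharacter_decomp hχN).2
    have h1 := congrFun hdec 1
    simp only [Finset.sum_apply, Pi.smul_apply, smul_eq_mul, hm] at h1
    rw [Subgroup.coe_one] at h1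
    rw [h1]
    simp only [ite_mul, zero_mul]
    rw [Finset.sum_ite_mem, Finset.univ_inter]
    rw [Finset.sum_congr rfl (fun ψ hψ => by rw [hdegΩ ψ hψ])]
    rw [Finset.sum_const]
    push_cast
    rw [nsmul_eq_mul]
    ring
  have hφ1 : φ 1 ≠ 0 := by
    rw [irr_one_eq_charDegree hφ]
    have := charDegree_pos hφ
    exact_mod_cast this.ne'
  have hoddk : ∀ (χ : G → ℂ) (c : ℕ), IsIrrCharacter G χ →
      classInner (fun n : N => χ n) φ ≠ 0 → χ 1 = ((Ω.card * c : ℕ) : ℂ) * φ 1 →
      Odd (Ω.card * c) := by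
    intro χ c hχ hcon hχ1
    obtain ⟨k, hk, hkdvd⟩ := degree_eq_mul_of_constituent N hχ hφ hcon
    rw [hχ1] at hk
    have : ((Ω.card * c : ℕ) : ℂ) = (k : ℂ) := mul_right_cancel₀ hφ1 hk
    have h3 : Ω.card * c = k := by exact_mod_cast this
    rw [h3]
    exact Odd.of_dvd_nat hodd hkdvd
  have ho1 := hoddk χ₁ a h₁ hc1 (hdeg χ₁ a hχ1N hm1)
  have ho2 := hoddk χ₂ b h₂ hc2 (hdeg χ₂ b hχ2N hm2)
  refine ⟨Ω.card * a * b, ?_, ?_⟩
  · have hΩo : Odd Ω.card := (Nat.odd_mul.mp ho1).1
    have hao : Odd a := (Nat.odd_mul.mp ho1).2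
    have hbo : Odd b := (Nat.odd_mul.mp ho2).2
    exact (hΩo.mul hao).mul hbo
  · have hdec2 := (isCharacter_decomp hχ2N).2
    conv_lhs => rw [hdec2]
    rw [classInner_sum_right]
    simp only [classInner_smul_right, hm1, hm2]
    have : ∀ ψ : IrrCharacter N, conj (if ψ ∈ Ω then (b : ℂ) else 0) *
        (if ψ ∈ Ω then (a : ℂ) else 0) = if ψ ∈ Ω then ((a * b : ℕ) : ℂ) else 0 := by
      intro ψ
      by_cases h : ψ ∈ Ω
      · simp only [if_pos h, Complex.conj_natCast]
        push_cast
        ring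
      · simp only [if_neg h, map_zero, zero_mul]
    simp only [this]
    rw [Finset.sum_ite_mem, Finset.univ_inter, Finset.sum_const, nsmul_eq_mul]
    push_cast
    ring


/-- The complex conjugate irreducible character. -/
noncomputable def cbar [Fintype G] (β : IrrCharacter G) : IrrCharacter G :=
  ⟨fun h => conj ((β : G → ℂ) h), by
    classical
    letI := irrFintype (G := G)
    exact isIrrCharacter_conj β.2⟩

theorem cbar_apply [Fintype G] (β : IrrCharacter G) (h : G) :
    (cbar β : G → ℂ) h = conj ((β : G → ℂ) h) := rfl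

theorem cbar_cbar [Fintype G] (β : IrrCharacter G) : cbar (cbar β) = β := by
  apply Subtype.ext
  funext x
  rw [cbar_apply, cbar_apply, Complex.conj_conj]

theorem classInner_conj_conj' [Fintype G] (f g : G → ℂ) :
    classInner (fun h => conj (f h)) (fun h => conj (g h)) = conj (classInner f g) := by
  simp only [classInner, map_mul, map_inv₀, map_natCast, map_sum]

/-- Multiplicities in a real character are invariant under complex conjugation. -/
theorem mult_cbar [Fintype G] {Θ : G → ℂ} (hreal : ∀ g, conj (Θ g) = Θ g) (χ : IrrCharacter G)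
    (k : ℕ) (hk : classInner Θ (χ : G → ℂ) = k) : classInner Θ (cbar χ : G → ℂ) = k := by
  have h1 : Θ = fun g => conj (Θ g) := by funext g; exact (hreal g).symm
  have h2 : (cbar χ : G → ℂ) = fun g => conj ((χ : G → ℂ) g) := rfl
  rw [h2, h1, classInner_conj_conj', hk, Complex.conj_natCast]

theorem conj_indFun_one [Fintype G] (N : Subgroup G) (g : G) :
    conj (indFun N (fun _ => (1 : ℂ)) g) = indFun N (fun _ => (1 : ℂ)) g := by
  rw [indFun_apply, map_mul, map_inv₀, Complex.conj_natCast, map_sum]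
  congr 1
  apply Finset.sum_congr rfl
  intro x _
  by_cases h : x⁻¹ * g * x ∈ N
  · rw [extendByZero_of_mem N _ h, map_one]
  · rw [extendByZero_of_not_mem N _ h, map_zero]

open Cfsg.Agent.Helper5 in
/-- A real irreducible character with `1_N` under it, `N` of odd index, is principal. -/
theorem eq_one_of_real_of_over_one [Fintype G] (N : Subgroup G) [N.Normal] [Fintype N]
    (hodd : Odd N.index) (χ : IrrCharacter G) (hreal : ∀ g, conj ((χ : G → ℂ) g) = (χ : G → ℂ) g)
    (hcon : classInner (fun n : N => (χ : G → ℂ) n) (fun _ => (1 : ℂ)) ≠ 0) :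
    (χ : G → ℂ) = fun _ => 1 := by
  have hinv : ∀ g : G, Cfsg.Agent.Helper5.conjFun N g (fun _ : N => (1 : ℂ)) = fun _ => 1 := by
    intro g
    funext n
    rw [Cfsg.Agent.Helper5.conjFun_apply]
  obtain ⟨e, -, -, he⟩ := restrict_eq_smul_of_invariant N χ.2 isIrrCharacter_one hinv hcon
  have hval : ∀ n ∈ N, (χ : G → ℂ) n = e := by
    intro n hn
    have := congrFun he ⟨n, hn⟩
    simpa using this
  have hN : ∀ n ∈ N, (χ : G → ℂ) n = (χ : G → ℂ) 1 := by
    intro n hn
    rw [hval n hn, hval 1 N.one_mem]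
  obtain ⟨ψ, hψ, hχψ⟩ := exists_deflate N χ.2 hN
  have hoddq : Odd (Nat.card (G ⧸ N)) := by
    rw [← Subgroup.index_eq_card]
    exact hodd
  have hψreal : ∀ x : G ⧸ N, (ψ x).im = 0 := by
    intro x
    obtain ⟨g, rfl⟩ := QuotientGroup.mk_surjective x
    have h1 : ψ (QuotientGroup.mk g) = (χ : G → ℂ) g := by rw [hχψ]; rfl
    rw [h1]
    exact Complex.conj_eq_iff_im.mp (hreal g)
  have h161 := Cfsg.Agent.S0161.result hoddq ⟨ψ, hψ⟩ hψreal
  rw [hχψ]
  funext g
  have := congrFun h161 (QuotientGroup.mk g)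
  exact this

/-- Parity: for a real character `Θ` and `N` of odd index, `[Θ_N, 1_N] ≡ [Θ, 1_G] mod 2`. -/
theorem parity_inner [Fintype G] (N : Subgroup G) [N.Normal] [Fintype N] (hodd : Odd N.index)
    {Θ : G → ℂ} (hΘ : IsCharacter G Θ) (hreal : ∀ g, conj (Θ g) = Θ g) :
    ∃ m k : ℕ, classInner (fun n : N => Θ n) (fun _ => (1 : ℂ)) = m ∧
      classInner Θ (fun _ => (1 : ℂ)) = k ∧ Even (m + k) := by
  classical
  letI : Fintype (IrrCharacter G) := irrFintype
  have hRc : IsCharacter G (indFun N (fun _ => (1 : ℂ))) := isCharacter_indFun N isCharacter_one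
  obtain ⟨hr, hRdec⟩ := isCharacter_decomp hRc
  choose r hr using hr
  obtain ⟨hθ, -⟩ := isCharacter_decomp hΘ
  choose θ hθ using hθ
  have hfr : ∀ ψ : G → ℂ, IsClassFunction G ψ →
      classInner (fun n : N => ψ n) (fun _ => (1 : ℂ)) =
        classInner ψ (indFun N (fun _ => (1 : ℂ))) := by
    intro ψ hψ
    rw [← classInner_conj_symm, ← frobenius_reciprocity N _ hψ, classInner_conj_symm]
  have h1 := hfr Θ (isClassFunction_of_isCharacter hΘ)
  have h2 : classInner Θ (indFun N (fun _ => (1 : ℂ))) =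
      ((∑ χ : IrrCharacter G, r χ * θ χ : ℕ) : ℂ) := by
    conv_lhs => rw [hRdec]
    rw [classInner_sum_right]
    push_cast
    apply Finset.sum_congr rfl
    intro χ _
    rw [classInner_smul_right, hr χ, hθ χ, Complex.conj_natCast]
  -- the principal character
  have hr1 : r (principalChar G) = 1 := by
    have h3 : classInner (indFun N (fun _ => (1 : ℂ))) ((principalChar G : IrrCharacter G) : G → ℂ)
        = 1 := by
      rw [frobenius_reciprocity N _ (isClassFunction_of_isIrrCharacter (principalChar G).2)]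
      have := irr_orthogonality (isIrrCharacter_one (G := N)) (isIrrCharacter_one (G := N))
      rw [if_pos rfl] at this
      exact this
    rw [hr] at h3
    exact_mod_cast h3
  have hrc : ∀ χ, r (cbar χ) = r χ := by
    intro χ
    have := mult_cbar (conj_indFun_one N) χ (r χ) (hr χ)
    rw [hr] at this
    exact_mod_cast this
  have hθc : ∀ χ, θ (cbar χ) = θ χ := by
    intro χ
    have := mult_cbar hreal χ (θ χ) (hθ χ)
    rw [hθ] at this
    exact_mod_cast this
  have hsplit : ∑ χ : IrrCharacter G, r χ * θ χ =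
      θ (principalChar G) + ∑ χ ∈ Finset.univ.erase (principalChar G), r χ * θ χ := by
    have h := Finset.add_sum_erase Finset.univ (fun χ : IrrCharacter G => r χ * θ χ)
      (Finset.mem_univ (principalChar G))
    simp only [hr1, one_mul] at h
    exact h.symm
  have hzero : ((∑ χ ∈ Finset.univ.erase (principalChar G), r χ * θ χ : ℕ) : ZMod 2) = 0 := by
    push_cast
    refine Finset.sum_involution (fun χ _ => cbar χ) ?_ ?_ ?_ ?_
    · intro χ _
      rw [hrc, hθc]
      exact CharTwo.add_self_eq_zero _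
    · intro χ hχ hne heq
      apply hne
      have hχreal : ∀ g, conj ((χ : G → ℂ) g) = (χ : G → ℂ) g := by
        intro g
        have := congrArg (fun γ : IrrCharacter G => (γ : G → ℂ) g) heq
        simpa [cbar_apply] using this
      have hr0 : r χ = 0 := by
        by_contra hr0
        have h4 : classInner (fun n : N => (χ : G → ℂ) n) (fun _ => (1 : ℂ)) ≠ 0 := by
          rw [hfr _ (isClassFunction_of_isIrrCharacter χ.2), ← classInner_conj_symm, hr χ,
            Complex.conj_natCast]
          exact_mod_cast hr0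
        have h5 := eq_one_of_real_of_over_one N hodd χ hχreal h4
        apply (Finset.mem_erase.mp hχ).1
        apply Subtype.ext
        exact h5
      rw [hr0]
      simp
    · intro χ hχ
      rw [Finset.mem_erase]
      refine ⟨?_, Finset.mem_univ _⟩
      intro h
      apply (Finset.mem_erase.mp hχ).1
      rw [← cbar_cbar χ, h]
      apply Subtype.ext
      funext g
      rw [cbar_apply]
      show conj (1 : ℂ) = 1
      rw [map_one]
    · intro χ _
      exact cbar_cbar χ
  refine ⟨∑ χ : IrrCharacter G, r χ * θ χ, θ (principalChar G), ?_, hθ (principalChar G), ?_⟩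
  · rw [h1, h2]
  · rw [← ZMod.natCast_eq_zero_iff_even, hsplit]
    push_cast at hzero ⊢
    rw [hzero, add_zero]
    exact CharTwo.add_self_eq_zero _

end Cfsg.Agent.Helper24.OddReal
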