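import Mathlib
import Cfsg.Prelude.Def_Blocks
import Cfsg.Prelude.Def_CharExt
import Cfsg.Agent.Lib.Helper24.DetTrace
import Cfsg.Agent.Lib.Helper24.CoprimeDegree
import Cfsg.Agent.Lib.Helper18.GaloisConj

/-!
# Galois invariance of the canonical extension (helper24's shared library)

For `G ⊲ Γ` of index prime to `|G|` and an extension `χ̂ ∈ Irr(Γ)` of `χ ∈ Irr(G)` whose
determinantal order is prime to the index, `χ̂ (y ^ k) = χ̂ y` for all `k ≡ 1 (mod |G|)` prime to
`|Γ|`.
-/

set_option autoImplicit false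
set_option linter.style.haveILetI false
set_option linter.unusedSectionVars false

namespace Cfsg.Agent.Helper24.CanonExt

open Cfsg Cfsg.Agent.Helper24 Cfsg.Agent.Helper5 Cfsg.Agent.Helper18 Cfsg.Agent.Helper24.CopDeg

universe u

section

variable {Γ : Type u} [Group Γ] [Finite Γ]

/-- The determinantal character of a power twist. -/
theorem detChar_comp_pow {χ : Γ → ℂ} (hχ : IsCharacter Γ χ) {k : ℕ}
    (hψ : IsCharacter Γ (fun y => χ (y ^ k))) (y : Γ) :
    detChar (fun y => χ (y ^ k)) y = detChar χ (y ^ k) := by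
  obtain ⟨m, R, hR, hdet⟩ := exists_rep_detChar hχ
  obtain ⟨m', R', hR', hdet'⟩ := exists_rep_detChar hψ
  rw [hdet, hdet']
  have hpos : 0 < Nat.card Γ := Nat.card_pos
  apply DetTrace.det_eq_of_trace_pow_eq (R' y) (R (y ^ k)) hpos
  · rw [← map_pow, pow_card_eq_one', map_one]
  · rw [← map_pow, pow_card_eq_one', map_one]
  · intro i
    rw [← map_pow, ← map_pow]
    have h1 : LinearMap.trace ℂ (Fin m' → ℂ) (R' (y ^ i)) = R'.character (y ^ i) := rfl
    have h2 : LinearMap.trace ℂ (Fin m → ℂ) (R ((y ^ k) ^ i)) = R.character ((y ^ k) ^ i) := rfl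
    rw [h1, h2, hR, hR']
    show χ ((y ^ i) ^ k) = χ ((y ^ k) ^ i)
    rw [← pow_mul, ← pow_mul, mul_comm]

/-- **Galois invariance of the canonical extension.** -/
theorem comp_pow_eq_of_canonical (G : Subgroup Γ) [hG : G.Normal] {χh : Γ → ℂ}
    (hχh : IsIrrCharacter Γ χh) (hres : IsIrrCharacter G (fun g : G => χh g))
    (hcop : (Nat.card G).Coprime G.index) (hdet : (detOrder χh).Coprime G.index)
    {k : ℕ} (hk : (Nat.card Γ).Coprime k) (hk1 : k ≡ 1 [MOD Nat.card G]) (y : Γ) :
    χh (y ^ k) = χh y := by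
  classical
  letI : Fintype Γ := Fintype.ofFinite Γ
  letI : Fintype G := Fintype.ofFinite G
  have hχc := isCharacter_of_isIrrCharacter hχh
  set ψ : Γ → ℂ := fun y => χh (y ^ k) with hψdef
  have hψ : IsIrrCharacter Γ ψ := isIrrCharacter_comp_pow hχh hk
  have hψc := isCharacter_of_isIrrCharacter hψ
  -- `ψ` extends the same character of `G`
  have hpowG : ∀ g : G, (g : Γ) ^ k = g := by
    intro g
    have h1 : (g : G) ^ k = g := by
      have h3 : k % Nat.card G = 1 % Nat.card G := hk1
      rw [← pow_mod_natCard, h3, pow_mod_natCard, pow_one]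
    have := congrArg Subtype.val h1
    simpa using this
  have hinv : Inv G (fun g : G => χh g) := inv_restrict G (isClassFunction_of_isIrrCharacter hχh)
  obtain ⟨μ, hμker, hμ⟩ := exists_twist G hres hinv hχh (fun n => rfl) hψ
    (fun n => by show χh ((n : Γ) ^ k) = χh n; rw [hpowG n])
  -- determinants
  obtain ⟨d, hdpos, hd⟩ := irr_one_eq hχh
  have hdG : d ∣ Nat.card G := by
    have h1 := charDegree_dvd_card hres
    have h2 : charDegree (fun g : G => χh g) = d := by
      apply charDegree_natCast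
      show χh ((1 : G) : Γ) = d
      rw [Subgroup.coe_one, hd]
    rwa [h2] at h1
  have hdet1 : ∀ y : Γ, detChar ψ y = ((μ y : ℂˣ) : ℂ) ^ d * detChar χh y := by
    intro y
    have h1 : ψ = fun g => ((μ g : ℂˣ) : ℂ) * χh g := funext hμ
    rw [h1]
    exact detChar_twist μ hχh d hd y
  have hdet2 : ∀ y : Γ, detChar ψ y = detChar χh y ^ k := by
    intro y
    rw [hψdef, detChar_comp_pow hχc hψc y, ← detHom_apply hχc, map_pow, Units.val_pow_eq_pow_val,
      detHom_apply]
  set o := detOrder χh with ho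
  have hdo : ∀ y : Γ, detChar χh y ^ o = 1 := by
    intro y
    have h1 : detChar χh ^ o = 1 := pow_orderOf_eq_one (detChar χh)
    have := congrFun h1 y
    simpa using this
  -- `μ y` has order dividing `d * o` and the index
  have hμ1 : ∀ y : Γ, μ y = 1 := by
    intro y
    have h1 : ((μ y : ℂˣ) : ℂ) ^ (d * o) = 1 := by
      have e1 := hdet1 y
      rw [hdet2 y] at e1
      have hne : detChar χh y ≠ 0 := by
        rw [← detHom_apply hχc]
        exact Units.ne_zero _
      have e2 : ((μ y : ℂˣ) : ℂ) ^ d = detChar χh y ^ k / detChar χh y := by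
        rw [e1]; field_simp
      rw [pow_mul, e2, div_pow, ← pow_mul, mul_comm k o, pow_mul, hdo y, one_pow, one_div,
        inv_one]
    have h2 : μ y ^ G.index = 1 := by
      rw [← map_pow]
      have : y ^ G.index ∈ G := by
        have h3 : (QuotientGroup.mk y : Γ ⧸ G) ^ G.index = 1 := by
          rw [Subgroup.index_eq_card]
          exact pow_card_eq_one'
        rw [← QuotientGroup.mk_pow] at h3
        exact (QuotientGroup.eq_one_iff _).mp h3
      exact hμker this
    have h3 : μ y ^ (d * o) = 1 := by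
      apply Units.ext
      rw [Units.val_pow_eq_pow_val, h1, Units.val_one]
    have hcop2 : (d * o).Coprime G.index :=
      Nat.Coprime.mul_left (Nat.Coprime.coprime_dvd_left hdG hcop) hdet
    have h4 : orderOf (μ y) ∣ 1 := by
      rw [← Nat.Coprime.gcd_eq_one hcop2]
      exact Nat.dvd_gcd (orderOf_dvd_of_pow_eq_one h3) (orderOf_dvd_of_pow_eq_one h2)
    exact orderOf_eq_one_iff.mp (Nat.dvd_one.mp h4)
  have := hμ y
  rw [hμ1 y, Units.val_one, one_mul] at this
  exact this

end

end Cfsg.Agent.Helper24.CanonExt
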