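import Mathlib
import Cfsg.Agent.Lib.Helper18.CliffordCorr
import Cfsg.Agent.Lib.Helper24.Cd2Basic
import Cfsg.Prelude.Def_Solvable

/-!
# Characters with root-of-unity values on `p`-singular elements (helper24)

Shared definitions for S4751.
-/

set_option autoImplicit false
set_option linter.style.haveILetI false

namespace Cfsg.Agent.Helper24.RU

open Cfsg Cfsg.Agent.Helper24 Cfsg.Agent.Helper5 Cfsg.Agent.Helper18
open scoped ComplexConjugate

universe u

/-- The hypotheses on the character. -/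
structure Hyp (G : Type u) [Group G] (p : ℕ) (χ : G → ℂ) : Prop where
  irr : IsIrrCharacter G χ
  faith : ∀ g : G, χ g = χ 1 → g = 1
  nl : χ 1 ≠ 1
  root : ∀ g : G, p ∣ orderOf g → ∃ n : ℕ, 0 < n ∧ χ g ^ n = 1

/-- The shape of the restriction of `χ` to the subgroup `P`: it is the regular character minus the
principal character, and `P` is abelian of order at least `3`. -/
structure Res {G : Type u} [Group G] (χ : G → ℂ) (P : Subgroup G) : Prop where
  deg : χ 1 = (Nat.card P : ℂ) - 1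
  val : ∀ x ∈ P, x ≠ 1 → χ x = -1
  comm : ∀ x ∈ P, ∀ y ∈ P, x * y = y * x
  three_le : 3 ≤ Nat.card P

/-- Transitivity on the nonprincipal linear characters, in the form of the frozen statement. -/
def Trans {G : Type u} [Group G] (P : Subgroup G) : Prop :=
  ∀ lam mu : P → ℂ, IsCharacter P lam → lam 1 = 1 → lam ≠ (fun _ => (1 : ℂ)) →
    IsCharacter P mu → mu 1 = 1 → mu ≠ (fun _ => (1 : ℂ)) →
    ∃ g : G, ∀ (x : G) (hx : x ∈ P) (hgx : g * x * g⁻¹ ∈ P), mu ⟨x, hx⟩ = lam ⟨g * x * g⁻¹, hgx⟩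

variable {G : Type u} [Group G]

theorem Hyp.norm_eq_one {p : ℕ} {χ : G → ℂ} (h : Hyp G p χ) {g : G} (hg : p ∣ orderOf g) :
    ‖χ g‖ = 1 := by
  obtain ⟨n, hn, hpow⟩ := h.root g hg
  have h1 : ‖χ g‖ ^ n = 1 := by rw [← norm_pow, hpow, norm_one]
  exact (pow_eq_one_iff_of_nonneg (norm_nonneg _) hn.ne').mp h1

theorem Hyp.normSq_eq_one {p : ℕ} {χ : G → ℂ} (h : Hyp G p χ) {g : G} (hg : p ∣ orderOf g) :
    Complex.normSq (χ g) = 1 := by
  rw [Complex.normSq_eq_norm_sq, h.norm_eq_one hg, one_pow]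

/-- A nonidentity element of a `p`-group has order divisible by `p`. -/
theorem dvd_orderOf_of_isPGroup {p : ℕ} [Fact p.Prime] {B : Subgroup G} (hB : IsPGroup p B)
    {g : G} (hg : g ∈ B) (hg1 : g ≠ 1) : p ∣ orderOf g := by
  obtain ⟨k, hk⟩ := hB ⟨g, hg⟩
  have h1 : g ^ p ^ k = 1 := by
    have := congrArg Subtype.val hk
    simpa using this
  have h2 : orderOf g ∣ p ^ k := orderOf_dvd_of_pow_eq_one h1
  obtain ⟨j, -, hj⟩ := (Nat.dvd_prime_pow (Fact.out : p.Prime)).mp h2
  rcases Nat.eq_zero_or_pos j with h0 | hpos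
  · rw [h0, pow_zero, orderOf_eq_one_iff] at hj
    exact absurd hj hg1
  · rw [hj]
    exact dvd_pow_self p hpos.ne'

/-- `O_p(G)` is normal. -/
theorem pCore_normal (p : ℕ) (G : Type u) [Group G] : (pCore p G).Normal :=
  Subgroup.sSup_normal _ (fun _ h => h.1)

/-- `O_p(G)` is a `p`-group. -/
theorem pCore_isPGroup (p : ℕ) (G : Type u) [Group G] : IsPGroup p (pCore p G) :=
  Sylow.sSup_of_normal _ (fun _ h => h.2) (fun _ h => h.1)

/-- A normal `p`-subgroup lies in `O_p(G)`. -/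
theorem le_pCore {p : ℕ} {N : Subgroup G} (hN : N.Normal) (hp : IsPGroup p N) : N ≤ pCore p G :=
  le_sSup ⟨hN, hp⟩

end Cfsg.Agent.Helper24.RU
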