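import Mathlib
import Cfsg.Agent.Lib.Helper24.FSInduce
import Cfsg.Agent.Lib.Helper24.CharComplete
import Cfsg.Agent.Lib.Helper18.PermCharOrbits

/-!
# Self-paired orbitals and the Frobenius–Schur indicator of a permutation character

If every pair of points of a `G`-set is swapped by some element of `G`, then the permutation
character `π` satisfies `ν(π) = [π, π]`, hence it is multiplicity free and all its
constituents have Frobenius–Schur indicator `+1`.
-/

set_option autoImplicit false
set_option linter.style.haveILetI false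

namespace Cfsg.Agent.Helper24.SelfPaired

open Cfsg Cfsg.Agent.Helper24 Cfsg.Agent.Helper18 Cfsg.Agent.Helper24.FSInd
open scoped ComplexConjugate

universe u v

section Action

variable {G : Type u} [Group G] [Fintype G] {X : Type v} [MulAction G X] [Fintype X]
  [DecidableEq X]

/-- If every pair of points is swapped by some group element, then `∑ fix(g)² = ∑ fix(g²)`. -/
theorem sum_fix_sq (hswap : ∀ a b : X, ∃ s : G, s • a = b ∧ s • b = a) :
    ∑ g : G, ((∑ a : X, if g • a = a then (1 : ℂ) else 0) *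
        (∑ a : X, if g • a = a then (1 : ℂ) else 0)) =
      ∑ g : G, ∑ a : X, if (g * g) • a = a then (1 : ℂ) else 0 := by
  classical
  have hL : ∀ g : G, (∑ a : X, if g • a = a then (1 : ℂ) else 0) *
      (∑ a : X, if g • a = a then (1 : ℂ) else 0)
      = ∑ a : X, ∑ b : X, if (g • a = a ∧ g • b = b) then (1 : ℂ) else 0 := by
    intro g
    rw [Finset.sum_mul_sum]
    apply Finset.sum_congr rfl; intro a _
    apply Finset.sum_congr rfl; intro b _
    by_cases h1 : g • a = a <;> by_cases h2 : g • b = b <;> simp [h1, h2]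
  have hR : ∀ g : G, (∑ a : X, if (g * g) • a = a then (1 : ℂ) else 0)
      = ∑ a : X, ∑ b : X, if (g • a = b ∧ g • b = a) then (1 : ℂ) else 0 := by
    intro g
    apply Finset.sum_congr rfl; intro a _
    rw [Finset.sum_eq_single (g • a)]
    · simp [mul_smul]
    · intro b _ hb
      rw [if_neg]
      intro h
      exact hb h.1.symm
    · intro h; exact absurd (Finset.mem_univ _) h
  simp only [hL, hR]
  rw [Finset.sum_comm]
  conv_rhs => rw [Finset.sum_comm]
  apply Finset.sum_congr rfl; intro a _
  rw [Finset.sum_comm]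
  conv_rhs => rw [Finset.sum_comm]
  apply Finset.sum_congr rfl; intro b _
  obtain ⟨s, hs1, hs2⟩ := hswap a b
  apply Fintype.sum_equiv (Equiv.mulLeft s)
  intro g
  simp only [Equiv.coe_mulLeft, mul_smul]
  by_cases h : g • a = a ∧ g • b = b
  · rw [if_pos h, if_pos]
    rw [h.1, h.2]
    exact ⟨hs1, hs2⟩
  · rw [if_neg h, if_neg]
    intro h'
    apply h
    constructor
    · have : s • g • a = s • a := by rw [h'.1, hs1]
      exact smul_left_cancel s this
    · have : s • g • b = s • b := by rw [h'.2, hs2]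
      exact smul_left_cancel s this

omit [Fintype G] in
theorem permChar_eq_sum (g : G) :
    permChar G X g = ∑ a : X, if g • a = a then (1 : ℂ) else 0 := by
  classical
  rw [permChar_apply, Finset.sum_boole]
  congr 1
  rw [Nat.card_eq_fintype_card]
  rw [← Finset.card_subtype]
  simp only [Finset.subtype_univ, Finset.card_univ]
  apply Fintype.card_congr
  exact Equiv.subtypeEquivRight (fun x => by simp [MulAction.mem_fixedBy])

/-- If all pairs are swapped, the Frobenius–Schur indicator of the permutation character equals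
its norm. -/
theorem fsInd_permChar (hswap : ∀ a b : X, ∃ s : G, s • a = b ∧ s • b = a) :
    fsInd (permChar G X) = classInner (permChar G X) (permChar G X) := by
  classical
  unfold fsInd classInner
  congr 1
  have h1 : ∀ g : G, permChar G X g * conj (permChar G X g) =
      (∑ a : X, if g • a = a then (1 : ℂ) else 0) *
        (∑ a : X, if g • a = a then (1 : ℂ) else 0) := by
    intro g
    rw [conj_permChar, permChar_eq_sum]
  simp only [h1]
  simp only [permChar_eq_sum]
  exact (sum_fix_sq hswap).symm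

end Action

section Mult

variable {G : Type u} [Group G] [Fintype G]

/-- A character whose Frobenius–Schur indicator equals its norm is multiplicity free with all
constituents of indicator `+1`. -/
theorem mult_free_of_fsInd_eq_inner {Θ : G → ℂ} (hΘ : IsCharacter G Θ)
    (h : fsInd Θ = classInner Θ Θ) (χ : IrrCharacter G)
    (hχ : classInner Θ (χ : G → ℂ) ≠ 0) :
    classInner Θ (χ : G → ℂ) = 1 ∧ fsInd (χ : G → ℂ) = 1 := by
  classical
  letI : Fintype (IrrCharacter G) := irrFintype
  obtain ⟨hm, hdec⟩ := isCharacter_decomp hΘ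
  choose m hm using hm
  have hn : ∀ ψ : IrrCharacter G, ∃ n : ℤ, fsInd (ψ : G → ℂ) = n ∧ n ≤ 1 := by
    intro ψ
    rcases fsInd_cases ψ.2 with ⟨-, h2 | h2⟩ | ⟨-, h2⟩
    · exact ⟨1, by rw [h2]; simp, le_refl _⟩
    · exact ⟨-1, by rw [h2]; simp, by norm_num⟩
    · exact ⟨0, by rw [h2]; simp, by norm_num⟩
  choose n hn1 hn2 using hn
  have e1 : fsInd Θ = ∑ ψ : IrrCharacter G, (m ψ : ℂ) * (n ψ : ℂ) := by
    have := congrArg fsInd hdec
    rw [this, fsInd_sum]
    apply Finset.sum_congr rfl
    intro ψ _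
    rw [fsInd_smul, hm ψ, hn1 ψ]
  have e2 : classInner Θ Θ = ∑ ψ : IrrCharacter G, (m ψ : ℂ) * (m ψ : ℂ) := by
    have : classInner Θ Θ = classInner Θ (∑ ψ : IrrCharacter G,
        classInner Θ (ψ : G → ℂ) • (ψ : G → ℂ)) := by
      conv_lhs => rw [hdec]
      rw [← hdec]
    rw [this, classInner_sum_right]
    apply Finset.sum_congr rfl
    intro ψ _
    rw [classInner_smul_right, hm ψ, Complex.conj_natCast]
  rw [e1, e2] at h
  have h' : ∑ ψ : IrrCharacter G, (m ψ : ℤ) * ((m ψ : ℤ) - n ψ) = 0 := by
    have h2 : ((∑ ψ : IrrCharacter G, (m ψ : ℤ) * n ψ : ℤ) : ℂ) =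
        ((∑ ψ : IrrCharacter G, (m ψ : ℤ) * (m ψ : ℤ) : ℤ) : ℂ) := by
      push_cast
      exact h
    have h3 : ∑ ψ : IrrCharacter G, (m ψ : ℤ) * n ψ =
        ∑ ψ : IrrCharacter G, (m ψ : ℤ) * (m ψ : ℤ) := by exact_mod_cast h2
    simp only [mul_sub, Finset.sum_sub_distrib]
    rw [h3]; ring
  have hnonneg : ∀ ψ ∈ (Finset.univ : Finset (IrrCharacter G)),
      0 ≤ (m ψ : ℤ) * ((m ψ : ℤ) - n ψ) := by
    intro ψ _
    by_cases h0 : m ψ = 0
    · simp [h0]
    · have h1 : (1 : ℤ) ≤ (m ψ : ℤ) := by
        have : 1 ≤ m ψ := Nat.one_le_iff_ne_zero.mpr h0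
        exact_mod_cast this
      have := hn2 ψ
      apply mul_nonneg <;> linarith
  have hz := (Finset.sum_eq_zero_iff_of_nonneg hnonneg).mp h' χ (Finset.mem_univ _)
  have hm0 : m χ ≠ 0 := by
    intro h0
    apply hχ
    rw [hm χ, h0]; simp
  have h1 : (1 : ℤ) ≤ (m χ : ℤ) := by
    have : 1 ≤ m χ := Nat.one_le_iff_ne_zero.mpr hm0
    exact_mod_cast this
  have h2 : (m χ : ℤ) - n χ = 0 := by
    rcases mul_eq_zero.mp hz with h | h
    · omega
    · exact h
  have h3 := hn2 χ
  have h4 : (m χ : ℤ) = 1 := by omega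
  have h5 : n χ = 1 := by omega
  constructor
  · rw [hm χ]
    have : m χ = 1 := by exact_mod_cast h4
    rw [this]; simp
  · rw [hn1 χ, h5]; simp

/-- The number of distinct irreducible constituents of a character is at most its degree. -/
theorem card_le_of_constituents {Θ : G → ℂ} (hΘ : IsCharacter G Θ)
    (S : Finset (IrrCharacter G)) (hS : ∀ μ ∈ S, classInner Θ (μ : G → ℂ) ≠ 0)
    (d : ℕ) (hd : Θ 1 = d) : S.card ≤ d := by
  classical
  letI : Fintype (IrrCharacter G) := irrFintype
  obtain ⟨hm, hdec⟩ := isCharacter_decomp hΘ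
  choose m hm using hm
  have h1 : (d : ℂ) = ((∑ μ : IrrCharacter G, m μ * charDegree (μ : G → ℂ) : ℕ) : ℂ) := by
    rw [← hd]
    have := congrFun hdec 1
    rw [this]
    push_cast
    rw [Finset.sum_apply]
    apply Finset.sum_congr rfl
    intro μ _
    rw [Pi.smul_apply, smul_eq_mul, hm μ, irr_one_eq_charDegree μ.2]
  have h2 : d = ∑ μ : IrrCharacter G, m μ * charDegree (μ : G → ℂ) := by exact_mod_cast h1
  rw [h2]
  calc S.card = ∑ μ ∈ S, 1 := by simp
    _ ≤ ∑ μ ∈ S, m μ * charDegree (μ : G → ℂ) := by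
        apply Finset.sum_le_sum
        intro μ hμ
        have hm0 : m μ ≠ 0 := by
          intro h0
          apply hS μ hμ
          rw [hm μ, h0]; simp
        have h3 : 1 ≤ m μ := Nat.one_le_iff_ne_zero.mpr hm0
        have h4 : 1 ≤ charDegree (μ : G → ℂ) := charDegree_pos μ.2
        calc 1 = 1 * 1 := rfl
          _ ≤ m μ * charDegree (μ : G → ℂ) := Nat.mul_le_mul h3 h4
    _ ≤ ∑ μ : IrrCharacter G, m μ * charDegree (μ : G → ℂ) := by
        apply Finset.sum_le_sum_of_subset
        exact Finset.subset_univ S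

end Mult

end Cfsg.Agent.Helper24.SelfPaired
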