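import Mathlib

/-!
# A 2-group acting on a minimal normal abelian subgroup: the inverting central involution
-/

set_option autoImplicit false
set_option linter.style.haveILetI false

namespace Cfsg.Agent.Helper24.SemiTwo

universe u

variable {G : Type u} [Group G]

/-- `G = N P` as elements. -/
theorem exists_mul_of_sup_eq_top (N P : Subgroup G) [N.Normal] (hprod : N ⊔ P = ⊤) (g : G) :
    ∃ n ∈ N, ∃ y ∈ P, n * y = g := by
  have hg : g ∈ ((N ⊔ P : Subgroup G) : Set G) := by rw [hprod]; trivial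
  rw [Subgroup.normal_mul] at hg
  obtain ⟨n, hn, y, hy, h⟩ := Set.mem_mul.mp hg
  exact ⟨n, hn, y, hy, h⟩

/-- In `G = N ⋊ P` with `N` abelian and the unique minimal normal subgroup, `P ≠ 1` a `2`-group:
there is a central involution of `P` inverting `N`. -/
theorem exists_inverting [Finite G] (N P : Subgroup G) [hN : N.Normal]
    (hNc : ∀ a ∈ N, ∀ b ∈ N, a * b = b * a) (hP : IsPGroup 2 P) (hP1 : P ≠ ⊥)
    (hdisj : N ⊓ P = ⊥) (hprod : N ⊔ P = ⊤)
    (hmin : N ≠ ⊥ ∧ ∀ M : Subgroup G, M.Normal → M ≠ ⊥ → N ≤ M) :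
    ∃ t ∈ P, t ≠ 1 ∧ t * t = 1 ∧ (∀ y ∈ P, t * y = y * t) ∧ ∀ n ∈ N, t * n * t⁻¹ = n⁻¹ := by
  classical
  haveI : Fact (Nat.Prime 2) := ⟨Nat.prime_two⟩
  haveI : Nontrivial P := (Subgroup.nontrivial_iff_ne_bot P).mpr hP1
  haveI hZ : Nontrivial (Subgroup.center P) := hP.center_nontrivial
  letI : Fintype (Subgroup.center P) := Fintype.ofFinite _
  have hZp : IsPGroup 2 (Subgroup.center P) := hP.to_subgroup _
  obtain ⟨k, hk⟩ := IsPGroup.iff_card.mp hZp
  have hk0 : k ≠ 0 := by
    intro h0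
    rw [h0, pow_zero] at hk
    have : Subsingleton (Subgroup.center P) := (Nat.card_eq_one_iff_unique.mp hk).1
    exact not_subsingleton _ this
  have h2 : 2 ∣ Fintype.card (Subgroup.center P) := by
    rw [← Nat.card_eq_fintype_card, hk]
    exact dvd_pow_self 2 hk0
  obtain ⟨z, hz⟩ := exists_prime_orderOf_dvd_card 2 h2
  set t : G := ((z : P) : G) with ht
  have htP : t ∈ P := (z : P).2
  have hz1 : z ≠ 1 := by
    intro h
    rw [h, orderOf_one] at hz
    norm_num at hz
  have ht1 : t ≠ 1 := by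
    intro h
    apply hz1
    apply Subtype.ext
    apply Subtype.ext
    exact h
  have htt : t * t = 1 := by
    have : z ^ 2 = 1 := by rw [← hz]; exact pow_orderOf_eq_one z
    have h' := congrArg (fun w : Subgroup.center P => ((w : P) : G)) this
    simp only [Subgroup.coe_pow, Subgroup.coe_one] at h'
    rw [pow_two] at h'
    exact h'
  have htinv : t⁻¹ = t := inv_eq_of_mul_eq_one_right htt
  have htc : ∀ y ∈ P, t * y = y * t := by
    intro y hy
    have := Subgroup.mem_center_iff.mp z.2 ⟨y, hy⟩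
    have h' := congrArg (fun w : P => (w : G)) this
    simp only [Subgroup.coe_mul] at h'
    exact h'.symm
  have htc' : ∀ y ∈ P, t * y⁻¹ = y⁻¹ * t := fun y hy => htc y⁻¹ (P.inv_mem hy)
  refine ⟨t, htP, ht1, htt, htc, ?_⟩
  -- the fixed points of t on N
  let M : Subgroup G := N ⊓ Subgroup.centralizer {t}
  have hMmem : ∀ m : G, m ∈ M ↔ m ∈ N ∧ t * m = m * t := by
    intro m
    simp only [M, Subgroup.mem_inf, Subgroup.mem_centralizer_iff, Set.mem_singleton_iff,
      forall_eq]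
  have hMn : M.Normal := by
    constructor
    intro m hm g
    obtain ⟨hmN, hmt⟩ := (hMmem m).mp hm
    obtain ⟨n, hn, y, hy, rfl⟩ := exists_mul_of_sup_eq_top N P hprod g
    have h1 : y * m * y⁻¹ ∈ N := hN.conj_mem m hmN y
    have h2 : n * y * m * (n * y)⁻¹ = y * m * y⁻¹ := by
      have : n * y * m * (n * y)⁻¹ = n * (y * m * y⁻¹) * n⁻¹ := by group
      rw [this, hNc n hn _ h1]
      group
    rw [h2, hMmem]
    refine ⟨h1, ?_⟩
    calc t * (y * m * y⁻¹) = (t * y) * m * y⁻¹ := by group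
      _ = y * (t * m) * y⁻¹ := by rw [htc y hy]; group
      _ = y * m * (t * y⁻¹) := by rw [hmt]; group
      _ = y * m * y⁻¹ * t := by rw [htc' y hy]; group
  have hMbot : M = ⊥ := by
    by_contra hM
    have hNM := hmin.2 M hMn hM
    have htN : ∀ n ∈ N, t * n = n * t := fun n hn => ((hMmem n).mp (hNM hn)).2
    let C : Subgroup G := P ⊓ Subgroup.centralizer (N : Set G)
    have hCmem : ∀ c : G, c ∈ C ↔ c ∈ P ∧ ∀ n ∈ N, n * c = c * n := by
      intro c
      simp only [C, Subgroup.mem_inf, Subgroup.mem_centralizer_iff, SetLike.mem_coe]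
    have hCn : C.Normal := by
      constructor
      intro c hc g
      obtain ⟨hcP, hcN⟩ := (hCmem c).mp hc
      obtain ⟨n, hn, y, hy, rfl⟩ := exists_mul_of_sup_eq_top N P hprod g
      have h1 : ∀ m ∈ N, m * (y * c * y⁻¹) = (y * c * y⁻¹) * m := by
        intro m hm
        have hm' : y⁻¹ * m * y ∈ N := by
          have := hN.conj_mem m hm y⁻¹
          simpa using this
        calc m * (y * c * y⁻¹) = y * ((y⁻¹ * m * y) * c) * y⁻¹ := by group
          _ = y * (c * (y⁻¹ * m * y)) * y⁻¹ := by rw [hcN _ hm']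
          _ = (y * c * y⁻¹) * m := by group
      have h2 : n * y * c * (n * y)⁻¹ = y * c * y⁻¹ := by
        have : n * y * c * (n * y)⁻¹ = (n * (y * c * y⁻¹)) * n⁻¹ := by group
        rw [this, h1 n hn]
        group
      rw [h2, hCmem]
      exact ⟨P.mul_mem (P.mul_mem hy hcP) (P.inv_mem hy), h1⟩
    have htC : t ∈ C := (hCmem t).mpr ⟨htP, fun n hn => (htN n hn).symm⟩
    have hCne : C ≠ ⊥ := by
      intro h
      rw [h, Subgroup.mem_bot] at htC
      exact ht1 htC
    have hNC := hmin.2 C hCn hCne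
    apply hmin.1
    rw [eq_bot_iff, ← hdisj]
    intro n hn
    exact ⟨hn, ((hCmem n).mp (hNC hn)).1⟩
  intro n hn
  have h1 : t * n * t⁻¹ ∈ N := hN.conj_mem n hn t
  have hw : n * (t * n * t⁻¹) ∈ M := by
    rw [hMmem]
    refine ⟨N.mul_mem hn h1, ?_⟩
    rw [htinv]
    calc t * (n * (t * n * t)) = (t * n * t) * (n * t) := by group
      _ = ((t * n * t) * n) * t := by group
      _ = (n * (t * n * t)) * t := by
          have h1' : t * n * t ∈ N := by rw [htinv] at h1; exact h1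
          rw [hNc _ h1' n hn]
  rw [hMbot, Subgroup.mem_bot] at hw
  exact (eq_inv_of_mul_eq_one_right hw)

/-- Any two cosets of `P` are swapped by some element, when some `t ∈ P` inverts `N`. -/
theorem swap_cosets (N P : Subgroup G) [hN : N.Normal] (hprod : N ⊔ P = ⊤) (t : G) (htP : t ∈ P)
    (hinv : ∀ n ∈ N, t * n * t⁻¹ = n⁻¹) (a b : G ⧸ P) : ∃ s : G, s • a = b ∧ s • b = a := by
  induction a using QuotientGroup.induction_on with
  | H x =>
  induction b using QuotientGroup.induction_on with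
  | H z =>
  obtain ⟨n, hn, y, hy, hny⟩ := exists_mul_of_sup_eq_top N P hprod (x⁻¹ * z)
  refine ⟨x * (n * t) * x⁻¹, ?_, ?_⟩
  · rw [MulAction.Quotient.smul_mk, QuotientGroup.eq, smul_eq_mul]
    have : (x * (n * t) * x⁻¹ * x)⁻¹ * z = t⁻¹ * (n⁻¹ * (x⁻¹ * z)) := by group
    rw [this, ← hny]
    have : t⁻¹ * (n⁻¹ * (n * y)) = t⁻¹ * y := by group
    rw [this]
    exact P.mul_mem (P.inv_mem htP) hy
  · rw [MulAction.Quotient.smul_mk, QuotientGroup.eq, smul_eq_mul]
    have h1 : (x * (n * t) * x⁻¹ * z)⁻¹ * x = (x⁻¹ * z)⁻¹ * (t⁻¹ * n⁻¹) := by group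
    rw [h1, ← hny]
    have h5 : t⁻¹ * n⁻¹ = n * t⁻¹ := by rw [← hinv n hn]; group
    rw [h5]
    have h6 : (n * y)⁻¹ * (n * t⁻¹) = y⁻¹ * t⁻¹ := by group
    rw [h6]
    exact P.mul_mem (P.inv_mem hy) (P.inv_mem htP)

end Cfsg.Agent.Helper24.SemiTwo
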