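import Mathlib
import Cfsg.Agent.Lib.Helper24.SelfPaired
import Cfsg.Agent.Lib.Helper24.SemiTwo
import Cfsg.Agent.Lib.Helper24.CharAbelian
import Cfsg.Agent.Lib.Helper24.CharHom
import Cfsg.Agent.S0190

/-!
# Strongly real characters of `N ⋊ P` with an inverting element
-/

set_option autoImplicit false
set_option linter.style.haveILetI false

namespace Cfsg.Agent.Helper24.AcdSemi

open Cfsg Cfsg.Agent.Helper24 Cfsg.Agent.Helper18 Cfsg.Agent.Helper24.FSInd
  Cfsg.Agent.Helper24.SelfPaired Cfsg.Agent.Helper24.SemiTwo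
open scoped ComplexConjugate

universe u

variable {G : Type u} [Group G]

/-- A linear character is trivial on an odd-exponent subgroup inverted by some element. -/
theorem linear_trivial_on (N : Subgroup G) (q : ℕ) (hqodd : Odd q) (hNq : ∀ a ∈ N, a ^ q = 1)
    (t : G) (hinv : ∀ n ∈ N, t * n * t⁻¹ = n⁻¹) {β : G → ℂ} (hβ : IsCharacter G β)
    (h1 : β 1 = 1) (n : G) (hn : n ∈ N) : β n = 1 := by
  have h2 : linHom hβ h1 n⁻¹ = linHom hβ h1 n := by
    rw [← hinv n hn, map_mul, map_mul, map_inv, mul_comm (linHom hβ h1 t), mul_assoc,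
      mul_inv_cancel, mul_one]
  have h3 : linHom hβ h1 n ^ 2 = 1 := by
    rw [pow_two]
    nth_rewrite 1 [← h2]
    rw [← map_mul, inv_mul_cancel, map_one]
  have h4 : linHom hβ h1 n ^ q = 1 := by rw [← map_pow, hNq n hn, map_one]
  have d1 := orderOf_dvd_of_pow_eq_one h3
  have d2 := orderOf_dvd_of_pow_eq_one h4
  have hd : orderOf (linHom hβ h1 n) ∣ Nat.gcd 2 q := Nat.dvd_gcd d1 d2
  have hg : Nat.gcd 2 q = 1 := by
    rcases hqodd with ⟨k, rfl⟩
    simp
  rw [hg, Nat.dvd_one, orderOf_eq_one_iff] at hd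
  have := linHom_apply hβ h1 n
  rw [← this, hd]
  rfl

/-- `indFun` along equal subgroups. -/
theorem indFun_one_congr [Fintype G] {H K : Subgroup G} (h : H = K) :
    indFun H (fun _ => (1 : ℂ)) = indFun K (fun _ => (1 : ℂ)) := by
  subst h
  rfl

/-- The key existence statement: a nonprincipal strongly real constituent of `(1_P)^G` with
multiplicity one. -/
theorem exists_chi0 [Fintype G] (N P : Subgroup G) [N.Normal] [Fintype P] (q : ℕ)
    (hqodd : Odd q) (hNq : ∀ a ∈ N, a ^ q = 1) (hprod : N ⊔ P = ⊤) (hPtop : P ≠ ⊤) (t : G)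
    (htP : t ∈ P) (hinv : ∀ n ∈ N, t * n * t⁻¹ = n⁻¹) :
    ∃ χ₀ : IrrCharacter G, fsInd (χ₀ : G → ℂ) = 1 ∧
      classInner (fun _ : P => (1 : ℂ)) (fun y : P => (χ₀ : G → ℂ) y) = 1 ∧
      (χ₀ : G → ℂ) 1 ≠ 1 := by
  classical
  letI : Fintype (G ⧸ P) := Fintype.ofFinite _
  letI : Fintype (IrrCharacter G) := irrFintype
  have hπ : permChar G (G ⧸ P) = indFun P (fun _ => (1 : ℂ)) := by
    have h := Cfsg.Agent.S0190.result (G := G) (G ⧸ P) ((1 : G) : G ⧸ P)
    rw [indFun_one_congr (MulAction.stabilizer_quotient P)] at h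
    exact h
  have hπchar : IsCharacter G (permChar G (G ⧸ P)) := by
    rw [hπ]
    exact isCharacter_indFun P isCharacter_one
  have hfs : fsInd (permChar G (G ⧸ P)) =
      classInner (permChar G (G ⧸ P)) (permChar G (G ⧸ P)) :=
    fsInd_permChar (swap_cosets N P hprod t htP hinv)
  have hmf := mult_free_of_fsInd_eq_inner hπchar hfs
  -- the value at 1
  have hπ1 : permChar G (G ⧸ P) 1 = (P.index : ℂ) := by
    rw [permChar_apply]
    congr 1
    rw [Subgroup.index]
    apply Nat.card_congr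
    exact
      { toFun := fun x => x.1
        invFun := fun x => ⟨x, by simp⟩
        left_inv := fun x => rfl
        right_inv := fun x => rfl }
  have hidx1 : P.index ≠ 1 := fun h => hPtop (Subgroup.index_eq_one.mp h)
  have hidx0 : P.index ≠ 0 := Subgroup.index_ne_zero_of_finite
  -- some nonprincipal constituent
  have hex : ∃ χ : IrrCharacter G, classInner (permChar G (G ⧸ P)) (χ : G → ℂ) ≠ 0 ∧
      χ ≠ principalChar G := by
    by_contra hcon
    push Not at hcon
    obtain ⟨hm, hdec⟩ := isCharacter_decomp hπchar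
    have h1 := congrFun hdec 1
    rw [Finset.sum_apply, Finset.sum_eq_single (principalChar G)] at h1
    · rw [hπ1, Pi.smul_apply, smul_eq_mul] at h1
      have h2 : ((principalChar G : IrrCharacter G) : G → ℂ) 1 = 1 := rfl
      rw [h2, mul_one] at h1
      by_cases h0 : classInner (permChar G (G ⧸ P)) ((principalChar G : IrrCharacter G) : G → ℂ) = 0
      · rw [h0] at h1
        exact hidx0 (by exact_mod_cast h1)
      · rw [(hmf _ h0).1] at h1
        exact hidx1 (by exact_mod_cast h1)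
    · intro χ _ hχ
      have : classInner (permChar G (G ⧸ P)) (χ : G → ℂ) = 0 := by
        by_contra h0
        exact hχ (hcon χ h0)
      rw [this, zero_smul]
      rfl
    · intro h; exact absurd (Finset.mem_univ _) h
  obtain ⟨χ₀, hχ0, hne⟩ := hex
  obtain ⟨hm1, hν⟩ := hmf χ₀ hχ0
  have hin : classInner (fun _ : P => (1 : ℂ)) (fun y : P => (χ₀ : G → ℂ) y) = 1 := by
    have hcf : IsClassFunction G (χ₀ : G → ℂ) := isClassFunction_of_isIrrCharacter χ₀.2
    have h := frobenius_reciprocity P (fun _ => (1 : ℂ)) hcf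
    rw [← hπ, hm1] at h
    exact h.symm
  refine ⟨χ₀, hν, hin, ?_⟩
  intro h1
  apply hne
  have hc := isCharacter_of_isIrrCharacter χ₀.2
  -- χ₀ restricted to P is trivial
  have hμ : IsIrrCharacter P (fun y : P => (χ₀ : G → ℂ) y) :=
    isIrrCharacter_of_degree_one (isCharacter_restrict P hc) h1
  have horth := irr_orthogonality (isIrrCharacter_one (G := P)) hμ
  rw [hin] at horth
  have hPtriv : (fun _ : P => (1 : ℂ)) = (fun y : P => (χ₀ : G → ℂ) y) := by
    by_contra hne'
    rw [if_neg hne'] at horth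
    exact one_ne_zero horth
  apply Subtype.ext
  funext g
  obtain ⟨n, hn, y, hy, rfl⟩ := exists_mul_of_sup_eq_top N P hprod g
  rw [char_mul_of_degree_one hc h1, linear_trivial_on N q hqodd hNq t hinv hc h1 n hn, one_mul]
  have := congrFun hPtriv ⟨y, hy⟩
  exact this.symm


/-- A linear character has norm-one values. -/
theorem linear_mul_conj {β : G → ℂ} [Finite G] (hβ : IsCharacter G β) (h1 : β 1 = 1) (g : G) :
    β g * conj (β g) = 1 := by
  have hinv : β g⁻¹ = conj (β g) := irr_inv hβ g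
  rw [← hinv, ← char_mul_of_degree_one hβ h1, mul_inv_cancel, h1]

/-- Twisting by a real linear character does not change the Frobenius–Schur indicator. -/
theorem fsInd_mul_real_linear [Fintype G] (χ : G → ℂ) {β : G → ℂ} (hβ : IsCharacter G β)
    (h1 : β 1 = 1) (hreal : ∀ g, conj (β g) = β g) : fsInd (χ * β) = fsInd χ := by
  unfold fsInd
  congr 1
  apply Finset.sum_congr rfl
  intro g _
  have h2 : β (g * g) = 1 := by
    rw [char_mul_of_degree_one hβ h1]
    have := linear_mul_conj hβ h1 g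
    rw [hreal g] at this
    exact this
  rw [Pi.mul_apply, h2, mul_one]

/-- The main count. -/
theorem count_main [Fintype G] [Fintype (IrrCharacter G)] (N P : Subgroup G) [N.Normal]
    [Fintype P] (q : ℕ) (hqodd : Odd q) (hNq : ∀ a ∈ N, a ^ q = 1) (hprod : N ⊔ P = ⊤) (t : G)
    (hinv : ∀ n ∈ N, t * n * t⁻¹ = n⁻¹)
    (hdeg : ∀ χ : IrrCharacter G, charDegree (χ : G → ℂ) = 1 ∨ 2 ∣ charDegree (χ : G → ℂ))
    (χ₀ : IrrCharacter G) (hν0 : fsInd (χ₀ : G → ℂ) = 1)
    (hin0 : classInner (fun _ : P => (1 : ℂ)) (fun y : P => (χ₀ : G → ℂ) y) = 1)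
    (hd0 : (χ₀ : G → ℂ) 1 ≠ 1) :
    4 * (Finset.univ.filter (fun χ : IrrCharacter G => fsInd (χ : G → ℂ) = 1)).card ≤
      3 * ∑ χ ∈ Finset.univ.filter (fun χ : IrrCharacter G => fsInd (χ : G → ℂ) = 1),
        charDegree (χ : G → ℂ) := by
  classical
  set A := Finset.univ.filter (fun χ : IrrCharacter G => fsInd (χ : G → ℂ) = 1) with hA
  set d := charDegree (χ₀ : G → ℂ) with hd
  have hd1 : d ≠ 1 := fun h => hd0 ((charDegree_eq_one_iff χ₀.2).mp h)
  have hd2 : 2 ≤ d := by
    rcases hdeg χ₀ with h | h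
    · exact absurd h hd1
    · exact Nat.le_of_dvd (charDegree_pos χ₀.2) h
  let f : IrrCharacter G → IrrCharacter G := fun β =>
    if h : (β : G → ℂ) 1 = 1 then
      ⟨(χ₀ : G → ℂ) * (β : G → ℂ),
        isIrrCharacter_mul_linear χ₀.2 (isCharacter_of_isIrrCharacter β.2) h⟩
    else χ₀
  have hf : ∀ β : IrrCharacter G, ∀ h : (β : G → ℂ) 1 = 1,
      ((f β : IrrCharacter G) : G → ℂ) = (χ₀ : G → ℂ) * (β : G → ℂ) := by
    intro β h
    simp only [f, dif_pos h]
  set SL := A.filter (fun χ : IrrCharacter G => charDegree (χ : G → ℂ) = 1) with hSL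
  set O := SL.image f with hO
  have hmemSL : ∀ β, β ∈ SL ↔ fsInd (β : G → ℂ) = 1 ∧ (β : G → ℂ) 1 = 1 := by
    intro β
    simp only [hSL, hA, Finset.mem_filter, Finset.mem_univ, true_and]
    rw [charDegree_eq_one_iff β.2]
  -- (a)
  have hfa : ∀ β ∈ SL, fsInd ((f β : IrrCharacter G) : G → ℂ) = 1 ∧
      charDegree ((f β : IrrCharacter G) : G → ℂ) = d := by
    intro β hβ
    obtain ⟨hνβ, hβ1⟩ := (hmemSL β).mp hβ
    have hβc := isCharacter_of_isIrrCharacter β.2
    have hreal : ∀ g, conj ((β : G → ℂ) g) = (β : G → ℂ) g :=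
      (fsInd_ne_zero_iff β.2).mp (by rw [hνβ]; exact one_ne_zero)
    rw [hf β hβ1]
    refine ⟨?_, ?_⟩
    · rw [fsInd_mul_real_linear _ hβc hβ1 hreal, hν0]
    · rw [hd]
      unfold charDegree
      rw [Pi.mul_apply, hβ1, mul_one]
  have hOA : O ⊆ A := by
    intro ψ hψ
    obtain ⟨β, hβ, rfl⟩ := Finset.mem_image.mp hψ
    simp only [hA, Finset.mem_filter, Finset.mem_univ, true_and]
    exact (hfa β hβ).1
  have hOd : ∀ ψ ∈ O, charDegree ((ψ : IrrCharacter G) : G → ℂ) = d := by
    intro ψ hψ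
    obtain ⟨β, hβ, rfl⟩ := Finset.mem_image.mp hψ
    exact (hfa β hβ).2
  -- (c) the fibre bound
  have hfib : ∀ ψ ∈ O, (SL.filter (fun β => f β = ψ)).card ≤ d := by
    intro ψ hψ
    let r : IrrCharacter G → IrrCharacter P := fun β =>
      if h : (β : G → ℂ) 1 = 1 then
        ⟨fun y : P => (β : G → ℂ) y,
          isIrrCharacter_of_degree_one
            (isCharacter_restrict P (isCharacter_of_isIrrCharacter β.2)) h⟩
      else principalChar P
    have hr : ∀ β : IrrCharacter G, ∀ h : (β : G → ℂ) 1 = 1,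
        ((r β : IrrCharacter P) : P → ℂ) = fun y : P => (β : G → ℂ) y := by
      intro β h
      simp only [r, dif_pos h]
    set F := SL.filter (fun β => f β = ψ) with hF
    have hinj : Set.InjOn r (F : Set (IrrCharacter G)) := by
      intro β hβ β' hβ' hrr
      have hβSL : β ∈ SL := (Finset.mem_filter.mp hβ).1
      have hβ'SL : β' ∈ SL := (Finset.mem_filter.mp hβ').1
      obtain ⟨-, hβ1⟩ := (hmemSL β).mp hβSL
      obtain ⟨-, hβ'1⟩ := (hmemSL β').mp hβ'SL
      have h2 : (fun y : P => (β : G → ℂ) y) = fun y : P => (β' : G → ℂ) y := by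
        rw [← hr β hβ1, ← hr β' hβ'1, hrr]
      apply Subtype.ext
      funext g
      obtain ⟨n, hn, y, hy, rfl⟩ := exists_mul_of_sup_eq_top N P hprod g
      have hβc := isCharacter_of_isIrrCharacter β.2
      have hβ'c := isCharacter_of_isIrrCharacter β'.2
      rw [char_mul_of_degree_one hβc hβ1, char_mul_of_degree_one hβ'c hβ'1,
        linear_trivial_on N q hqodd hNq t hinv hβc hβ1 n hn,
        linear_trivial_on N q hqodd hNq t hinv hβ'c hβ'1 n hn]
      have := congrFun h2 ⟨y, hy⟩
      simp only at this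
      rw [this]
    rw [← Finset.card_image_of_injOn hinj]
    have hψc := isCharacter_of_isIrrCharacter ψ.2
    apply card_le_of_constituents (isCharacter_restrict P hψc) (F.image r)
    · intro μ hμ
      obtain ⟨β, hβ, rfl⟩ := Finset.mem_image.mp hμ
      have hβSL : β ∈ SL := (Finset.mem_filter.mp hβ).1
      have hfβ : f β = ψ := (Finset.mem_filter.mp hβ).2
      obtain ⟨-, hβ1⟩ := (hmemSL β).mp hβSL
      have hβc := isCharacter_of_isIrrCharacter β.2
      rw [hr β hβ1, ← hfβ, hf β hβ1]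
      have h3 : classInner (fun k : P => ((χ₀ : G → ℂ) * (β : G → ℂ)) k)
          (fun y : P => (β : G → ℂ) y) =
          classInner (fun y : P => (χ₀ : G → ℂ) y) (fun _ : P => (1 : ℂ)) := by
        unfold classInner
        congr 1
        apply Finset.sum_congr rfl
        intro y _
        show ((χ₀ : G → ℂ) * (β : G → ℂ)) (y : G) * conj ((β : G → ℂ) y) =
          (χ₀ : G → ℂ) y * conj (1 : ℂ)
        rw [Pi.mul_apply, mul_assoc, linear_mul_conj hβc hβ1, map_one]
      rw [h3, ← classInner_conj_symm, hin0, map_one]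
      exact one_ne_zero
    · show (ψ : G → ℂ) ((1 : P) : G) = d
      rw [Subgroup.coe_one, irr_one_eq_charDegree ψ.2, hOd ψ hψ]
  -- (d)
  have hcard : SL.card ≤ d * O.card := Finset.card_le_mul_card_image SL d hfib
  -- (e)
  have hterm : ∀ χ ∈ A, 4 + (if χ ∈ O then d else 0) ≤
      3 * charDegree ((χ : IrrCharacter G) : G → ℂ) +
        (if charDegree ((χ : IrrCharacter G) : G → ℂ) = 1 then 1 else 0) := by
    intro χ _
    by_cases h1 : charDegree ((χ : IrrCharacter G) : G → ℂ) = 1
    · have hχO : χ ∉ O := by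
        intro h
        rw [hOd χ h] at h1
        exact hd1 h1
      rw [if_neg hχO, if_pos h1, h1]
    · have h2 : 2 ≤ charDegree ((χ : IrrCharacter G) : G → ℂ) := by
        rcases hdeg χ with h | h
        · exact absurd h h1
        · exact Nat.le_of_dvd (charDegree_pos χ.2) h
      rw [if_neg h1]
      by_cases hχO : χ ∈ O
      · rw [if_pos hχO, hOd χ hχO]
        omega
      · rw [if_neg hχO]
        omega
  have hsum := Finset.sum_le_sum hterm
  rw [Finset.sum_add_distrib, Finset.sum_add_distrib, Finset.sum_const, smul_eq_mul,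
    Finset.sum_ite_mem, Finset.inter_eq_right.mpr hOA, Finset.sum_const, smul_eq_mul,
    ← Finset.mul_sum, Finset.sum_boole] at hsum
  have hSLcard : ((A.filter (fun χ : IrrCharacter G => charDegree (χ : G → ℂ) = 1)).card : ℕ) =
      SL.card := rfl
  simp only [Nat.cast_id] at hsum
  rw [hSLcard] at hsum
  have : O.card * d = d * O.card := mul_comm _ _
  omega

end Cfsg.Agent.Helper24.AcdSemi
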