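import Mathlib
import Cfsg.Prelude.Def_Transfer
import Cfsg.Agent.Lib.Helper20.SchDefs
import Cfsg.Agent.Lib.Helper22.SchPLDefs
import Cfsg.Agent.Lib.Helper21.SchPLB0
import Cfsg.Agent.Lib.Helper21.SchPLB1
import Cfsg.Agent.Lib.Helper16.SchPLB2
import Cfsg.Agent.Lib.Helper21.SchPLB3A

/-!
# S4395 piece SCH-ACT: five abstract consequences of a Schmidt action on a `p`-group
-/

set_option autoImplicit false

namespace Cfsg.Agent.Helper20.Sch

open Cfsg.Agent.Helper22.SchPL (SchAct)

universe u

variable {p q : ℕ} [Fact p.Prime] [Fact q.Prime]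

section structure_

variable {P : Type*} [Group P] [Finite P] {α : MulAut P}

/-- the subgroup generated by commutators and `p`-th powers is proper -/
theorem sch_act_b2_ne_top (h : SchAct p q P α) (hP : IsPGroup p P) :
    Subgroup.closure (Cfsg.Agent.Helper22.SchPL.b2Set p P) ≠ ⊤ := by
  have hpp : p.Prime := Fact.out
  have hnt : Nontrivial P := by
    by_contra hnt
    rw [not_nontrivial_iff_subsingleton] at hnt
    apply h.ne_one
    ext v
    exact Subsingleton.elim _ _
  obtain ⟨M, hMn, hMi⟩ := Cfsg.Agent.Helper22.SchPL.b2_exists_normal_index hP hnt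
  have hcard : Nat.card (P ⧸ M) = p := by rw [← Subgroup.index_eq_card]; exact hMi
  have hcyc : IsCyclic (P ⧸ M) := isCyclic_of_prime_card hcard
  have hMC : IsMulCommutative (P ⧸ M) := IsCyclic.isMulCommutative
  have hSM : Cfsg.Agent.Helper22.SchPL.b2Set p P ⊆ (M : Set P) := by
    rintro x (⟨a, b, rfl⟩ | ⟨v, rfl⟩)
    · show a * b * a⁻¹ * b⁻¹ ∈ M
      rw [← QuotientGroup.eq_one_iff]
      have hab := isMulCommutative_iff.mp hMC (a : P ⧸ M) (b : P ⧸ M)
      simp only [QuotientGroup.mk_mul, QuotientGroup.mk_inv]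
      rw [hab]
      group
    · show v ^ p ∈ M
      rw [← QuotientGroup.eq_one_iff, QuotientGroup.mk_pow]
      have h2 : ((v : P ⧸ M)) ^ Nat.card (P ⧸ M) = 1 := pow_card_eq_one'
      rwa [hcard] at h2
  have hAM : Subgroup.closure (Cfsg.Agent.Helper22.SchPL.b2Set p P) ≤ M :=
    (Subgroup.closure_le M).2 hSM
  have hMne : M ≠ ⊤ := by
    intro htop
    rw [htop, Subgroup.index_top] at hMi
    exact hpp.one_lt.ne hMi
  intro htop
  apply hMne
  rw [eq_top_iff, ← htop]
  exact hAM

/-- everything in the subgroup generated by commutators and `p`-th powers is fixed -/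
theorem sch_act_b2_fixed (h : SchAct p q P α) (hP : IsPGroup p P) :
    ∀ x ∈ Subgroup.closure (Cfsg.Agent.Helper22.SchPL.b2Set p P), α x = x :=
  h.fix _ (sch_act_b2_ne_top h hP) (Cfsg.Agent.Helper22.SchPL.b2_closure_invariant (p := p) α)

theorem sch_act_commutator_le_b2 :
    commutator P ≤ Subgroup.closure (Cfsg.Agent.Helper22.SchPL.b2Set p P) := by
  rw [commutator_def, Subgroup.commutator_le]
  intro a _ b _
  apply Subgroup.subset_closure
  left
  exact ⟨a, b, (commutatorElement_def a b).symm⟩

/-- elements fixed by `α` lie in the commutator subgroup (norm map on the abelianization) -/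
theorem sch_act_fixed_mem_commutator (h : SchAct p q P α) (hP : IsPGroup p P) (z : P)
    (hz : α z = z) : z ∈ commutator P := by
  have hpp : p.Prime := Fact.out
  have hgen := h.closure_eq_top hP
  have hker : ∀ x : P, Cfsg.Agent.Helper22.SchPL.b3aNorm q α x = 1 := by
    intro x
    have hx : x ∈ Subgroup.closure (Set.range fun v : P => v⁻¹ * α v) := hgen ▸ Subgroup.mem_top x
    have hle : Subgroup.closure (Set.range fun v : P => v⁻¹ * α v) ≤
        (Cfsg.Agent.Helper22.SchPL.b3aNorm q α).ker := by
      rw [Subgroup.closure_le]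
      rintro _ ⟨v, rfl⟩
      rw [SetLike.mem_coe, MonoidHom.mem_ker, Cfsg.Agent.Helper22.SchPL.b3aNorm_apply]
      have e : ∀ i ∈ Finset.range q, Abelianization.of ((α ^ i) (v⁻¹ * α v)) =
          (fun i => Abelianization.of ((α ^ i) v)) (i + 1) /
            (fun i => Abelianization.of ((α ^ i) v)) i := by
        intro i _
        simp only
        rw [map_mul, map_inv, map_mul, map_inv, pow_succ, MulAut.mul_apply, div_eq_mul_inv,
          mul_comm]
      rw [Finset.prod_congr rfl e,
        Finset.prod_range_div (fun i => Abelianization.of ((α ^ i) v)) q]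
      simp only [pow_zero, MulAut.one_apply]
      rw [h.pow_eq, MulAut.one_apply, div_self']
    exact hle hx
  have hpowfix : ∀ i : ℕ, (α ^ i) z = z := by
    intro i
    induction i with
    | zero => simp
    | succ i ih => rw [pow_succ, MulAut.mul_apply, hz, ih]
  have hzq : z ^ q ∈ commutator P := by
    rw [← Abelianization.ker_of, MonoidHom.mem_ker, map_pow]
    have h1 := hker z
    rw [Cfsg.Agent.Helper22.SchPL.b3aNorm_apply] at h1
    rw [Finset.prod_congr rfl (fun i _ => by rw [hpowfix i]), Finset.prod_const,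
      Finset.card_range] at h1
    exact h1
  obtain ⟨k, hk⟩ := hP z
  have hcop : q.Coprime (orderOf z) := by
    have hd : orderOf z ∣ p ^ k := orderOf_dvd_of_pow_eq_one hk
    have hqp : q.Coprime (p ^ k) :=
      Nat.Coprime.pow_right _ ((Nat.coprime_primes h.hq hpp).2 h.hqp)
    exact Nat.Coprime.coprime_dvd_right hd hqp
  obtain ⟨m, hm⟩ := exists_pow_eq_self_of_coprime hcop
  rw [← hm]
  exact pow_mem hzq m

/-- SCH-ACT1 (from the S4394 library: `comm_pow_mem`, `le_center`, `closure_eq_top`) -/
theorem SchAct.commutator_le_center (h : SchAct p q P α) (hP : IsPGroup p P) :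
    commutator P ≤ Subgroup.center P := by
  have hB := h.comm_pow_mem hP
    (fun A _ hA hinv => h.le_center hP (h.closure_eq_top hP) A hA hinv)
  rw [commutator_def, Subgroup.commutator_le]
  intro a _ b _
  rw [commutatorElement_def]
  exact hB.1 a b

/-- SCH-ACT2 -/
theorem SchAct.pow_mem_commutator (h : SchAct p q P α) (hP : IsPGroup p P) (v : P) :
    v ^ p ∈ commutator P :=
  sch_act_fixed_mem_commutator h hP _
    (sch_act_b2_fixed h hP _ (Subgroup.subset_closure (Or.inr ⟨v, rfl⟩)))

/-- SCH-ACT3 -/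
theorem SchAct.le_commutator_of_invariant (h : SchAct p q P α) (hP : IsPGroup p P)
    (H : Subgroup P) (hH : commutator P ≤ H) (hne : H ≠ ⊤) (hinv : ∀ x ∈ H, α x ∈ H) :
    H ≤ commutator P :=
  fun x hx => sch_act_fixed_mem_commutator h hP x (h.fix H hne hinv x hx)

/-- SCH-ACT4 -/
theorem SchAct.fix_commutator (h : SchAct p q P α) (hP : IsPGroup p P) :
    ∀ z ∈ commutator P, α z = z :=
  fun z hz => sch_act_b2_fixed h hP z (sch_act_commutator_le_b2 hz)

/-- SCH-ACT5 -/
theorem SchAct.exists_not_mem_commutator (h : SchAct p q P α) (hP : IsPGroup p P) :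
    ∃ v : P, v⁻¹ * α v ∉ commutator P := by
  by_contra hcon
  push Not at hcon
  apply sch_act_b2_ne_top h hP
  rw [eq_top_iff, ← h.closure_eq_top hP]
  refine le_trans ?_ (sch_act_commutator_le_b2 (p := p) (P := P))
  rw [Subgroup.closure_le]
  rintro _ ⟨v, rfl⟩
  exact hcon v

end structure_

end Cfsg.Agent.Helper20.Sch
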