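import Mathlib
import Cfsg.Agent.Lib.Helper2.AICDefs
import Cfsg.Agent.Lib.Helper2.AICDefs2
import Cfsg.Agent.Lib.Helper2.AICGEN
import Cfsg.Agent.Lib.Helper2.AICBAS1
import Cfsg.Agent.Lib.Helper1.AICQLIFT

/-!
# S2202, piece E1: `Hyp (HQ Z)` and the image of an involution of `P`
-/

set_option autoImplicit false
set_option linter.unusedSectionVars false

namespace Cfsg.Agent.Helper2.AIC

variable {G : Type*} [Group G] [Finite G]

/-- `|ZH Z|` is odd when `|Z|` is -/
theorem e1_odd_card_ZH {Z : Subgroup G} (hodd : Odd (Nat.card Z)) : Odd (Nat.card (ZH Z)) := by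
  let f : ↥(ZH Z) →* ↥Z :=
    ((Subgroup.centralizer (Z : Set G)).subtype.comp (ZH Z).subtype).codRestrict Z
      (fun x => mem_ZH.mp x.2)
  have hf : Function.Injective f := by
    intro x y hxy
    have h1 : ((x : ↥(Subgroup.centralizer (Z : Set G))) : G) = ((y : ↥(Subgroup.centralizer (Z : Set G))) : G) :=
      congrArg (fun z : ↥Z => (z : G)) hxy
    exact Subtype.ext (Subtype.ext h1)
  exact Odd.of_dvd_nat hodd (Subgroup.card_dvd_of_injective f hf)

theorem hyp_HQ (c : Cfg G) {Z : Subgroup G} (hodd : Odd (Nat.card Z)) : Hyp (HQ Z) :=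
  Hyp.quot (Hyp.subgroup c.hyp (Subgroup.centralizer (Z : Set G))) (ZH Z) (e1_odd_card_ZH hodd)

/-- image of an involution of `P` -/
theorem orderOf_mk_inv (c : Cfg G) {Z : Subgroup G} {P : Sylow 2 G} (hZP : Z ≤ Kn P) {s : G}
    (hs : s ∈ P) (hso : orderOf s = 2) (hsH : s ∈ Subgroup.centralizer (Z : Set G)) :
    orderOf (QuotientGroup.mk (⟨s, hsH⟩ : ↥(Subgroup.centralizer (Z : Set G))) : HQ Z) = 2 := by
  have : Fact (Nat.Prime 2) := ⟨Nat.prime_two⟩
  apply orderOf_eq_prime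
  · rw [← QuotientGroup.mk_pow]
    have h1 : (⟨s, hsH⟩ : ↥(Subgroup.centralizer (Z : Set G))) ^ 2 = 1 := by
      apply Subtype.ext
      show s ^ 2 = 1
      rw [← hso]; exact pow_orderOf_eq_one s
    rw [h1]; rfl
  · intro h1
    rw [QuotientGroup.eq_one_iff, mem_ZH] at h1
    have hodd := ((c.mem_Kn_iff P).mp (hZP h1)).2
    rw [hso] at hodd
    exact absurd hodd (by decide)

end Cfsg.Agent.Helper2.AIC
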