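import Mathlib
import Cfsg.Agent.Lib.Helper2.AICDefs
import Cfsg.Agent.Lib.Helper2.AICDefs2
import Cfsg.Agent.Lib.Helper2.AICGEN
import Cfsg.Agent.Lib.Helper2.AICBAS1
import Cfsg.Agent.Lib.Helper4.AICBAS2
import Cfsg.Agent.Lib.Helper13.AICINV
import Cfsg.Agent.Lib.Helper24.AICE1

/-!
# S2202, piece E2: a Klein four-group in `HQ Z`
-/

set_option autoImplicit false
set_option linter.unusedSectionVars false

namespace Cfsg.Agent.Helper2.AIC

variable {G : Type*} [Group G] [Finite G]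

/-- elements of `C_G(P)` centralize `Z ≤ K_P` -/
theorem e2_mem_centralizer (c : Cfg G) {Z : Subgroup G} {P : Sylow 2 G} (hZP : Z ≤ Kn P) {x : G}
    (hx : x ∈ Cn P) : x ∈ Subgroup.centralizer (Z : Set G) := by
  rw [Subgroup.mem_centralizer_iff]
  intro z hz
  exact c.comm_Cn P z (c.Kn_le_Cn P (hZP hz)) x hx

/-- `P ⊓ Z = 1` for `Z ≤ K_P` -/
theorem e2_eq_one (c : Cfg G) {Z : Subgroup G} {P : Sylow 2 G} (hZP : Z ≤ Kn P) {x : G}
    (hxP : x ∈ P) (hxZ : x ∈ Z) : x = 1 := by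
  obtain ⟨k, hk⟩ := bas2_orderOf_of_mem hxP
  have hodd := ((c.mem_Kn_iff P).mp (hZP hxZ)).2
  exact inv_eq_one_of_odd_of_two_pow hodd (n := k) (by rw [← hk]; exact pow_orderOf_eq_one x)

theorem klein_HQ (c : Cfg G) {Z : Subgroup G} {P : Sylow 2 G} (hZP : Z ≤ Kn P) :
    ∃ s t : HQ Z, orderOf s = 2 ∧ orderOf t = 2 ∧ s ≠ t ∧ s * t = t * s := by
  have h3 := c.three_le_nInv P
  have hnt : Nontrivial {t : G // t ∈ P ∧ orderOf t = 2} := by
    rw [← Finite.one_lt_card_iff_nontrivial]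
    have : nInv P = Nat.card {t : G // t ∈ P ∧ orderOf t = 2} := rfl
    omega
  obtain ⟨⟨s, hsP, hs2⟩, ⟨t, htP, ht2⟩, hne⟩ := exists_pair_ne {t : G // t ∈ P ∧ orderOf t = 2}
  have hne' : s ≠ t := fun h => hne (Subtype.ext h)
  have hsH : s ∈ Subgroup.centralizer (Z : Set G) := e2_mem_centralizer c hZP (c.sylow_le_Cn P hsP)
  have htH : t ∈ Subgroup.centralizer (Z : Set G) := e2_mem_centralizer c hZP (c.sylow_le_Cn P htP)
  refine ⟨QuotientGroup.mk (⟨s, hsH⟩ : ↥(Subgroup.centralizer (Z : Set G))),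
    QuotientGroup.mk (⟨t, htH⟩ : ↥(Subgroup.centralizer (Z : Set G))),
    orderOf_mk_inv c hZP hsP hs2 hsH, orderOf_mk_inv c hZP htP ht2 htH, ?_, ?_⟩
  · intro heq
    rw [QuotientGroup.eq, mem_ZH] at heq
    have h1 : s⁻¹ * t ∈ Z := heq
    have h2 : s⁻¹ * t ∈ P := (P : Subgroup G).mul_mem ((P : Subgroup G).inv_mem hsP) htP
    have h3 := e2_eq_one c hZP h2 h1
    exact hne' (inv_mul_eq_one.mp h3)
  · rw [← QuotientGroup.mk_mul, ← QuotientGroup.mk_mul]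
    congr 1
    apply Subtype.ext
    exact c.comm_sylow P s hsP t htP

end Cfsg.Agent.Helper2.AIC
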