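import Mathlib
import Cfsg.Agent.Lib.Helper2.AICDefs
import Cfsg.Agent.Lib.Helper2.AICGEN
import Cfsg.Agent.Lib.Helper2.AICBAS1
import Cfsg.Agent.Lib.Helper4.AICBAS2

/-!
# S2202, piece ELEM: elementwise criteria for `Cfg` and `(Hα)`
-/

set_option autoImplicit false
set_option linter.unusedSectionVars false

namespace Cfsg.Agent.Helper2.AIC

variable {G : Type*} [Group G] [Finite G]

/-- two commuting involutions lie in a common Sylow 2-subgroup -/
theorem elem_exists_sylow {s t : G} (hs : orderOf s = 2) (ht : orderOf t = 2) (hst : s * t = t * s) :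
    ∃ R : Sylow 2 G, s ∈ R ∧ t ∈ R := by
  haveI : Fact (Nat.Prime 2) := ⟨Nat.prime_two⟩
  have hzs : IsPGroup 2 (Subgroup.zpowers s) := by
    rw [IsPGroup.iff_card, Nat.card_zpowers, hs]
    exact ⟨1, by norm_num⟩
  have hzt : IsPGroup 2 (Subgroup.zpowers t) := by
    rw [IsPGroup.iff_card, Nat.card_zpowers, ht]
    exact ⟨1, by norm_num⟩
  have hnorm : Subgroup.zpowers t ≤ Subgroup.normalizer ((Subgroup.zpowers s : Subgroup G) : Set G) := by
    rw [Subgroup.zpowers_le, Subgroup.mem_normalizer_iff]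
    intro h
    have hcomm : ∀ h ∈ Subgroup.zpowers s, t * h * t⁻¹ = h := by
      intro h hh
      obtain ⟨k, rfl⟩ := Subgroup.mem_zpowers_iff.mp hh
      have : Commute t (s ^ k) := (Commute.zpow_right (show Commute t s from hst.symm) k)
      rw [this.eq]; group
    constructor
    · intro hh
      rw [hcomm h hh]; exact hh
    · intro hh
      have h1 := hcomm _ hh
      have h2 : t * h * t⁻¹ = h := by
        calc t * h * t⁻¹ = t⁻¹ * (t * (t * h * t⁻¹) * t⁻¹) * t := by group
          _ = t⁻¹ * (t * h * t⁻¹) * t := by rw [h1]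
          _ = h := by group
      rw [← h2]; exact hh
  have hsup : IsPGroup 2 (Subgroup.zpowers t ⊔ Subgroup.zpowers s : Subgroup G) :=
    hzt.to_sup_of_normal_right' hzs hnorm
  obtain ⟨R, hR⟩ := hsup.exists_le_sylow
  exact ⟨R, hR (le_sup_right (a := Subgroup.zpowers t) (Subgroup.mem_zpowers s)),
    hR (le_sup_left (b := Subgroup.zpowers s) (Subgroup.mem_zpowers t))⟩

/-- a cyclic group has at most one element of order 2 -/
theorem elem_unique_inv_of_cyclic {T : Type*} [Group T] [Finite T] [IsCyclic T] {s t : T}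
    (hs : orderOf s = 2) (ht : orderOf t = 2) : s = t := by
  classical
  haveI : Fintype T := Fintype.ofFinite T
  by_contra hne
  have hle := IsCyclic.card_pow_eq_one_le (α := T) (n := 2) (by norm_num)
  have hs1 : s ≠ 1 := fun h => by rw [h, orderOf_one] at hs; omega
  have ht1 : t ≠ 1 := fun h => by rw [h, orderOf_one] at ht; omega
  have hsub : ({1, s, t} : Finset T) ⊆ Finset.univ.filter (fun a : T => a ^ 2 = 1) := by
    intro x hx
    simp only [Finset.mem_insert, Finset.mem_singleton] at hx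
    simp only [Finset.mem_filter, Finset.mem_univ, true_and]
    rcases hx with rfl | rfl | rfl
    · exact one_pow 2
    · rw [← hs]; exact pow_orderOf_eq_one _
    · rw [← ht]; exact pow_orderOf_eq_one _
  have hcard : ({1, s, t} : Finset T).card = 3 := by
    rw [Finset.card_insert_of_notMem, Finset.card_insert_of_notMem, Finset.card_singleton]
    · simpa using hne
    · simp only [Finset.mem_insert, Finset.mem_singleton, not_or]
      exact ⟨fun h => hs1 h.symm, fun h => ht1 h.symm⟩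
  have := Finset.card_le_card hsub
  omega

theorem Cfg.of_elem (hh : Hyp G)
    (hk : ∃ s t : G, orderOf s = 2 ∧ orderOf t = 2 ∧ s ≠ t ∧ s * t = t * s)
    (hn : ∃ s t : G, orderOf s = 2 ∧ orderOf t = 2 ∧ s * t ≠ t * s) : Cfg G := by
  refine ⟨hh, ?_, ?_⟩
  · intro P hcyc
    obtain ⟨s, t, hs, ht, hne, hst⟩ := hk
    obtain ⟨R, hsR, htR⟩ := elem_exists_sylow hs ht hst
    have : IsCyclic R := (Sylow.equiv P R).isCyclic.mp hcyc
    have h1 : orderOf (⟨s, hsR⟩ : R) = 2 := (Subgroup.orderOf_mk s hsR).trans hs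
    have h2 : orderOf (⟨t, htR⟩ : R) = 2 := (Subgroup.orderOf_mk t htR).trans ht
    have := elem_unique_inv_of_cyclic h1 h2
    exact hne (congrArg Subtype.val this)
  · intro P
    by_contra hall
    push Not at hall
    obtain ⟨s, t, hs, ht, hst⟩ := hn
    obtain ⟨Rs, hsR⟩ := exists_sylow_of_orderOf_two hs
    obtain ⟨Rt, htR⟩ := exists_sylow_of_orderOf_two ht
    rw [hall Rs] at hsR
    rw [hall Rt] at htR
    exact hst (hh.comm_sylow P s hsR t htR)

theorem hα_of_elem (c : Cfg G)
    (h : ∀ s t x : G, orderOf s = 2 → orderOf t = 2 → s * t ≠ t * s → Odd (orderOf x) →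
      x * s = s * x → x * t = t * x → x = 1) :
    ∀ P Q : Sylow 2 G, P ≠ Q → Kn P ⊓ Kn Q = ⊥ := by
  intro P Q hPQ
  rw [eq_bot_iff]
  intro x hx
  rw [Subgroup.mem_bot]
  obtain ⟨hxP, hxQ⟩ := Subgroup.mem_inf.mp hx
  obtain ⟨s, hsP, hs2⟩ := c.exists_inv P
  obtain ⟨t, htQ, ht2⟩ := c.exists_inv Q
  obtain ⟨hxCP, hxodd⟩ := (c.mem_Kn_iff P).mp hxP
  obtain ⟨hxCQ, -⟩ := (c.mem_Kn_iff Q).mp hxQ
  have hnc : s * t ≠ t * s := by
    intro hst
    have htC : t ∈ Cn P := by
      rw [← c.centralizer_eq hsP hs2, Subgroup.mem_centralizer_singleton_iff]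
      exact hst.symm
    have htP : t ∈ P := c.mem_sylow_of_mem_Cn htC (k := 1) (by rw [ht2, pow_one])
    have := c.ti hPQ htP htQ
    rw [this, orderOf_one] at ht2
    omega
  refine h s t x hs2 ht2 hnc hxodd ?_ ?_
  · exact ((Subgroup.mem_centralizer_iff.mp hxCP) s hsP).symm
  · exact ((Subgroup.mem_centralizer_iff.mp hxCQ) t htQ).symm

theorem Cfg.not_normal (c : Cfg G) (P : Sylow 2 G) : ¬ (P : Subgroup G).Normal := by
  intro hN
  obtain ⟨Q, hQ⟩ := c.nn P
  obtain ⟨g, rfl⟩ := MulAction.exists_smul_eq G P Q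
  have := hN
  exact hQ Sylow.smul_eq_of_normal

end Cfsg.Agent.Helper2.AIC
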