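import Mathlib
import Cfsg.Agent.Lib.Helper2.TIHDefs
import Cfsg.Agent.Lib.Helper24.TIHOPI

/-!
# S4118 (TI Hall subgroup of a pi-separable group), PIECE PICORE   (helper24)
-/

set_option autoImplicit false
set_option linter.unusedSectionVars false
set_option linter.unusedVariables false

namespace Cfsg.Agent.Helper2.TIH

open Cfsg

namespace PICORE

/-- conjugation by an element normalizing `A` and `B` keeps `A ⊔ B`. -/
theorem conj_mem_sup {G : Type*} [Group G] {A B : Subgroup G} {n : G}
    (hA : n ∈ Subgroup.normalizer (A : Set G)) (hB : n ∈ Subgroup.normalizer (B : Set G))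
    {h : G} (hh : h ∈ A ⊔ B) : n * h * n⁻¹ ∈ A ⊔ B := by
  rw [Subgroup.sup_eq_closure] at hh ⊢
  induction hh using Subgroup.closure_induction with
  | mem x hx =>
    apply Subgroup.subset_closure
    rcases hx with hx | hx
    · left
      exact (Subgroup.mem_normalizer_iff.1 hA x).1 hx
    · right
      exact (Subgroup.mem_normalizer_iff.1 hB x).1 hx
  | one =>
    rw [mul_one, mul_inv_cancel]
    exact Subgroup.one_mem _
  | mul x y _ _ hx hy =>
    have : n * (x * y) * n⁻¹ = (n * x * n⁻¹) * (n * y * n⁻¹) := by group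
    rw [this]
    exact Subgroup.mul_mem _ hx hy
  | inv x _ hx =>
    have : n * x⁻¹ * n⁻¹ = (n * x * n⁻¹)⁻¹ := by group
    rw [this]
    exact Subgroup.inv_mem _ hx

theorem mem_normalizer_sup {G : Type*} [Group G] {A B : Subgroup G} {n : G}
    (hA : n ∈ Subgroup.normalizer (A : Set G)) (hB : n ∈ Subgroup.normalizer (B : Set G)) :
    n ∈ Subgroup.normalizer ((A ⊔ B : Subgroup G) : Set G) := by
  rw [Subgroup.mem_normalizer_iff]
  intro h
  constructor
  · exact fun hh => conj_mem_sup hA hB hh
  · intro hh
    have h1 := conj_mem_sup (Subgroup.inv_mem _ hA) (Subgroup.inv_mem _ hB) hh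
    have : n⁻¹ * (n * h * n⁻¹) * n⁻¹⁻¹ = h := by group
    rw [this] at h1
    exact h1

end PICORE

section PartA

variable {G : Type*} [Group G] [Finite G] (H : Subgroup G)

/-- PIECE PICORE. -/
theorem le_piCore_of_normalizer_le (hA : piCore H ⊔ Subgroup.normalizer (H : Set G) = ⊤)
    (X : Subgroup G) (hX : (Nat.card X).Coprime (Nat.card H))
    (hN : Subgroup.normalizer (H : Set G) ≤ Subgroup.normalizer (X : Set G)) : X ≤ piCore H := by
  have hOn : (piCore H).Normal := piCore_normal H
  have hnorm : (piCore H ⊔ X).Normal := by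
    rw [← Subgroup.normalizer_eq_top_iff, eq_top_iff, ← hA]
    apply sup_le
    · exact le_trans le_sup_left Subgroup.le_normalizer
    · intro n hn
      apply PICORE.mem_normalizer_sup
      · rw [Subgroup.normalizer_eq_top_iff.2 hOn]
        trivial
      · exact hN hn
  have hcop : (Nat.card ↥(piCore H ⊔ X)).Coprime (Nat.card H) :=
    Nat.Coprime.coprime_dvd_left (OPI.card_sup_dvd (piCore H) X)
      (Nat.Coprime.mul_left (piCore_coprime H) hX)
  exact le_trans le_sup_right (le_piCore H _ hnorm hcop)

end PartA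

end Cfsg.Agent.Helper2.TIH
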