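import Mathlib
import Cfsg.Agent.Lib.Helper2.TIHDefs
import Cfsg.Agent.Lib.Helper24.TIHOPI
import Cfsg.Agent.Lib.Helper24.TIHPICORE

/-!
# S4118 (TI Hall subgroup of a pi-separable group), PIECE CENT   (helper24)
-/

set_option autoImplicit false
set_option linter.unusedSectionVars false
set_option linter.unusedVariables false

namespace Cfsg.Agent.Helper2.TIH

open Cfsg

namespace CENT

/-- conjugating a centralizing element by a normalizing element -/
theorem conj_mem_centralizer {G : Type*} [Group G] {H : Subgroup G} {n c : G}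
    (hn : n ∈ Subgroup.normalizer (H : Set G)) (hc : c ∈ Subgroup.centralizer (H : Set G)) :
    n * c * n⁻¹ ∈ Subgroup.centralizer (H : Set G) := by
  rw [Subgroup.mem_centralizer_iff] at hc ⊢
  intro h hh
  have h1 : n⁻¹ * h * n ∈ H := by
    have := (Subgroup.mem_normalizer_iff.1 (Subgroup.inv_mem _ hn) h).1 hh
    simpa using this
  have h2 := hc _ h1
  calc h * (n * c * n⁻¹) = n * ((n⁻¹ * h * n) * c) * n⁻¹ := by group
    _ = n * (c * (n⁻¹ * h * n)) * n⁻¹ := by rw [h2]
    _ = n * c * n⁻¹ * h := by group

/-- a group with a central subgroup and a solvable complement to it is solvable -/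
theorem solvable_of_central_complement {C : Type*} [Group C] {Z X : Subgroup C}
    (hZ : Z ≤ Subgroup.center C) (hc : Subgroup.IsComplement' Z X) (hX : Group.IsSolvable X) :
    Group.IsSolvable C := by
  have : Group.IsSolvable Z := Group.isSolvable_of_comm (fun a b => by
    apply Subtype.ext
    have := Subgroup.mem_center_iff.1 (hZ a.2) b.1
    simpa using this.symm)
  let φ : Z × X →* C :=
    { toFun := fun p => p.1.1 * p.2.1
      map_one' := by simp
      map_mul' := by
        intro p q
        have hcomm : Commute (p.2.1 : C) (q.1.1 : C) :=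
          (Subgroup.mem_center_iff.1 (hZ q.1.2) p.2.1)
        show (p.1.1 * q.1.1) * (p.2.1 * q.2.1) = (p.1.1 * p.2.1) * (q.1.1 * q.2.1)
        exact (hcomm.mul_mul_mul_comm _ _).symm }
  exact Group.isSolvable_of_surjective (f := φ) hc.2

/-- with `Z` central, `X` a complement of order `m` coprime to `|Z|`: `X` is the set of solutions of `c ^ m = 1` -/
theorem mem_complement_iff {C : Type*} [Group C] [Finite C] {Z X : Subgroup C}
    (hZ : Z ≤ Subgroup.center C) (hc : Subgroup.IsComplement' Z X)
    (hcop : (Nat.card Z).Coprime (Nat.card X)) (c : C) :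
    c ∈ X ↔ c ^ Nat.card X = 1 := by
  constructor
  · intro hcX
    have := pow_card_eq_one' (G := X) (x := ⟨c, hcX⟩)
    have h2 := congrArg Subtype.val this
    rw [Subgroup.coe_pow] at h2
    exact h2
  · intro hpow
    obtain ⟨⟨z, x⟩, hzx⟩ := hc.2 c
    have hzx' : (z : C) * (x : C) = c := hzx
    have hcomm : Commute (z : C) (x : C) :=
      ((Subgroup.mem_center_iff.1 (hZ z.2) x.1)).symm
    have hx : (x : C) ^ Nat.card X = 1 := by
      have := pow_card_eq_one' (G := X) (x := x)
      have h2 := congrArg Subtype.val this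
      rw [Subgroup.coe_pow] at h2
      exact h2
    have hz : (z : C) ^ Nat.card X = 1 := by
      rw [← hzx', hcomm.mul_pow, hx, mul_one] at hpow
      exact hpow
    have hz2 : (z : C) ^ Nat.card Z = 1 := by
      have := pow_card_eq_one' (G := Z) (x := z)
      have h2 := congrArg Subtype.val this
      rw [Subgroup.coe_pow] at h2
      exact h2
    have ho1 : orderOf (z : C) ∣ Nat.card X := orderOf_dvd_of_pow_eq_one hz
    have ho2 : orderOf (z : C) ∣ Nat.card Z := orderOf_dvd_of_pow_eq_one hz2
    have ho : orderOf (z : C) = 1 := Nat.eq_one_of_dvd_coprimes hcop ho2 ho1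
    have hz1 : (z : C) = 1 := orderOf_eq_one_iff.1 ho
    rw [← hzx', hz1, one_mul]
    exact x.2

end CENT

section PartA

variable {G : Type*} [Group G] [Finite G] (H : Subgroup G)

/-- PIECE CENT. -/
theorem centralizer_solvable
    (hHall : (Nat.card H).Coprime (H.subgroupOf (Subgroup.normalizer (H : Set G))).index)
    (hA : piCore H ⊔ Subgroup.normalizer (H : Set G) = ⊤) (hOs : Group.IsSolvable (piCore H)) :
    Group.IsSolvable (Subgroup.centralizer (H : Set G)) := by
  set N : Subgroup G := Subgroup.normalizer (H : Set G) with hNdef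
  set C : Subgroup G := Subgroup.centralizer (H : Set G) with hCdef
  have hCN : C ≤ N := Subgroup.centralizer_le_normalizer _
  -- the central subgroup `Z' = H ⊓ C` of `C`
  set Z' : Subgroup C := H.subgroupOf C with hZ'def
  have hZc : Z' ≤ Subgroup.center C := by
    intro z hz
    rw [Subgroup.mem_center_iff]
    intro c
    apply Subtype.ext
    have hzH : (z : G) ∈ H := hz
    have := (Subgroup.mem_centralizer_iff.1 c.2) _ hzH
    simpa using this.symm
  have hZn : Z'.Normal := by
    constructor
    intro z hz c
    have := Subgroup.mem_center_iff.1 (hZc hz) c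
    rw [this, mul_inv_cancel_right]
    exact hz
  -- index of `Z'`
  have hidx : Z'.index ∣ (H.subgroupOf N).index := by
    have h1 : Z'.index = H.relIndex C := rfl
    rw [h1, ← Subgroup.relIndex_subgroupOf (H := H) hCN]
    exact Subgroup.relIndex_dvd_index_of_normal _ _
  have hcardZ : Nat.card Z' ∣ Nat.card H := by
    let f : Z' →* H :=
      { toFun := fun z => ⟨(z.1 : G), z.2⟩
        map_one' := rfl
        map_mul' := fun _ _ => rfl }
    apply Subgroup.card_dvd_of_injective f
    intro a b hab
    have := congrArg (fun t : H => (t : G)) hab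
    exact Subtype.ext (Subtype.ext this)
  have hcopZ : (Nat.card Z').Coprime Z'.index :=
    Nat.Coprime.coprime_dvd_left hcardZ (Nat.Coprime.coprime_dvd_right hidx hHall)
  obtain ⟨X', hX'⟩ := Subgroup.exists_right_complement'_of_coprime hcopZ
  have hm : Z'.index = Nat.card X' := hX'.symm.index_eq_card
  have hcopX : (Nat.card Z').Coprime (Nat.card X') := hm ▸ hcopZ
  have hcopXH : (Nat.card X').Coprime (Nat.card H) := by
    rw [← hm]
    exact (Nat.Coprime.coprime_dvd_right hidx hHall).symm
  -- `X` in `G`
  set X : Subgroup G := X'.map C.subtype with hXdef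
  have hcardX : Nat.card X = Nat.card X' :=
    Subgroup.card_map_of_injective C.subtype_injective
  -- conjugation
  have hconj : ∀ n ∈ N, ∀ x ∈ X, n * x * n⁻¹ ∈ X := by
    intro n hn x hx
    obtain ⟨x', hx', rfl⟩ := hx
    have hyC : n * (x' : G) * n⁻¹ ∈ C := CENT.conj_mem_centralizer hn x'.2
    refine ⟨⟨n * (x' : G) * n⁻¹, hyC⟩, (CENT.mem_complement_iff hZc hX' hcopX _).2 ?_, rfl⟩
    apply Subtype.ext
    have hpow : (x' : G) ^ Nat.card X' = 1 := by
      have := (CENT.mem_complement_iff hZc hX' hcopX x').1 hx'
      have h2 := congrArg Subtype.val this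
      rw [Subgroup.coe_pow] at h2
      exact h2
    show (n * (x' : G) * n⁻¹) ^ Nat.card X' = 1
    rw [conj_pow, hpow, mul_one, mul_inv_cancel]
  have hNX : N ≤ Subgroup.normalizer (X : Set G) := by
    intro n hn
    rw [Subgroup.mem_normalizer_iff]
    intro h
    constructor
    · exact fun hh => hconj n hn h hh
    · intro hh
      have h1 := hconj n⁻¹ (Subgroup.inv_mem _ hn) _ hh
      have : n⁻¹ * (n * h * n⁻¹) * n⁻¹⁻¹ = h := by group
      rw [this] at h1
      exact h1
  have hXle : X ≤ piCore H :=
    le_piCore_of_normalizer_le H hA X (hcardX ▸ hcopXH) hNX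
  -- `X'` is solvable
  have hX'solv : Group.IsSolvable X' := by
    let g : X' →* piCore H :=
      { toFun := fun x => ⟨((x : C) : G), hXle ⟨(x : C), x.2, rfl⟩⟩
        map_one' := rfl
        map_mul' := fun _ _ => rfl }
    have := hOs
    apply Group.isSolvable_of_isSolvable_injective (f := g)
    intro a b hab
    have := congrArg (fun t : piCore H => (t : G)) hab
    exact Subtype.ext (Subtype.ext this)
  exact CENT.solvable_of_central_complement hZc hX' hX'solv

end PartA

end Cfsg.Agent.Helper2.TIH
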