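import Mathlib
import Cfsg.Agent.Lib.Helper8.ABDefs

/-!
PIECE AB-CONJLOC of S3301 (helper8's farm-out): the local data `Loc z E` transports along
conjugation by `r⁻¹`.
-/

set_option autoImplicit false

namespace Cfsg.Agent.Helper8.AB

open Cfsg.Agent.Helper8.XS

theorem abconjloc_mem {G : Type*} [Group G] (E : Subgroup G) (r x : G) :
    x ∈ E.map (MulAut.conj r⁻¹).toMonoidHom ↔ r * x * r⁻¹ ∈ E := by
  rw [Subgroup.mem_map]
  constructor
  · rintro ⟨e, he, rfl⟩
    have : r * ((MulAut.conj r⁻¹).toMonoidHom e) * r⁻¹ = e := by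
      simp [MulAut.conj_apply, mul_assoc]
    rw [this]
    exact he
  · intro h
    refine ⟨r * x * r⁻¹, h, ?_⟩
    simp [MulAut.conj_apply, mul_assoc]

theorem abconjloc_eq_iff {G : Type*} [Group G] (r a b : G) :
    r * a * r⁻¹ = r * b * r⁻¹ ↔ a = b := by
  constructor
  · intro h
    have := congrArg (fun t => r⁻¹ * t * r) h
    simpa [mul_assoc] using this
  · intro h
    rw [h]

theorem abconjloc_xs {G : Type*} [Group G] {z : G} {E : Subgroup G} (xs : XSp E z) (r : G) :
    XSp (E.map (MulAut.conj r⁻¹).toMonoidHom) (r⁻¹ * z * r) := by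
  have hback : r * (r⁻¹ * z * r) * r⁻¹ = z := by group
  refine ⟨?_, ?_, ?_, ?_, ?_, ?_, ?_⟩
  · rw [abconjloc_mem, hback]
    exact xs.hzE
  · intro h
    apply xs.hz1
    calc z = r * (r⁻¹ * z * r) * r⁻¹ := hback.symm
      _ = 1 := by rw [h]; group
  · calc r⁻¹ * z * r * (r⁻¹ * z * r) = r⁻¹ * (z * z) * r := by group
      _ = 1 := by rw [xs.hzz]; group
  · intro x hx
    rw [abconjloc_mem] at hx
    have h := xs.hcen _ hx
    calc x * (r⁻¹ * z * r) = r⁻¹ * ((r * x * r⁻¹) * z) * r := by group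
      _ = r⁻¹ * (z * (r * x * r⁻¹)) * r := by rw [h]
      _ = r⁻¹ * z * r * x := by group
  · intro w hw hall
    rw [abconjloc_mem] at hw
    have h := xs.hcenter _ hw (by
      intro x hx
      have hx' : r⁻¹ * x * r ∈ E.map (MulAut.conj r⁻¹).toMonoidHom := by
        rw [abconjloc_mem]
        have : r * (r⁻¹ * x * r) * r⁻¹ = x := by group
        rw [this]
        exact hx
      have h1 := hall _ hx'
      calc r * w * r⁻¹ * x = r * (w * (r⁻¹ * x * r)) * r⁻¹ := by group
        _ = r * ((r⁻¹ * x * r) * w) * r⁻¹ := by rw [h1]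
        _ = x * (r * w * r⁻¹) := by group)
    rcases h with h | h
    · left
      calc w = r⁻¹ * (r * w * r⁻¹) * r := by group
        _ = 1 := by rw [h]; group
    · right
      calc w = r⁻¹ * (r * w * r⁻¹) * r := by group
        _ = r⁻¹ * z * r := by rw [h]
  · intro x hx y hy
    rw [abconjloc_mem] at hx hy
    rcases xs.hcomm _ hx _ hy with h | h
    · left
      calc x * y = r⁻¹ * ((r * x * r⁻¹) * (r * y * r⁻¹)) * r := by group
        _ = r⁻¹ * ((r * y * r⁻¹) * (r * x * r⁻¹)) * r := by rw [h]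
        _ = y * x := by group
    · right
      calc x * y = r⁻¹ * ((r * x * r⁻¹) * (r * y * r⁻¹)) * r := by group
        _ = r⁻¹ * (z * ((r * y * r⁻¹) * (r * x * r⁻¹))) * r := by rw [h]
        _ = r⁻¹ * z * r * (y * x) := by group
  · intro x hx
    rw [abconjloc_mem] at hx
    rcases xs.hsq _ hx with h | h
    · left
      calc x * x = r⁻¹ * ((r * x * r⁻¹) * (r * x * r⁻¹)) * r := by group
        _ = 1 := by rw [h]; group
    · right
      calc x * x = r⁻¹ * ((r * x * r⁻¹) * (r * x * r⁻¹)) * r := by group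
        _ = r⁻¹ * z * r := by rw [h]

/-- PIECE AB-CONJLOC -/
theorem loc_conj {G : Type*} [Group G] {z : G} {E : Subgroup G} (l : Loc z E) (r : G) :
    Loc (r⁻¹ * z * r) (E.map (MulAut.conj r⁻¹).toMonoidHom) := by
  -- commuting with the conjugate of `z` means the conjugate commutes with `z`
  have hcommz : ∀ h : G, h * (r⁻¹ * z * r) = r⁻¹ * z * r * h →
      (r * h * r⁻¹) * z = z * (r * h * r⁻¹) := by
    intro h hh
    calc r * h * r⁻¹ * z = r * (h * (r⁻¹ * z * r)) * r⁻¹ := by group
      _ = r * (r⁻¹ * z * r * h) * r⁻¹ := by rw [hh]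
      _ = z * (r * h * r⁻¹) := by group
  refine ⟨abconjloc_xs l.xs r, ?_, ?_, ?_⟩
  · intro h hh e he
    rw [abconjloc_mem] at he ⊢
    have := l.hn (r * h * r⁻¹) (hcommz h hh) _ he
    have heq : r * (h * e * h⁻¹) * r⁻¹ = r * h * r⁻¹ * (r * e * r⁻¹) * (r * h * r⁻¹)⁻¹ := by group
    rw [heq]
    exact this
  · intro g hg
    rw [abconjloc_mem]
    apply l.hcent
    intro e he
    have he' : r⁻¹ * e * r ∈ E.map (MulAut.conj r⁻¹).toMonoidHom := by
      rw [abconjloc_mem]
      have : r * (r⁻¹ * e * r) * r⁻¹ = e := by group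
      rw [this]
      exact he
    have h1 := hg _ he'
    calc r * g * r⁻¹ * e = r * (g * (r⁻¹ * e * r)) * r⁻¹ := by group
      _ = r * ((r⁻¹ * e * r) * g) * r⁻¹ := by rw [h1]
      _ = e * (r * g * r⁻¹) := by group
  · intro N hNc hNn hN2
    -- transport `N` to `r N r⁻¹`
    have hmemN' : ∀ x : G, x ∈ N.map (MulAut.conj r).toMonoidHom ↔ r⁻¹ * x * r ∈ N := by
      intro x
      rw [Subgroup.mem_map]
      constructor
      · rintro ⟨m, hm, rfl⟩
        have : r⁻¹ * ((MulAut.conj r).toMonoidHom m) * r = m := by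
          simp [MulAut.conj_apply, mul_assoc]
        rw [this]
        exact hm
      · intro h
        refine ⟨r⁻¹ * x * r, h, ?_⟩
        simp [MulAut.conj_apply, mul_assoc]
    have hle : N.map (MulAut.conj r).toMonoidHom ≤ E := by
      apply l.hmax
      · intro m hm
        rw [hmemN'] at hm
        have h1 := hNc _ hm
        calc m * z = r * ((r⁻¹ * m * r) * (r⁻¹ * z * r)) * r⁻¹ := by group
          _ = r * ((r⁻¹ * z * r) * (r⁻¹ * m * r)) * r⁻¹ := by rw [h1]
          _ = z * m := by group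
      · intro h hh m hm
        rw [hmemN'] at hm ⊢
        have hh' : (r⁻¹ * h * r) * (r⁻¹ * z * r) = r⁻¹ * z * r * (r⁻¹ * h * r) := by
          calc r⁻¹ * h * r * (r⁻¹ * z * r) = r⁻¹ * (h * z) * r := by group
            _ = r⁻¹ * (z * h) * r := by rw [hh]
            _ = r⁻¹ * z * r * (r⁻¹ * h * r) := by group
        have := hNn _ hh' _ hm
        have heq : r⁻¹ * (h * m * h⁻¹) * r = r⁻¹ * h * r * (r⁻¹ * m * r) * (r⁻¹ * h * r)⁻¹ := by
          group
        rw [heq]
        exact this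
      · exact hN2.map _
    intro m hm
    rw [abconjloc_mem]
    apply hle
    rw [hmemN']
    have : r⁻¹ * (r * m * r⁻¹) * r = m := by group
    rw [this]
    exact hm

end Cfsg.Agent.Helper8.AB
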