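import Mathlib
import Cfsg.Agent.Lib.Helper8.ABDefs

/-!
PIECE AB-TRANSL of S3301 (helper8's farm-out): translating a block of cosets by `r`.
-/

set_option autoImplicit false

namespace Cfsg.Agent.Helper8.AB

open Cfsg.Agent.Helper8.XS

theorem abtransl_mem {G : Type*} [Group G] (E : Subgroup G) (r x : G) :
    x ∈ E.map (MulAut.conj r⁻¹).toMonoidHom ↔ r * x * r⁻¹ ∈ E := by
  rw [Subgroup.mem_map]
  constructor
  · rintro ⟨e, he, rfl⟩
    have : r * ((MulAut.conj r⁻¹).toMonoidHom e) * r⁻¹ = e := by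
      simp [MulAut.conj_apply, mul_assoc]
    rw [this]
    exact he
  · intro h
    refine ⟨r * x * r⁻¹, h, ?_⟩
    simp [MulAut.conj_apply, mul_assoc]

/-- PIECE AB-TRANSL -/
theorem blk_translate {G : Type*} [Group G] (E H : Subgroup G) [Fintype (G ⧸ H)]
    {A : Type*} [CommGroup A] (ψ : ↥H →* A) (y r : G) :
    ∏ x ∈ blk E H (r : G ⧸ H), valH ψ (x.out⁻¹ * y * x.out) =
      ∏ x ∈ blk (E.map (MulAut.conj r⁻¹).toMonoidHom) H ((1 : G) : G ⧸ H),
        valH ψ (x.out⁻¹ * (r⁻¹ * y * r) * x.out) := by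
  refine Finset.prod_nbij' (fun x => r⁻¹ • x) (fun x => r • x) ?_ ?_ ?_ ?_ ?_
  · intro x hx
    obtain ⟨e, he, rfl⟩ := mem_blk.1 hx
    refine mem_blk.2 ⟨r⁻¹ * e * r, ?_, ?_⟩
    · rw [abtransl_mem]
      have : r * (r⁻¹ * e * r) * r⁻¹ = e := by group
      rw [this]
      exact he
    · rw [MulAction.Quotient.smul_mk, MulAction.Quotient.smul_mk, MulAction.Quotient.smul_mk]
      congr 1
      simp [mul_assoc]
  · intro x hx
    obtain ⟨e, he, rfl⟩ := mem_blk.1 hx
    rw [abtransl_mem] at he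
    refine mem_blk.2 ⟨r * e * r⁻¹, he, ?_⟩
    rw [MulAction.Quotient.smul_mk, MulAction.Quotient.smul_mk, MulAction.Quotient.smul_mk]
    congr 1
    simp [mul_assoc]
  · intro x _
    simp
  · intro x _
    simp
  · intro x _
    induction x using QuotientGroup.induction_on with
    | H g =>
      rw [MulAction.Quotient.smul_mk, valH_out, valH_out]
      congr 1
      simp only [smul_eq_mul]
      group

end Cfsg.Agent.Helper8.AB
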