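import Mathlib
import Cfsg.Agent.Lib.Helper24.IPDefs
import Cfsg.Agent.Lib.Helper24.Cd3Trick
import Cfsg.Agent.Lib.Helper24.OverInvD

/-!
# Isaacs–Passman, pieces CEN and HALF (helper24)
-/

set_option autoImplicit false
set_option linter.style.haveILetI false

namespace Cfsg.Agent.Helper24.IP

open Cfsg Cfsg.Agent.Helper24 Cfsg.Agent.Helper5 Cfsg.Agent.Helper18
open scoped ComplexConjugate

universe u

/-- The norm of a function as a real number. -/
theorem classInner_self_eq_real {A : Type u} [Group A] [Fintype A] (f : A → ℂ) :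
    classInner f f = (((Nat.card A : ℝ)⁻¹ * ∑ a : A, Complex.normSq (f a) : ℝ) : ℂ) := by
  unfold classInner
  push_cast
  congr 1
  refine Finset.sum_congr rfl fun a _ => ?_
  rw [Complex.mul_conj]

variable {G : Type u} [Group G] [Finite G]

/-- If the nonlinear irreducible character `β` vanishes off `H` and `|G : H| = β(1)²`, the
irreducible characters of `H` have degree less than the largest degree of `G`. -/
theorem lt_of_vanish_off {b : ℕ} (hb : Bdd G b) {β : G → ℂ} (hβ : IsIrrCharacter G β)
    (hnl : charDegree β ≠ 1) (H : Subgroup G) (hvan : ∀ g, g ∉ H → β g = 0)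
    (hidx : H.index = charDegree β ^ 2) {η : H → ℂ} (hη : IsIrrCharacter H η) :
    charDegree η < b := by
  classical
  letI : Fintype G := Fintype.ofFinite G
  letI : Fintype H := Fintype.ofFinite H
  letI := irrFintype (G := G)
  have hle := (hb.subgroup H) η hη
  by_contra hcon
  have hdeg : charDegree η = b := by omega
  obtain ⟨χ, hχ, hχd, hres⟩ := exists_ext hb H hη hdeg
  have hχc := isCharacter_of_isIrrCharacter hχ
  have hβc := isCharacter_of_isIrrCharacter hβ
  have hprod : IsCharacter G (χ * β) := isCharacter_mul hχc hβc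
  obtain ⟨n, hn⟩ := classInner_char_nat hprod hprod
  have hb1 := hb.one_le
  have hβpos := charDegree_pos hβ
  -- the norm is nonzero
  have hn0 : n ≠ 0 := by
    intro h0
    rw [h0, Nat.cast_zero] at hn
    have h1 := congrFun (classInner_self_eq_zero hn) 1
    rw [Pi.mul_apply, Pi.zero_apply, irr_one_eq_charDegree hχ, irr_one_eq_charDegree hβ, hχd] at h1
    have : (b * charDegree β : ℕ) = 0 := by exact_mod_cast h1
    rcases Nat.mul_eq_zero.mp this with h | h <;> omega
  -- the norm is at most one
  have hreal : (n : ℝ) = (Nat.card G : ℝ)⁻¹ * ∑ g : G, Complex.normSq ((χ * β) g) := by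
    have h1 := classInner_self_eq_real (χ * β)
    rw [hn] at h1
    exact_mod_cast h1
  have hη1 : (1 : ℝ) = (Nat.card H : ℝ)⁻¹ * ∑ h : H, Complex.normSq (η h) := by
    have h1 := classInner_self_eq_real η
    rw [irr_orthogonality hη hη, if_pos rfl] at h1
    exact_mod_cast h1
  have hGpos : (0 : ℝ) < Nat.card G := by exact_mod_cast Nat.card_pos
  have hHpos : (0 : ℝ) < Nat.card H := by exact_mod_cast Nat.card_pos
  have hsumH : ∑ h : H, Complex.normSq (η h) = Nat.card H := by
    field_simp at hη1
    linarith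
  have hsum : ∑ g : G, Complex.normSq ((χ * β) g) = ∑ h : H, Complex.normSq ((χ * β) (h : G)) := by
    have h1 : ∀ x ∉ H, ((Complex.normSq ((χ * β) x) : ℝ) : ℂ) = 0 := by
      intro x hx
      rw [Pi.mul_apply, hvan x hx, mul_zero, map_zero, Complex.ofReal_zero]
    have h2 := sum_eq_sum_subgroup H (fun g => ((Complex.normSq ((χ * β) g) : ℝ) : ℂ)) h1
    have h3 : ((∑ g : G, Complex.normSq ((χ * β) g) : ℝ) : ℂ) =
        ((∑ h : H, Complex.normSq ((χ * β) (h : G)) : ℝ) : ℂ) := by
      push_cast
      exact h2
    exact_mod_cast h3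
  have hbound : ∑ h : H, Complex.normSq ((χ * β) (h : G)) ≤
      (charDegree β : ℝ) ^ 2 * Nat.card H := by
    rw [← hsumH, Finset.mul_sum]
    apply Finset.sum_le_sum
    intro h _
    rw [Pi.mul_apply, map_mul]
    have h1 : χ (h : G) = η h := congrFun hres h
    rw [h1, mul_comm]
    apply mul_le_mul_of_nonneg_right _ (Complex.normSq_nonneg _)
    have h2 := norm_le_charDegree hβc (h : G)
    rw [Complex.normSq_eq_norm_sq]
    exact pow_le_pow_left₀ (norm_nonneg _) h2 2
  have hcard : (Nat.card G : ℝ) = (Nat.card H : ℝ) * (charDegree β : ℝ) ^ 2 := by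
    have := Subgroup.card_mul_index H
    rw [hidx] at this
    exact_mod_cast this.symm
  have hn1 : (n : ℝ) ≤ 1 := by
    rw [hreal, hsum, hcard]
    have hβr : (0 : ℝ) < (charDegree β : ℝ) ^ 2 := by positivity
    rw [inv_mul_le_iff₀ (by positivity)]
    linarith
  have hn1' : n = 1 := by
    have : n ≤ 1 := by exact_mod_cast hn1
    omega
  rw [hn1', Nat.cast_one] at hn
  have hirr := isIrrCharacter_of_classInner_self_eq_one hprod hn
  have hd := hb _ hirr
  rw [Cd3.charDegree_mul hχc hβc, hχd] at hd
  have : charDegree β ≤ 1 := by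
    by_contra h
    have h2 : 2 ≤ charDegree β := by omega
    have : b * 2 ≤ b * charDegree β := Nat.mul_le_mul_left b h2
    omega
  omega

/-- If `G ⧸ K` is nonabelian, the character degrees of `K` are at most half the largest degree
of `G`. -/
theorem bdd_half {b : ℕ} (hb : Bdd G b) (K : Subgroup G) [hKn : K.Normal]
    (hna : ¬ commutator G ≤ K) : Bdd K (b / 2) := by
  classical
  letI : Fintype G := Fintype.ofFinite G
  letI : Fintype K := Fintype.ofFinite K
  letI := irrFintype (G := K)
  intro ζ hζ
  obtain ⟨χ, hχ, hcon⟩ := Cd2.exists_over K hζ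
  have h1 := degree_eq_of_constituent K hχ hζ hcon
  have hχK : IsCharacter K (fun n : K => χ n) :=
    isCharacter_restrict K (isCharacter_of_isIrrCharacter hχ)
  obtain ⟨e, he⟩ := classInner_char_nat hχK (isCharacter_of_isIrrCharacter hζ)
  rw [he, irr_one_eq_charDegree hχ, irr_one_eq_charDegree hζ] at h1
  have h2 : charDegree χ = e * (inertia K ζ).index * charDegree ζ := by exact_mod_cast h1
  have he0 : e ≠ 0 := by
    intro h
    rw [h, Nat.cast_zero] at he
    exact hcon he
  have ht0 : (inertia K ζ).index ≠ 0 := Subgroup.index_ne_zero_of_finite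
  have hχb := hb χ hχ
  suffices h : 2 * charDegree ζ ≤ b by omega
  by_cases het : 2 ≤ e * (inertia K ζ).index
  · calc 2 * charDegree ζ ≤ e * (inertia K ζ).index * charDegree ζ := Nat.mul_le_mul_right _ het
      _ = charDegree χ := h2.symm
      _ ≤ b := hχb
  · have hpos : 0 < e * (inertia K ζ).index :=
      Nat.mul_pos (Nat.pos_of_ne_zero he0) (Nat.pos_of_ne_zero ht0)
    have het1 : e * (inertia K ζ).index = 1 := by omega
    rw [het1, one_mul] at h2
    obtain ⟨ρ, hρ, hsum⟩ := exists_add_of_constituent hχK hζ hcon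
    have h3 := congrFun hsum 1
    simp only [Pi.add_apply, Subgroup.coe_one] at h3
    rw [irr_one_eq_charDegree hχ, irr_one_eq_charDegree hζ, char_one_eq_charDegree hρ, h2] at h3
    have h4 : charDegree ρ = 0 := by
      have : (charDegree ζ : ℂ) = ((charDegree ζ + charDegree ρ : ℕ) : ℂ) := by
        rw [h3]; push_cast; ring
      have := Nat.cast_injective this
      omega
    have hρ1 : ρ 1 = 0 := by rw [char_one_eq_charDegree hρ, h4, Nat.cast_zero]
    have hρ0 := char_eq_zero_of_one_eq_zero hρ hρ1
    have hres : IsIrrCharacter K (fun n : K => χ n) := by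
      rw [hsum, hρ0, add_zero]
      exact hζ
    have hQna : ∃ x y : G ⧸ K, x * y ≠ y * x := by
      by_contra hc
      push Not at hc
      apply hna
      rw [commutator_def, Subgroup.commutator_le]
      intro x _ y _
      rw [← QuotientGroup.eq_one_iff, commutatorElement_def, QuotientGroup.mk_mul,
        QuotientGroup.mk_mul, QuotientGroup.mk_mul, QuotientGroup.mk_inv, QuotientGroup.mk_inv,
        hc (QuotientGroup.mk x) (QuotientGroup.mk y)]
      group
    obtain ⟨θ, hθ, hθnl⟩ := Cd2.exists_nonlinear hQna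
    have hβ := isIrrCharacter_inflate K hθ
    have hk : ∀ n ∈ K, (θ ∘ (QuotientGroup.mk : G → G ⧸ K)) n =
        (θ ∘ (QuotientGroup.mk : G → G ⧸ K)) 1 := by
      intro n hn
      simp only [Function.comp_apply]
      rw [(QuotientGroup.eq_one_iff n).mpr hn, QuotientGroup.mk_one]
    have hirr := OverInv.gallagher_mul K hχ hres hβ hk
    have hd := hb _ hirr
    rw [Cd3.charDegree_mul (isCharacter_of_isIrrCharacter hβ) (isCharacter_of_isIrrCharacter hχ),
      h2] at hd
    have hθd : charDegree (θ ∘ (QuotientGroup.mk : G → G ⧸ K)) = charDegree θ :=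
      Cd2.charDegree_comp (QuotientGroup.mk' K) θ
    rw [hθd] at hd
    have hθpos := charDegree_pos hθ
    have hθ2 : 2 ≤ charDegree θ := by omega
    calc 2 * charDegree ζ ≤ charDegree θ * charDegree ζ := Nat.mul_le_mul_right _ hθ2
      _ ≤ b := hd

end Cfsg.Agent.Helper24.IP
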