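import Mathlib
import Cfsg.Agent.Lib.Helper21.BHDefs

/-!
# S4504 (Brauer), PIECE NUM: the pure arithmetic of the multiplicities   (helper24)
-/

set_option autoImplicit false
set_option linter.unusedSectionVars false
set_option linter.unusedVariables false

namespace Cfsg.Agent.Helper21.BH

namespace NUM

/-- the arithmetic core of `num_core`, on the block sums. -/
theorem arith (w p ep em Mm SY2 U AY AR DY : ℕ) (hpw : 2 * w + 1 = p) (hw : 2 ≤ w)
    (ha : 1 + ep + em = w)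
    (hb : w ^ 2 = 2 * w * (Mm + em) + SY2)
    (hc : w = 1 + 2 * ep + U + AY + AR)
    (hd : w ^ 2 = 1 + p * U + (p + 1) * ep + 2 * w * Mm + DY + p * AR) :
    Mm = 0 ∧ U = 0 ∧ AR = 0 ∧
      ((AY = 0 ∧ DY = 0 ∧ SY2 = w) ∨ (SY2 = 0 ∧ AY = 1 ∧ DY = w + 1)) := by
  subst hpw
  have h1 : 2 * (Mm + em) ≤ w := by
    by_contra hcon
    push Not at hcon
    have h2 : w * (w + 1) ≤ w * (2 * (Mm + em)) := Nat.mul_le_mul_left _ hcon
    nlinarith
  have hMm : Mm = 0 := by omega
  subst hMm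
  have h2 : 2 * em = w ∨ 2 * em + 1 = w := by omega
  rcases h2 with h2 | h2
  · -- case B
    have hep : em = ep + 1 := by omega
    subst hep
    subst h2
    have hS : SY2 = 0 := by nlinarith
    have hUA : (U = 0 ∧ AR = 0) ∨ (U = 1 ∧ AR = 0) ∨ (U = 0 ∧ AR = 1) := by omega
    rcases hUA with ⟨hU, hA⟩ | ⟨hU, hA⟩ | ⟨hU, hA⟩
    · subst hU
      subst hA
      refine ⟨rfl, rfl, rfl, Or.inr ⟨hS, by omega, by nlinarith⟩⟩
    · subst hU
      subst hA
      exfalso
      nlinarith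
    · subst hU
      subst hA
      exfalso
      nlinarith
  · -- case A
    have hep : ep = em := by omega
    subst hep
    subst h2
    have hU : U = 0 := by omega
    have hAY : AY = 0 := by omega
    have hAR : AR = 0 := by omega
    subst hU
    subst hAY
    subst hAR
    refine ⟨rfl, rfl, rfl, Or.inl ⟨rfl, by nlinarith, by nlinarith⟩⟩

theorem sum_X {ι : Type*} [DecidableEq ι] {M : Type*} [AddCommMonoid M] (X : Finset ι)
    (sg : ι → ℤ) (one : ι) (sg_pm : ∀ i ∈ X, sg i = 1 ∨ sg i = -1) (one_mem : one ∈ X)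
    (sg_one : sg one = 1) (f : ι → M) :
    ∑ i ∈ X, f i = f one + ∑ i ∈ (X.filter (fun i => sg i = 1)).erase one, f i
      + ∑ i ∈ X.filter (fun i => sg i = -1), f i := by
  rw [← Finset.sum_filter_add_sum_filter_not X (fun i => sg i = 1) f]
  congr 1
  · rw [Finset.add_sum_erase]
    simp [Finset.mem_filter, one_mem, sg_one]
  · apply Finset.sum_congr _ (fun _ _ => rfl)
    ext i
    simp only [Finset.mem_filter]
    constructor
    · rintro ⟨hi, h⟩
      rcases sg_pm i hi with h1 | h1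
      · exact absurd h1 h
      · exact ⟨hi, h1⟩
    · rintro ⟨hi, h⟩
      refine ⟨hi, ?_⟩
      rw [h]
      norm_num

theorem sum_all {ι : Type*} [Fintype ι] [DecidableEq ι] {M : Type*} [AddCommMonoid M]
    (X Y : Finset ι) (disj : Disjoint X Y) (f : ι → M) :
    ∑ i, f i = ∑ i ∈ X, f i + ∑ i ∈ Y, f i + ∑ i ∈ Finset.univ \ (X ∪ Y), f i := by
  rw [← Finset.sum_union disj, add_comm, Finset.sum_sdiff (Finset.subset_univ _)]

end NUM

/-- PIECE NUM. -/
theorem num_core {ι : Type*} [Fintype ι] [DecidableEq ι] (deg a : ι → ℕ) (X Y : Finset ι)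
    (sg : ι → ℤ) (d0 : ℤ) (one : ι) (p w : ℕ) (hpw : 2 * w + 1 = p) (hw : 2 ≤ w)
    (disj : Disjoint X Y) (cardX : X.card = w)
    (sg_pm : ∀ i ∈ X, sg i = 1 ∨ sg i = -1) (d0_pm : d0 = 1 ∨ d0 = -1)
    (one_mem : one ∈ X) (sg_one : sg one = 1) (deg_one : deg one = 1)
    (eq_one : ∀ i, deg i = 1 → i = one) (deg_pos : ∀ i, 0 < deg i)
    (hwX : ∀ i ∈ X, (p : ℤ) * a i = deg i + sg i * ((p : ℤ) - 1))
    (hwY : ∀ i ∈ Y, (p : ℤ) * a i = deg i + d0 * w)
    (hwD : ∀ i, i ∉ X → i ∉ Y → p * a i = deg i)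
    (degY : ∀ i ∈ Y, ∀ j ∈ Y, deg i = deg j)
    (m1 m2 : ι → ℕ) (hsg : ∀ i ∈ X, (m1 i : ℤ) - (m2 i : ℤ) = sg i)
    (hd1 : ∑ i, m1 i * deg i = w ^ 2) (hd2 : ∑ i, m2 i * deg i = w ^ 2)
    (ha1 : ∑ i, m1 i * a i = w) (ha2 : ∑ i, m2 i * a i = 0) :
    NumOut deg X Y sg d0 one p w m1 m2 := by
  classical
  have hp5 : 5 ≤ p := by omega
  have F1 : ∀ i, m2 i * a i = 0 := by
    intro i
    exact (Finset.sum_eq_zero_iff.1 ha2) i (Finset.mem_univ i)
  have Fm : ∀ i ∈ X, sg i = -1 → m2 i = m1 i + 1 ∧ a i = 0 ∧ deg i = 2 * w := by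
    intro i hi hs
    have h1 := hsg i hi
    rw [hs] at h1
    have h2 : m2 i = m1 i + 1 := by omega
    have h3 : a i = 0 := by
      rcases mul_eq_zero.1 (F1 i) with h | h
      · omega
      · exact h
    refine ⟨h2, h3, ?_⟩
    have h4 := hwX i hi
    rw [hs, h3] at h4
    push_cast at h4
    omega
  have Fp : ∀ i ∈ X, sg i = 1 → m1 i = 1 ∧ m2 i = 0 ∧ 1 ≤ a i ∧ p * a i = deg i + 2 * w := by
    intro i hi hs
    have h4 := hwX i hi
    rw [hs] at h4
    have h5 : p * a i = deg i + 2 * w := by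
      have h : ((p * a i : ℕ) : ℤ) = ((deg i + 2 * w : ℕ) : ℤ) := by
        push_cast
        rw [h4]
        have h' : (p : ℤ) = 2 * w + 1 := by exact_mod_cast hpw.symm
        rw [h']
        ring
      exact_mod_cast h
    have h6 : 1 ≤ a i := by
      rcases Nat.eq_zero_or_pos (a i) with h | h
      · rw [h] at h5
        omega
      · exact h
    have h7 : m2 i = 0 := by
      rcases mul_eq_zero.1 (F1 i) with h | h
      · exact h
      · omega
    have h1 := hsg i hi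
    rw [hs, h7] at h1
    refine ⟨by omega, h7, h6, h5⟩
  have Fp2 : ∀ i ∈ X, sg i = 1 → i ≠ one → 2 ≤ a i ∧ deg i = p * (a i - 2) + (p + 1) := by
    intro i hi hs hne
    obtain ⟨_, _, h6, h5⟩ := Fp i hi hs
    have h8 : a i ≠ 1 := by
      intro h
      rw [h] at h5
      apply hne
      apply eq_one
      omega
    have h9 : 2 ≤ a i := by omega
    refine ⟨h9, ?_⟩
    obtain ⟨b, hb⟩ : ∃ b, a i = b + 2 := ⟨a i - 2, by omega⟩
    rw [hb] at h5 ⊢
    simp only [Nat.add_sub_cancel]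
    have h10 : p * (b + 2) = p * b + 2 * p := by ring
    omega
  obtain ⟨h1one, h2one, ha1one, h5one⟩ := Fp one one_mem sg_one
  have haone : a one = 1 := by
    rw [deg_one] at h5one
    have h : p * a one = p * 1 := by omega
    exact Nat.eq_of_mul_eq_mul_left (by omega) h
  have FR : ∀ i, i ∉ X → i ∉ Y → 1 ≤ a i ∧ m2 i = 0 := by
    intro i h1 h2
    have h3 := hwD i h1 h2
    have h4 := deg_pos i
    have h6 : 1 ≤ a i := by
      rcases Nat.eq_zero_or_pos (a i) with h | h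
      · rw [h] at h3
        omega
      · exact h
    refine ⟨h6, ?_⟩
    rcases mul_eq_zero.1 (F1 i) with h | h
    · exact h
    · omega
  have FY : ∀ i ∈ Y, m2 i ≠ 0 → d0 = -1 ∧ deg i = w := by
    intro i hi hm
    have h3 : a i = 0 := by
      rcases mul_eq_zero.1 (F1 i) with h | h
      · exact absurd h hm
      · exact h
    have h4 := hwY i hi
    rw [h3] at h4
    have h5 := deg_pos i
    rcases d0_pm with h | h
    · rw [h] at h4
      push_cast at h4
      omega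
    · rw [h] at h4
      push_cast at h4
      exact ⟨h, by omega⟩
  set Ep : Finset ι := (X.filter (fun i => sg i = 1)).erase one with hEp
  set Em : Finset ι := X.filter (fun i => sg i = -1) with hEm
  set R : Finset ι := Finset.univ \ (X ∪ Y) with hR
  have memEp : ∀ i, i ∈ Ep ↔ (i ≠ one ∧ i ∈ X ∧ sg i = 1) := by
    intro i
    simp [hEp, Finset.mem_erase, Finset.mem_filter]
  have memEm : ∀ i, i ∈ Em ↔ (i ∈ X ∧ sg i = -1) := by
    intro i
    simp [hEm, Finset.mem_filter]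
  have memR : ∀ i, i ∈ R ↔ (i ∉ X ∧ i ∉ Y) := by
    intro i
    simp [hR, Finset.mem_sdiff, Finset.mem_union, not_or]
  have dec : ∀ f : ι → ℕ, ∑ i, f i =
      f one + ∑ i ∈ Ep, f i + ∑ i ∈ Em, f i + ∑ i ∈ Y, f i + ∑ i ∈ R, f i := by
    intro f
    rw [NUM.sum_all X Y disj f, NUM.sum_X X sg one sg_pm one_mem sg_one f]
  have hcard : 1 + Ep.card + Em.card = w := by
    have h := NUM.sum_X X sg one sg_pm one_mem sg_one (fun _ => (1 : ℕ))
    simp only [Finset.sum_const, smul_eq_mul, mul_one] at h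
    rw [cardX] at h
    rw [hEp, hEm]
    omega
  have hb : w ^ 2 = 2 * w * (∑ i ∈ Em, m1 i + Em.card) + ∑ i ∈ Y, m2 i * deg i := by
    have h := dec (fun i => m2 i * deg i)
    rw [hd2] at h
    have e1 : m2 one * deg one = 0 := by rw [h2one, zero_mul]
    have e2 : ∑ i ∈ Ep, m2 i * deg i = 0 := by
      apply Finset.sum_eq_zero
      intro i hi
      obtain ⟨_, hiX, hs⟩ := (memEp i).1 hi
      rw [(Fp i hiX hs).2.1, zero_mul]
    have e3 : ∑ i ∈ Em, m2 i * deg i = 2 * w * (∑ i ∈ Em, m1 i + Em.card) := by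
      rw [mul_add, Finset.mul_sum, Finset.card_eq_sum_ones, Finset.mul_sum,
        ← Finset.sum_add_distrib]
      apply Finset.sum_congr rfl
      intro i hi
      obtain ⟨hiX, hs⟩ := (memEm i).1 hi
      obtain ⟨h2, _, h3⟩ := Fm i hiX hs
      rw [h2, h3]
      ring
    have e4 : ∑ i ∈ R, m2 i * deg i = 0 := by
      apply Finset.sum_eq_zero
      intro i hi
      obtain ⟨h1, h2⟩ := (memR i).1 hi
      rw [(FR i h1 h2).2, zero_mul]
    rw [e1, e2, e3, e4] at h
    omega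
  have hc : w = 1 + 2 * Ep.card + ∑ i ∈ Ep, (a i - 2) + ∑ i ∈ Y, m1 i * a i
      + ∑ i ∈ R, m1 i * a i := by
    have h := dec (fun i => m1 i * a i)
    rw [ha1] at h
    have e1 : m1 one * a one = 1 := by rw [h1one, haone]
    have e2 : ∑ i ∈ Ep, m1 i * a i = 2 * Ep.card + ∑ i ∈ Ep, (a i - 2) := by
      rw [Finset.card_eq_sum_ones, Finset.mul_sum, ← Finset.sum_add_distrib]
      apply Finset.sum_congr rfl
      intro i hi
      obtain ⟨hne, hiX, hs⟩ := (memEp i).1 hi
      rw [(Fp i hiX hs).1]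
      have := (Fp2 i hiX hs hne).1
      omega
    have e3 : ∑ i ∈ Em, m1 i * a i = 0 := by
      apply Finset.sum_eq_zero
      intro i hi
      obtain ⟨hiX, hs⟩ := (memEm i).1 hi
      rw [(Fm i hiX hs).2.1, mul_zero]
    rw [e1, e2, e3] at h
    omega
  have hd : w ^ 2 = 1 + p * ∑ i ∈ Ep, (a i - 2) + (p + 1) * Ep.card + 2 * w * ∑ i ∈ Em, m1 i
      + ∑ i ∈ Y, m1 i * deg i + p * ∑ i ∈ R, m1 i * a i := by
    have h := dec (fun i => m1 i * deg i)
    rw [hd1] at h
    have e1 : m1 one * deg one = 1 := by rw [h1one, deg_one]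
    have e2 : ∑ i ∈ Ep, m1 i * deg i = p * ∑ i ∈ Ep, (a i - 2) + (p + 1) * Ep.card := by
      rw [Finset.card_eq_sum_ones, Finset.mul_sum, Finset.mul_sum, ← Finset.sum_add_distrib]
      apply Finset.sum_congr rfl
      intro i hi
      obtain ⟨hne, hiX, hs⟩ := (memEp i).1 hi
      rw [(Fp i hiX hs).1, (Fp2 i hiX hs hne).2]
      ring
    have e3 : ∑ i ∈ Em, m1 i * deg i = 2 * w * ∑ i ∈ Em, m1 i := by
      rw [Finset.mul_sum]
      apply Finset.sum_congr rfl
      intro i hi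
      obtain ⟨hiX, hs⟩ := (memEm i).1 hi
      rw [(Fm i hiX hs).2.2]
      ring
    have e4 : ∑ i ∈ R, m1 i * deg i = p * ∑ i ∈ R, m1 i * a i := by
      rw [Finset.mul_sum]
      apply Finset.sum_congr rfl
      intro i hi
      obtain ⟨h1, h2⟩ := (memR i).1 hi
      rw [← hwD i h1 h2]
      ring
    rw [e1, e2, e3, e4] at h
    omega
  obtain ⟨hMm, hU, hAR, hcase⟩ := NUM.arith w p Ep.card Em.card (∑ i ∈ Em, m1 i)
    (∑ i ∈ Y, m2 i * deg i) (∑ i ∈ Ep, (a i - 2)) (∑ i ∈ Y, m1 i * a i)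
    (∑ i ∈ R, m1 i * a i) (∑ i ∈ Y, m1 i * deg i) hpw hw hcard hb hc hd
  have Gm : ∀ i ∈ Em, m1 i = 0 := fun i hi => (Finset.sum_eq_zero_iff.1 hMm) i hi
  have Gp : ∀ i ∈ Ep, deg i = p + 1 := by
    intro i hi
    obtain ⟨hne, hiX, hs⟩ := (memEp i).1 hi
    have h1 := (Finset.sum_eq_zero_iff.1 hU) i hi
    obtain ⟨_, h3⟩ := Fp2 i hiX hs hne
    rw [h3, h1, mul_zero, zero_add]
  have GR : ∀ i ∈ R, m1 i = 0 := by
    intro i hi
    obtain ⟨h1, h2⟩ := (memR i).1 hi
    have h3 := (Finset.sum_eq_zero_iff.1 hAR) i hi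
    rcases mul_eq_zero.1 h3 with h | h
    · exact h
    · have := (FR i h1 h2).1
      omega
  refine ⟨?_, ?_, ?_, ?_⟩
  · intro i hi hs
    obtain ⟨h1, h2, _, _⟩ := Fp i hi hs
    refine ⟨h1, h2, ?_⟩
    by_cases hne : i = one
    · exact Or.inl hne
    · exact Or.inr (Gp i ((memEp i).2 ⟨hne, hi, hs⟩))
  · intro i hi hs
    obtain ⟨h2, _, h3⟩ := Fm i hi hs
    have h1 := Gm i ((memEm i).2 ⟨hi, hs⟩)
    refine ⟨h1, by omega, by omega⟩
  · intro i h1 h2
    exact ⟨GR i ((memR i).2 ⟨h1, h2⟩), (FR i h1 h2).2⟩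
  · rcases hcase with ⟨hAY, hDY, hSY⟩ | ⟨hSY, hAY, hDY⟩
    · left
      have hm1 : ∀ i ∈ Y, m1 i = 0 := by
        intro i hi
        have h3 := (Finset.sum_eq_zero_iff.1 hDY) i hi
        rcases mul_eq_zero.1 h3 with h | h
        · exact h
        · have := deg_pos i
          omega
      have hne : ∑ i ∈ Y, m2 i * deg i ≠ 0 := by
        rw [hSY]
        omega
      obtain ⟨θ, hθY, hθ⟩ := Finset.exists_ne_zero_of_sum_ne_zero hne
      have hm2θ : m2 θ ≠ 0 := by
        intro h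
        rw [h, zero_mul] at hθ
        exact hθ rfl
      obtain ⟨hd0, hdegθ⟩ := FY θ hθY hm2θ
      have hdeg : ∀ i ∈ Y, deg i = w := fun i hi => (degY i hi θ hθY).trans hdegθ
      refine ⟨hd0, fun i hi => ⟨hdeg i hi, hm1 i hi⟩, ?_⟩
      have h1 : ∑ i ∈ Y, m2 i * deg i = (∑ i ∈ Y, m2 i) * w := by
        rw [Finset.sum_mul]
        apply Finset.sum_congr rfl
        intro i hi
        rw [hdeg i hi]
      rw [h1] at hSY
      have h2 : (∑ i ∈ Y, m2 i) * w = 1 * w := by rw [hSY, one_mul]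
      exact Nat.eq_of_mul_eq_mul_right (by omega) h2
    · right
      have hm2 : ∀ i ∈ Y, m2 i = 0 := by
        intro i hi
        have h3 := (Finset.sum_eq_zero_iff.1 hSY) i hi
        rcases mul_eq_zero.1 h3 with h | h
        · exact h
        · have := deg_pos i
          omega
      have hne : ∑ i ∈ Y, m1 i * a i ≠ 0 := by
        rw [hAY]
        omega
      obtain ⟨θ, hθY, hθ⟩ := Finset.exists_ne_zero_of_sum_ne_zero hne
      have hpZ : (p : ℤ) ≠ 0 := by
        have : p ≠ 0 := by omega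
        exact_mod_cast this
      have hacon : ∀ i ∈ Y, a i = a θ := by
        intro i hi
        have h1 := hwY i hi
        have h2 := hwY θ hθY
        rw [degY i hi θ hθY, ← h2] at h1
        have h3 := mul_left_cancel₀ hpZ h1
        exact_mod_cast h3
      have h1 : ∑ i ∈ Y, m1 i * a i = (∑ i ∈ Y, m1 i) * a θ := by
        rw [Finset.sum_mul]
        apply Finset.sum_congr rfl
        intro i hi
        rw [hacon i hi]
      rw [h1] at hAY
      have hsum1 : ∑ i ∈ Y, m1 i = 1 := Nat.eq_one_of_mul_eq_one_right hAY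
      have haθ : a θ = 1 := Nat.eq_one_of_mul_eq_one_left hAY
      have h2 : ∑ i ∈ Y, m1 i * deg i = (∑ i ∈ Y, m1 i) * deg θ := by
        rw [Finset.sum_mul]
        apply Finset.sum_congr rfl
        intro i hi
        rw [degY i hi θ hθY]
      rw [h2, hsum1, one_mul] at hDY
      have hd0 : d0 = 1 := by
        rcases d0_pm with h | h
        · exact h
        · exfalso
          have h3 := hwY θ hθY
          rw [h, haθ, hDY] at h3
          push_cast at h3
          omega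
      refine ⟨hd0, fun i hi => ⟨(degY i hi θ hθY).trans hDY, hm2 i hi⟩, hsum1⟩

end Cfsg.Agent.Helper21.BH
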