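import Mathlib
import Cfsg.Prelude.Def_Blocks
import Cfsg.Agent.Lib.Helper24.CharLinear
import Cfsg.Agent.Lib.Helper24.CharInduced
import Cfsg.Agent.Lib.Helper24.CharComplete
import Cfsg.Agent.Lib.Helper10.BR996Defs
import Cfsg.Agent.Lib.Helper21.BTDefs
import Cfsg.Agent.Lib.Helper21.BHDefs
import Cfsg.Agent.Lib.Helper24.BTNUMDATA
import Cfsg.Agent.Lib.Helper24.BHNUM
import Cfsg.Agent.Lib.Helper19.BHGDELTA

/-!
# S4504 (Brauer), PIECE HNUM: the exact decomposition of `Ξ`, `Ξ'`   (helper24)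
-/

set_option autoImplicit false
set_option linter.unusedSectionVars false
set_option linter.unusedVariables false

namespace Cfsg.Agent.Helper21.BH

open scoped ComplexConjugate
open Cfsg Cfsg.Agent.Helper24 Cfsg.Agent.Helper10.BR996 Cfsg.Agent.Helper21.BT

universe u

section HSide

variable {H : Type u} [Group H] [Fintype H] [Fintype (IrrCharacter H)]
variable {p : ℕ} [Fact p.Prime] {Q : Subgroup H}

/-- PIECE HNUM. -/
theorem hnum (hcard : Nat.card Q = p) (hcent : Subgroup.centralizer (Q : Set H) ≤ Q)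
    (hperf : commutator H = ⊤) {w t : ℕ} (hpw : 2 * w + 1 = p) (hw : 2 ≤ w)
    (hrel : Q.relIndex (Subgroup.normalizer (Q : Set H)) = w) (D : BTData p Q w t) (ht : 2 ≤ t)
    {Ξ Ξ' : H → ℂ} (hΞ : IsCharacter H Ξ) (hΞ' : IsCharacter H Ξ')
    (hreg : ∀ g : H, ¬ p ∣ orderOf g → Ξ' g = Ξ g)
    (hΞ1 : Ξ 1 = (w : ℂ) ^ 2) (hΞ'1 : Ξ' 1 = (w : ℂ) ^ 2)
    (hd1 : dsum Q Ξ = (w : ℂ) * ((w : ℂ) + 1)) (hd2 : dsum Q Ξ' = -(w : ℂ) ^ 2) :
    ∃ m1 m2 : IrrCharacter H → ℕ,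
      (∀ χ : IrrCharacter H, classInner Ξ (χ : H → ℂ) = (m1 χ : ℂ)) ∧
      (∀ χ : IrrCharacter H, classInner Ξ' (χ : H → ℂ) = (m2 χ : ℂ)) ∧
      NumOut (fun χ : IrrCharacter H => charDegree (χ : H → ℂ)) D.X D.Y D.sg D.d0
        (principalChar H) p w m1 m2 := by
  classical
  have hp : p.Prime := Fact.out
  have hpC : (p : ℂ) ≠ 0 := by
    have : p ≠ 0 := hp.ne_zero
    exact_mod_cast this
  have hpwC : (p : ℂ) = 2 * (w : ℂ) + 1 := by
    have : ((2 * w + 1 : ℕ) : ℂ) = (p : ℂ) := by rw [hpw]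
    rw [← this]
    push_cast
    ring
  obtain ⟨a, ha, haX, haY, haD⟩ := NUMDATA.weights D hcard
  have hd : dsum Q Ξ - dsum Q Ξ' = (p : ℂ) * (w : ℂ) := by
    rw [hd1, hd2, hpwC]
    ring
  obtain ⟨m1, m2, hm1, hm2, hsg, hdeg1, hdeg2, hA1, hA2⟩ :=
    gdelta p Q hcard hcent w t hrel D Ξ Ξ' hΞ hΞ' hreg hd a ha
  refine ⟨m1, m2, hm1, hm2, ?_⟩
  -- the weights of Ξ, Ξ'
  have hAw1 : Aw Q Ξ = (w : ℂ) := by
    have h := Aw_eq p Q hcard Ξ
    rw [hΞ1, hd1] at h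
    apply mul_left_cancel₀ hpC
    rw [h, hpwC]
    ring
  have hAw2 : Aw Q Ξ' = 0 := by
    have h := Aw_eq p Q hcard Ξ'
    rw [hΞ'1, hd2] at h
    apply mul_left_cancel₀ hpC
    rw [h]
    ring
  have s1 : ∑ χ : IrrCharacter H, m1 χ * charDegree (χ : H → ℂ) = w ^ 2 := by
    have h : ((∑ χ : IrrCharacter H, m1 χ * charDegree (χ : H → ℂ) : ℕ) : ℂ) = ((w ^ 2 : ℕ) : ℂ) := by
      push_cast
      rw [← hdeg1, hΞ1]
    exact_mod_cast h
  have s2 : ∑ χ : IrrCharacter H, m2 χ * charDegree (χ : H → ℂ) = w ^ 2 := by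
    have h : ((∑ χ : IrrCharacter H, m2 χ * charDegree (χ : H → ℂ) : ℕ) : ℂ) = ((w ^ 2 : ℕ) : ℂ) := by
      push_cast
      rw [← hdeg2, hΞ'1]
    exact_mod_cast h
  have s3 : ∑ χ : IrrCharacter H, m1 χ * a χ = w := by
    have h : ((∑ χ : IrrCharacter H, m1 χ * a χ : ℕ) : ℂ) = ((w : ℕ) : ℂ) := by
      push_cast
      rw [← hA1, hAw1]
    exact_mod_cast h
  have s4 : ∑ χ : IrrCharacter H, m2 χ * a χ = 0 := by
    have h : ((∑ χ : IrrCharacter H, m2 χ * a χ : ℕ) : ℂ) = ((0 : ℕ) : ℂ) := by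
      push_cast
      rw [← hA2, hAw2]
    exact_mod_cast h
  obtain ⟨z, hzQ, hz1⟩ := NUMDATA.exists_ne_one p Q hcard
  have hone : principalChar H ∈ D.X := D.one_memX ht
  have hsgone : D.sg (principalChar H) = 1 := by
    have h := D.valX (principalChar H) hone z hzQ hz1
    rw [NUMDATA.principal_coe] at h
    have h1 : ((1 : ℤ) : ℂ) = (D.sg (principalChar H) : ℂ) := by
      rw [← h]
      simp
    exact_mod_cast h1.symm
  have hdegY : ∀ i ∈ D.Y, ∀ j ∈ D.Y, charDegree (i : H → ℂ) = charDegree (j : H → ℂ) := by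
    intro i hi j hj
    have h1 : ¬ p ∣ orderOf (1 : H) := by
      rw [orderOf_one]
      intro h
      have := Nat.le_of_dvd one_pos h
      have := hp.two_le
      omega
    have h := D.regY i hi j hj 1 h1
    rw [irr_one_eq_charDegree i.2, irr_one_eq_charDegree j.2] at h
    exact_mod_cast h
  exact num_core (fun χ : IrrCharacter H => charDegree (χ : H → ℂ)) a D.X D.Y D.sg D.d0
    (principalChar H) p w hpw hw D.disj D.cardX D.sg_pm D.d0_pm hone hsgone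
    NUMDATA.charDegree_principal (fun χ h => eq_principal_of_degree_one hperf χ h)
    (fun χ => charDegree_pos χ.2) haX haY haD hdegY m1 m2 hsg s1 s2 s3 s4

end HSide

end Cfsg.Agent.Helper21.BH
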