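import Mathlib
import Cfsg.Prelude.Def_Blocks
import Cfsg.Agent.Lib.Helper24.CharLinear
import Cfsg.Agent.Lib.Helper24.CharInduced
import Cfsg.Agent.Lib.Helper24.CharComplete
import Cfsg.Agent.Lib.Helper10.BR996Defs
import Cfsg.Agent.Lib.Helper21.BTDefs
import Cfsg.Agent.Lib.Helper21.BHDefs
import Cfsg.Agent.Lib.Helper24.BTNUMDATA
import Cfsg.Agent.Lib.Helper24.BHNUM

/-!
# S4504 (Brauer), PIECE TSUM: the sum of the two class multiplication constants   (helper24)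
-/

set_option autoImplicit false
set_option linter.unusedSectionVars false
set_option linter.unusedVariables false

namespace Cfsg.Agent.Helper21.BH

open scoped ComplexConjugate
open Cfsg Cfsg.Agent.Helper24 Cfsg.Agent.Helper10.BR996 Cfsg.Agent.Helper21.BT

universe u

section HSide

variable {H : Type u} [Group H] [Fintype H] [Fintype (IrrCharacter H)]
variable {p : ℕ} [Fact p.Prime] {Q : Subgroup H}

/-- PIECE TSUM. -/
theorem tsum (hcard : Nat.card Q = p) (hcent : Subgroup.centralizer (Q : Set H) ≤ Q)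
    {w t : ℕ} (hpw : 2 * w + 1 = p) (hw : 2 ≤ w) (D : BTData p Q w t) (ht : 2 ≤ t)
    {y₁ y₂ : H} (hy₁ : y₁ ∈ Q) (hy₂ : y₂ ∈ Q) (hy₁1 : y₁ ≠ 1) (hy₂1 : y₂ ≠ 1)
    (hsumQ : ∀ F : H → ℂ, IsClassFunction H F → dsum Q F = (w : ℂ) * (F y₁ + F y₂))
    {Ξ Ξ' : H → ℂ} (hΞ : IsCharacter H Ξ) (hΞ' : IsCharacter H Ξ')
    {m1 m2 : IrrCharacter H → ℕ}
    (hm1 : ∀ χ : IrrCharacter H, classInner Ξ (χ : H → ℂ) = (m1 χ : ℂ))
    (hm2 : ∀ χ : IrrCharacter H, classInner Ξ' (χ : H → ℂ) = (m2 χ : ℂ))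
    (hnum : NumOut (fun χ : IrrCharacter H => charDegree (χ : H → ℂ)) D.X D.Y D.sg D.d0
      (principalChar H) p w m1 m2)
    (g : H) (hg : ¬ p ∣ orderOf g) (hreal : conj (Ξ g) = Ξ g) (hgg : Ξ' g = Ξ g) :
    ∑ φ : IrrCharacter H, (φ : H → ℂ) y₁ * ((φ : H → ℂ) y₁ + (φ : H → ℂ) y₂) *
        conj ((φ : H → ℂ) g) / (φ : H → ℂ) 1 =
      (p : ℂ) * ((w : ℂ) + Ξ g) / ((w : ℂ) * ((w : ℂ) + 1)) := by
  classical
  have hp : p.Prime := Fact.out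
  have hwC : (w : ℂ) ≠ 0 := by
    have : w ≠ 0 := by omega
    exact_mod_cast this
  have hw1C : (w : ℂ) + 1 ≠ 0 := by
    have : w + 1 ≠ 0 := by omega
    exact_mod_cast this
  have hpwC : (p : ℂ) = 2 * (w : ℂ) + 1 := by
    have : ((2 * w + 1 : ℕ) : ℂ) = (p : ℂ) := by rw [hpw]
    rw [← this]
    push_cast
    ring
  unfold NumOut at hnum
  beta_reduce at hnum
  obtain ⟨hNp, hNm, hNR, hNY⟩ := hnum
  have h1reg : ¬ p ∣ orderOf (1 : H) := by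
    rw [orderOf_one]
    intro h
    have := Nat.le_of_dvd one_pos h
    have := hp.two_le
    omega
  have hYne : D.Y.Nonempty := by
    rw [← Finset.card_pos, D.cardY]
    omega
  obtain ⟨θ₀, hθ₀⟩ := hYne
  have hregY : ∀ θ ∈ D.Y, (θ : H → ℂ) g = (θ₀ : H → ℂ) g :=
    fun θ hθ => D.regY θ hθ θ₀ hθ₀ g hg
  have hdegY : ∀ θ ∈ D.Y, (θ : H → ℂ) 1 = (charDegree (θ₀ : H → ℂ) : ℂ) := by
    intro θ hθ
    rw [D.regY θ hθ θ₀ hθ₀ 1 h1reg, irr_one_eq_charDegree θ₀.2]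
  have hdYpos : (charDegree (θ₀ : H → ℂ) : ℂ) ≠ 0 := by
    have := charDegree_pos θ₀.2
    exact_mod_cast this.ne'
  have hd0sq : (D.d0 : ℂ) * (D.d0 : ℂ) = 1 := by
    rcases D.d0_pm with h | h <;> rw [h] <;> norm_num
  have memR : ∀ φ : IrrCharacter H, φ ∈ Finset.univ \ (D.X ∪ D.Y) → φ ∉ D.X ∧ φ ∉ D.Y := by
    intro φ hφ
    simpa [Finset.mem_sdiff, Finset.mem_union, not_or] using hφ
  -- `θ y₁ + θ y₂ = d0`
  have hsum12 : ∀ θ ∈ D.Y, (θ : H → ℂ) y₁ + (θ : H → ℂ) y₂ = (D.d0 : ℂ) := by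
    intro θ hθ
    have h1 := D.sumY θ hθ
    rw [hsumQ _ (isClassFunction_of_isIrrCharacter θ.2)] at h1
    apply mul_left_cancel₀ hwC
    rw [h1]
    ring
  -- `∑_Y θ y₁ = d0`
  have hsumY1 : ∑ θ ∈ D.Y, (θ : H → ℂ) y₁ = (D.d0 : ℂ) := by
    have h2 := second_orthogonality y₁ (1 : H)
    have hempty : Nat.card {y : H // y * 1 * y⁻¹ = y₁} = 0 := by
      have : IsEmpty {y : H // y * 1 * y⁻¹ = y₁} :=
        ⟨fun ⟨y, hy⟩ => hy₁1 (by rw [← hy]; group)⟩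
      exact Nat.card_of_isEmpty
    rw [hempty, Nat.cast_zero, NUM.sum_all D.X D.Y D.disj] at h2
    have hX : ∑ φ ∈ D.X, (φ : H → ℂ) y₁ * conj ((φ : H → ℂ) 1) =
        ∑ χ ∈ D.X, (D.sg χ : ℂ) * (χ : H → ℂ) 1 := by
      apply Finset.sum_congr rfl
      intro φ hφ
      rw [D.valX φ hφ y₁ hy₁ hy₁1, irr_one_eq_charDegree φ.2, Complex.conj_natCast]
    have hYs : ∑ θ ∈ D.Y, (θ : H → ℂ) y₁ * conj ((θ : H → ℂ) 1) =
        (∑ θ ∈ D.Y, (θ : H → ℂ) y₁) * (charDegree (θ₀ : H → ℂ) : ℂ) := by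
      rw [Finset.sum_mul]
      apply Finset.sum_congr rfl
      intro θ hθ
      rw [hdegY θ hθ, Complex.conj_natCast]
    have hR : ∑ φ ∈ Finset.univ \ (D.X ∪ D.Y), (φ : H → ℂ) y₁ * conj ((φ : H → ℂ) 1) = 0 := by
      apply Finset.sum_eq_zero
      intro φ hφ
      obtain ⟨h1, h2⟩ := memR φ hφ
      rw [D.valD φ h1 h2 y₁ hy₁ hy₁1, zero_mul]
    have horth := D.orth θ₀ hθ₀ 1 h1reg
    rw [hX, hYs, hR] at h2
    rw [irr_one_eq_charDegree θ₀.2] at horth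
    apply mul_right_cancel₀ hdYpos
    linear_combination h2 - horth
  -- decompositions of `Ξ g`, `Ξ' g`
  have hΞsplit : Ξ g = ∑ φ ∈ D.X, (m1 φ : ℂ) * (φ : H → ℂ) g +
      ∑ θ ∈ D.Y, (m1 θ : ℂ) * (θ : H → ℂ) g := by
    have h2 := congrFun (isCharacter_decomp hΞ).2 g
    simp only [Finset.sum_apply, Pi.smul_apply, smul_eq_mul, hm1] at h2
    rw [h2, NUM.sum_all D.X D.Y D.disj]
    have hR : ∑ φ ∈ Finset.univ \ (D.X ∪ D.Y), (m1 φ : ℂ) * (φ : H → ℂ) g = 0 := by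
      apply Finset.sum_eq_zero
      intro φ hφ
      obtain ⟨h1, h2⟩ := memR φ hφ
      rw [(hNR φ h1 h2).1, Nat.cast_zero, zero_mul]
    rw [hR, add_zero]
  have hΞ'split : Ξ' g = ∑ φ ∈ D.X, (m2 φ : ℂ) * (φ : H → ℂ) g +
      ∑ θ ∈ D.Y, (m2 θ : ℂ) * (θ : H → ℂ) g := by
    have h2 := congrFun (isCharacter_decomp hΞ').2 g
    simp only [Finset.sum_apply, Pi.smul_apply, smul_eq_mul, hm2] at h2
    rw [h2, NUM.sum_all D.X D.Y D.disj]
    have hR : ∑ φ ∈ Finset.univ \ (D.X ∪ D.Y), (m2 φ : ℂ) * (φ : H → ℂ) g = 0 := by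
      apply Finset.sum_eq_zero
      intro φ hφ
      obtain ⟨h1, h2⟩ := memR φ hφ
      rw [(hNR φ h1 h2).2, Nat.cast_zero, zero_mul]
    rw [hR, add_zero]
  -- the `X`-terms
  have hone : principalChar H ∈ D.X := D.one_memX ht
  have hXterm : ∀ φ ∈ D.X, (φ : H → ℂ) y₁ * ((φ : H → ℂ) y₁ + (φ : H → ℂ) y₂) *
      conj ((φ : H → ℂ) g) / (φ : H → ℂ) 1 =
      conj ((m1 φ : ℂ) * (φ : H → ℂ) g) / ((w : ℂ) + 1) +
        conj ((m2 φ : ℂ) * (φ : H → ℂ) g) / (w : ℂ) +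
        (if φ = principalChar H then 2 - 1 / ((w : ℂ) + 1) else 0) := by
    intro φ hφ
    rw [D.valX φ hφ y₁ hy₁ hy₁1, D.valX φ hφ y₂ hy₂ hy₂1, irr_one_eq_charDegree φ.2]
    rcases D.sg_pm φ hφ with hs | hs
    · obtain ⟨h1, h2, h3⟩ := hNp φ hφ hs
      rw [hs, h1, h2]
      rcases h3 with h3 | h3
      · rw [if_pos h3, h3, NUMDATA.charDegree_principal, NUMDATA.principal_coe]
        simp only [Int.cast_one, Nat.cast_one, Nat.cast_zero, one_mul, map_one,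
          map_zero, zero_div, add_zero, mul_one, div_one]
        field_simp
        ring
      · have hne : φ ≠ principalChar H := by
          intro h
          rw [h, NUMDATA.charDegree_principal] at h3
          omega
        have hdeg : charDegree (φ : H → ℂ) = 2 * w + 2 := by omega
        rw [if_neg hne, hdeg]
        simp only [Int.cast_one, Nat.cast_one, Nat.cast_zero, one_mul, zero_mul,
          map_zero, zero_div, add_zero]
        push_cast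
        field_simp
        ring
    · obtain ⟨h1, h2, h3⟩ := hNm φ hφ hs
      have hne : φ ≠ principalChar H := by
        intro h
        rw [h, NUMDATA.charDegree_principal] at h3
        omega
      have hdeg : charDegree (φ : H → ℂ) = 2 * w := by omega
      rw [hs, h1, h2, if_neg hne, hdeg]
      simp only [Int.cast_neg, Int.cast_one, Nat.cast_one, Nat.cast_zero, one_mul, zero_mul,
        map_zero, zero_div, add_zero, zero_add]
      push_cast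
      field_simp
      ring
  have hXsum : ∑ φ ∈ D.X, (φ : H → ℂ) y₁ * ((φ : H → ℂ) y₁ + (φ : H → ℂ) y₂) *
      conj ((φ : H → ℂ) g) / (φ : H → ℂ) 1 =
      conj (∑ φ ∈ D.X, (m1 φ : ℂ) * (φ : H → ℂ) g) / ((w : ℂ) + 1) +
        conj (∑ φ ∈ D.X, (m2 φ : ℂ) * (φ : H → ℂ) g) / (w : ℂ) +
        (2 - 1 / ((w : ℂ) + 1)) := by
    rw [Finset.sum_congr rfl hXterm, Finset.sum_add_distrib, Finset.sum_add_distrib,
      Finset.sum_ite_eq' D.X (principalChar H), if_pos hone, map_sum, map_sum,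
      Finset.sum_div, Finset.sum_div]
  -- the `Y`-terms
  have hYterm : ∀ θ ∈ D.Y, (θ : H → ℂ) y₁ * ((θ : H → ℂ) y₁ + (θ : H → ℂ) y₂) *
      conj ((θ : H → ℂ) g) / (θ : H → ℂ) 1 =
      (θ : H → ℂ) y₁ * ((D.d0 : ℂ) * conj ((θ₀ : H → ℂ) g) /
        (charDegree (θ₀ : H → ℂ) : ℂ)) := by
    intro θ hθ
    rw [hsum12 θ hθ, hregY θ hθ, hdegY θ hθ]
    ring
  have hYsum : ∑ θ ∈ D.Y, (θ : H → ℂ) y₁ * ((θ : H → ℂ) y₁ + (θ : H → ℂ) y₂) *
      conj ((θ : H → ℂ) g) / (θ : H → ℂ) 1 =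
      conj ((θ₀ : H → ℂ) g) / (charDegree (θ₀ : H → ℂ) : ℂ) := by
    rw [Finset.sum_congr rfl hYterm, ← Finset.sum_mul, hsumY1, ← mul_div_assoc, ← mul_assoc,
      hd0sq, one_mul]
  have hRsum : ∑ φ ∈ Finset.univ \ (D.X ∪ D.Y), (φ : H → ℂ) y₁ *
      ((φ : H → ℂ) y₁ + (φ : H → ℂ) y₂) * conj ((φ : H → ℂ) g) / (φ : H → ℂ) 1 = 0 := by
    apply Finset.sum_eq_zero
    intro φ hφ
    obtain ⟨h1, h2⟩ := memR φ hφ
    rw [D.valD φ h1 h2 y₁ hy₁ hy₁1, zero_mul, zero_mul, zero_div]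
  have hYfinal : conj ((θ₀ : H → ℂ) g) / (charDegree (θ₀ : H → ℂ) : ℂ) =
      conj (∑ θ ∈ D.Y, (m1 θ : ℂ) * (θ : H → ℂ) g) / ((w : ℂ) + 1) +
        conj (∑ θ ∈ D.Y, (m2 θ : ℂ) * (θ : H → ℂ) g) / (w : ℂ) := by
    rcases hNY with ⟨_, hY, hs⟩ | ⟨_, hY, hs⟩
    · have e1 : ∑ θ ∈ D.Y, (m1 θ : ℂ) * (θ : H → ℂ) g = 0 := by
        apply Finset.sum_eq_zero
        intro θ hθ
        rw [(hY θ hθ).2, Nat.cast_zero, zero_mul]
      have e2 : ∑ θ ∈ D.Y, (m2 θ : ℂ) * (θ : H → ℂ) g = (θ₀ : H → ℂ) g := by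
        have : ∑ θ ∈ D.Y, (m2 θ : ℂ) * (θ : H → ℂ) g =
            ((∑ θ ∈ D.Y, m2 θ : ℕ) : ℂ) * (θ₀ : H → ℂ) g := by
          rw [Nat.cast_sum, Finset.sum_mul]
          apply Finset.sum_congr rfl
          intro θ hθ
          rw [hregY θ hθ]
        rw [this, hs, Nat.cast_one, one_mul]
      rw [e1, e2, (hY θ₀ hθ₀).1, map_zero, zero_div, zero_add]
    · have e1 : ∑ θ ∈ D.Y, (m2 θ : ℂ) * (θ : H → ℂ) g = 0 := by
        apply Finset.sum_eq_zero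
        intro θ hθ
        rw [(hY θ hθ).2, Nat.cast_zero, zero_mul]
      have e2 : ∑ θ ∈ D.Y, (m1 θ : ℂ) * (θ : H → ℂ) g = (θ₀ : H → ℂ) g := by
        have : ∑ θ ∈ D.Y, (m1 θ : ℂ) * (θ : H → ℂ) g =
            ((∑ θ ∈ D.Y, m1 θ : ℕ) : ℂ) * (θ₀ : H → ℂ) g := by
          rw [Nat.cast_sum, Finset.sum_mul]
          apply Finset.sum_congr rfl
          intro θ hθ
          rw [hregY θ hθ]
        rw [this, hs, Nat.cast_one, one_mul]
      rw [e1, e2, (hY θ₀ hθ₀).1, map_zero, zero_div, add_zero]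
      push_cast
      rfl
  have key : ∑ φ : IrrCharacter H, (φ : H → ℂ) y₁ * ((φ : H → ℂ) y₁ + (φ : H → ℂ) y₂) *
        conj ((φ : H → ℂ) g) / (φ : H → ℂ) 1 =
      conj (Ξ g) / ((w : ℂ) + 1) + conj (Ξ' g) / (w : ℂ) + (2 - 1 / ((w : ℂ) + 1)) := by
    rw [NUM.sum_all D.X D.Y D.disj, hXsum, hYsum, hRsum, hYfinal, hΞsplit, hΞ'split, map_add,
      map_add]
    ring
  rw [key, hgg, hreal, hpwC]
  field_simp
  ring

end HSide

end Cfsg.Agent.Helper21.BH
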