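import Mathlib
import Cfsg.Agent.Lib.Helper5.TIAlgDefs

/-!
# S1786 sub-project TI-ALG, piece TIALG-ASSOC:
commutative + (left) alternative + characteristic 2 ⟹ associative
-/

set_option autoImplicit false

namespace Cfsg.Agent.Helper26.TI

/-- in a commutative left alternative ring of characteristic 2: `x (w y) = w (x y)` -/
theorem tialg_assoc_key {D : Type*} [NonUnitalNonAssocRing D]
    (h2 : ∀ x : D, x + x = 0)
    (hl : ∀ x y : D, x * (x * y) = x * x * y)
    (hc : ∀ x y : D, x * y = y * x) (x w y : D) : x * (w * y) = w * (x * y) := by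
  have h := hl (x + w) y
  have e1 : (x + w) * ((x + w) * y) = x * (x * y) + x * (w * y) + w * (x * y) + w * (w * y) := by
    simp only [add_mul, mul_add]; abel
  have e2 : (x + w) * (x + w) * y = x * x * y + x * w * y + w * x * y + w * w * y := by
    simp only [add_mul, mul_add]; abel
  rw [e1, e2, hl x y, hl w y, hc w x] at h
  have h3 : x * (w * y) + w * (x * y) = x * w * y + x * w * y := by
    calc x * (w * y) + w * (x * y)
        = (x * x * y + x * (w * y) + w * (x * y) + w * w * y) - x * x * y - w * w * y := by abel
      _ = (x * x * y + x * w * y + x * w * y + w * w * y) - x * x * y - w * w * y := by rw [h]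
      _ = x * w * y + x * w * y := by abel
  rw [h2] at h3
  calc x * (w * y) = x * (w * y) + (w * (x * y) + w * (x * y)) := by rw [h2, add_zero]
    _ = (x * (w * y) + w * (x * y)) + w * (x * y) := by abel
    _ = w * (x * y) := by rw [h3, zero_add]

/-! ### TIALG-ASSOC (commutative + alternative + char 2 => associative) -/
theorem alg_assoc_of_comm {D : Type*} [NonUnitalNonAssocRing D]
    (h2 : ∀ x : D, x + x = 0)
    (hl : ∀ x y : D, x * (x * y) = x * x * y) (hr : ∀ x y : D, y * x * x = y * (x * x))
    (hc : ∀ x y : D, x * y = y * x) : ∀ x y z : D, x * y * z = x * (y * z) := by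
  intro x y z
  calc x * y * z = z * (x * y) := hc _ _
    _ = x * (z * y) := tialg_assoc_key h2 hl hc z x y
    _ = x * (y * z) := by rw [hc z y]

end Cfsg.Agent.Helper26.TI
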