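import Mathlib
import Cfsg.Agent.Lib.Helper23.SlhDefs

/-!
# S3050, piece SLH-E4RQ (helper24): restriction to the 2-torsion and the induced map on the quotient are
ring homomorphisms of the endomorphism ring
-/

set_option autoImplicit false
set_option linter.unusedSectionVars false
set_option linter.unusedVariables false

namespace Cfsg.Agent.Helper23.Slh

open Cfsg.Agent.Helper12.NatMod

local notation "SL2" => Matrix.SpecialLinearGroup (Fin 2)

section PartN

variable {F : Type*} [Field F] [CharP F 2]

/-- PIECE SLH-E4RQ. -/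
theorem exists_res_quo {Q : Type*} [AddCommGroup Q] (Z : AddSubgroup Q) (hZ : ∀ y, y ∈ Z ↔ y + y = 0)
    {V' : Type*} [AddCommGroup V'] (ψQ : Q →+ V') (hψQ : Function.Surjective ψQ) (hker : ∀ y, ψQ y = 0 ↔ y ∈ Z) :
    ∃ (res : AddMonoid.End Q →+* AddMonoid.End Z) (quo : AddMonoid.End Q →+* AddMonoid.End V'),
      (∀ (f : AddMonoid.End Q) (z : Z), ((res f z : Z) : Q) = f (z : Q)) ∧
      (∀ (f : AddMonoid.End Q) (y : Q), quo f (ψQ y) = ψQ (f y)) := by
  -- every endomorphism preserves `Z`
  have hpres : ∀ (f : AddMonoid.End Q) (y : Q), y ∈ Z → f y ∈ Z := by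
    intro f y hy
    rw [hZ] at hy ⊢
    rw [← map_add, hy, map_zero]
  -- restriction
  obtain ⟨r, hr⟩ : ∃ r : AddMonoid.End Q → AddMonoid.End Z,
      ∀ (f : AddMonoid.End Q) (z : Z), ((r f z : Z) : Q) = f (z : Q) :=
    ⟨fun f => (f.comp Z.subtype).codRestrict Z (fun z => hpres f z z.2), fun f z => rfl⟩
  -- the induced map
  have hwd : ∀ (f : AddMonoid.End Q) (y y' : Q), ψQ y = ψQ y' → ψQ (f y) = ψQ (f y') := by
    intro f y y' h
    have h1 : y - y' ∈ Z := by
      rw [← hker, map_sub, h, sub_self]
    have h2 := hpres f _ h1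
    rw [← hker, map_sub, map_sub, sub_eq_zero] at h2
    exact h2
  obtain ⟨s, hs⟩ : ∃ s : V' → Q, ∀ v, ψQ (s v) = v :=
    ⟨Function.surjInv hψQ, Function.surjInv_eq hψQ⟩
  obtain ⟨q, hq⟩ : ∃ q : AddMonoid.End Q → AddMonoid.End V',
      ∀ (f : AddMonoid.End Q) (v : V'), q f v = ψQ (f (s v)) := by
    refine ⟨fun f => AddMonoidHom.mk' (fun v => ψQ (f (s v))) ?_, fun f v => rfl⟩
    intro v w
    rw [← map_add, ← map_add]
    apply hwd
    rw [hs, map_add, hs, hs]
  have hqψ : ∀ (f : AddMonoid.End Q) (y : Q), q f (ψQ y) = ψQ (f y) := by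
    intro f y
    rw [hq]
    apply hwd
    rw [hs]
  refine ⟨
    { toFun := r
      map_one' := by
        ext z
        rw [hr]
        rfl
      map_mul' := by
        intro f g
        ext z
        rw [hr]
        show f (g (z : Q)) = ((r f (r g z) : Z) : Q)
        rw [hr, hr]
      map_zero' := by
        ext z
        rw [hr]
        rfl
      map_add' := by
        intro f g
        ext z
        rw [hr]
        show f (z : Q) + g (z : Q) = ((r f z + r g z : Z) : Q)
        rw [AddSubgroup.coe_add, hr, hr] },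
    { toFun := q
      map_one' := by
        ext v
        rw [hq]
        show ψQ (s v) = v
        rw [hs]
      map_mul' := by
        intro f g
        ext v
        rw [hq]
        show ψQ (f (g (s v))) = q f (q g v)
        rw [hq g v, hqψ]
      map_zero' := by
        ext v
        rw [hq]
        show ψQ 0 = 0
        rw [map_zero]
      map_add' := by
        intro f g
        ext v
        rw [hq]
        show ψQ (f (s v) + g (s v)) = q f v + q g v
        rw [map_add, hq, hq] }, ?_, ?_⟩
  · intro f z
    exact hr f z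
  · intro f y
    exact hqψ f y

end PartN

end Cfsg.Agent.Helper23.Slh
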