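import Mathlib
import Cfsg.Prelude.Def_Blocks
import Cfsg.Agent.Lib.Helper24.ITORATCore
import Cfsg.Agent.Lib.Helper24.B2TW
import Cfsg.Agent.Lib.Helper1.B2CRT
import Cfsg.Agent.Lib.Helper18.B2GAL
import Cfsg.Agent.Lib.Helper19.ClassSize

/-!
# S4705 (Brauer, degree `p - 2`), PIECE RAT: `ζ` is integer valued on `2`-elements   (helper24)
-/

set_option autoImplicit false
set_option linter.unusedSectionVars false
set_option linter.unusedVariables false

namespace Cfsg.Agent.Helper23.B2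

open scoped ComplexConjugate
open Cfsg Cfsg.Agent.Helper24 Cfsg.Agent.Helper16.ITO

universe u

variable {G : Type u} [Group G] [Fintype G]

namespace RAT

/-- a central element acts as a scalar: `χ(g z) χ(1) = χ(z) χ(g)` -/
theorem central_mul' (χ : IrrCharacter G) {z : G} (hz : z ∈ Subgroup.center G) (g : G) :
    (χ : G → ℂ) (g * z) * (χ : G → ℂ) 1 = (χ : G → ℂ) z * (χ : G → ℂ) g := by
  obtain ⟨n, R, hR, hRχ⟩ := χ.2
  obtain ⟨c, hcR, htr, -, -⟩ := TW.central_scalar R hR hz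
  have h1 : (χ : G → ℂ) (g * z) = c * (χ : G → ℂ) g := by
    rw [← hRχ]
    show LinearMap.trace ℂ (Fin n → ℂ) (R (g * z)) = c * LinearMap.trace ℂ (Fin n → ℂ) (R g)
    rw [map_mul, hcR, mul_smul_comm, mul_one, map_smul, smul_eq_mul]
  have h2 : (χ : G → ℂ) 1 = (n : ℂ) := by
    rw [← hRχ, Representation.char_one, Module.finrank_fin_fun]
  have h3 : (χ : G → ℂ) z = (n : ℂ) * c := by rw [← hRχ, htr]
  rw [h1, h2, h3]
  ring

/-- the order of a power of a `2`-element is a power of two -/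
theorem orderOf_pow_two {x : G} {i : ℕ} (hx : orderOf x = 2 ^ i) (j : ℕ) :
    ∃ i' : ℕ, orderOf (x ^ j) = 2 ^ i' := by
  have h1 : orderOf (x ^ j) ∣ 2 ^ i := by
    rw [← hx]
    exact orderOf_pow_dvd j
  obtain ⟨i', -, h⟩ := (Nat.dvd_prime_pow Nat.prime_two).1 h1
  exact ⟨i', h⟩

variable {p : ℕ} [Fact p.Prime] {P : Sylow p G} {ζ : IrrCharacter G}

/-- a Galois exponent acting as `j` on `2`-elements and trivially on elements of odd order fixes the central
character of `ζ`. -/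
theorem hov_of (h : Core p P ζ) {k j : ℕ}
    (hk2 : ∀ x : G, (∃ i : ℕ, orderOf x = 2 ^ i) → x ^ k = x ^ j)
    (hk3 : ∀ y : G, Odd (orderOf y) → y ^ k = y) :
    ∀ z ∈ Subgroup.center G, (ζ : G → ℂ) (z ^ k) = (ζ : G → ℂ) z := by
  intro z hz
  have hζ1 : (ζ : G → ℂ) 1 ≠ 0 := by
    rw [h.deg]
    have : (5 : ℝ) < p := by exact_mod_cast h.hp
    intro h0
    have h1 : ((p : ℂ) - 2).re = 0 := by rw [h0]; simp
    simp at h1
    linarith
  obtain ⟨a, b, hdec, ⟨i, hi⟩, hcop, -⟩ :=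
    Cfsg.Agent.Helper19.ClassSize.exists_pow_decomp z 2 Nat.prime_two
  have hza : z ^ a ∈ Subgroup.center G := Subgroup.pow_mem _ hz a
  have hzb : z ^ b ∈ Subgroup.center G := Subgroup.pow_mem _ hz b
  have hoddb : Odd (orderOf (z ^ b)) := Nat.coprime_two_right.1 hcop
  -- values at `z^b * (2-element)`
  have key : ∀ w : G, w ∈ Subgroup.center G → (∃ i : ℕ, orderOf w = 2 ^ i) →
      (ζ : G → ℂ) (z ^ b * w) = (ζ : G → ℂ) (z ^ b) := by
    intro w hw hw2
    have h1 := central_mul' ζ hw (z ^ b)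
    rw [h.two w hw hw2] at h1
    have h2 : (ζ : G → ℂ) (z ^ b * w) * (ζ : G → ℂ) 1 = (ζ : G → ℂ) (z ^ b) * (ζ : G → ℂ) 1 := by
      rw [h1, mul_comm]
    exact mul_right_cancel₀ hζ1 h2
  have hcomm : z ^ a * z ^ b = z ^ b * z ^ a := by rw [← pow_add, ← pow_add, add_comm]
  have e1 : (ζ : G → ℂ) z = (ζ : G → ℂ) (z ^ b) := by
    have : z = z ^ b * z ^ a := by rw [← hcomm]; exact hdec
    conv_lhs => rw [this]
    exact key _ hza ⟨i, hi⟩
  have e2 : z ^ k = z ^ b * (z ^ a) ^ j := by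
    have h1 : z ^ k = (z ^ a) ^ k * (z ^ b) ^ k := by
      conv_lhs => rw [hdec]
      rw [← pow_add, ← pow_mul, ← pow_mul, ← pow_mul, ← pow_add, add_mul]
    rw [h1, hk2 _ ⟨i, hi⟩, hk3 _ hoddb, ← pow_mul, ← pow_add, ← pow_add, add_comm]

  rw [e2, e1]
  exact key _ (Subgroup.pow_mem _ hza j) (orderOf_pow_two hi j)

end RAT

variable {p : ℕ} [Fact p.Prime] {P : Sylow p G} {ζ : IrrCharacter G}

/-- PIECE RAT (§4): `ζ` is integer valued on `2`-elements. -/
theorem int_value_two (h : Core p P ζ) (D : BData p P ζ) {x : G}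
    (hx : ∃ i : ℕ, orderOf x = 2 ^ i) : ∃ n : ℤ, (ζ : G → ℂ) x = (n : ℂ) := by
  obtain ⟨i, hi⟩ := hx
  apply Cfsg.Agent.Helper16.ITO.RAT.int_of_forall_pow (isCharacter_of_isIrrCharacter ζ.2) x
  intro k₀ hk₀
  by_cases hi0 : i = 0
  · subst hi0
    have hx1 : x = 1 := by
      rw [← orderOf_eq_one_iff, hi, pow_zero]
    rw [hx1, one_pow]
  · -- `k₀` is odd
    have h2G : 2 ∣ Nat.card G := by
      have h1 : (2 : ℕ) ∣ orderOf x := by
        rw [hi]
        exact dvd_pow_self 2 hi0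
      exact h1.trans (orderOf_dvd_natCard x)
    have hodd : Odd k₀ := by
      rw [← Nat.coprime_two_right]
      exact Nat.Coprime.coprime_dvd_right h2G hk₀
    obtain ⟨k, hkc, hk2, hk3⟩ := exists_k_two (G := G) k₀ hodd
    have hmem : gal ζ hkc ∈ D.Y := gal_mem h D hkc (RAT.hov_of h hk2 hk3)
    have hpp : p.Prime := Fact.out
    have hreg : ¬ p ∣ orderOf x := by
      rw [hi]
      intro hdvd
      have := hpp.dvd_of_dvd_pow hdvd
      have h5 := h.hp
      have := Nat.le_of_dvd (by norm_num) this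
      omega
    have h1 := D.regY _ hmem x hreg
    have h2 : (gal ζ hkc : G → ℂ) x = (ζ : G → ℂ) (x ^ k) := rfl
    rw [h2, hk2 x ⟨i, hi⟩] at h1
    exact h1

end Cfsg.Agent.Helper23.B2
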