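import Mathlib
import Cfsg.Agent.Lib.Helper24.Cd2Basic
import Cfsg.Agent.S4456
import Cfsg.Agent.S4493
import Cfsg.Agent.S0855

/-!
# Two character degrees: the structure of a nilpotent group (helper24's shared library)

A nilpotent group with `cd(G) = {1, m}` is the direct product of a `p`-group and an abelian group,
and `m` is a power of `p`.
-/

set_option autoImplicit false
set_option linter.style.haveILetI false
set_option linter.unusedSectionVars false

namespace Cfsg.Agent.Helper24.Cd2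

open Cfsg Cfsg.Agent.Helper24 Cfsg.Agent.Helper5 Cfsg.Agent.Helper18

universe u

theorem nilpotent_structure {G : Type u} [Group G] [Finite G] [hn : Group.IsNilpotent G] {m : ℕ}
    (hcd : CdSub G m) (hm : ∃ χ : G → ℂ, IsIrrCharacter G χ ∧ charDegree χ = m) (hm1 : m ≠ 1) :
    ∃ p e : ℕ, p.Prime ∧ m = p ^ e ∧ ∃ P A : Subgroup G, P.Normal ∧ A.Normal ∧ IsPGroup p P ∧
      (∀ a ∈ A, ∀ b ∈ A, a * b = b * a) ∧ P ⊓ A = ⊥ ∧ P ⊔ A = ⊤ := by
  classical
  letI : Fintype G := Fintype.ofFinite G
  obtain ⟨χ₀, hχ₀, hχ₀m⟩ := hm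
  obtain ⟨p, hp, hpm⟩ := Nat.exists_prime_and_dvd hm1
  haveI : Fact p.Prime := ⟨hp⟩
  let P : Sylow p G := default
  have htf : ∀ (p : ℕ) [Fact p.Prime] (P : Sylow p G), (P : Subgroup G).Normal :=
    (Group.isNilpotent_of_finite_tfae.out 0 3).mp hn
  haveI hPn : (P : Subgroup G).Normal := htf p P
  have hPidx : ¬ p ∣ (P : Subgroup G).index := P.not_dvd_index
  obtain ⟨n, hPcard⟩ := IsPGroup.iff_card.mp P.isPGroup'
  -- Thompson: a normal `p`-complement
  obtain ⟨R, hRn, hRcop, k, hRidx⟩ := Cfsg.Agent.S4456.result (G := G) p hp (by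
    intro χ hχ
    rcases hcd χ.1 χ.2 with h1 | h1
    · exact absurd h1 hχ
    · rw [h1]; exact hpm)
  haveI := hRn
  -- `m` is a power of `p`
  have hmpow : ∃ e : ℕ, m = p ^ e := by
    by_cases hab : ∃ a b : G ⧸ R, a * b ≠ b * a
    · obtain ⟨ξ, hξ, hξ1⟩ := exists_nonlinear hab
      letI : Fintype (G ⧸ R) := Fintype.ofFinite _
      have h1 := charDegree_dvd_card hξ
      rw [← Subgroup.index_eq_card, hRidx] at h1
      obtain ⟨j, -, hj⟩ := (Nat.dvd_prime_pow hp).mp h1
      have h2 := (hcd.quotient R ξ hξ).resolve_left hξ1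
      exact ⟨j, by rw [← h2, hj]⟩
    · exfalso
      push Not at hab
      have hPab : ∀ x ∈ (P : Subgroup G), ∀ y ∈ (P : Subgroup G), x * y = y * x := by
        intro x hx y hy
        have h1 : x * y * x⁻¹ * y⁻¹ ∈ (P : Subgroup G) :=
          (P : Subgroup G).mul_mem ((P : Subgroup G).mul_mem ((P : Subgroup G).mul_mem hx hy)
            ((P : Subgroup G).inv_mem hx)) ((P : Subgroup G).inv_mem hy)
        have h2 : x * y * x⁻¹ * y⁻¹ ∈ R := by
          rw [← QuotientGroup.eq_one_iff]
          rw [QuotientGroup.mk_mul, QuotientGroup.mk_mul, QuotientGroup.mk_mul,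
            hab (QuotientGroup.mk x) (QuotientGroup.mk y), QuotientGroup.mk_inv,
            QuotientGroup.mk_inv]
          group
        have h3 : (P : Subgroup G) ⊓ R = ⊥ := by
          rw [← disjoint_iff]
          apply Subgroup.disjoint_of_coprime_natCard
          rw [hPcard]
          exact Nat.Coprime.pow_left n hRcop.symm
        have h4 : x * y * x⁻¹ * y⁻¹ ∈ (P : Subgroup G) ⊓ R := ⟨h1, h2⟩
        rw [h3, Subgroup.mem_bot] at h4
        calc x * y = (x * y * x⁻¹ * y⁻¹) * (y * x) := by group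
          _ = y * x := by rw [h4, one_mul]
      have hsolv : Group.IsSolvable G := inferInstance
      have h5 := (Cfsg.Agent.S4493.result (G := G) hsolv p hp).mp
        ⟨(P : Subgroup G), hPn, hPab, P.isPGroup', hPidx⟩ ⟨χ₀, hχ₀⟩
      apply h5
      show p ∣ charDegree χ₀
      rw [hχ₀m]
      exact hpm
  obtain ⟨e, he⟩ := hmpow
  -- all degrees are powers of `p`: an abelian normal `p`-complement
  obtain ⟨A, hAn, hAab, hAcop, k', hAidx⟩ := (Cfsg.Agent.S0855.result (G := G) p hp).mp (by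
    intro χ
    rcases hcd χ.1 χ.2 with h1 | h1
    · refine ⟨0, ?_⟩
      rw [irr_one_eq_charDegree χ.2, h1]
      simp
    · refine ⟨e, ?_⟩
      rw [irr_one_eq_charDegree χ.2, h1, he]
      push_cast
      rfl)
  refine ⟨p, e, hp, he, (P : Subgroup G), A, hPn, hAn, P.isPGroup', hAab, ?_, ?_⟩
  · rw [← disjoint_iff]
    apply Subgroup.disjoint_of_coprime_natCard
    rw [hPcard]
    exact Nat.Coprime.pow_left n hAcop.symm
  · rw [← Subgroup.index_eq_one]
    have h1 : ((P : Subgroup G) ⊔ A).index ∣ (P : Subgroup G).index :=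
      Subgroup.index_dvd_of_le le_sup_left
    have h2 : ((P : Subgroup G) ⊔ A).index ∣ p ^ k' := by
      rw [← hAidx]
      exact Subgroup.index_dvd_of_le le_sup_right
    obtain ⟨j, -, hj⟩ := (Nat.dvd_prime_pow hp).mp h2
    rcases Nat.eq_zero_or_pos j with h0 | h0
    · rw [hj, h0, pow_zero]
    · exfalso
      apply hPidx
      refine dvd_trans ?_ h1
      rw [hj]
      exact dvd_pow_self p h0.ne'

end Cfsg.Agent.Helper24.Cd2
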