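import Mathlib
import Cfsg.Agent.Lib.Helper24.CdPMain
import Cfsg.Agent.Lib.Helper24.Cd2Main
import Cfsg.Agent.Lib.Helper24.Cd2NilStruct
import Cfsg.Agent.S0169
import Cfsg.Agent.S0179

/-!
# Groups with character degrees `1` and `p` (helper24's shared library)

Isaacs–Passman: for nonabelian `G`, `cd(G) = {1, p}` iff `G` has an abelian normal subgroup of index
`p` or `|G : Z(G)| = p³`.
-/

set_option autoImplicit false
set_option linter.style.haveILetI false
set_option linter.unusedSectionVars false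

namespace Cfsg.Agent.Helper24.CdP

open Cfsg Cfsg.Agent.Helper24 Cfsg.Agent.Helper24.Cd2 Cfsg.Agent.Helper5 Cfsg.Agent.Helper23
  Cfsg.Agent.Helper18
open scoped commutatorElement ComplexConjugate Pointwise

universe u

/-- An abelian normal subgroup of index `p` forces `cd(G) ⊆ {1, p}`. -/
theorem cdSub_of_abelian_index {G : Type u} [Group G] [Finite G] {p : ℕ} (hp : p.Prime)
    (A : Subgroup G) [A.Normal] (hA : ∀ a ∈ A, ∀ b ∈ A, a * b = b * a) (hidx : A.index = p) :
    CdSub G p := by
  classical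
  letI : Fintype G := Fintype.ofFinite G
  intro χ hχ
  have h1 := Cfsg.Agent.S0169.ito_aux (Nat.card G) G rfl A hA χ hχ
  rw [hidx] at h1
  exact (Nat.dvd_prime hp).mp h1

/-- `χ(1)² ≤ |G : Z(G)|`. -/
theorem degree_sq_le_center_index {G : Type u} [Group G] [Finite G] {χ : G → ℂ}
    (hχ : IsIrrCharacter G χ) : charDegree χ ^ 2 ≤ (Subgroup.center G).index := by
  classical
  letI : Fintype G := Fintype.ofFinite G
  letI : Fintype (Subgroup.center G) := Fintype.ofFinite _
  have h1 := sum_eq_sum_subgroup_add (Subgroup.center G) (fun g => χ g * conj (χ g))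
  rw [sum_mul_conj_irr hχ, sum_mul_conj_central (Subgroup.center G) le_rfl hχ,
    irr_one_eq_charDegree hχ, Complex.conj_natCast] at h1
  have h2 := congrArg Complex.re h1
  rw [Complex.add_re, Complex.re_sum] at h2
  have h3 : 0 ≤ ∑ g ∈ Finset.univ.filter (fun g : G => ¬ g ∈ Subgroup.center G),
      (χ g * conj (χ g)).re := by
    apply Finset.sum_nonneg
    intro g _
    rw [Complex.mul_conj]
    exact_mod_cast Complex.normSq_nonneg _
  have h4 : ((Nat.card (Subgroup.center G) * (charDegree χ * charDegree χ) : ℕ) : ℝ) ≤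
      (Nat.card G : ℝ) := by
    have e1 : ((Nat.card G : ℂ)).re = (Nat.card G : ℝ) := Complex.natCast_re _
    have e2 : ((Nat.card (Subgroup.center G) : ℂ) * ((charDegree χ : ℂ) * (charDegree χ : ℂ))).re =
        ((Nat.card (Subgroup.center G) * (charDegree χ * charDegree χ) : ℕ) : ℝ) := by
      rw [← Nat.cast_mul, ← Nat.cast_mul, Complex.natCast_re]
    rw [e1, e2] at h2
    linarith
  have h5 : Nat.card (Subgroup.center G) * (charDegree χ * charDegree χ) ≤ Nat.card G := by
    exact_mod_cast h4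
  rw [← (Subgroup.center G).card_mul_index] at h5
  rw [sq]
  exact Nat.le_of_mul_le_mul_left h5 Nat.card_pos

/-- A centre of index `p³` forces `cd(G) ⊆ {1, p}`. -/
theorem cdSub_of_center_index {G : Type u} [Group G] [Finite G] {p : ℕ} (hp : p.Prime)
    (hidx : (Subgroup.center G).index = p ^ 3) : CdSub G p := by
  classical
  intro χ hχ
  have h1 := degree_sq_le_center_index hχ
  have h2 : charDegree χ ∣ (Subgroup.center G).index := by
    obtain ⟨n, ρ, hρ, rfl⟩ := hχ
    haveI := hρ
    have := Cfsg.Agent.S0179.result ρ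
    rw [Module.finrank_fin_fun] at this
    have hn : charDegree ρ.character = n := by
      apply charDegree_natCast
      rw [Representation.char_one, Module.finrank_fin_fun]
    rw [hn]
    exact this
  rw [hidx] at h1 h2
  obtain ⟨j, hj, hjeq⟩ := (Nat.dvd_prime_pow hp).mp h2
  have hp2 : 2 ≤ p := hp.two_le
  rw [hjeq, ← pow_mul] at h1
  have hj1 : j * 2 ≤ 3 := (Nat.pow_le_pow_iff_right hp2).mp h1
  interval_cases j
  · left; rw [hjeq, pow_zero]
  · right; rw [hjeq, pow_one]
  · omega
  · omega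

/-- **Isaacs–Passman**, the forward direction. -/
theorem cd_p_forward {G : Type u} [Group G] [Finite G] (hG : ∃ a b : G, a * b ≠ b * a) {p : ℕ}
    (hp : p.Prime) (hcd : CdSub G p)
    (hm : ∃ χ : G → ℂ, IsIrrCharacter G χ ∧ charDegree χ = p) :
    (∃ A : Subgroup G, A.Normal ∧ (∀ a ∈ A, ∀ b ∈ A, a * b = b * a) ∧ A.index = p) ∨
      (Subgroup.center G).index = p ^ 3 := by
  classical
  haveI : Fact p.Prime := ⟨hp⟩
  by_cases hn : Group.IsNilpotent G
  swap
  · left
    obtain ⟨N, hNn, hNab, hNidx, -⟩ := exists_abelian_of_not_nilpotent hcd hn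
    exact ⟨N, hNn, hNab, hNidx⟩
  obtain ⟨p', e, hp', hpe, P₀, A, hP₀n, hAn, hP₀p, hAab, hinf, hsup⟩ :=
    nilpotent_structure hcd hm hp.ne_one
  haveI := hP₀n
  haveI := hAn
  have hpp : p' = p := by
    have he : e ≠ 0 := by
      intro h0
      rw [h0, pow_zero] at hpe
      exact hp.ne_one hpe
    have hdvd : p' ∣ p := by
      rw [hpe]
      exact dvd_pow_self p' he
    exact (Nat.prime_dvd_prime_iff_eq hp' hp).mp hdvd
  subst hpp
  -- every element is a product
  have hprod : ∀ g : G, ∃ x ∈ P₀, ∃ a ∈ A, g = x * a := by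
    intro g
    have hg : g ∈ (P₀ : Set G) * (A : Set G) := by
      rw [← Subgroup.normal_mul, hsup]
      exact Set.mem_univ g
    obtain ⟨x, hx, a, ha, rfl⟩ := hg
    exact ⟨x, hx, a, ha, rfl⟩
  -- commutators lie in `P₀`
  have hcommP : ∀ g h : G, g * h * g⁻¹ * h⁻¹ ∈ P₀ := by
    intro g h
    obtain ⟨x₁, hx₁, a₁, ha₁, rfl⟩ := hprod g
    obtain ⟨x₂, hx₂, a₂, ha₂, rfl⟩ := hprod h
    rw [← QuotientGroup.eq_one_iff]
    have e1 : (QuotientGroup.mk x₁ : G ⧸ P₀) = 1 := (QuotientGroup.eq_one_iff x₁).mpr hx₁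
    have e2 : (QuotientGroup.mk x₂ : G ⧸ P₀) = 1 := (QuotientGroup.eq_one_iff x₂).mpr hx₂
    simp only [QuotientGroup.mk_mul, QuotientGroup.mk_inv, e1, e2, one_mul]
    rw [← QuotientGroup.mk_mul, hAab a₁ ha₁ a₂ ha₂, QuotientGroup.mk_mul]
    group
  have hcomm1 : ∀ g h : G, g * h * g⁻¹ * h⁻¹ ∈ A → g * h = h * g := by
    intro g h hA'
    have h1 : g * h * g⁻¹ * h⁻¹ ∈ P₀ ⊓ A := ⟨hcommP g h, hA'⟩
    rw [hinf, Subgroup.mem_bot] at h1
    calc g * h = (g * h * g⁻¹ * h⁻¹) * (h * g) := by group
      _ = h * g := by rw [h1, one_mul]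
  -- the quotient `G ⧸ A` is a `p`-group
  have hQp : IsPGroup p' (G ⧸ A) := by
    obtain ⟨n, hn'⟩ := IsPGroup.iff_card.mp hP₀p
    apply IsPGroup.of_card (n := n)
    rw [← Subgroup.index_eq_card, ← hn']
    have h1 : A.relIndex (A ⊔ P₀) = A.relIndex P₀ := Subgroup.relIndex_sup_left P₀ A
    rw [sup_comm, hsup, Subgroup.relIndex_top_right] at h1
    rw [h1, ← Subgroup.inf_relIndex_left, hinf, Subgroup.relIndex_bot_left]
  have hQnab : ∃ a b : G ⧸ A, a * b ≠ b * a := by
    by_contra hcon
    push Not at hcon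
    obtain ⟨a, b, hab⟩ := hG
    apply hab
    apply hcomm1
    rw [← QuotientGroup.eq_one_iff]
    simp only [QuotientGroup.mk_mul, QuotientGroup.mk_inv]
    rw [hcon (QuotientGroup.mk a) (QuotientGroup.mk b)]
    group
  rcases pgroup_cd_p hQp (hcd.quotient A) hQnab with ⟨B, hBn, hBab, hBidx⟩ | hZ
  · left
    refine ⟨B.comap (QuotientGroup.mk' A), Subgroup.Normal.comap hBn _, ?_, ?_⟩
    · intro x hx y hy
      apply hcomm1
      rw [← QuotientGroup.eq_one_iff]
      simp only [QuotientGroup.mk_mul, QuotientGroup.mk_inv]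
      have := hBab _ hx _ hy
      simp only [QuotientGroup.mk'_apply] at this
      rw [this]
      group
    · rw [Subgroup.index_comap_of_surjective _ (QuotientGroup.mk'_surjective A), hBidx]
  · right
    have hC : Subgroup.center G = (Subgroup.center (G ⧸ A)).comap (QuotientGroup.mk' A) := by
      apply le_antisymm
      · intro z hz
        rw [Subgroup.mem_comap, Subgroup.mem_center_iff]
        intro q
        obtain ⟨g, rfl⟩ := QuotientGroup.mk_surjective q
        rw [QuotientGroup.mk'_apply, ← QuotientGroup.mk_mul, ← QuotientGroup.mk_mul,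
          Subgroup.mem_center_iff.mp hz g]
      · intro c hc
        rw [Subgroup.mem_comap, Subgroup.mem_center_iff] at hc
        rw [Subgroup.mem_center_iff]
        intro g
        apply hcomm1
        rw [← QuotientGroup.eq_one_iff]
        simp only [QuotientGroup.mk_mul, QuotientGroup.mk_inv]
        have := hc (QuotientGroup.mk g)
        simp only [QuotientGroup.mk'_apply] at this
        rw [this]
        group
    rw [hC, Subgroup.index_comap_of_surjective _ (QuotientGroup.mk'_surjective A), hZ]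

end Cfsg.Agent.Helper24.CdP
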