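import Mathlib
import Cfsg.Agent.Lib.Helper24.Cd3Util
import Cfsg.Agent.Lib.Helper24.Cd3Frob
import Cfsg.Agent.Lib.Helper24.Cd3Nil

/-!
# Three character degrees, coprime nonlinear degrees (helper24)
-/

set_option autoImplicit false
set_option linter.style.haveILetI false

namespace Cfsg.Agent.Helper24.Cd3

open Cfsg Cfsg.Agent.Helper24 Cfsg.Agent.Helper5 Cfsg.Agent.Helper24.Cd2
open scoped commutatorElement

universe u

/-- **The coprime case.** -/
theorem cop_case {G : Type u} [Group G] [Finite G] {a b : ℕ} (hcd : IsCd3 G a b) (ha : 1 < a)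
    (hlt : a < b) (hcop : a.Coprime b)
    (hexa : ∃ χ : G → ℂ, IsIrrCharacter G χ ∧ charDegree χ = a)
    (hexb : ∃ ψ : G → ℂ, IsIrrCharacter G ψ ∧ charDegree ψ = b)
    (ih : ∀ (K : Subgroup G) [K.Normal], K ≠ ⊥ → derivedSeries (G ⧸ K) 3 = ⊥) :
    derivedSeries G 3 = ⊥ := by
  classical
  letI : Fintype G := Fintype.ofFinite G
  let S : Set (Subgroup G) := {K | K.Normal ∧ K ≠ ⊥ ∧ ¬ commutator G ≤ K}
  by_cases hS : S.Nonempty
  swap
  · -- all nonlinear characters are faithful
    exfalso
    apply trick hcd ha hlt hcop ?_ hexa hexb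
    intro χ hχ hnl g hg
    by_contra hg1
    have hχc := isCharacter_of_isIrrCharacter hχ
    have hKne : charKer hχc ≠ ⊥ := by
      intro h
      apply hg1
      have h1 : g ∈ charKer hχc := hg
      rw [h, Subgroup.mem_bot] at h1
      exact h1
    have hcomm : commutator G ≤ charKer hχc := by
      by_contra hcon
      exact hS ⟨charKer hχc, charKer_normal hχc, hKne, hcon⟩
    obtain ⟨k, hk, hne⟩ := rel_commutator hχ hnl
    exact hne (hcomm hk)
  · obtain ⟨K, ⟨hKn, hKne, hKc⟩, hKmax⟩ := (wellFounded_gt (α := Subgroup G)).has_min S hS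
    haveI := hKn
    have hqab : ∀ (N' : Subgroup (G ⧸ K)) [N'.Normal], N' ≠ ⊥ →
        ∀ x y : (G ⧸ K) ⧸ N', x * y = y * x := by
      intro N' hN' hne x y
      set K' : Subgroup G := N'.comap (QuotientGroup.mk' K) with hK'
      haveI : K'.Normal := Subgroup.Normal.comap hN' _
      have hKK' : K ≤ K' := by
        intro k hk
        rw [hK', Subgroup.mem_comap, QuotientGroup.mk'_apply, (QuotientGroup.eq_one_iff k).mpr hk]
        exact N'.one_mem
      have hlt' : K < K' := by
        refine lt_of_le_of_ne hKK' ?_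
        intro heq
        apply hne
        rw [Subgroup.eq_bot_iff_forall]
        intro q hq
        obtain ⟨g, rfl⟩ := QuotientGroup.mk_surjective q
        have : g ∈ K' := hq
        rw [← heq] at this
        exact (QuotientGroup.eq_one_iff g).mpr this
      have hcK' : commutator G ≤ K' := by
        by_contra hcon
        exact hKmax K' ⟨inferInstance, ne_bot_of_gt hlt', hcon⟩ hlt'
      let φ : G →* (G ⧸ K) ⧸ N' := (QuotientGroup.mk' N').comp (QuotientGroup.mk' K)
      have hφs : Function.Surjective φ :=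
        (QuotientGroup.mk'_surjective N').comp (QuotientGroup.mk'_surjective K)
      obtain ⟨x, rfl⟩ := hφs x
      obtain ⟨y, rfl⟩ := hφs y
      have h1 : ⁅x, y⁆ ∈ K' :=
        hcK' (Subgroup.commutator_mem_commutator (Subgroup.mem_top _) (Subgroup.mem_top _))
      have h2 : φ ⁅x, y⁆ = 1 := by
        show QuotientGroup.mk' N' (QuotientGroup.mk' K ⁅x, y⁆) = 1
        rw [QuotientGroup.mk'_apply, QuotientGroup.eq_one_iff]
        exact h1
      rw [map_commutatorElement, commutatorElement_eq_one_iff_commute] at h2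
      exact h2.eq
    have hnab : ∃ x y : G ⧸ K, x * y ≠ y * x := by
      by_contra hcon
      push Not at hcon
      apply hKc
      rw [commutator_def, Subgroup.commutator_le]
      intro x _ y _
      have h1 : (QuotientGroup.mk' K) ⁅x, y⁆ = 1 := by
        rw [map_commutatorElement, commutatorElement_eq_one_iff_commute]
        exact hcon _ _
      exact (QuotientGroup.eq_one_iff _).mp h1
    have hQ3 := ih K hKne
    haveI hsolvQ : Group.IsSolvable (G ⧸ K) := by
      rw [Group.isSolvable_def]
      exact ⟨3, hQ3⟩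
    by_cases hnil : Group.IsNilpotent (G ⧸ K)
    · exact (nil_case hcd ha (by omega) hcop hexa hexb K hnil hnab hqab).elim
    · obtain ⟨N, hNn, hcN, m, hm⟩ := frob_case hcd ha (by omega) hcop K hnil hqab
      haveI := hNn
      have hN2 : derivedSeries N 2 = ⊥ := derived2_of_cdSub hm
      exact derived_add_eq_bot N 1 (by rw [derivedSeries_one]; exact hcN) 2 hN2

end Cfsg.Agent.Helper24.Cd3
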