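import Mathlib
import Cfsg.Agent.S0175
import Cfsg.Agent.Lib.Helper24.Cd3Trick

/-!
# Refined Taketa (helper24)

For an M-group, the derived length is at most the number of character degrees.  We prove the
version with a rank function and specialise to three degrees.
-/

set_option autoImplicit false
set_option linter.style.haveILetI false

namespace Cfsg.Agent.Helper24.Cd3

open Cfsg Cfsg.Agent.Helper24 Cfsg.Agent.Helper23 Cfsg.Agent.Helper24.Cd2
open scoped ComplexConjugate

universe u

/-- Key step of the refined Taketa theorem: with a rank function `rk` that is strictly increasing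
on the occurring degrees, the `rk f`-th derived subgroup lies in the kernel of every irreducible
character of degree `f`. -/
theorem taketa_rank {G : Type u} [Group G] [Fintype G]
    (hM : ∀ χ : G → ℂ, IsIrrCharacter G χ →
      ∃ (H : Subgroup G) (lam : H →* ℂˣ), χ = indFun H (fun h => (lam h : ℂ)))
    (rk : ℕ → ℕ) (hrk1 : 1 ≤ rk 1)
    (hrk : ∀ χ ψ : G → ℂ, IsIrrCharacter G χ → IsIrrCharacter G ψ →
      charDegree ψ < charDegree χ → rk (charDegree ψ) < rk (charDegree χ))
    (f : ℕ) : ∀ χ : G → ℂ, IsIrrCharacter G χ → charDegree χ = f →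
      ∀ x ∈ derivedSeries G (rk f), χ x = χ 1 := by
  classical
  letI : Fintype (IrrCharacter G) := irrFintype
  induction f using Nat.strong_induction_on with
  | _ f ih =>
  intro χ hχ hdeg x hx
  obtain ⟨H, lam, hχeq⟩ := hM χ hχ
  have hfpos : 0 < f := hdeg ▸ charDegree_pos hχ
  have hidx : H.index = f := by
    have h1 := congrFun hχeq 1
    rw [indFun_one, irr_one_eq_charDegree hχ, hdeg, map_one] at h1
    simp only [Units.val_one, mul_one] at h1
    exact_mod_cast h1.symm
  -- the permutation character
  set Φ : G → ℂ := indFun H (fun _ => (1 : ℂ)) with hΦ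
  letI : Fintype H := Fintype.ofFinite H
  have h1H : IsCharacter H (fun _ => (1 : ℂ)) := isCharacter_of_isIrrCharacter isIrrCharacter_one
  have hΦc : IsCharacter G Φ := isCharacter_indFun H h1H
  obtain ⟨hm, hdec⟩ := isCharacter_decomp hΦc
  choose m hm using hm
  have hΦ1 : Φ 1 = f := by
    rw [hΦ, indFun_one, hidx, mul_one]
  -- multiplicity of the principal character
  have hmprinc : m (principalChar G) = 1 := by
    have h1 := hm (principalChar G)
    have h2 : classInner Φ ((principalChar G : IrrCharacter G) : G → ℂ) = 1 := by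
      rw [hΦ, frobenius_reciprocity H _ (isClassFunction_of_isIrrCharacter (principalChar G).2)]
      have := irr_orthogonality (G := H) isIrrCharacter_one isIrrCharacter_one
      rw [if_pos rfl] at this
      exact this
    rw [h2] at h1
    exact_mod_cast h1.symm
  -- degree sum
  have hdegsum : f = ∑ ψ : IrrCharacter G, m ψ * charDegree (ψ : G → ℂ) := by
    have h1 := congrFun hdec 1
    rw [Finset.sum_apply, hΦ1] at h1
    have h2 : ((f : ℕ) : ℂ) = ((∑ ψ : IrrCharacter G, m ψ * charDegree (ψ : G → ℂ) : ℕ) : ℂ) := by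
      rw [h1]
      push_cast
      refine Finset.sum_congr rfl fun ψ _ => ?_
      rw [Pi.smul_apply, hm ψ, irr_one_eq_charDegree ψ.2, smul_eq_mul]
    exact_mod_cast h2
  by_cases hf1 : f = 1
  · -- linear character: kills commutators
    subst hf1
    have hχ1 : χ 1 = 1 := by rw [irr_one_eq_charDegree hχ, hdeg]; simp
    let lam0 := linHom (isCharacter_of_isIrrCharacter hχ) hχ1
    have hker : derivedSeries G 1 ≤ lam0.ker := by
      rw [derivedSeries_succ, derivedSeries_zero]
      rw [Subgroup.commutator_le]
      intro a _ b _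
      rw [MonoidHom.mem_ker, map_commutatorElement]
      exact commutatorElement_eq_one_iff_commute.mpr (Commute.all _ _)
    have := hker (derivedSeries_antitone G hrk1 hx)
    rw [MonoidHom.mem_ker] at this
    have h2 : ((lam0 x : ℂˣ) : ℂ) = 1 := by rw [this]; rfl
    rw [hχ1, ← h2]
    rfl
  · -- constituents of Φ have smaller degree
    have hfgt : 1 < f := by omega
    have hprdeg : charDegree ((principalChar G : IrrCharacter G) : G → ℂ) = 1 := by
      simp [principalChar, charDegree]
    have hsmall : ∀ ψ : IrrCharacter G, m ψ ≠ 0 → charDegree (ψ : G → ℂ) < f := by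
      intro ψ hψ
      by_cases hψp : ψ = principalChar G
      · rw [hψp, hprdeg]; exact hfgt
      · have h1 : m ψ * charDegree (ψ : G → ℂ) +
            m (principalChar G) * charDegree ((principalChar G : IrrCharacter G) : G → ℂ) ≤ f := by
          rw [hdegsum]
          have := Finset.add_sum_erase Finset.univ
            (fun ψ : IrrCharacter G => m ψ * charDegree (ψ : G → ℂ)) (Finset.mem_univ ψ)
          rw [← this]
          apply Nat.add_le_add_left
          exact Finset.single_le_sum (f := fun ψ : IrrCharacter G => m ψ * charDegree (ψ : G → ℂ))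
            (fun _ _ => Nat.zero_le _)
            (Finset.mem_erase.mpr ⟨Ne.symm hψp, Finset.mem_univ _⟩)
        rw [hmprinc, hprdeg] at h1
        have h3 : charDegree (ψ : G → ℂ) ≤ m ψ * charDegree (ψ : G → ℂ) :=
          Nat.le_mul_of_pos_left _ (Nat.pos_of_ne_zero hψ)
        omega
    have hrklt : ∀ ψ : IrrCharacter G, m ψ ≠ 0 → rk (charDegree (ψ : G → ℂ)) < rk f := by
      intro ψ hψ
      have := hrk χ ψ hχ ψ.2 (by rw [hdeg]; exact hsmall ψ hψ)
      rwa [hdeg] at this
    have hrkpos : 1 ≤ rk f := by
      have h1 := hrklt (principalChar G) (by rw [hmprinc]; exact one_ne_zero)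
      omega
    -- D(rk f - 1) ≤ H
    have hDH : derivedSeries G (rk f - 1) ≤ H := by
      intro y hy
      apply Cfsg.Agent.S0175.mem_of_indFun_one_eq H
      show Φ y = Φ 1
      have hy1 := congrFun hdec y
      have h11 := congrFun hdec 1
      rw [Finset.sum_apply] at hy1 h11
      rw [hy1, h11]
      refine Finset.sum_congr rfl fun ψ _ => ?_
      rw [Pi.smul_apply, Pi.smul_apply]
      by_cases hψ : m ψ = 0
      · rw [hm ψ, hψ]; simp
      · have hlt := hsmall ψ hψ
        have hlt2 := hrklt ψ hψ
        have hyψ : y ∈ derivedSeries G (rk (charDegree (ψ : G → ℂ))) :=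
          derivedSeries_antitone G (by omega) hy
        rw [ih _ hlt ψ ψ.2 rfl y hyψ]
    -- D(rk f) ≤ ker λ
    have hfsucc : rk f = (rk f - 1) + 1 := by omega
    have hDf : ∀ n (hn : n ∈ derivedSeries G (rk f)),
        ∃ hnH : n ∈ H, lam ⟨n, hnH⟩ = 1 := by
      intro n hn
      have hle : derivedSeries G (rk f) ≤ (lam.ker).map H.subtype := by
        rw [hfsucc, derivedSeries_succ, Subgroup.commutator_le]
        intro a ha b hb
        refine ⟨(⟨a, hDH ha⟩ : H) * (⟨b, hDH hb⟩ : H) * (⟨a, hDH ha⟩ : H)⁻¹ *
          (⟨b, hDH hb⟩ : H)⁻¹, ?_, rfl⟩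
        rw [SetLike.mem_coe, MonoidHom.mem_ker, map_mul, map_mul, map_mul, map_inv, map_inv]
        rw [mul_comm (lam _) (lam _), mul_inv_cancel_right, mul_inv_cancel]
      obtain ⟨h, hh, rfl⟩ := hle hn
      exact ⟨h.2, hh⟩
    have hDfH : derivedSeries G (rk f) ≤ H := fun n hn => (hDf n hn).1
    rw [hχeq]
    exact Cfsg.Agent.S0175.indFun_eq_of_normal_le_ker H lam (derivedSeries G (rk f)) hDfH
      (fun n hn => (hDf n hn).2) hx

/-- **Refined Taketa for three degrees**: an M-group with `cd(G) ⊆ {1, a, b}` has derived length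
at most `3`. -/
theorem derived3_of_mgroup {G : Type u} [Group G] [Fintype G] {a b : ℕ}
    (hM : ∀ χ : G → ℂ, IsIrrCharacter G χ →
      ∃ (H : Subgroup G) (lam : H →* ℂˣ), χ = indFun H (fun h => (lam h : ℂ)))
    (hcd : IsCd3 G a b) (ha : 1 < a) (hlt : a < b) : derivedSeries G 3 = ⊥ := by
  classical
  letI : Fintype (IrrCharacter G) := irrFintype
  let rk : ℕ → ℕ := fun d => if d < a then 1 else if d < b then 2 else 3
  have hrk1 : rk 1 = 1 := by simp only [rk]; rw [if_pos ha]
  have hrka : rk a = 2 := by
    simp only [rk]; rw [if_neg (lt_irrefl a), if_pos hlt]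
  have hrkb : rk b = 3 := by
    simp only [rk]; rw [if_neg (by omega), if_neg (lt_irrefl b)]
  have hrk : ∀ χ ψ : G → ℂ, IsIrrCharacter G χ → IsIrrCharacter G ψ →
      charDegree ψ < charDegree χ → rk (charDegree ψ) < rk (charDegree χ) := by
    intro χ ψ hχ hψ hlt'
    rcases hcd χ hχ with h1 | h1 | h1 <;> rcases hcd ψ hψ with h2 | h2 | h2 <;>
      rw [h1, h2] at hlt' ⊢ <;> first | omega | (simp only [hrk1, hrka, hrkb]; omega)
  have hle3 : ∀ d, rk d ≤ 3 := by
    intro d
    simp only [rk]
    split_ifs <;> omega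
  rw [Subgroup.eq_bot_iff_forall]
  intro x hx
  have h1 : ∀ χ : IrrCharacter G, (χ : G → ℂ) 1 = (χ : G → ℂ) x := by
    intro χ
    have hx' : x ∈ derivedSeries G (rk (charDegree (χ : G → ℂ))) :=
      derivedSeries_antitone G (hle3 _) hx
    exact (taketa_rank hM rk hrk1.ge hrk _ χ χ.2 rfl x hx').symm
  have := isConj_of_forall_irr_eq 1 x h1
  exact isConj_one_left.mp this

end Cfsg.Agent.Helper24.Cd3
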