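import Mathlib
import Cfsg.Agent.S0858
import Cfsg.Agent.Lib.Helper24.Cd3Taketa
import Cfsg.Agent.Lib.Helper19.ChiefP

/-!
# Abelian normal `p`-complement: M-group and derived length (helper24)
-/

set_option autoImplicit false
set_option linter.style.haveILetI false

namespace Cfsg.Agent.Helper24.Cd3

open Cfsg Cfsg.Agent.Helper24 Cfsg.Agent.Helper24.Cd2

universe u

/-- A group with an abelian normal subgroup of prime power index is an M-group. -/
theorem mgroup_of_abelian_normal {G : Type u} [Group G] [Fintype G] {p k : ℕ} (hp : p.Prime)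
    (H : Subgroup G) [hH : H.Normal] (hidx : H.index = p ^ k)
    (hab : ∀ x ∈ H, ∀ y ∈ H, x * y = y * x) (χ : G → ℂ) (hχ : IsIrrCharacter G χ) :
    ∃ (U : Subgroup G) (lam : U →* ℂˣ), χ = indFun U (fun h => (lam h : ℂ)) := by
  classical
  haveI : Fact p.Prime := ⟨hp⟩
  have hN : ∀ g : G, ∃ j : ℕ, g ^ p ^ j ∈ H := by
    intro g
    refine ⟨k, ?_⟩
    rw [← hidx]
    exact H.pow_index_mem g
  have hpg : IsPGroup p (G ⧸ H) := by
    apply IsPGroup.of_card (n := k)
    rw [← Subgroup.index_eq_card, hidx]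
  haveI : Group.IsNilpotent (G ⧸ H) := hpg.isNilpotent
  have hsolv : Group.IsSolvable (G ⧸ H) := inferInstance
  obtain ⟨U, hHU, ψ, hψ, hind, hres⟩ :=
    Cfsg.Agent.S0858.result H hsolv (Cfsg.Agent.Helper19.ChiefP.chiefNonsquare_of_pquot H hp hN) χ hχ
  letI : Fintype U := Fintype.ofFinite U
  have hHc : ∀ x y : H, x * y = y * x := by
    intro x y
    apply Subtype.ext
    exact hab x x.2 y y.2
  have h1 := linear_of_comm hHc hres
  have hψ1 : ψ 1 = 1 := by
    have h2 := irr_one_eq_charDegree hres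
    rw [h1, Nat.cast_one] at h2
    have h3 : (⟨((1 : H) : G), hHU (1 : H).2⟩ : U) = 1 := Subtype.ext rfl
    rw [← h3]
    exact h2
  refine ⟨U, linHom (isCharacter_of_isIrrCharacter hψ) hψ1, ?_⟩
  rw [← hind]
  rfl

/-- **The abelian case**: an abelian normal subgroup of prime power index and at most three
character degrees force derived length at most `3`. -/
theorem abel_case {G : Type u} [Group G] [Finite G] {a b p k : ℕ} (hcd : IsCd3 G a b) (ha : 1 < a)
    (hlt : a < b) (hp : p.Prime) (H : Subgroup G) [hH : H.Normal] (hidx : H.index = p ^ k)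
    (hab : ∀ x ∈ H, ∀ y ∈ H, x * y = y * x) : derivedSeries G 3 = ⊥ := by
  classical
  letI : Fintype G := Fintype.ofFinite G
  exact derived3_of_mgroup (mgroup_of_abelian_normal hp H hidx hab) hcd ha hlt

end Cfsg.Agent.Helper24.Cd3
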