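import Mathlib
import Cfsg.Agent.Lib.Helper24.Cd3Trick
import Cfsg.Agent.Lib.Helper24.CoprimeDegree
import Cfsg.Agent.Lib.Helper18.SigmaOdd2
import Cfsg.Agent.Lib.Helper18.CliffordCorr

/-!
# Three character degrees: degrees over a normal Hall subgroup (helper24's shared library)

If `H ⊲ G` has order prime to `p` and index a power of `p`, then for `χ ∈ Irr(G)` over
`θ ∈ Irr(H)` the quotient `χ(1) / θ(1)` is a power of `p`.
-/

set_option autoImplicit false
set_option linter.style.haveILetI false
set_option linter.unusedSectionVars false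
set_option linter.unusedVariables false

namespace Cfsg.Agent.Helper24.Cd3

open Cfsg Cfsg.Agent.Helper24 Cfsg.Agent.Helper5 Cfsg.Agent.Helper18 Cfsg.Agent.Helper24.Cd2
open scoped ComplexConjugate

universe u

/-- Over an invariant irreducible character of a normal Hall subgroup, every irreducible
character has degree `d θ(1)` with `d` dividing the index. -/
theorem degree_over_invariant {X : Type u} [Group X] [Fintype X] (Y : Subgroup X) [hY : Y.Normal]
    [Fintype Y] (hcop : (Nat.card Y).Coprime Y.index) {θ : Y → ℂ} (hθ : IsIrrCharacter Y θ)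
    (hinv : ∀ (g : X) (n : Y), θ ⟨g * n * g⁻¹, hY.conj_mem (n : X) n.2 g⟩ = θ n)
    {η : X → ℂ} (hη : IsIrrCharacter X η) (hover : classInner (fun n : Y => η n) θ ≠ 0) :
    ∃ d : ℕ, d ∣ Y.index ∧ η 1 = (d : ℂ) * θ 1 := by
  classical
  obtain ⟨χ₀, hχ₀, hext⟩ := CopDeg.exists_ext Y hcop hθ hinv
  obtain ⟨β, hβ, hβN, rfl⟩ := SigmaOdd.gallagher_surj Y hθ hinv hχ₀ hext hη hover
  obtain ⟨β', hβ', hβeq⟩ := exists_deflate Y hβ hβN
  refine ⟨charDegree β', ?_, ?_⟩
  · rw [Subgroup.index_eq_card]
    exact charDegree_dvd_card hβ'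
  · have h3 : β 1 = (charDegree β' : ℂ) := by
      rw [hβeq, Function.comp_apply, QuotientGroup.mk_one, irr_one_eq_charDegree hβ']
    rw [Pi.mul_apply, h3]
    have := hext 1
    rw [Subgroup.coe_one] at this
    rw [this]

/-- **Degrees over a normal `p`-complement.** -/
theorem degree_over_hall {G : Type u} [Group G] [Fintype G] {p k : ℕ} (hp : p.Prime)
    (H : Subgroup G) [hH : H.Normal] [Fintype H] (hHp : (Nat.card H).Coprime p)
    (hidx : H.index = p ^ k) {θ : H → ℂ} (hθ : IsIrrCharacter H θ) {χ : G → ℂ}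
    (hχ : IsIrrCharacter G χ) (hcon : classInner (fun n : H => χ n) θ ≠ 0) :
    ∃ j : ℕ, charDegree χ = p ^ j * charDegree θ := by
  classical
  obtain ⟨ψ, hψ, hind, f, hf0, hres⟩ := clifford_correspondence H hχ hθ hcon
  have hHT : H ≤ inertia H θ := le_inertia H (isClassFunction_of_isIrrCharacter hθ)
  letI : Fintype (inertia H θ) := Fintype.ofFinite _
  haveI hYn : (H.subgroupOf (inertia H θ)).Normal := Subgroup.normal_subgroupOf
  letI : Fintype (H.subgroupOf (inertia H θ)) := Fintype.ofFinite _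
  let e : H.subgroupOf (inertia H θ) ≃* H := Subgroup.subgroupOfEquivOfLe hHT
  let θY : H.subgroupOf (inertia H θ) → ℂ := θ ∘ e
  have hθYirr : IsIrrCharacter (H.subgroupOf (inertia H θ)) θY := isIrrCharacter_comp_equiv e hθ
  have hθYapp : ∀ y : H.subgroupOf (inertia H θ), θY y = θ ⟨((y : inertia H θ) : G), y.2⟩ :=
    fun y => rfl
  have hcardY : Nat.card (H.subgroupOf (inertia H θ)) = Nat.card H := Nat.card_congr e.toEquiv
  have hYidx : (H.subgroupOf (inertia H θ)).index ∣ p ^ k := by
    rw [← hidx]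
    have : (H.subgroupOf (inertia H θ)).index = H.relIndex (inertia H θ) := rfl
    rw [this]
    exact Subgroup.relIndex_dvd_index_of_normal H (inertia H θ)
  have hcop : (Nat.card (H.subgroupOf (inertia H θ))).Coprime
      (H.subgroupOf (inertia H θ)).index := by
    rw [hcardY]
    exact Nat.Coprime.coprime_dvd_right hYidx (Nat.Coprime.pow_right k hHp)
  have hinv : ∀ (g : inertia H θ) (n : H.subgroupOf (inertia H θ)),
      θY ⟨g * n * g⁻¹, hYn.conj_mem (n : inertia H θ) n.2 g⟩ = θY n := by
    intro g n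
    have hg : Helper5.conjFun H (g : G) θ = θ := (mem_inertia H θ g).mp g.2
    have h1 := congrFun hg ⟨((n : inertia H θ) : G), n.2⟩
    rw [Helper5.conjFun_apply] at h1
    rw [hθYapp, hθYapp]
    exact h1
  have hover : classInner (fun n : H.subgroupOf (inertia H θ) => ψ n) θY ≠ 0 := by
    have h1 : (fun n : H.subgroupOf (inertia H θ) => ψ n) = (f : ℂ) • θY := by
      funext n
      have h2 := congrFun hres ⟨((n : inertia H θ) : G), n.2⟩
      rw [resFun_apply] at h2
      rw [Pi.smul_apply, hθYapp]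
      rw [Pi.smul_apply] at h2
      exact h2
    rw [h1, classInner_smul_left, irr_orthogonality hθYirr hθYirr, if_pos rfl, mul_one]
    exact_mod_cast hf0
  obtain ⟨d, hd, hdeg⟩ := degree_over_invariant (H.subgroupOf (inertia H θ)) hcop hθYirr hinv hψ
    hover
  have hTidx : (inertia H θ).index ∣ p ^ k := by
    rw [← hidx]
    exact Subgroup.index_dvd_of_le hHT
  have hdvd : (inertia H θ).index * d ∣ p ^ (k + k) := by
    rw [pow_add]
    exact Nat.mul_dvd_mul hTidx (hd.trans hYidx)
  obtain ⟨j, -, hj⟩ := (Nat.dvd_prime_pow hp).mp hdvd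
  refine ⟨j, ?_⟩
  rw [← hj]
  have h1 : χ 1 = (((inertia H θ).index * d * charDegree θ : ℕ) : ℂ) := by
    rw [← hind, indFun_one, hdeg]
    have h2 : θY 1 = θ 1 := by
      rw [hθYapp]
      rfl
    rw [h2, irr_one_eq_charDegree hθ]
    push_cast
    ring
  exact charDegree_natCast _ h1

end Cfsg.Agent.Helper24.Cd3
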