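import Mathlib
import Cfsg.Agent.S4456
import Cfsg.Agent.S0169
import Cfsg.Agent.Lib.Helper24.Cd3Util
import Cfsg.Agent.Lib.Helper24.Cd3Hall
import Cfsg.Agent.Lib.Helper24.Cd3Abel

/-!
# Three character degrees, common prime divisor (helper24)

If a prime `p` divides both nonlinear degrees `a`, `b`, then `G` has a normal `p`-complement `H`
(Thompson, S4456) with `cd(H) ⊆ {1, a', b'}` (the `p'`-parts) and the derived length is bounded
through `H`, `G / H'` (Itô) and the abelian case.
-/

set_option autoImplicit false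
set_option linter.style.haveILetI false

namespace Cfsg.Agent.Helper24.Cd3

open Cfsg Cfsg.Agent.Helper24 Cfsg.Agent.Helper24.Cd2
open scoped commutatorElement

universe u

theorem pow_mul_unique {p l i x y : ℕ} (hp : p.Prime) (hx : ¬ p ∣ x) (hy : ¬ p ∣ y)
    (h : p ^ l * x = p ^ i * y) : x = y := by
  have hcy : Nat.Coprime (p ^ l) y := ((Nat.Prime.coprime_iff_not_dvd hp).mpr hy).pow_left l
  have hcx : Nat.Coprime (p ^ i) x := ((Nat.Prime.coprime_iff_not_dvd hp).mpr hx).pow_left i
  have h1 : p ^ l ∣ p ^ i := hcy.dvd_of_dvd_mul_right (h ▸ dvd_mul_right _ _)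
  have h2 : p ^ i ∣ p ^ l := hcx.dvd_of_dvd_mul_right (h.symm ▸ dvd_mul_right _ _)
  have h3 : p ^ l = p ^ i := Nat.dvd_antisymm h1 h2
  rw [h3] at h
  exact Nat.eq_of_mul_eq_mul_left (pow_pos hp.pos i) h

theorem derived_add_le_map' {G : Type u} [Group G] (H : Subgroup G) (j i : ℕ)
    (h : derivedSeries G j ≤ (derivedSeries H i).map H.subtype) (n : ℕ) :
    derivedSeries G (j + n) ≤ (derivedSeries H (i + n)).map H.subtype := by
  induction n with
  | zero => simpa using h
  | succ n ih =>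
    rw [← add_assoc, ← add_assoc, derivedSeries_succ, derivedSeries_succ, Subgroup.map_commutator]
    exact Subgroup.commutator_mono ih ih

theorem map_derivedSeries_one {G : Type u} [Group G] (H : Subgroup G) :
    (derivedSeries H 1).map H.subtype = ⁅H, H⁆ := by
  rw [derivedSeries_one, commutator_def, Subgroup.map_commutator, ← MonoidHom.range_eq_map,
    Subgroup.range_subtype]

/-- Degrees of `G / H'` divide `|G : H|` (Itô). -/
theorem degree_quot_commutator_dvd {G : Type u} [Group G] [Finite G] (H : Subgroup G)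
    [hH : H.Normal] {χ' : G ⧸ ⁅H, H⁆ → ℂ} (hχ' : IsIrrCharacter (G ⧸ ⁅H, H⁆) χ') :
    charDegree χ' ∣ H.index := by
  classical
  letI : Fintype (G ⧸ ⁅H, H⁆) := Fintype.ofFinite _
  have hf : Function.Surjective (QuotientGroup.mk' ⁅H, H⁆) := QuotientGroup.mk'_surjective _
  haveI : (H.map (QuotientGroup.mk' ⁅H, H⁆)).Normal := hH.map _ hf
  have hcomm : ∀ x ∈ H.map (QuotientGroup.mk' ⁅H, H⁆), ∀ y ∈ H.map (QuotientGroup.mk' ⁅H, H⁆),
      x * y = y * x := by
    rintro _ ⟨x, hx, rfl⟩ _ ⟨y, hy, rfl⟩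
    rw [← map_mul, ← map_mul, QuotientGroup.mk'_apply, QuotientGroup.mk'_apply, QuotientGroup.eq]
    have h1 : (x * y)⁻¹ * (y * x) = ⁅y⁻¹, x⁻¹⁆ := by
      simp [commutatorElement_def, mul_assoc]
    rw [h1]
    exact Subgroup.commutator_mem_commutator (H.inv_mem hy) (H.inv_mem hx)
  have h1 := Cfsg.Agent.S0169.ito_aux (Nat.card (G ⧸ ⁅H, H⁆)) (G ⧸ ⁅H, H⁆) rfl
    (H.map (QuotientGroup.mk' ⁅H, H⁆)) hcomm χ' hχ'
  have h2 : (H.map (QuotientGroup.mk' ⁅H, H⁆)).index = H.index :=
    Subgroup.index_map_eq _ hf (by rw [QuotientGroup.ker_mk']; exact Subgroup.commutator_le_left H H)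
  rwa [h2] at h1

/-- **Step A**: a common prime divisor of the two nonlinear degrees. -/
theorem stepA {G : Type u} [Group G] [Finite G] {a b p : ℕ} (hcd : IsCd3 G a b) (ha : 1 < a)
    (hlt : a < b) (hp : p.Prime) (hpa : p ∣ a) (hpb : p ∣ b)
    (hexa : ∃ χ : G → ℂ, IsIrrCharacter G χ ∧ charDegree χ = a)
    (ih : ∀ H : Subgroup G, Nat.card H < Nat.card G → ∀ a' b' : ℕ, IsCd3 H a' b' →
      derivedSeries H 3 = ⊥) :
    derivedSeries G 3 = ⊥ := by
  classical
  letI : Fintype G := Fintype.ofFinite G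
  have hdeg : ∀ χ : IrrCharacter G, charDegree (χ : G → ℂ) ≠ 1 → p ∣ charDegree (χ : G → ℂ) := by
    intro χ h1
    rcases hcd χ.1 χ.2 with h | h | h
    · exact absurd h h1
    · rw [h]; exact hpa
    · rw [h]; exact hpb
  obtain ⟨H, hHn, hHcop, k, hidx⟩ := Cfsg.Agent.S4456.result p hp hdeg
  haveI := hHn
  letI : Fintype H := Fintype.ofFinite H
  obtain ⟨χa, hχa, hχa1⟩ := hexa
  have hpG : p ∣ Nat.card G := by
    have h1 := charDegree_dvd_card hχa
    rw [hχa1] at h1
    exact hpa.trans h1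
  have hnotp : ∀ n : ℕ, n ∣ Nat.card H → ¬ p ∣ n := by
    intro n hn hpn
    exact hp.one_lt.ne' (Nat.Coprime.eq_one_of_dvd hHcop.symm (hpn.trans hn))
  have hHlt : Nat.card H < Nat.card G := by
    rcases (Subgroup.card_le_card_group H).lt_or_eq with h | h
    · exact h
    · exact absurd hpG (hnotp _ (by rw [h]))
  obtain ⟨i, a', hpa', hai⟩ := Nat.exists_eq_pow_mul_and_not_dvd (by omega : a ≠ 0) p hp.ne_one
  obtain ⟨j, b', hpb', hbj⟩ := Nat.exists_eq_pow_mul_and_not_dvd (by omega : b ≠ 0) p hp.ne_one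
  have hcdH : IsCd3 H a' b' := by
    intro θ hθ
    obtain ⟨χ, hχ, hcon⟩ := exists_over H hθ
    obtain ⟨l, hl⟩ := degree_over_hall hp H hHcop hidx hθ hχ hcon
    have hθp : ¬ p ∣ charDegree θ := hnotp _ (charDegree_dvd_card hθ)
    rcases hcd χ hχ with h | h | h
    · left
      rw [h] at hl
      exact Nat.dvd_one.mp ⟨p ^ l, by rw [mul_comm]; exact hl⟩
    · right; left
      rw [h, hai] at hl
      exact (pow_mul_unique hp hpa' hθp hl).symm
    · right; right
      rw [h, hbj] at hl
      exact (pow_mul_unique hp hpb' hθp hl).symm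
  haveI hH1n : (⁅H, H⁆ : Subgroup G).Normal := Subgroup.commutator_normal H H
  have hH1map : (derivedSeries H 1).map H.subtype = ⁅H, H⁆ := map_derivedSeries_one H
  have hQdeg : ∀ χ' : G ⧸ ⁅H, H⁆ → ℂ, IsIrrCharacter (G ⧸ ⁅H, H⁆) χ' →
      (charDegree χ' = 1 ∨ charDegree χ' = a ∨ charDegree χ' = b) ∧
        ∃ l : ℕ, charDegree χ' = p ^ l := by
    intro χ' hχ'
    constructor
    · have := hcd (χ' ∘ QuotientGroup.mk' ⁅H, H⁆)
        (isIrrCharacter_comp_of_surjective _ (QuotientGroup.mk'_surjective _) hχ')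
      rwa [charDegree_comp] at this
    · have h1 := degree_quot_commutator_dvd H hχ'
      rw [hidx] at h1
      obtain ⟨l, -, hl⟩ := (Nat.dvd_prime_pow hp).mp h1
      exact ⟨l, hl⟩
  have hnota : a' ≠ 1 → ∀ l : ℕ, a ≠ p ^ l := by
    intro h l hal
    rw [hai] at hal
    exact h (pow_mul_unique hp hpa' (Nat.Prime.not_dvd_one hp) (by rw [hal, mul_one]))
  have hnotb : b' ≠ 1 → ∀ l : ℕ, b ≠ p ^ l := by
    intro h l hbl
    rw [hbj] at hbl
    exact h (pow_mul_unique hp hpb' (Nat.Prime.not_dvd_one hp) (by rw [hbl, mul_one]))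
  by_cases ha1 : a' = 1
  · by_cases hb1 : b' = 1
    · -- `H` abelian
      have hlin : ∀ θ : H → ℂ, IsIrrCharacter H θ → charDegree θ = 1 := by
        intro θ hθ
        rcases hcdH θ hθ with h | h | h
        · exact h
        · rw [h, ha1]
        · rw [h, hb1]
      have hHc := comm_of_forall_linear hlin
      exact abel_case hcd ha hlt hp H hidx
        (fun x hx y hy => congrArg Subtype.val (hHc ⟨x, hx⟩ ⟨y, hy⟩))
    · -- `cd(H) ⊆ {1, b'}`, `cd(G/H') ⊆ {1, a}`
      have hH2 : derivedSeries H 2 = ⊥ := by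
        apply derived2_of_cdSub (m := b')
        intro θ hθ
        rcases hcdH θ hθ with h | h | h
        · left; exact h
        · left; rw [h, ha1]
        · right; exact h
      have hQ2 : derivedSeries (G ⧸ ⁅H, H⁆) 2 = ⊥ := by
        apply derived2_of_cdSub (m := a)
        intro χ' hχ'
        obtain ⟨h, l, hl⟩ := hQdeg χ' hχ'
        rcases h with h | h | h
        · left; exact h
        · right; exact h
        · exact absurd (h ▸ hl) (hnotb hb1 l)
      have h2 := derived_le_of_quotient ⁅H, H⁆ 2 hQ2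
      rw [← hH1map] at h2
      have h3 := derived_add_le_map' H 2 1 h2 1
      have h4 : derivedSeries H (1 + 1) = ⊥ := hH2
      rw [h4, Subgroup.map_bot] at h3
      exact le_bot_iff.mp h3
  · by_cases hb1 : b' = 1
    · have hH2 : derivedSeries H 2 = ⊥ := by
        apply derived2_of_cdSub (m := a')
        intro θ hθ
        rcases hcdH θ hθ with h | h | h
        · left; exact h
        · right; exact h
        · left; rw [h, hb1]
      have hQ2 : derivedSeries (G ⧸ ⁅H, H⁆) 2 = ⊥ := by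
        apply derived2_of_cdSub (m := b)
        intro χ' hχ'
        obtain ⟨h, l, hl⟩ := hQdeg χ' hχ'
        rcases h with h | h | h
        · left; exact h
        · exact absurd (h ▸ hl) (hnota ha1 l)
        · right; exact h
      have h2 := derived_le_of_quotient ⁅H, H⁆ 2 hQ2
      rw [← hH1map] at h2
      have h3 := derived_add_le_map' H 2 1 h2 1
      have h4 : derivedSeries H (1 + 1) = ⊥ := hH2
      rw [h4, Subgroup.map_bot] at h3
      exact le_bot_iff.mp h3
    · -- `G / H'` abelian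
      have hlin : ∀ χ' : G ⧸ ⁅H, H⁆ → ℂ, IsIrrCharacter (G ⧸ ⁅H, H⁆) χ' → charDegree χ' = 1 := by
        intro χ' hχ'
        obtain ⟨h, l, hl⟩ := hQdeg χ' hχ'
        rcases h with h | h | h
        · exact h
        · exact absurd (h ▸ hl) (hnota ha1 l)
        · exact absurd (h ▸ hl) (hnotb hb1 l)
      have hQc := comm_of_forall_linear hlin
      have hQ1 : derivedSeries (G ⧸ ⁅H, H⁆) 1 = ⊥ := by
        rw [derivedSeries_succ, derivedSeries_zero, Subgroup.commutator_eq_bot_iff_le_centralizer]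
        intro x _
        rw [Subgroup.mem_centralizer_iff]
        intro y _
        exact hQc y x
      have h2 := derived_le_of_quotient ⁅H, H⁆ 1 hQ1
      rw [← hH1map] at h2
      have h3 := derived_add_le_map' H 1 1 h2 2
      have h4 : derivedSeries H (1 + 2) = ⊥ := ih H hHlt a' b' hcdH
      rw [h4, Subgroup.map_bot] at h3
      exact le_bot_iff.mp h3

end Cfsg.Agent.Helper24.Cd3
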