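import Mathlib
import Cfsg.Agent.Lib.Helper24.Cd3Cop
import Cfsg.Agent.Lib.Helper24.Cd3StepA

/-!
# Three character degrees: derived length at most three (helper24)

Isaacs–Passman.  Induction on the group order.  If the two nonlinear degrees have a common prime
divisor, `stepA`; otherwise `cop_case`.
-/

set_option autoImplicit false
set_option linter.style.haveILetI false

namespace Cfsg.Agent.Helper24.Cd3

open Cfsg Cfsg.Agent.Helper24 Cfsg.Agent.Helper24.Cd2

universe u

theorem IsCd3.swap {G : Type u} [Group G] {a b : ℕ} (h : IsCd3 G a b) : IsCd3 G b a := by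
  intro χ hχ
  rcases h χ hχ with h1 | h1 | h1
  · left; exact h1
  · right; right; exact h1
  · right; left; exact h1

theorem IsCd3.quotient {G : Type u} [Group G] [Finite G] {a b : ℕ} (h : IsCd3 G a b)
    (K : Subgroup G) [K.Normal] : IsCd3 (G ⧸ K) a b := by
  intro χ' hχ'
  have := h (χ' ∘ QuotientGroup.mk' K)
    (isIrrCharacter_comp_of_surjective _ (QuotientGroup.mk'_surjective _) hχ')
  rwa [charDegree_comp] at this

/-- **Isaacs–Passman**: at most three character degrees (one of them `1`) force derived length at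
most `3`. -/
theorem cd3_main (n : ℕ) : ∀ (G : Type u) [Group G] [Finite G], Nat.card G = n →
    ∀ a b : ℕ, IsCd3 G a b → derivedSeries G 3 = ⊥ := by
  induction n using Nat.strong_induction_on with
  | _ n ih =>
  intro G _ _ hn a b hcd
  classical
  have hsub : ∀ m : ℕ, CdSub G m → derivedSeries G 3 = ⊥ := by
    intro m hm
    have h2 := derived2_of_cdSub hm
    rw [derivedSeries_succ, h2]
    exact Subgroup.commutator_bot_left _
  by_cases hexa : ∃ χ : G → ℂ, IsIrrCharacter G χ ∧ charDegree χ = a
  swap
  · apply hsub b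
    intro χ hχ
    rcases hcd χ hχ with h | h | h
    · left; exact h
    · exact absurd ⟨χ, hχ, h⟩ hexa
    · right; exact h
  by_cases hexb : ∃ ψ : G → ℂ, IsIrrCharacter G ψ ∧ charDegree ψ = b
  swap
  · apply hsub a
    intro χ hχ
    rcases hcd χ hχ with h | h | h
    · left; exact h
    · right; exact h
    · exact absurd ⟨χ, hχ, h⟩ hexb
  by_cases ha1 : a = 1
  · apply hsub b
    intro χ hχ
    rcases hcd χ hχ with h | h | h
    · left; exact h
    · left; rw [h, ha1]
    · right; exact h
  by_cases hb1 : b = 1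
  · apply hsub a
    intro χ hχ
    rcases hcd χ hχ with h | h | h
    · left; exact h
    · right; exact h
    · left; rw [h, hb1]
  by_cases hab : a = b
  · apply hsub a
    intro χ hχ
    rcases hcd χ hχ with h | h | h
    · left; exact h
    · right; exact h
    · right; rw [h, hab]
  have hapos : 0 < a := by
    obtain ⟨χ, hχ, h⟩ := hexa
    rw [← h]
    exact charDegree_pos hχ
  have hbpos : 0 < b := by
    obtain ⟨χ, hχ, h⟩ := hexb
    rw [← h]
    exact charDegree_pos hχ
  have key : ∀ a b : ℕ, IsCd3 G a b → 1 < a → a < b →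
      (∃ χ : G → ℂ, IsIrrCharacter G χ ∧ charDegree χ = a) →
      (∃ ψ : G → ℂ, IsIrrCharacter G ψ ∧ charDegree ψ = b) → derivedSeries G 3 = ⊥ := by
    intro a b hcd ha hlt hexa hexb
    by_cases hp : ∃ p : ℕ, p.Prime ∧ p ∣ a ∧ p ∣ b
    · obtain ⟨p, hp, hpa, hpb⟩ := hp
      exact stepA hcd ha hlt hp hpa hpb hexa
        (fun H hH a' b' hcdH => ih (Nat.card H) (hn ▸ hH) H rfl a' b' hcdH)
    · have hcop : a.Coprime b := by
        apply Nat.coprime_of_dvd
        intro k hk hka hkb
        exact hp ⟨k, hk, hka, hkb⟩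
      apply cop_case hcd ha hlt hcop hexa hexb
      intro K hK hKne
      have hlt' : Nat.card (G ⧸ K) < n := by
        rw [← hn, ← Subgroup.index_eq_card, ← Subgroup.card_mul_index K]
        have h1 : 1 < Nat.card K := (Subgroup.one_lt_card_iff_ne_bot K).mpr hKne
        have h2 : 0 < K.index := Nat.pos_of_ne_zero Subgroup.index_ne_zero_of_finite
        nlinarith
      exact ih _ hlt' (G ⧸ K) rfl a b (hcd.quotient K)
  rcases lt_or_gt_of_ne hab with h | h
  · exact key a b hcd (by omega) h hexa hexb
  · exact key b a hcd.swap (by omega) h hexb hexa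

end Cfsg.Agent.Helper24.Cd3
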