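import Mathlib
import Cfsg.Agent.Lib.Helper23.SlhDefs

/-!
# S3050, piece SLH-ORD3 (helper24): the elements `uu c * ll c⁻¹` of order 3 are fixed-point-free
-/

set_option autoImplicit false
set_option linter.unusedSectionVars false
set_option linter.unusedVariables false
set_option linter.unusedSimpArgs false

namespace Cfsg.Agent.Helper23.Slh

open Cfsg.Agent.Helper12.NatMod

local notation "SL2" => Matrix.SpecialLinearGroup (Fin 2)

section ModuleM

variable {F : Type*} [Field F] [CharP F 2] {M : Type*} [AddCommGroup M] [DistribMulAction (SL2 F) M]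

/-- the matrix of `uu c * ll c⁻¹` in characteristic 2 -/
theorem slh_ord3_val (c : Fˣ) :
    ((uu (c : F) * ll ((c⁻¹ : Fˣ) : F) : SL2 F) : Matrix (Fin 2) (Fin 2) F) =
      !![0, (c : F); ((c⁻¹ : Fˣ) : F), 1] := by
  have h2 : (1 : F) + 1 = 0 := CharTwo.add_self_eq_zero 1
  have hc : (c : F) * ((c⁻¹ : Fˣ) : F) = 1 := by
    rw [← Units.val_mul, mul_inv_cancel, Units.val_one]
  rw [Matrix.SpecialLinearGroup.coe_mul, uu_coe, ll_coe, Matrix.mul_fin_two]
  simp only [mul_one, mul_zero, add_zero, zero_add, zero_mul, one_mul, hc, h2]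

/-- the cube of `uu c * ll c⁻¹` is `1` in characteristic 2 -/
theorem slh_ord3_cube (c : Fˣ) :
    (uu (c : F) * ll ((c⁻¹ : Fˣ) : F)) * (uu (c : F) * ll ((c⁻¹ : Fˣ) : F)) *
      (uu (c : F) * ll ((c⁻¹ : Fˣ) : F)) = 1 := by
  apply sl2_ext
  have h2 : (1 : F) + 1 = 0 := CharTwo.add_self_eq_zero 1
  have hc : (c : F) * ((c⁻¹ : Fˣ) : F) = 1 := by
    rw [← Units.val_mul, mul_inv_cancel, Units.val_one]
  have hc' : ((c⁻¹ : Fˣ) : F) * (c : F) = 1 := by
    rw [← Units.val_mul, inv_mul_cancel, Units.val_one]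
  have hcc : (c : F) + c = 0 := CharTwo.add_self_eq_zero _
  rw [Matrix.SpecialLinearGroup.coe_mul, Matrix.SpecialLinearGroup.coe_mul, slh_ord3_val,
    Matrix.SpecialLinearGroup.coe_one, Matrix.mul_fin_two, Matrix.mul_fin_two, Matrix.one_fin_two]
  simp only [mul_one, mul_zero, add_zero, zero_add, zero_mul, one_mul, hc, hc', h2, hcc]

/-- `uu c * ll c⁻¹` is a conjugate of `uu 1 * ll 1` when `c` is a square -/
theorem slh_ord3_conj (s : Fˣ) :
    hh s * (uu (1 : F) * ll 1) =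
      (uu ((s : F) * (s : F)) * ll (((s⁻¹ : Fˣ) : F) * ((s⁻¹ : Fˣ) : F))) * hh s := by
  rw [← mul_assoc, hh_mul_uu, mul_assoc, hh_mul_ll, ← mul_assoc, mul_one, mul_one]

/-- PIECE SLH-ORD3. -/
theorem order3_rel (hsq : ∀ c : F, ∃ s : F, s * s = c)
    (hfpf : ∀ m : M, (uu (1 : F) * ll 1) • m = m → m = 0) (c : Fˣ) (m : M) :
    m + (uu (c : F) * ll ((c⁻¹ : Fˣ) : F)) • m +
      (uu (c : F) * ll ((c⁻¹ : Fˣ) : F)) • (uu (c : F) * ll ((c⁻¹ : Fˣ) : F)) • m = 0 := by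
  obtain ⟨g, hg⟩ : ∃ g : SL2 F, g = uu (c : F) * ll ((c⁻¹ : Fˣ) : F) := ⟨_, rfl⟩
  rw [← hg]
  have hcube : g * g * g = 1 := by rw [hg]; exact slh_ord3_cube c
  -- `g` is fixed-point-free
  have hgfpf : ∀ v : M, g • v = v → v = 0 := by
    intro v hv
    obtain ⟨s, hs⟩ := hsq (c : F)
    have hs0 : s ≠ 0 := by
      rintro rfl
      rw [mul_zero] at hs
      exact c.ne_zero hs.symm
    obtain ⟨su, hsu⟩ : ∃ su : Fˣ, (su : F) = s := ⟨Units.mk0 s hs0, rfl⟩
    have e1 : (su : F) * (su : F) = (c : F) := by rw [hsu, hs]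
    have e2 : ((su⁻¹ : Fˣ) : F) * ((su⁻¹ : Fˣ) : F) = ((c⁻¹ : Fˣ) : F) := by
      have : su * su = c := Units.ext (by rw [Units.val_mul, e1])
      rw [← Units.val_mul, ← mul_inv, this]
    have hconj : hh su * (uu (1 : F) * ll 1) = g * hh su := by
      rw [slh_ord3_conj, e1, e2, hg]
    -- `x • (h⁻¹ • v) = h⁻¹ • v`
    have h1 : (uu (1 : F) * ll 1) • ((hh su)⁻¹ • v) = (hh su)⁻¹ • v := by
      have e3 : (uu (1 : F) * ll 1) * (hh su)⁻¹ = (hh su)⁻¹ * g := by
        have : (hh su)⁻¹ * (hh su * (uu (1 : F) * ll 1)) * (hh su)⁻¹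
            = (hh su)⁻¹ * (g * hh su) * (hh su)⁻¹ := by rw [hconj]
        rw [inv_mul_cancel_left] at this
        rw [this]
        group
      rw [smul_smul, e3, ← smul_smul, hv]
    have h2 := hfpf _ h1
    exact (smul_eq_zero_iff_eq _).1 h2
  apply hgfpf
  rw [smul_add, smul_add, smul_smul g g (g • m), smul_smul (g * g) g m, hcube, one_smul]
  abel

end ModuleM

end Cfsg.Agent.Helper23.Slh
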