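import Mathlib
import Cfsg.Agent.Lib.Helper2.AICDefs
import Cfsg.Agent.Lib.Helper2.AICDefs2
import Cfsg.Agent.Lib.Helper2.AICGEN
import Cfsg.Agent.Lib.Helper2.AICBAS1
import Cfsg.Agent.Lib.Helper4.AICBAS2
import Cfsg.Agent.Lib.Helper13.AICINV
import Cfsg.Agent.Lib.Helper18.AICFACT
import Cfsg.Agent.Lib.Helper24.AICE1
import Cfsg.Agent.Lib.Helper24.AICE2

/-!
# S2202, piece E5: exponent 2 in `HQ Z` forces `K_P ≤ Z` and `P` elementary abelian
-/

set_option autoImplicit false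
set_option linter.unusedSectionVars false

namespace Cfsg.Agent.Helper2.AIC

variable {G : Type*} [Group G] [Finite G]

/-- the square of an element of `C_G(P)` lies in `Z` if centralizers of involutions of `HQ Z` have
exponent 2 -/
theorem e5_sq_mem (c : Cfg G) {Z : Subgroup G} {P : Sylow 2 G} (hZP : Z ≤ Kn P)
    (hB : ∀ t : HQ Z, orderOf t = 2 → ∀ x ∈ Subgroup.centralizer ({t} : Set (HQ Z)), x ^ 2 = 1)
    {x : G} (hx : x ∈ Cn P) : x ^ 2 ∈ Z := by
  obtain ⟨s, hsP, hs2⟩ := c.exists_inv P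
  have hsH : s ∈ Subgroup.centralizer (Z : Set G) := e2_mem_centralizer c hZP (c.sylow_le_Cn P hsP)
  have hxH : x ∈ Subgroup.centralizer (Z : Set G) := e2_mem_centralizer c hZP hx
  have ho := orderOf_mk_inv c hZP hsP hs2 hsH
  have hcomm : (QuotientGroup.mk (⟨x, hxH⟩ : ↥(Subgroup.centralizer (Z : Set G))) : HQ Z) ∈
      Subgroup.centralizer ({(QuotientGroup.mk (⟨s, hsH⟩ : ↥(Subgroup.centralizer (Z : Set G))) :
        HQ Z)} : Set (HQ Z)) := by
    rw [Subgroup.mem_centralizer_singleton_iff, ← QuotientGroup.mk_mul, ← QuotientGroup.mk_mul]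
    congr 1
    apply Subtype.ext
    show x * s = s * x
    exact ((Subgroup.mem_centralizer_iff.mp hx) s hsP).symm
  have h1 := hB _ ho _ hcomm
  rw [← QuotientGroup.mk_pow, QuotientGroup.eq_one_iff, mem_ZH] at h1
  exact h1

theorem Kn_le_of_sq (c : Cfg G) {Z : Subgroup G} {P : Sylow 2 G} (hZP : Z ≤ Kn P)
    (hB : ∀ t : HQ Z, orderOf t = 2 → ∀ x ∈ Subgroup.centralizer ({t} : Set (HQ Z)), x ^ 2 = 1) :
    Kn P ≤ Z ∧ ∀ x ∈ P, x ^ 2 = 1 := by
  constructor
  · intro k hk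
    obtain ⟨hkC, hkodd⟩ := (c.mem_Kn_iff P).mp hk
    have h1 := e5_sq_mem c hZP hB hkC
    rw [← fact_half hkodd]
    exact Z.pow_mem h1 _
  · intro x hx
    have h1 := e5_sq_mem c hZP hB (c.sylow_le_Cn P hx)
    exact e2_eq_one c hZP ((P : Subgroup G).pow_mem hx 2) h1

end Cfsg.Agent.Helper2.AIC
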