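import Mathlib
import Cfsg.Agent.Lib.Helper2.AICDefs

/-!
# S2202, piece EMAX: a pair `P ≠ Q` with `|K_P ⊓ K_Q|` maximal
-/

set_option autoImplicit false
set_option linter.unusedSectionVars false

namespace Cfsg.Agent.Helper2.AIC

variable {G : Type*} [Group G] [Finite G]

theorem exists_max_pair (c : Cfg G) : ∃ P Q : Sylow 2 G, P ≠ Q ∧ ∀ P' Q' : Sylow 2 G, P' ≠ Q' →
    Nat.card (Kn P' ⊓ Kn Q' : Subgroup G) ≤ Nat.card (Kn P ⊓ Kn Q : Subgroup G) := by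
  obtain ⟨P0⟩ : Nonempty (Sylow 2 G) := inferInstance
  obtain ⟨Q0, hQ0⟩ := c.nn P0
  haveI : Nonempty {pq : Sylow 2 G × Sylow 2 G // pq.1 ≠ pq.2} := ⟨⟨(P0, Q0), hQ0.symm⟩⟩
  obtain ⟨⟨⟨P, Q⟩, hPQ⟩, hmax⟩ := Finite.exists_max
    (fun pq : {pq : Sylow 2 G × Sylow 2 G // pq.1 ≠ pq.2} =>
      Nat.card (Kn pq.1.1 ⊓ Kn pq.1.2 : Subgroup G))
  exact ⟨P, Q, hPQ, fun P' Q' h => hmax ⟨(P', Q'), h⟩⟩

end Cfsg.Agent.Helper2.AIC
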