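import Mathlib
import Cfsg.Agent.Lib.Helper2.AICDefs
import Cfsg.Agent.Lib.Helper2.AICDefs2
import Cfsg.Agent.Lib.Helper2.AICGEN
import Cfsg.Agent.Lib.Helper2.AICBAS1
import Cfsg.Agent.Lib.Helper1.AICQLIFT
import Cfsg.Agent.Lib.Helper24.AICE1

/-!
# S2202, piece F1A: centralizers of involutions of `C_G(N)/N` have exponent 2
-/

set_option autoImplicit false
set_option linter.unusedSectionVars false

namespace Cfsg.Agent.Helper2.AIC

variable {G : Type*} [Group G] [Finite G]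

theorem sq_HQ (c : Cfg G) {N : Subgroup G} (hK : ∀ P : Sylow 2 G, Kn P = N)
    (hel : ∀ P : Sylow 2 G, ∀ x ∈ P, x ^ 2 = 1) :
    ∀ t : HQ N, orderOf t = 2 → ∀ x ∈ Subgroup.centralizer ({t} : Set (HQ N)), x ^ 2 = 1 := by
  intro t ht x hx
  obtain ⟨P0⟩ : Nonempty (Sylow 2 G) := inferInstance
  have hoddN : Odd (Nat.card N) := hK P0 ▸ c.odd_card_Kn P0
  have hoddZ : Odd (Nat.card (ZH N)) := e1_odd_card_ZH hoddN
  obtain ⟨t', ht', rfl⟩ := exists_inv_lift (ZH N) hoddZ ht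
  rw [Subgroup.mem_centralizer_singleton_iff] at hx
  obtain ⟨x', hx't', rfl⟩ := exists_centralizer_lift (ZH N) hoddZ ht' hx
  -- down to `G`
  have ht2 : orderOf (t' : G) = 2 := by rw [Subgroup.orderOf_coe]; exact ht'
  have hcomm : (x' : G) * (t' : G) = (t' : G) * (x' : G) := by
    have := congrArg (fun y : ↥(Subgroup.centralizer (N : Set G)) => (y : G)) hx't'
    simpa using this
  obtain ⟨R, htR⟩ := exists_sylow_of_orderOf_two ht2
  have hxC : (x' : G) ∈ Cn R := by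
    rw [← c.centralizer_eq htR ht2, Subgroup.mem_centralizer_singleton_iff]
    exact hcomm
  obtain ⟨a, haR, k, hkK, hxak⟩ := c.Cn_eq_mul hxC
  have ha2 : a ^ 2 = 1 := hel R a haR
  have hak : a * k = k * a := c.comm_Cn R a (c.sylow_le_Cn R haR) k (c.Kn_le_Cn R hkK)
  have hsq : (x' : G) ^ 2 = k ^ 2 := by
    rw [hxak, (show Commute a k from hak).mul_pow, ha2, one_mul]
  rw [← QuotientGroup.mk_pow, QuotientGroup.eq_one_iff, mem_ZH]
  show ((x' ^ 2 : ↥(Subgroup.centralizer (N : Set G))) : G) ∈ N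
  rw [Subgroup.coe_pow, hsq, ← hK R]
  exact (Kn R).pow_mem hkK 2

end Cfsg.Agent.Helper2.AIC
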