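import Mathlib
import Cfsg.Agent.Lib.Helper13.BR996CC
import Cfsg.Agent.Lib.Helper24.CharComplete
import Cfsg.Agent.Lib.Helper24.CharHom
import Cfsg.Agent.Lib.Helper24.CharAlgebra
import Cfsg.Agent.Lib.Helper24.CharAbelian
import Cfsg.Agent.Lib.Helper24.CharLinear
import Cfsg.Agent.Lib.Helper24.CharOrtho
import Cfsg.Agent.Lib.Helper3.BSWCharDefs

/-!
# S3282 character piece INT (helper24): `a1C`, `bC`, `μ(t)` are integers
-/

set_option autoImplicit false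
set_option linter.unusedSectionVars false
set_option linter.unusedVariables false

namespace Cfsg.Agent.Helper3.BSW

open Cfsg Cfsg.Agent.Helper24
open scoped ComplexConjugate

universe u

variable {G : Type u} [Group G] [Fintype G] [Fintype (IrrCharacter G)] [DecidableEq (IrrCharacter G)]
  {t s : G} {K : Subgroup G} [Fintype K] [Fintype (JK K)] [DecidableEq (JK K)]
  {a1 : IrrCharacter G → ℤ} {b : JK K → IrrCharacter G → ℤ} {sgn : JK K → ℤ}

namespace INT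

theorem a1C_eq (ψ : G → ℂ) :
    a1C K ψ = classInner (fun x : K => ψ x) (fun _ : K => (1 : ℂ)) := by
  unfold a1C classInner
  simp

theorem bC_eq (μ : ↥K →* ℂˣ) (ψ : G → ℂ) :
    bC K μ ψ = classInner (fun x : K => ψ x) (fun _ : K => (1 : ℂ)) -
      classInner (fun x : K => ψ x) (fun x : K => ((μ x : ℂˣ) : ℂ)) := by
  unfold bC classInner
  rw [← mul_sub, ← Finset.sum_sub_distrib]
  congr 1
  apply Finset.sum_congr rfl
  intro x _
  simp only [map_one, mul_one]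
  ring

theorem mu_t (h : Hyp t s K) (μ : ↥K →* ℂˣ) :
    ((μ ⟨t, h.htK⟩ : ℂˣ) : ℂ) = 1 ∨ ((μ ⟨t, h.htK⟩ : ℂˣ) : ℂ) = -1 := by
  have ht2 : t ^ 2 = 1 := by
    rw [← h.ht]
    exact pow_orderOf_eq_one t
  have hK2 : (⟨t, h.htK⟩ : ↥K) ^ 2 = 1 := by
    apply Subtype.ext
    simp [ht2]
  have h2 : ((μ ⟨t, h.htK⟩ : ℂˣ) : ℂ) ^ 2 = 1 := by
    rw [← Units.val_pow_eq_pow_val, ← map_pow, hK2, map_one, Units.val_one]
  have h3 : (((μ ⟨t, h.htK⟩ : ℂˣ) : ℂ) - 1) * (((μ ⟨t, h.htK⟩ : ℂˣ) : ℂ) + 1) = 0 := by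
    linear_combination h2
  rcases mul_eq_zero.mp h3 with h4 | h4
  · left
    exact sub_eq_zero.mp h4
  · right
    exact eq_neg_of_add_eq_zero_left h4

end INT

/-- PIECE INT (C1). -/
theorem exists_charData (h : Hyp t s K) :
    ∃ (a1 : IrrCharacter G → ℤ) (b : JK K → IrrCharacter G → ℤ) (sgn : JK K → ℤ),
      CharData K t h.htK a1 b sgn ∧ (∀ ψ, 0 ≤ a1 ψ) ∧ (∀ μ, sgn μ = 1 ∨ sgn μ = -1) := by
  classical
  letI : Fintype (IrrCharacter ↥K) := irrFintype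
  have hK1 : IsCharacter K (fun _ : K => (1 : ℂ)) :=
    isCharacter_of_isIrrCharacter isIrrCharacter_one
  have hres : ∀ ψ : IrrCharacter G, IsCharacter K (fun x : K => (ψ : G → ℂ) x) :=
    fun ψ => isCharacter_restrict K (isCharacter_of_isIrrCharacter ψ.2)
  have hA : ∀ ψ : IrrCharacter G, ∃ n : ℕ, a1C K (ψ : G → ℂ) = n := by
    intro ψ
    obtain ⟨n, hn⟩ := classInner_char_nat (hres ψ) hK1
    exact ⟨n, by rw [INT.a1C_eq, hn]⟩
  have hB : ∀ (μ : JK K) (ψ : IrrCharacter G), ∃ m : ℤ, bC K μ.1 (ψ : G → ℂ) = m := by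
    intro μ ψ
    obtain ⟨n1, h1⟩ := classInner_char_nat (hres ψ) hK1
    obtain ⟨n2, h2⟩ := classInner_char_nat (hres ψ)
      (isCharacter_of_isIrrCharacter (isIrrCharacter_of_monoidHom μ.1))
    refine ⟨(n1 : ℤ) - n2, ?_⟩
    rw [INT.bC_eq, h1, h2]
    push_cast
    rfl
  choose a ha using hA
  choose bb hbb using hB
  refine ⟨fun ψ => (a ψ : ℤ), bb,
    fun μ => if ((μ.1 ⟨t, h.htK⟩ : ℂˣ) : ℂ) = 1 then 1 else -1, ?_, ?_, ?_⟩
  · constructor
    · intro ψ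
      rw [ha ψ]
      push_cast
      rfl
    · intro μ ψ
      rw [hbb μ ψ]
    · intro μ
      show (((if ((μ.1 ⟨t, h.htK⟩ : ℂˣ) : ℂ) = 1 then 1 else -1 : ℤ)) : ℂ) = _
      rcases INT.mu_t h μ.1 with h1 | h1
      · rw [if_pos h1, h1]
        norm_num
      · have hne : ((μ.1 ⟨t, h.htK⟩ : ℂˣ) : ℂ) ≠ 1 := by
          rw [h1]
          norm_num
        rw [if_neg hne, h1]
        norm_num
  · intro ψ
    exact Int.natCast_nonneg _
  · intro μ
    show (if ((μ.1 ⟨t, h.htK⟩ : ℂˣ) : ℂ) = 1 then (1 : ℤ) else -1) = 1 ∨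
      (if ((μ.1 ⟨t, h.htK⟩ : ℂˣ) : ℂ) = 1 then (1 : ℤ) else -1) = -1
    by_cases h1 : ((μ.1 ⟨t, h.htK⟩ : ℂˣ) : ℂ) = 1
    · left
      rw [if_pos h1]
    · right
      rw [if_neg h1]

end Cfsg.Agent.Helper3.BSW
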