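import Mathlib
import Cfsg.Agent.Lib.Helper13.BR996CC
import Cfsg.Agent.Lib.Helper24.CharComplete
import Cfsg.Agent.Lib.Helper24.CharHom
import Cfsg.Agent.Lib.Helper24.CharAlgebra
import Cfsg.Agent.Lib.Helper24.CharAbelian
import Cfsg.Agent.Lib.Helper3.BSWCharDefs
import Cfsg.Agent.Lib.Helper9.BSWDUAL

/-!
# S3282 character piece RES (helper24): Fourier inversion on `K`
-/

set_option autoImplicit false
set_option linter.unusedSectionVars false
set_option linter.unusedVariables false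

namespace Cfsg.Agent.Helper3.BSW

open Cfsg Cfsg.Agent.Helper24
open scoped ComplexConjugate

universe u

namespace RES

variable {A : Type u} [Group A] [Fintype A]

/-- Fourier inversion on a finite abelian group -/
theorem fourier (hA : ∀ a b : A, a * b = b * a) [Fintype (A →* ℂˣ)] (f : A → ℂ) (x : A) :
    ∑ μ : A →* ℂˣ, ((Nat.card A : ℂ)⁻¹ * ∑ y : A, f y * conj ((μ y : ℂˣ) : ℂ)) *
      ((μ x : ℂˣ) : ℂ) = f x := by
  classical
  have hk : (Nat.card A : ℂ) ≠ 0 := by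
    have : 0 < Nat.card A := Nat.card_pos
    exact_mod_cast this.ne'
  have e1 : ∀ μ : A →* ℂˣ, ((Nat.card A : ℂ)⁻¹ * ∑ y : A, f y * conj ((μ y : ℂˣ) : ℂ)) *
      ((μ x : ℂˣ) : ℂ) =
      ∑ y : A, (Nat.card A : ℂ)⁻¹ * f y * (((μ x : ℂˣ) : ℂ) * conj ((μ y : ℂˣ) : ℂ)) := by
    intro μ
    rw [Finset.mul_sum, Finset.sum_mul]
    apply Finset.sum_congr rfl
    intro y _
    ring
  rw [Finset.sum_congr rfl (fun μ _ => e1 μ), Finset.sum_comm]
  have e2 : ∀ y : A, ∑ μ : A →* ℂˣ,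
      (Nat.card A : ℂ)⁻¹ * f y * (((μ x : ℂˣ) : ℂ) * conj ((μ y : ℂˣ) : ℂ)) =
      (Nat.card A : ℂ)⁻¹ * f y * (if x = y then (Nat.card A : ℂ) else 0) := by
    intro y
    rw [← Finset.mul_sum, dual_orth hA x y]
  rw [Finset.sum_congr rfl (fun y _ => e2 y)]
  simp only [mul_ite, mul_zero]
  rw [Finset.sum_ite_eq Finset.univ x, if_pos (Finset.mem_univ x)]
  field_simp

/-- `∑_{all μ} μ x = k [x = 1]` -/
theorem sum_all (hA : ∀ a b : A, a * b = b * a) [Fintype (A →* ℂˣ)] [DecidableEq A] (x : A) :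
    ∑ μ : A →* ℂˣ, ((μ x : ℂˣ) : ℂ) = if x = 1 then (Nat.card A : ℂ) else 0 := by
  have := dual_orth hA x 1
  simpa using this

end RES

variable {G : Type u} [Group G] [Fintype G] [Fintype (IrrCharacter G)] [DecidableEq (IrrCharacter G)]
  {t s : G} {K : Subgroup G} [Fintype K] [Fintype (JK K)] [DecidableEq (JK K)]
  {a1 : IrrCharacter G → ℤ} {b : JK K → IrrCharacter G → ℤ} {sgn : JK K → ℤ}

/-- PIECE RES (C1, Fourier inversion on `K`). -/
theorem res_K (h : Hyp t s K) (cd : CharData K t h.htK a1 b sgn) (ψ : IrrCharacter G) {x : G}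
    (hx : x ∈ K) [Decidable (x = 1)] :
    (ψ : G → ℂ) x = (if x = 1 then (Nat.card K : ℂ) * (a1 ψ : ℂ) else 0) -
      ∑ μ : JK K, (b μ ψ : ℂ) * ((μ.1 ⟨x, hx⟩ : ℂˣ) : ℂ) := by
  classical
  let _ : Fintype (↥K →* ℂˣ) := Fintype.ofFinite _
  have hKab : ∀ a b : ↥K, a * b = b * a := fun a b => Subtype.ext (h.hKab a a.2 b b.2)
  have hk : (Nat.card K : ℂ) ≠ 0 := by
    have : 0 < Nat.card K := Nat.card_pos
    exact_mod_cast this.ne'
  set xK : ↥K := ⟨x, hx⟩ with hxK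
  have hsplitF : ∀ F : (↥K →* ℂˣ) → ℂ, ∑ μ, F μ = F 1 + ∑ μ : JK K, F μ.1 := by
    intro F
    rw [Fintype.sum_eq_add_sum_subtype_ne F 1]
    congr 1
    apply Finset.sum_congr
    · congr 1
      exact Subsingleton.elim _ _
    · intro μ _
      rfl
  have hF := RES.fourier hKab (fun y : ↥K => (ψ : G → ℂ) y) xK
  rw [hsplitF] at hF
  have hall := RES.sum_all hKab xK
  rw [hsplitF] at hall
  -- the coefficient at the principal character
  have hc1 : ((Nat.card K : ℂ)⁻¹ * ∑ y : ↥K, (ψ : G → ℂ) y *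
      conj ((((1 : ↥K →* ℂˣ) y : ℂˣ)) : ℂ)) * ((((1 : ↥K →* ℂˣ) xK : ℂˣ)) : ℂ) = (a1 ψ : ℂ) := by
    rw [cd.ha1 ψ]
    unfold a1C
    simp
  -- the coefficients at the other characters
  have hcμ : ∀ μ : JK K,
      ((Nat.card K : ℂ)⁻¹ * ∑ y : ↥K, (ψ : G → ℂ) y * conj ((μ.1 y : ℂˣ) : ℂ)) *
        ((μ.1 xK : ℂˣ) : ℂ) = ((a1 ψ : ℂ) - (b μ ψ : ℂ)) * ((μ.1 xK : ℂˣ) : ℂ) := by
    intro μ
    congr 1
    rw [cd.ha1 ψ, cd.hb μ ψ]
    unfold a1C bC
    rw [← mul_sub, ← Finset.sum_sub_distrib]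
    congr 1
    apply Finset.sum_congr rfl
    intro y _
    ring
  rw [hc1, Finset.sum_congr rfl (fun μ _ => hcμ μ)] at hF
  have hsum1 : ∑ μ : JK K, ((a1 ψ : ℂ) - (b μ ψ : ℂ)) * ((μ.1 xK : ℂˣ) : ℂ) =
      (a1 ψ : ℂ) * ∑ μ : JK K, ((μ.1 xK : ℂˣ) : ℂ) -
        ∑ μ : JK K, (b μ ψ : ℂ) * ((μ.1 xK : ℂˣ) : ℂ) := by
    rw [Finset.mul_sum, ← Finset.sum_sub_distrib]
    apply Finset.sum_congr rfl
    intro μ _
    ring
  rw [hsum1] at hF
  have h1 : ((((1 : ↥K →* ℂˣ) xK : ℂˣ)) : ℂ) = 1 := by simp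
  rw [h1] at hall
  have hx1 : (xK = 1) ↔ (x = 1) := by
    constructor
    · intro h'
      have := congrArg Subtype.val h'
      simpa [hxK] using this
    · intro h'
      apply Subtype.ext
      simpa [hxK] using h'
  have hS : ∑ μ : JK K, ((μ.1 xK : ℂˣ) : ℂ) =
      (if x = 1 then (Nat.card K : ℂ) else 0) - 1 := by
    have : (if xK = 1 then (Nat.card ↥K : ℂ) else 0) = (if x = 1 then (Nat.card K : ℂ) else 0) := by
      by_cases hh : x = 1
      · rw [if_pos hh, if_pos (hx1.mpr hh)]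
      · rw [if_neg hh, if_neg (fun h' => hh (hx1.mp h'))]
    rw [this] at hall
    linear_combination hall
  rw [hS] at hF
  have hval : (ψ : G → ℂ) ((xK : ↥K) : G) = (ψ : G → ℂ) x := rfl
  rw [hval] at hF
  by_cases hh : x = 1
  · rw [if_pos hh] at hF ⊢
    linear_combination -hF
  · rw [if_neg hh] at hF ⊢
    linear_combination -hF

end Cfsg.Agent.Helper3.BSW
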