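import Mathlib
import Cfsg.Agent.Lib.Helper3.BSWArithDefs
import Cfsg.Agent.Lib.Helper24.BSWPAIR
import Cfsg.Agent.Lib.Helper24.BSWPN

/-!
# S3282 ARITH piece SHARE (helper24): two unrelated `j`, `j'` share exactly one of `X`, `Y`
-/

set_option autoImplicit false
set_option linter.unusedSectionVars false
set_option linter.unusedVariables false

namespace Cfsg.Agent.Helper3.BSW

variable {ι J : Type*} [Fintype ι] [Fintype J] [DecidableEq ι] [DecidableEq J]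
variable {k g : ℕ} {o : ι} {inv : J → J} {j0 : J} {sgn : J → ℤ} {b : J → ι → ℤ} {deg a1 : ι → ℤ}

namespace SHARE

theorem ind_cases (X i : ι) : (i = X ∧ ind X i = 1) ∨ (i ≠ X ∧ ind X i = 0) := by
  by_cases h : i = X
  · left
    exact ⟨h, by rw [h]; exact PAIR.ind_self X⟩
  · right
    exact ⟨h, PAIR.ind_ne h⟩

end SHARE

/-- PIECE SHARE (A2). -/
theorem share (H : ArithHyp k g o inv j0 sgn b deg a1) {X Y : J → ι}
    (D : PairData o inv j0 b deg X Y) {j j' : J} (hj : j ≠ j0) (hj' : j' ≠ j0) (h1 : j' ≠ j)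
    (h2 : j' ≠ inv j) :
    ((X j = X j' ∧ Y j ≠ Y j') ∨ (Y j = Y j' ∧ X j ≠ X j')) ∧ X j ≠ Y j' ∧ Y j ≠ X j' := by
  have hg := H.gram j j'
  have hne2 : j ≠ inv j' := by
    intro h
    apply h2
    rw [h, H.inv_inv]
  rw [if_neg (fun h => h1 h.symm), if_neg hne2, PN.sum_mul_bj D hj' (b j), H.b_o j,
    D.bj j hj (X j'), D.bj j hj (Y j'), PAIR.ind_ne (D.Xo j' hj'), PAIR.ind_ne (D.Yo j' hj')] at hg
  have hXYj := D.XY j hj
  have hXYj' := D.XY j' hj'
  have hinj := D.inj j j' hj hj'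
  rcases SHARE.ind_cases (X j) (X j') with ⟨e1, c1⟩ | ⟨e1, c1⟩
  · rcases SHARE.ind_cases (Y j) (Y j') with ⟨e4, c4⟩ | ⟨e4, c4⟩
    · exfalso
      rcases hinj e1.symm e4.symm with h | h
      · exact h1 h
      · exact h2 h
    · have c2 : ind (Y j) (X j') = 0 := PAIR.ind_ne (by rw [e1]; exact hXYj)
      rcases SHARE.ind_cases (X j) (Y j') with ⟨e3, c3⟩ | ⟨e3, c3⟩
      · rw [c1, c2, c3, c4] at hg
        omega
      · refine ⟨Or.inl ⟨e1.symm, fun h => e4 h.symm⟩, fun h => e3 h.symm, ?_⟩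
        intro h
        exact hXYj (e1.symm.trans h.symm)
  · rcases SHARE.ind_cases (Y j) (Y j') with ⟨e4, c4⟩ | ⟨e4, c4⟩
    · have c3 : ind (X j) (Y j') = 0 := PAIR.ind_ne (by rw [e4]; exact hXYj.symm)
      rcases SHARE.ind_cases (Y j) (X j') with ⟨e2, c2⟩ | ⟨e2, c2⟩
      · rw [c1, c2, c3, c4] at hg
        omega
      · refine ⟨Or.inr ⟨e4.symm, fun h => e1 h.symm⟩, ?_, fun h => e2 h.symm⟩
        intro h
        exact hXYj (h.trans e4)
    · rcases SHARE.ind_cases (Y j) (X j') with ⟨e2, c2⟩ | ⟨e2, c2⟩ <;>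
      rcases SHARE.ind_cases (X j) (Y j') with ⟨e3, c3⟩ | ⟨e3, c3⟩ <;>
      rw [c1, c2, c3, c4] at hg <;> omega

end Cfsg.Agent.Helper3.BSW
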