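import Mathlib
import Cfsg.Agent.Lib.Helper3.BSWArithDefs
import Cfsg.Agent.Lib.Helper24.BSWSHARE

/-!
# S3282 ARITH piece TYPE (helper24): all `X j` are equal or all `Y j` are equal
-/

set_option autoImplicit false
set_option linter.unusedSectionVars false
set_option linter.unusedVariables false

namespace Cfsg.Agent.Helper3.BSW

variable {ι J : Type*} [Fintype ι] [Fintype J] [DecidableEq ι] [DecidableEq J]
variable {k g : ℕ} {o : ι} {inv : J → J} {j0 : J} {sgn : J → ℤ} {b : J → ι → ℤ} {deg a1 : ι → ℤ}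

/-- PIECE TYPE (A2). -/
theorem type_AB (H : ArithHyp k g o inv j0 sgn b deg a1) {X Y : J → ι}
    (D : PairData o inv j0 b deg X Y) :
    (∃ X0 : ι, ∀ j, j ≠ j0 → X j = X0) ∨ (∃ Y0 : ι, ∀ j, j ≠ j0 → Y j = Y0) := by
  by_cases hne : ∃ j1 : J, j1 ≠ j0
  · obtain ⟨j1, hj1⟩ := hne
    by_cases hall : ∀ j, j ≠ j0 → X j = X j1
    · left
      exact ⟨X j1, hall⟩
    · right
      push Not at hall
      obtain ⟨j2, hj2, hX2⟩ := hall
      have h21 : j2 ≠ j1 := fun h => hX2 (by rw [h])
      have h21' : j2 ≠ inv j1 := fun h => hX2 (by rw [h, D.Xinv j1 hj1])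
      have hY12 : Y j1 = Y j2 := by
        rcases (share H D hj1 hj2 h21 h21').1 with h | h
        · exact absurd h.1.symm hX2
        · exact h.1
      refine ⟨Y j1, ?_⟩
      intro j hj
      by_cases r1 : j = j1
      · rw [r1]
      by_cases r1' : j = inv j1
      · rw [r1', D.Yinv j1 hj1]
      by_cases r2 : j = j2
      · rw [r2, hY12]
      by_cases r2' : j = inv j2
      · rw [r2', D.Yinv j2 hj2, hY12]
      rcases (share H D hj1 hj r1 r1').1 with h | h
      · exfalso
        rcases (share H D hj2 hj r2 r2').1 with h' | h'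
        · exact hX2 (h'.1.trans h.1.symm)
        · exact h.2 (hY12.trans h'.1)
      · exact h.1.symm
  · left
    exact ⟨o, fun j hj => absurd ⟨j, hj⟩ hne⟩

end Cfsg.Agent.Helper3.BSW
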