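import Mathlib
import Cfsg.Prelude.Def_Blocks
import Cfsg.Agent.Lib.Helper18.GaloisConj
import Cfsg.Agent.Lib.Helper24.CharAbelian

/-!
# Blichfeldt's theorem, part A: Galois conjugates and elements of order `p q` (helper24)

If an irreducible character is moved by a power map fixing the `p`-regular elements and by a power
map fixing the `q`-regular elements, the group has an element of order divisible by `p q`.
-/

set_option autoImplicit false
set_option linter.style.haveILetI false
set_option linter.unusedSectionVars false

namespace Cfsg.Agent.Helper24.Blich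

open Cfsg Cfsg.Agent.Helper24 Cfsg.Agent.Helper18
open scoped ComplexConjugate

universe u

section Key

variable {G : Type u} [Group G] [Fintype G]

theorem classInner_sub_sub (a b c d : G → ℂ) :
    classInner (a - b) (c - d) =
      classInner a c - classInner a d - classInner b c + classInner b d := by
  unfold classInner
  simp only [Pi.sub_apply, map_sub, sub_mul, mul_sub, Finset.sum_sub_distrib]
  ring

/-- **Key lemma**: a character moved by a `p`-Galois and by a `q`-Galois power map forces an
element of order divisible by `p q`. -/
theorem exists_order_dvd {χ : G → ℂ} (hχ : IsIrrCharacter G χ) {p q j k : ℕ}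
    (hj : Nat.Coprime (Nat.card G) j) (hk : Nat.Coprime (Nat.card G) k)
    (hjp : ∀ g : G, ¬ p ∣ orderOf g → g ^ j = g) (hkq : ∀ g : G, ¬ q ∣ orderOf g → g ^ k = g)
    (hχj : (fun g => χ (g ^ j)) ≠ χ) (hχk : (fun g => χ (g ^ k)) ≠ χ) :
    ∃ g : G, p ∣ orderOf g ∧ q ∣ orderOf g := by
  classical
  letI : Fintype (IrrCharacter G) := irrFintype
  by_contra hcon
  push Not at hcon
  have hj' := isIrrCharacter_comp_pow hχ hj
  have hk' := isIrrCharacter_comp_pow hχ hk
  have h0 : classInner (χ - fun g => χ (g ^ j)) (χ - fun g => χ (g ^ k)) = 0 := by
    unfold classInner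
    rw [Finset.sum_eq_zero, mul_zero]
    intro g _
    by_cases hp : p ∣ orderOf g
    · have hq := hcon g hp
      have : (χ - fun g => χ (g ^ k)) g = 0 := by
        show χ g - χ (g ^ k) = 0
        rw [hkq g hq, sub_self]
      rw [this, map_zero, mul_zero]
    · have : (χ - fun g => χ (g ^ j)) g = 0 := by
        show χ g - χ (g ^ j) = 0
        rw [hjp g hp, sub_self]
      rw [this, zero_mul]
  rw [classInner_sub_sub, irr_orthogonality hχ hχ, if_pos rfl, irr_orthogonality hχ hk',
    if_neg (fun h => hχk h.symm), irr_orthogonality hj' hχ, if_neg hχj,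
    irr_orthogonality hj' hk'] at h0
  split_ifs at h0 <;> norm_num at h0

end Key

end Cfsg.Agent.Helper24.Blich
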