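import Mathlib
import Cfsg.Prelude.Def_Blocks
import Cfsg.Agent.Lib.Helper24.CharComplete
import Cfsg.Agent.Lib.Helper24.BlichA

/-!
# Blichfeldt's theorem, part B: characters of small degree are not `p`-rational (helper24)

If `χ` is a character of degree `< p - 1`, `x` has order `p` and `χ (x ^ t) = χ x` for all
`0 < t < p`, then `χ x = χ 1`.  Consequently a character of small degree which is non-trivial
on an element of order `p` is moved by a power map fixing all `p`-regular elements.
-/

set_option autoImplicit false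
set_option linter.style.haveILetI false
set_option linter.unusedSectionVars false

namespace Cfsg.Agent.Helper24.Blich

open Cfsg Cfsg.Agent.Helper24 Cfsg.Agent.Helper18
open scoped ComplexConjugate

universe u

/-- The numeric core of the argument. -/
theorem core (p a N d : ℕ) (hp : 2 ≤ p) (c : ℂ) (h1 : (p:ℂ) * a = d + ((p:ℂ)-1) * c)
    (h2 : (p:ℝ) * N = (d:ℝ)^2 + ((p:ℝ)-1) * ‖c‖^2) (had : a ≤ d) (h3 : a^2 + (d - a) ≤ N)
    (hd : d + 1 < p) : c = d := by
  have hp1 : ((p:ℂ) - 1) ≠ 0 := by
    intro h
    have h' : (p:ℂ) = 1 := by linear_combination h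
    have : p = 1 := by exact_mod_cast h'
    omega
  have hc : c = (((p:ℝ) * a - d) / ((p:ℝ) - 1) : ℝ) := by
    push_cast
    field_simp
    linear_combination -h1
  have hp1r : (0:ℝ) < (p:ℝ) - 1 := by
    have : (2:ℝ) ≤ p := by exact_mod_cast hp
    linarith
  have hnorm : ‖c‖^2 = (((p:ℝ) * a - d) / ((p:ℝ) - 1))^2 := by
    rw [hc, Complex.norm_real, Real.norm_eq_abs, sq_abs]
  rw [hnorm] at h2
  have h4 : ((p:ℝ) - 1) * ((N:ℝ) - (a:ℝ)^2) = ((d:ℝ) - a)^2 := by
    field_simp at h2
    nlinarith [h2]
  obtain ⟨s, hs⟩ : ∃ s, d = a + s := ⟨d - a, by omega⟩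
  have h3' : (a:ℝ)^2 + s ≤ N := by
    have : a^2 + s ≤ N := by
      have : d - a = s := by omega
      rw [this] at h3; exact h3
    exact_mod_cast this
  have h5 : ((p:ℝ) - 1) * s ≤ (s:ℝ)^2 := by
    have : ((d:ℝ) - a) = s := by rw [hs]; push_cast; ring
    rw [this] at h4
    rw [← h4]
    apply mul_le_mul_of_nonneg_left _ hp1r.le
    linarith
  have hs0 : s = 0 := by
    by_contra hne
    have hspos : (0:ℝ) < s := by exact_mod_cast Nat.pos_of_ne_zero hne
    have h6 : (p:ℝ) - 1 ≤ s := by
      by_contra hlt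
      push Not at hlt
      nlinarith
    have h7 : (s:ℝ) + 1 < p := by
      have : s + 1 < p := by omega
      exact_mod_cast this
    linarith
  subst hs0
  rw [hc, hs]
  push_cast
  field_simp
  ring

/-- Geometric sum of a `p`-th root of unity. -/
theorem sum_pow_root (p : ℕ) (ζ : ℂ) (hζ : ζ ^ p = 1) :
    ∑ t ∈ Finset.range p, ζ ^ t = if ζ = 1 then (p : ℂ) else 0 := by
  split_ifs with h
  · subst h; simp
  · rw [geom_sum_eq h p, hζ, sub_self, zero_div]


section LemmaB

variable {G : Type u} [Group G] [Finite G]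

/-- **Lemma B** for a representation: if the character of degree `n < p - 1` is constant on the
non-trivial powers of an element `x` with `x ^ p = 1`, then `x` is in its kernel. -/
theorem rep_char_eq_of_pow_const {n : ℕ} (ρ : Representation ℂ G (Fin n → ℂ)) {p : ℕ}
    (hp : p.Prime) (hd : n + 1 < p) {x : G} (hx : x ^ p = 1)
    (hconst : ∀ t, 0 < t → t < p → ρ.character (x ^ t) = ρ.character x) :
    ρ.character x = n := by
  classical
  obtain ⟨n', b, μ, hμ, hb⟩ := exists_eigenbasis_of_pow_eq_one (ρ x) hp.pos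
    (by rw [← map_pow, hx, map_one])
  have hn' : n = n' := by
    have := finrank_eq_of_basis b
    simpa using this
  subst hn'
  have hpow : ∀ k : ℕ, ρ.character (x ^ k) = ∑ i, μ i ^ k := by
    intro k
    apply trace_eq_sum_of_eigenbasis b
    intro i
    rw [map_pow]
    induction k with
    | zero => simp
    | succ k ih =>
      rw [pow_succ, Module.End.mul_apply, hb i, map_smul, ih, smul_smul, pow_succ]
      ring_nf
  have hnorm : ∀ i, ‖μ i‖ = 1 := fun i =>
    Complex.norm_eq_one_of_pow_eq_one (hμ i) hp.pos.ne'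
  have hconj : ∀ i, conj (μ i) = (μ i)⁻¹ := fun i => (Complex.inv_eq_conj (hnorm i)).symm
  have hne : ∀ i, μ i ≠ 0 := fun i h0 => by
    have := hnorm i
    rw [h0, norm_zero] at this
    exact zero_ne_one this
  set c := ρ.character x with hc
  have hχ1 : ρ.character (x ^ 0) = n := by
    rw [pow_zero, Representation.char_one]
    simp
  -- the two sums over `t < p`
  obtain ⟨p', rfl⟩ : ∃ p', p = p' + 1 := ⟨p - 1, by have := hp.pos; omega⟩
  have hsum1 : ∑ t ∈ Finset.range (p' + 1), ρ.character (x ^ t) = n + (p' : ℂ) * c := by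
    rw [Finset.sum_range_succ', hχ1, add_comm]
    congr 1
    rw [Finset.sum_congr rfl (fun t ht => hconst (t + 1) (by omega)
      (by have := Finset.mem_range.mp ht; omega))]
    simp
  have hsum2 : ∑ t ∈ Finset.range (p' + 1), ρ.character (x ^ t) * conj (ρ.character (x ^ t)) =
      (n : ℂ) ^ 2 + (p' : ℂ) * (c * conj c) := by
    rw [Finset.sum_range_succ', hχ1, add_comm]
    congr 1
    · simp [sq]
    · rw [Finset.sum_congr rfl (fun t ht => by
        rw [hconst (t + 1) (by omega) (by have := Finset.mem_range.mp ht; omega)])]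
      simp
  set a := (Finset.univ.filter (fun i => μ i = 1)).card with ha
  set N := ((Finset.univ : Finset (Fin n × Fin n)).filter (fun ij => μ ij.1 = μ ij.2)).card with hN
  have h1 : ((p' + 1 : ℕ) : ℂ) * a = n + (((p' + 1 : ℕ) : ℂ) - 1) * c := by
    have : ∑ t ∈ Finset.range (p' + 1), ρ.character (x ^ t) = ((p' + 1 : ℕ) : ℂ) * a := by
      simp_rw [hpow]
      rw [Finset.sum_comm]
      simp_rw [fun i => sum_pow_root (p' + 1) (μ i) (hμ i)]
      rw [← Finset.sum_filter, Finset.sum_const, ha, nsmul_eq_mul, mul_comm]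
    rw [← this, hsum1]
    push_cast
    ring
  have h2c : ((p' + 1 : ℕ) : ℂ) * N = (n : ℂ) ^ 2 + (((p' + 1 : ℕ) : ℂ) - 1) * (c * conj c) := by
    have : ∑ t ∈ Finset.range (p' + 1), ρ.character (x ^ t) * conj (ρ.character (x ^ t)) =
        ((p' + 1 : ℕ) : ℂ) * N := by
      simp_rw [hpow, map_sum, Finset.sum_mul_sum, map_pow, hconj, ← mul_pow]
      rw [Finset.sum_comm]
      simp_rw [Finset.sum_comm (s := Finset.range (p' + 1))]
      have hroot : ∀ i j, (μ i * (μ j)⁻¹) ^ (p' + 1) = 1 := by
        intro i j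
        rw [mul_pow, inv_pow, hμ i, hμ j]
        simp
      simp_rw [fun i j => sum_pow_root (p' + 1) (μ i * (μ j)⁻¹) (hroot i j)]
      rw [← Finset.sum_product', ← Finset.sum_filter, Finset.sum_const, hN]
      have : (Finset.univ ×ˢ Finset.univ : Finset (Fin n × Fin n)).filter
          (fun ij => μ ij.1 * (μ ij.2)⁻¹ = 1) =
          (Finset.univ : Finset (Fin n × Fin n)).filter (fun ij => μ ij.1 = μ ij.2) := by
        ext ij
        simp only [Finset.mem_filter, Finset.mem_product, Finset.mem_univ, and_self, true_and]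
        rw [mul_inv_eq_one₀ (hne ij.2)]
      rw [this, nsmul_eq_mul, mul_comm]
    rw [← this, hsum2]
    push_cast
    ring
  have h2 : ((p' + 1 : ℕ) : ℝ) * N = (n : ℝ) ^ 2 + (((p' + 1 : ℕ) : ℝ) - 1) * ‖c‖ ^ 2 := by
    have hcc : c * conj c = ((‖c‖ ^ 2 : ℝ) : ℂ) := by
      rw [Complex.mul_conj, Complex.normSq_eq_norm_sq]
    rw [hcc] at h2c
    exact_mod_cast h2c
  have had : a ≤ n := by
    rw [ha]
    calc _ ≤ (Finset.univ : Finset (Fin n)).card := Finset.card_filter_le _ _
      _ = n := by simp
  have h3 : a ^ 2 + (n - a) ≤ N := by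
    set S := Finset.univ.filter (fun i => μ i = 1) with hS
    have hSc : (Finset.univ.filter (fun i => ¬ μ i = 1)).card = n - a := by
      have := Finset.card_filter_add_card_filter_not (s := (Finset.univ : Finset (Fin n)))
        (fun i => μ i = 1)
      simp only [Finset.card_univ, Fintype.card_fin] at this
      omega
    have hdisj : Disjoint (S ×ˢ S)
        ((Finset.univ.filter (fun i => ¬ μ i = 1)).image (fun i => (i, i))) := by
      rw [Finset.disjoint_left]
      intro ij h1 h2
      simp only [Finset.mem_product, hS, Finset.mem_filter, Finset.mem_univ, true_and] at h1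
      simp only [Finset.mem_image, Finset.mem_filter, Finset.mem_univ, true_and] at h2
      obtain ⟨i, hi, rfl⟩ := h2
      exact hi h1.1
    calc a ^ 2 + (n - a) = (S ×ˢ S ∪
          ((Finset.univ.filter (fun i => ¬ μ i = 1)).image (fun i => (i, i)))).card := by
          rw [Finset.card_union_of_disjoint hdisj, Finset.card_product,
            Finset.card_image_of_injective _ (fun i j h => (Prod.mk.inj h).1), hSc, sq]
      _ ≤ N := by
          rw [hN]
          apply Finset.card_le_card
          intro ij hij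
          simp only [Finset.mem_filter, Finset.mem_univ, true_and]
          rcases Finset.mem_union.mp hij with h | h
          · simp only [Finset.mem_product, hS, Finset.mem_filter, Finset.mem_univ, true_and] at h
            rw [h.1, h.2]
          · simp only [Finset.mem_image, Finset.mem_filter, Finset.mem_univ, true_and] at h
            obtain ⟨i, _, rfl⟩ := h
            rfl
  exact core (p' + 1) a N n hp.two_le c h1 h2 had h3 hd

/-- **Lemma B**: a character of degree `< p - 1` which is constant on the non-trivial powers of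
an element `x` with `x ^ p = 1` has `x` in its kernel. -/
theorem char_eq_of_pow_const {χ : G → ℂ} (hχ : IsCharacter G χ) {p : ℕ} (hp : p.Prime)
    (hd : charDegree χ + 1 < p) {x : G} (hx : x ^ p = 1)
    (hconst : ∀ t, 0 < t → t < p → χ (x ^ t) = χ x) : χ x = χ 1 := by
  obtain ⟨n, ρ, rfl⟩ := hχ
  have h1 : ρ.character 1 = n := by
    rw [Representation.char_one]
    simp
  have hdeg : charDegree ρ.character = n := charDegree_natCast n h1
  rw [hdeg] at hd
  rw [rep_char_eq_of_pow_const ρ hp hd hx hconst, h1]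

/-- A character of degree `< p - 1` which is non-trivial on an element `x` with `x ^ p = 1` is moved
by a power map which fixes all `p`-regular elements. -/
theorem exists_pow_ne {χ : G → ℂ} (hχ : IsCharacter G χ) {p : ℕ} (hp : p.Prime)
    (hd : charDegree χ + 1 < p) {x : G} (hx : x ^ p = 1) (hne : χ x ≠ χ 1) :
    ∃ j : ℕ, Nat.Coprime (Nat.card G) j ∧ (∀ g : G, ¬ p ∣ orderOf g → g ^ j = g) ∧
      (fun g => χ (g ^ j)) ≠ χ := by
  have hex : ∃ t, 0 < t ∧ t < p ∧ χ (x ^ t) ≠ χ x := by
    by_contra hcon
    push Not at hcon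
    exact hne (char_eq_of_pow_const hχ hp hd hx hcon)
  obtain ⟨t, ht0, htp, htne⟩ := hex
  have hG0 : Nat.card G ≠ 0 := Nat.card_pos.ne'
  set m := (Nat.card G) / p ^ (Nat.card G).factorization p with hm
  have hcop : Nat.Coprime m p := (Nat.coprime_ordCompl hp hG0).symm
  have hGm : p ^ (Nat.card G).factorization p * m = Nat.card G :=
    Nat.ordProj_mul_ordCompl_eq_self _ _
  obtain ⟨j, hj1, hjt⟩ := Nat.chineseRemainder hcop 1 t
  have hpj : ¬ p ∣ j := by
    intro hdvd
    have h0 : j ≡ 0 [MOD p] := (Nat.modEq_zero_iff_dvd).mpr hdvd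
    have h1 : t ≡ 0 [MOD p] := hjt.symm.trans h0
    have := (Nat.modEq_zero_iff_dvd).mp h1
    have := Nat.le_of_dvd ht0 this
    omega
  have hmj : Nat.Coprime m j := by
    have := hj1.gcd_eq
    rw [Nat.Coprime, Nat.gcd_comm, this]
    simp
  refine ⟨j, ?_, ?_, ?_⟩
  · rw [← hGm]
    exact Nat.Coprime.mul_left (Nat.Coprime.pow_left _ ((Nat.Prime.coprime_iff_not_dvd hp).mpr hpj))
      hmj
  · intro g hg
    have h1 : orderOf g ∣ m := by
      have h2 : orderOf g ∣ p ^ (Nat.card G).factorization p * m := by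
        rw [hGm]; exact orderOf_dvd_natCard g
      have h3 : Nat.Coprime (orderOf g) (p ^ (Nat.card G).factorization p) :=
        Nat.Coprime.pow_right _ ((Nat.Prime.coprime_iff_not_dvd hp).mpr hg).symm
      exact h3.dvd_of_dvd_mul_left h2
    have h2 : j ≡ 1 [MOD orderOf g] := hj1.of_dvd h1
    have := (pow_eq_pow_iff_modEq (x := g)).mpr h2
    rw [this, pow_one]
  · intro hcon
    have h1 : orderOf x ∣ p := orderOf_dvd_of_pow_eq_one hx
    have h2 : j ≡ t [MOD orderOf x] := hjt.of_dvd h1
    have h3 := (pow_eq_pow_iff_modEq (x := x)).mpr h2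
    have h4 : χ (x ^ j) = χ x := congrFun hcon x
    rw [h3] at h4
    exact htne h4

end LemmaB

end Cfsg.Agent.Helper24.Blich
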