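import Mathlib
import Cfsg.Prelude.Def_Blocks
import Cfsg.Agent.Lib.Helper24.CharIntegral
import Cfsg.Agent.Lib.Helper24.CharAbelian
import Cfsg.Agent.Lib.Helper24.CharHom
import Cfsg.Agent.Lib.Helper5.Clifford
import Cfsg.Agent.Lib.Helper24.BlichB

/-!
# Blichfeldt's theorem, part C: linear groups of degree `n` (helper24)

`Lin n G`: the group `G` has a faithful character of degree `n`.  Such a group whose order has only
prime factors `> n` is abelian.
-/

set_option autoImplicit false
set_option linter.style.haveILetI false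
set_option linter.unusedSectionVars false

namespace Cfsg.Agent.Helper24.Blich

open Cfsg Cfsg.Agent.Helper24 Cfsg.Agent.Helper5
open scoped ComplexConjugate

universe u

/-- `G` has a faithful character of degree `n`. -/
def Lin (n : ℕ) (G : Type u) [Group G] : Prop :=
  ∃ χ : G → ℂ, IsCharacter G χ ∧ (∀ g : G, χ g = χ 1 → g = 1) ∧ charDegree χ = n

theorem Lin.subgroup {n : ℕ} {G : Type u} [Group G] (h : Lin n G) (H : Subgroup G) : Lin n H := by
  obtain ⟨χ, hχ, hf, hn⟩ := h
  refine ⟨fun k : H => χ k, isCharacter_restrict H hχ, ?_, ?_⟩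
  · intro g hg
    have : (g : G) = 1 := hf g (by simpa using hg)
    exact Subtype.ext this
  · simpa [charDegree] using hn

section Char

variable {G : Type u} [Group G] [Finite G]

/-- An irreducible constituent has degree at most the degree of the character. -/
theorem constituent_degree_le {χ ψ : G → ℂ} (hχ : IsCharacter G χ) (hψ : IsIrrCharacter G ψ)
    (h : letI := Fintype.ofFinite G; classInner χ ψ ≠ 0) : charDegree ψ ≤ charDegree χ := by
  letI := Fintype.ofFinite G
  obtain ⟨ρ, hρ, hdec⟩ := exists_add_of_constituent hχ hψ h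
  have h1 := congrFun hdec 1
  rw [Pi.add_apply, char_one_eq_charDegree hχ, irr_one_eq_charDegree hψ,
    char_one_eq_charDegree hρ] at h1
  have : charDegree χ = charDegree ψ + charDegree ρ := by exact_mod_cast h1
  omega

/-- If all irreducible constituents of `χ` are trivial at `g`, so is `χ`. -/
theorem char_eq_of_constituents {χ : G → ℂ} (hχ : IsCharacter G χ) (g : G)
    (h : ∀ ψ : G → ℂ, IsIrrCharacter G ψ →
      (letI := Fintype.ofFinite G; classInner χ ψ ≠ 0) → ψ g = ψ 1) : χ g = χ 1 := by
  classical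
  letI := Fintype.ofFinite G
  letI : Fintype (IrrCharacter G) := irrFintype
  obtain ⟨-, hdec⟩ := isCharacter_decomp hχ
  have h1 := congrFun hdec g
  have h2 := congrFun hdec 1
  rw [Finset.sum_apply] at h1 h2
  rw [h1, h2]
  refine Finset.sum_congr rfl fun ψ _ => ?_
  rw [Pi.smul_apply, Pi.smul_apply]
  by_cases h0 : classInner χ (ψ : G → ℂ) = 0
  · rw [h0, zero_smul, zero_smul]
  · rw [h ψ.1 ψ.2 h0]

/-- **L1**: a linear group of degree `n` whose order has only prime factors `> n` is abelian. -/
theorem Lin.comm_of_primes {n : ℕ} (h : Lin n G)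
    (hpr : ∀ r : ℕ, r.Prime → r ∣ Nat.card G → n < r) (a b : G) : a * b = b * a := by
  classical
  letI := Fintype.ofFinite G
  obtain ⟨χ, hχ, hf, hn⟩ := h
  have key : χ (a * b * (b * a)⁻¹) = χ 1 := by
    apply char_eq_of_constituents hχ
    intro ψ hψ h0
    have hle : charDegree ψ ≤ n := hn ▸ constituent_degree_le hχ hψ h0
    have hdvd := charDegree_dvd_card hψ
    have hpos := charDegree_pos hψ
    have hone : charDegree ψ = 1 := by
      by_contra hne
      obtain ⟨r, hr, hrd⟩ := Nat.exists_prime_and_dvd hne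
      have h1 := hpr r hr (hrd.trans hdvd)
      have h2 := Nat.le_of_dvd hpos hrd
      omega
    have hψ1 : ψ 1 = 1 := by rw [irr_one_eq_charDegree hψ, hone]; simp
    have hψc := isCharacter_of_isIrrCharacter hψ
    have h3 : linHom hψc hψ1 (a * b * (b * a)⁻¹) = 1 := by
      rw [map_mul, map_inv, map_mul, map_mul, mul_comm (linHom hψc hψ1 b)]
      exact mul_inv_cancel _
    have h4 := linHom_apply hψc hψ1 (a * b * (b * a)⁻¹)
    rw [h3] at h4
    rw [← h4, hψ1]
    rfl
  have := hf _ key
  rw [mul_inv_eq_one] at this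
  exact this

/-- A `p`-subgroup, `p > n`, of a linear group of degree `n` is abelian. -/
theorem Lin.comm_of_isPGroup {n : ℕ} (h : Lin n G) {p : ℕ} (hp : p.Prime) (hnp : n < p)
    (H : Subgroup G) (hH : IsPGroup p H) : ∀ a ∈ H, ∀ b ∈ H, a * b = b * a := by
  intro a ha b hb
  haveI := Fact.mk hp
  obtain ⟨k, hk⟩ := hH.exists_card_eq
  have := (h.subgroup H).comm_of_primes (fun r hr hrd => by
    rw [hk] at hrd
    have := (Nat.prime_dvd_prime_iff_eq hr hp).mp (hr.dvd_of_dvd_pow hrd)
    omega) ⟨a, ha⟩ ⟨b, hb⟩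
  exact congrArg Subtype.val this

/-- A faithful character is non-trivial at `x ≠ 1` on some constituent of small degree. -/
theorem Lin.exists_irr {n : ℕ} (h : Lin n G) {x : G} (hx : x ≠ 1) :
    ∃ μ : G → ℂ, IsIrrCharacter G μ ∧ charDegree μ ≤ n ∧ μ x ≠ μ 1 := by
  obtain ⟨χ, hχ, hf, hn⟩ := h
  by_contra hcon
  push Not at hcon
  apply hx
  apply hf
  apply char_eq_of_constituents hχ
  intro ψ hψ h0
  exact hcon ψ hψ (hn ▸ constituent_degree_le hχ hψ h0)

end Char

end Cfsg.Agent.Helper24.Blich
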