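import Mathlib
import Cfsg.Prelude.Def_Blocks
import Cfsg.Agent.Lib.Helper24.BlichC

/-!
# Blichfeldt's theorem, part D: good elements (helper24)

Inside a linear group of degree `n` all of whose proper subgroups satisfy the commuting-Sylow
property `CS`, a `p`-element is *good* (for `q`) if it centralises a Sylow `q`-subgroup.
-/

set_option autoImplicit false
set_option linter.style.haveILetI false
set_option linter.unusedSectionVars false

namespace Cfsg.Agent.Helper24.Blich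

open Cfsg Cfsg.Agent.Helper24
open scoped Pointwise

universe u

/-- `x` is a `p`-element. -/
def PElt {G : Type u} [Group G] (p : ℕ) (x : G) : Prop := ∃ k : ℕ, x ^ p ^ k = 1

/-- `x` centralises some Sylow `q`-subgroup. -/
def Good {G : Type u} [Group G] (q : ℕ) (x : G) : Prop :=
  ∃ Q : Sylow q G, ∀ y ∈ Q, x * y = y * x

/-- Two distinct primes larger than `n + 1`. -/
structure PP (n p q : ℕ) : Prop where
  hp : p.Prime
  hq : q.Prime
  np : n + 1 < p
  nq : n + 1 < q
  ne : p ≠ q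

theorem PP.symm {n p q : ℕ} (h : PP n p q) : PP n q p := ⟨h.hq, h.hp, h.nq, h.np, h.ne.symm⟩

/-- The commuting Sylow property: every Sylow `p`-subgroup commutes with some Sylow
`q`-subgroup, for distinct primes `p, q > n + 1`. -/
def CS (n : ℕ) (H : Type u) [Group H] : Prop :=
  ∀ p q : ℕ, PP n p q → ∀ P : Sylow p H, ∃ Q : Sylow q H, ∀ a ∈ P, ∀ b ∈ Q, a * b = b * a

/-- The inductive context: a linear group of degree `n` whose proper subgroups satisfy `CS`. -/
structure Ctx (n : ℕ) (G : Type u) [Group G] : Prop where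
  lin : Lin n G
  ih : ∀ H : Subgroup G, H ≠ ⊤ → CS n H

section Basic

variable {G : Type u} [Group G]

theorem PElt.orderOf_eq {p : ℕ} (hp : p.Prime) {x : G} (hx : PElt p x) :
    ∃ k : ℕ, orderOf x = p ^ k := by
  obtain ⟨k, hk⟩ := hx
  obtain ⟨j, -, hj⟩ := (Nat.dvd_prime_pow hp).mp (orderOf_dvd_of_pow_eq_one hk)
  exact ⟨j, hj⟩

theorem pElt_of_orderOf {p : ℕ} {x : G} {k : ℕ} (h : orderOf x = p ^ k) : PElt p x :=
  ⟨k, by rw [← h, pow_orderOf_eq_one]⟩

theorem PElt.one (p : ℕ) : PElt p (1 : G) := ⟨0, by simp⟩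

theorem PElt.pow {p : ℕ} {x : G} (hx : PElt p x) (m : ℕ) : PElt p (x ^ m) := by
  obtain ⟨k, hk⟩ := hx
  exact ⟨k, by rw [← pow_mul, mul_comm, pow_mul, hk, one_pow]⟩

theorem PElt.conj {p : ℕ} {x : G} (hx : PElt p x) (g : G) : PElt p (g * x * g⁻¹) := by
  obtain ⟨k, hk⟩ := hx
  exact ⟨k, by rw [conj_pow, hk, mul_one, mul_inv_cancel]⟩

theorem PElt.coe {p : ℕ} {H : Subgroup G} {x : H} (hx : PElt p x) : PElt p (x : G) := by
  obtain ⟨k, hk⟩ := hx
  exact ⟨k, by rw [← Subgroup.coe_pow, hk, Subgroup.coe_one]⟩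

theorem PElt.of_coe {p : ℕ} {H : Subgroup G} {x : H} (hx : PElt p (x : G)) : PElt p x := by
  obtain ⟨k, hk⟩ := hx
  exact ⟨k, Subtype.ext (by rw [Subgroup.coe_pow, hk, Subgroup.coe_one])⟩

theorem pElt_of_mem_isPGroup {p : ℕ} {H : Subgroup G} (hH : IsPGroup p H) {x : G} (hx : x ∈ H) :
    PElt p x := by
  obtain ⟨k, hk⟩ := hH ⟨x, hx⟩
  exact ⟨k, by simpa using congrArg Subtype.val hk⟩

theorem PElt.isPGroup_zpowers {p : ℕ} {x : G} (hx : PElt p x) :
    IsPGroup p (Subgroup.zpowers x) := by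
  obtain ⟨k, hk⟩ := hx
  rintro ⟨y, hy⟩
  obtain ⟨m, rfl⟩ := Subgroup.mem_zpowers_iff.mp hy
  refine ⟨k, Subtype.ext ?_⟩
  show (x ^ m) ^ p ^ k = 1
  rw [← zpow_natCast, ← zpow_mul, mul_comm, zpow_mul, zpow_natCast, hk, one_zpow]

theorem PElt.exists_mem_sylow {p : ℕ} {x : G} (hx : PElt p x) : ∃ P : Sylow p G, x ∈ P := by
  obtain ⟨P, hP⟩ := hx.isPGroup_zpowers.exists_le_sylow
  exact ⟨P, hP (Subgroup.mem_zpowers x)⟩

/-- A `p`-element which is also a `q`-element is trivial. -/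
theorem PElt.eq_one {p q : ℕ} (hp : p.Prime) (hq : q.Prime) (hpq : p ≠ q) {x : G}
    (h1 : PElt p x) (h2 : PElt q x) : x = 1 := by
  obtain ⟨k, hk⟩ := h1
  obtain ⟨j, hj⟩ := h2
  have h3 : orderOf x ∣ Nat.gcd (p ^ k) (q ^ j) :=
    Nat.dvd_gcd (orderOf_dvd_of_pow_eq_one hk) (orderOf_dvd_of_pow_eq_one hj)
  have h4 : Nat.Coprime (p ^ k) (q ^ j) :=
    Nat.Coprime.pow _ _ ((Nat.coprime_primes hp hq).mpr hpq)
  rw [h4] at h3
  exact orderOf_eq_one_iff.mp (Nat.dvd_one.mp h3)

theorem Good.conj {q : ℕ} {x : G} (h : Good q x) (g : G) : Good q (g * x * g⁻¹) := by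
  obtain ⟨Q, hQ⟩ := h
  refine ⟨g • Q, ?_⟩
  intro y hy
  rw [← SetLike.mem_coe, Sylow.coe_smul] at hy
  obtain ⟨s, hs, rfl⟩ := hy
  have := hQ s hs
  simp only [MulAut.smul_def, MulAut.conj_apply]
  calc g * x * g⁻¹ * (g * s * g⁻¹) = g * (x * s) * g⁻¹ := by group
    _ = g * (s * x) * g⁻¹ := by rw [this]
    _ = g * s * g⁻¹ * (g * x * g⁻¹) := by group

theorem Good.of_conj {q : ℕ} {x : G} (g : G) (h : Good q (g * x * g⁻¹)) : Good q x := by
  have := h.conj g⁻¹
  simpa [mul_assoc] using this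

theorem good_one (q : ℕ) : Good q (1 : G) := ⟨default, fun y _ => by simp⟩

end Basic

section Finite

variable {G : Type u} [Group G] [Finite G]

/-- Sylow's theorem: a `p`-element is conjugate into any given Sylow `p`-subgroup. -/
theorem PElt.exists_conj_mem {p : ℕ} (hp : p.Prime) {x : G} (hx : PElt p x) (P : Sylow p G) :
    ∃ g : G, g * x * g⁻¹ ∈ P := by
  haveI := Fact.mk hp
  obtain ⟨P', hP'⟩ := hx.exists_mem_sylow
  obtain ⟨g, hg⟩ := MulAction.exists_smul_eq G P' P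
  refine ⟨g, ?_⟩
  rw [← hg, ← SetLike.mem_coe, Sylow.coe_smul]
  exact ⟨x, hP', by simp [MulAut.smul_def]⟩

/-- A subgroup of index prime to `q` containing a `q`-subgroup: lift a Sylow `q`-subgroup. -/
theorem exists_sylow_map {q : ℕ} (hq : q.Prime) (H : Subgroup G) (hH : ¬ q ∣ H.index)
    (QH : Sylow q H) : ∃ Q : Sylow q G, ∀ y : G, y ∈ Q ↔ ∃ z : H, z ∈ QH ∧ (z : G) = y := by
  haveI := Fact.mk hq
  have h1 : IsPGroup q ((QH : Subgroup H).map H.subtype) := QH.isPGroup'.map _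
  have h2 : ¬ q ∣ ((QH : Subgroup H).map H.subtype).index := by
    rw [Subgroup.index_map_subtype]
    intro hd
    rcases (Nat.Prime.dvd_mul hq).mp hd with h | h
    · exact QH.not_dvd_index h
    · exact hH h
  refine ⟨h1.toSylow h2, fun y => ?_⟩
  rw [IsPGroup.mem_toSylow, Subgroup.mem_map]
  constructor
  · rintro ⟨z, hz, rfl⟩
    exact ⟨z, hz, rfl⟩
  · rintro ⟨z, hz, rfl⟩
    exact ⟨z, hz, rfl⟩

variable {n : ℕ}

/-- **K1**: a `p`-element lying in a proper subgroup of index prime to `q` is good. -/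
theorem Ctx.k1 (h : Ctx n G) {p q : ℕ} (hpq : PP n p q) {x : G} (hx : PElt p x)
    {H : Subgroup G} (hxH : x ∈ H) (hH : H ≠ ⊤) (hqH : ¬ q ∣ H.index) : Good q x := by
  have hx' : PElt p (⟨x, hxH⟩ : H) := PElt.of_coe hx
  obtain ⟨P, hP⟩ := hx'.exists_mem_sylow
  obtain ⟨QH, hQH⟩ := h.ih H hH p q hpq P
  obtain ⟨Q, hQ⟩ := exists_sylow_map hpq.hq H hqH QH
  refine ⟨Q, fun y hy => ?_⟩
  obtain ⟨z, hz, rfl⟩ := (hQ y).mp hy
  exact congrArg Subtype.val (hQH _ hP z hz)

/-- Sylow `p`-subgroups, `p > n`, are abelian. -/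
theorem Ctx.sylow_comm (h : Ctx n G) {p : ℕ} (hp : p.Prime) (hnp : n < p) (P : Sylow p G) :
    ∀ a ∈ P, ∀ b ∈ P, a * b = b * a :=
  h.lin.comm_of_isPGroup hp hnp P P.isPGroup'

/-- A subgroup containing a Sylow `q`-subgroup has index prime to `q`. -/
theorem not_dvd_index_of_sylow_le {q : ℕ} (hq : q.Prime) (Q : Sylow q G) {H : Subgroup G}
    (hle : (Q : Subgroup G) ≤ H) : ¬ q ∣ H.index := by
  haveI := Fact.mk hq
  intro hd
  exact Q.not_dvd_index (hd.trans (Subgroup.index_dvd_of_le hle))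

/-- **K2**: a `p`-element commuting with a non-central `q`-element is good. -/
theorem Ctx.k2 (h : Ctx n G) {p q : ℕ} (hpq : PP n p q) {x y : G} (hx : PElt p x)
    (hy : PElt q y) (hxy : x * y = y * x) (hyc : y ∉ Subgroup.center G) : Good q x := by
  obtain ⟨Q, hQ⟩ := hy.exists_mem_sylow
  have hQc := h.sylow_comm hpq.hq (by have := hpq.nq; omega) Q
  have hle : (Q : Subgroup G) ≤ Subgroup.centralizer {y} := by
    intro z hz
    rw [Subgroup.mem_centralizer_iff]
    intro w hw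
    rw [Set.mem_singleton_iff] at hw
    subst hw
    exact hQc w hQ z hz
  refine h.k1 hpq hx (H := Subgroup.centralizer {y}) ?_ ?_ (not_dvd_index_of_sylow_le hpq.hq Q hle)
  · rw [Subgroup.mem_centralizer_iff]
    intro w hw
    rw [Set.mem_singleton_iff] at hw
    subst hw
    exact hxy.symm
  · intro htop
    apply hyc
    rw [Subgroup.mem_center_iff]
    intro g
    have : g ∈ Subgroup.centralizer {y} := htop ▸ Subgroup.mem_top g
    rw [Subgroup.mem_centralizer_iff] at this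
    exact (this y rfl).symm

/-- **K3**: if a good non-central `p`-element commutes with the `p`-element `x`, then `x` is
good. -/
theorem Ctx.k3 (h : Ctx n G) {p q : ℕ} (hpq : PP n p q) {x u : G} (hx : PElt p x)
    (hu : Good q u) (hxu : x * u = u * x) (huc : u ∉ Subgroup.center G) : Good q x := by
  obtain ⟨Q, hQ⟩ := hu
  have hle : (Q : Subgroup G) ≤ Subgroup.centralizer {u} := by
    intro z hz
    rw [Subgroup.mem_centralizer_iff]
    intro w hw
    rw [Set.mem_singleton_iff] at hw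
    subst hw
    exact hQ z hz
  refine h.k1 hpq hx (H := Subgroup.centralizer {u}) ?_ ?_ (not_dvd_index_of_sylow_le hpq.hq Q hle)
  · rw [Subgroup.mem_centralizer_iff]
    intro w hw
    rw [Set.mem_singleton_iff] at hw
    subst hw
    exact hxu.symm
  · intro htop
    apply huc
    rw [Subgroup.mem_center_iff]
    intro g
    have : g ∈ Subgroup.centralizer {u} := htop ▸ Subgroup.mem_top g
    rw [Subgroup.mem_centralizer_iff] at this
    exact (this u rfl).symm

end Finite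

end Cfsg.Agent.Helper24.Blich
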