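import Mathlib
import Cfsg.Prelude.Def_Blocks
import Cfsg.Agent.Lib.Helper24.BlichD

/-!
# Blichfeldt's theorem, part E: every `p`-element is good (helper24)

The minimal counterexample analysis: Frattini argument, transfer, and the character-theoretic
endgame.
-/

set_option autoImplicit false
set_option linter.style.haveILetI false
set_option linter.unusedSectionVars false

namespace Cfsg.Agent.Helper24.Blich

open Cfsg Cfsg.Agent.Helper24
open scoped Pointwise

universe u

section MinBad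

variable {G : Type u} [Group G]

/-- A bad `p`-element of minimal order. -/
def MinBad (p q : ℕ) (x : G) : Prop :=
  PElt p x ∧ ¬ Good q x ∧ ∀ x' : G, PElt p x' → orderOf x' < orderOf x → Good q x'

theorem exists_minBad {p q : ℕ} (h : ∃ x : G, PElt p x ∧ ¬ Good q x) : ∃ x : G, MinBad p q x := by
  classical
  have hex : ∃ k : ℕ, ∃ x : G, PElt p x ∧ ¬ Good q x ∧ orderOf x = k := by
    obtain ⟨x, h1, h2⟩ := h
    exact ⟨_, x, h1, h2, rfl⟩
  obtain ⟨x, h1, h2, h3⟩ := Nat.find_spec hex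
  refine ⟨x, h1, h2, fun x' hx' hlt => ?_⟩
  by_contra hbad
  exact Nat.find_min hex (h3 ▸ hlt) ⟨x', hx', hbad, rfl⟩

end MinBad

section Index

variable {G : Type u} [Group G] [Finite G]

theorem index_eq_relIndex_of_sup_eq_top {L N : Subgroup G} [N.Normal] (h : L ⊔ N = ⊤) :
    L.index = L.relIndex N := by
  have h1 : N.relIndex (L ⊔ N) = N.relIndex L := Subgroup.relIndex_sup_right L N
  rw [h, Subgroup.relIndex_top_right] at h1
  have h2 : (N ⊓ L).relIndex L * L.index = (N ⊓ L).index :=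
    Subgroup.relIndex_mul_index inf_le_right
  have h3 : (N ⊓ L).relIndex N * N.index = (N ⊓ L).index :=
    Subgroup.relIndex_mul_index inf_le_left
  rw [Subgroup.inf_relIndex_right] at h2
  rw [Subgroup.inf_relIndex_left] at h3
  rw [← h1] at h2
  have hN : N.index ≠ 0 := Subgroup.index_ne_zero_of_finite
  have : N.index * L.index = N.index * L.relIndex N := by rw [h2, mul_comm, h3]
  exact Nat.eq_of_mul_eq_mul_left (Nat.pos_of_ne_zero hN) this

end Index

section Main

variable {G : Type u} [Group G] [Finite G] {n : ℕ}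

/-- **(a)**: the `p`-th power of a minimal bad element is central. -/
theorem Ctx.minBad_pow_mem_center (h : Ctx n G) {p q : ℕ} (hpq : PP n p q) {x : G}
    (hx : MinBad p q x) : x ^ p ∈ Subgroup.center G := by
  by_contra hc
  obtain ⟨k, hk⟩ := hx.1.orderOf_eq hpq.hp
  have hk0 : k ≠ 0 := by
    rintro rfl
    rw [pow_zero, orderOf_eq_one_iff] at hk
    exact hx.2.1 (hk ▸ good_one q)
  obtain ⟨k', rfl⟩ : ∃ k', k = k' + 1 := ⟨k - 1, by omega⟩
  have hord : orderOf (x ^ p) < orderOf x := by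
    rw [orderOf_pow_of_dvd hpq.hp.ne_zero (hk ▸ Dvd.intro_left _ rfl), hk]
    exact Nat.div_lt_self (pow_pos hpq.hp.pos _) hpq.hp.one_lt
  have hgood : Good q (x ^ p) := hx.2.2 _ (hx.1.pow p) hord
  exact hx.2.1 (h.k3 hpq hx.1 hgood (pow_mul_comm' x p).symm hc)

/-- **(c)**: a bad element lies in no proper normal subgroup (Frattini argument). -/
theorem Ctx.bad_normal_eq_top (h : Ctx n G) {p q : ℕ} (hpq : PP n p q) {x : G} (hx : PElt p x)
    (hbad : ¬ Good q x) (N : Subgroup G) [hN : N.Normal] (hxN : x ∈ N) : N = ⊤ := by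
  by_contra hNtop
  haveI := Fact.mk hpq.hp
  haveI := Fact.mk hpq.hq
  have hx' : PElt p (⟨x, hxN⟩ : N) := PElt.of_coe hx
  obtain ⟨P₁, hP₁⟩ := hx'.exists_mem_sylow
  obtain ⟨Q₁, hQ₁⟩ := h.ih N hNtop p q hpq P₁
  obtain ⟨P', hP'⟩ : ∃ P' : Subgroup G, P' = (P₁ : Subgroup N).map N.subtype := ⟨_, rfl⟩
  obtain ⟨L, hL⟩ : ∃ L : Subgroup G, L = Subgroup.normalizer (P' : Set G) := ⟨_, rfl⟩
  have hfrat : L ⊔ N = ⊤ := by
    rw [hL, hP']
    exact Sylow.normalizer_sup_eq_top P₁
  have hxP' : x ∈ P' := by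
    rw [hP']
    exact ⟨⟨x, hxN⟩, hP₁, rfl⟩
  have hxL : x ∈ L := by
    rw [hL]
    exact Subgroup.le_normalizer hxP'
  have hQL : (Q₁ : Subgroup N).map N.subtype ≤ L := by
    rw [hL]
    refine le_trans ?_ (Subgroup.centralizer_le_normalizer _)
    rintro _ ⟨z, hz, rfl⟩
    rw [Subgroup.mem_centralizer_iff]
    intro w' hw'
    rw [hP'] at hw'
    obtain ⟨w, hw, rfl⟩ := hw'
    exact congrArg Subtype.val (hQ₁ w hw z hz)
  have hqL : ¬ q ∣ L.index := by
    rw [index_eq_relIndex_of_sup_eq_top hfrat]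
    intro hd
    have h1 := hd.trans (Subgroup.relIndex_dvd_of_le_left N hQL)
    have h2 : ((Q₁ : Subgroup N).map N.subtype).relIndex N = (Q₁ : Subgroup N).index := by
      rw [Subgroup.relIndex, Subgroup.subgroupOf,
        Subgroup.comap_map_eq_self_of_injective N.subtype_injective]
    rw [h2] at h1
    exact Q₁.not_dvd_index h1
  by_cases hLtop : L = ⊤
  · have hP'n : P'.Normal := Subgroup.normalizer_eq_top_iff.mp (hL ▸ hLtop)
    obtain ⟨Q⟩ : Nonempty (Sylow q G) := inferInstance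
    obtain ⟨H, hH⟩ : ∃ H : Subgroup G, H = P' ⊔ (Q : Subgroup G) := ⟨_, rfl⟩
    have hxH : x ∈ H := by
      rw [hH]
      exact (le_sup_left : P' ≤ P' ⊔ (Q : Subgroup G)) hxP'
    have hqH : ¬ q ∣ H.index :=
      not_dvd_index_of_sylow_le hpq.hq Q (by rw [hH]; exact le_sup_right)
    by_cases hHtop : H = ⊤
    · have hcomm : ∀ a b : G, a * b = b * a := by
        apply h.lin.comm_of_primes
        intro r hr hrd
        have h1 : P'.index = P'.relIndex Q := by
          have := Subgroup.relIndex_sup_right (Q : Subgroup G) P'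
          rw [sup_comm, ← hH, hHtop, Subgroup.relIndex_top_right] at this
          exact this
        have h2 : P'.index ∣ Nat.card Q := h1 ▸ Subgroup.index_dvd_card _
        rw [← P'.card_mul_index] at hrd
        rcases (Nat.Prime.dvd_mul hr).mp hrd with hd | hd
        · have hpg : IsPGroup p P' := by
            rw [hP']
            exact P₁.isPGroup'.map _
          obtain ⟨k, hk⟩ := hpg.exists_card_eq
          rw [hk] at hd
          have := (Nat.prime_dvd_prime_iff_eq hr hpq.hp).mp (hr.dvd_of_dvd_pow hd)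
          have := hpq.np
          omega
        · obtain ⟨k, hk⟩ := Q.isPGroup'.exists_card_eq
          have hd' := hd.trans h2
          rw [hk] at hd'
          have := (Nat.prime_dvd_prime_iff_eq hr hpq.hq).mp (hr.dvd_of_dvd_pow hd')
          have := hpq.nq
          omega
      exact hbad ⟨Q, fun y _ => hcomm x y⟩
    · exact hbad (h.k1 hpq hx hxH hHtop hqH)
  · exact hbad (h.k1 hpq hx hxL hLtop hqL)

/-- **(d)**: if there is a bad `p`-element for `q`, there is a minimal bad `q`-element for `p`. -/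
theorem Ctx.exists_minBad_symm (h : Ctx n G) {p q : ℕ} (hpq : PP n p q) {x : G} (hx : PElt p x)
    (hbad : ¬ Good q x) : ∃ y : G, MinBad q p y := by
  apply exists_minBad
  by_contra hcon
  push Not at hcon
  obtain ⟨Q⟩ : Nonempty (Sylow q G) := inferInstance
  by_cases hc : ∀ y ∈ Q, y ∈ Subgroup.center G
  · exact hbad ⟨Q, fun y hy => (Subgroup.mem_center_iff.mp (hc y hy)) x⟩
  · push Not at hc
    obtain ⟨y, hyQ, hyc⟩ := hc
    have hyq : PElt q y := pElt_of_mem_isPGroup Q.isPGroup' hyQ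
    obtain ⟨P', hP'⟩ := hcon y hyq
    obtain ⟨g, hg⟩ := hx.exists_conj_mem hpq.hp P'
    have := h.k2 hpq (hx.conj g) hyq (hP' _ hg).symm hyc
    exact hbad (this.of_conj g)

open scoped IsMulCommutative in
/-- **(f)**: if there is a bad `p`-element for `q`, central `q`-elements are trivial (transfer). -/
theorem Ctx.central_eq_one (h : Ctx n G) {p q : ℕ} (hpq : PP n p q) {x : G} (hx : PElt p x)
    (hbad : ¬ Good q x) {z : G} (hz : z ∈ Subgroup.center G) (hzq : PElt q z) : z = 1 := by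
  haveI := Fact.mk hpq.hq
  obtain ⟨Q, hQ⟩ := hzq.exists_mem_sylow
  have hQc := h.sylow_comm hpq.hq (by have := hpq.nq; omega) Q
  haveI : IsMulCommutative (Q : Subgroup G) :=
    ⟨⟨fun a b => Subtype.ext (hQc a a.2 b b.2)⟩⟩
  obtain ⟨τ, hτ⟩ : ∃ τ : G →* (Q : Subgroup G),
      τ = MonoidHom.transfer (MonoidHom.id (Q : Subgroup G)) := ⟨_, rfl⟩
  have hker : τ.ker = ⊤ := h.bad_normal_eq_top hpq hx hbad τ.ker (by
    rw [MonoidHom.mem_ker]
    have h1 : PElt p (τ x) := by
      obtain ⟨k, hk⟩ := hx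
      exact ⟨k, by rw [← map_pow, hk, map_one]⟩
    have h2 : PElt q (τ x) := PElt.of_coe (pElt_of_mem_isPGroup Q.isPGroup' (τ x).2)
    exact PElt.eq_one hpq.hp hpq.hq hpq.ne h1 h2)
  have hτz : τ z = 1 := by
    rw [← MonoidHom.mem_ker, hker]
    trivial
  have hkey : ∀ (k : ℕ) (g₀ : G), g₀⁻¹ * z ^ k * g₀ ∈ (Q : Subgroup G) →
      g₀⁻¹ * z ^ k * g₀ = z ^ k := by
    intro k g₀ _
    have : z ^ k ∈ Subgroup.center G := Subgroup.pow_mem _ hz k
    rw [mul_assoc, ← (Subgroup.mem_center_iff.mp this) g₀, ← mul_assoc, inv_mul_cancel, one_mul]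
  have hpow := MonoidHom.transfer_eq_pow (MonoidHom.id (Q : Subgroup G)) z hkey
  rw [← hτ, hτz] at hpow
  have h3 : z ^ (Q : Subgroup G).index = 1 := by
    have := congrArg Subtype.val hpow
    simpa using this.symm
  obtain ⟨k, hk⟩ := hzq
  have h4 : orderOf z ∣ Nat.gcd ((Q : Subgroup G).index) (q ^ k) :=
    Nat.dvd_gcd (orderOf_dvd_of_pow_eq_one h3) (orderOf_dvd_of_pow_eq_one hk)
  have h5 : Nat.Coprime ((Q : Subgroup G).index) (q ^ k) :=
    Nat.Coprime.pow_right _ ((Nat.Prime.coprime_iff_not_dvd hpq.hq).mpr Q.not_dvd_index).symm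
  rw [h5] at h4
  exact orderOf_eq_one_iff.mp (Nat.dvd_one.mp h4)

/-- **KC**: in the inductive context every `p`-element centralises a Sylow `q`-subgroup. -/
theorem Ctx.good (h : Ctx n G) {p q : ℕ} (hpq : PP n p q) {x₀ : G} (hx₀ : PElt p x₀) :
    Good q x₀ := by
  by_contra hbad₀
  obtain ⟨x, hxm⟩ := exists_minBad ⟨x₀, hx₀, hbad₀⟩
  obtain ⟨y, hym⟩ := h.exists_minBad_symm hpq hxm.1 hxm.2.1
  have hcq : ∀ z ∈ Subgroup.center G, PElt q z → z = 1 := fun z hz hzq =>
    h.central_eq_one hpq hxm.1 hxm.2.1 hz hzq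
  have hcp : ∀ z ∈ Subgroup.center G, PElt p z → z = 1 := fun z hz hzp =>
    h.central_eq_one hpq.symm hym.1 hym.2.1 hz hzp
  have hxp : x ^ p = 1 := hcp _ (h.minBad_pow_mem_center hpq hxm) (hxm.1.pow p)
  have hyq : y ^ q = 1 := hcq _ (h.minBad_pow_mem_center hpq.symm hym) (hym.1.pow q)
  have hx1 : x ≠ 1 := fun h1 => hxm.2.1 (h1 ▸ good_one q)
  -- no element of order divisible by `p q`
  have hno : ¬ ∃ g : G, p ∣ orderOf g ∧ q ∣ orderOf g := by
    rintro ⟨g, hpg, hqg⟩
    obtain ⟨u, hu⟩ : ∃ u : G, u = g ^ (orderOf g / p) := ⟨_, rfl⟩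
    obtain ⟨v, hv⟩ : ∃ v : G, v = g ^ (orderOf g / q) := ⟨_, rfl⟩
    have huo : orderOf u = p := hu ▸ orderOf_pow_orderOf_div (orderOf_pos g).ne' hpg
    have hvo : orderOf v = q := hv ▸ orderOf_pow_orderOf_div (orderOf_pos g).ne' hqg
    have huv : u * v = v * u := by
      rw [hu, hv, ← pow_add, ← pow_add, add_comm]
    have hup : PElt p u := pElt_of_orderOf (k := 1) (by rw [huo, pow_one])
    have hvq : PElt q v := pElt_of_orderOf (k := 1) (by rw [hvo, pow_one])
    have hu1 : u ≠ 1 := by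
      intro h1
      rw [h1, orderOf_one] at huo
      exact hpq.hp.one_lt.ne huo
    have hv1 : v ≠ 1 := by
      intro h1
      rw [h1, orderOf_one] at hvo
      exact hpq.hq.one_lt.ne hvo
    have hvc : v ∉ Subgroup.center G := fun hc => hv1 (hcq v hc hvq)
    have huc : u ∉ Subgroup.center G := fun hc => hu1 (hcp u hc hup)
    have hug : Good q u := h.k2 hpq hup hvq huv hvc
    obtain ⟨P, hP⟩ := hup.exists_mem_sylow
    obtain ⟨a, ha⟩ := hxm.1.exists_conj_mem hpq.hp P
    have hcomm := h.sylow_comm hpq.hp (by have := hpq.np; omega) P _ ha _ hP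
    exact hxm.2.1 ((h.k3 hpq (hxm.1.conj a) hug hcomm huc).of_conj a)
  -- the character-theoretic endgame
  obtain ⟨μ, hμ, hdeg, hμx⟩ := h.lin.exists_irr hx1
  have hμc := isCharacter_of_isIrrCharacter hμ
  have hμy : μ y ≠ μ 1 := by
    intro hy
    have hyk : y ∈ charKer hμc := (mem_charKer hμc y).mpr hy
    haveI := charKer_normal hμc
    have := h.bad_normal_eq_top hpq.symm hym.1 hym.2.1 (charKer hμc) hyk
    have hxk : x ∈ charKer hμc := this ▸ Subgroup.mem_top x
    exact hμx ((mem_charKer hμc x).mp hxk)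
  obtain ⟨j, hj, hjp, hχj⟩ := exists_pow_ne hμc hpq.hp (by have := hpq.np; omega) hxp hμx
  obtain ⟨k, hk, hkq, hχk⟩ := exists_pow_ne hμc hpq.hq (by have := hpq.nq; omega) hyq hμy
  letI := Fintype.ofFinite G
  exact hno (exists_order_dvd hμ hj hk hjp hkq hχj hχk)

end Main

end Cfsg.Agent.Helper24.Blich
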