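import Mathlib
import Cfsg.Prelude.Def_Blocks
import Cfsg.Agent.Lib.Helper24.BlichE

/-!
# Blichfeldt's theorem, part F: the abelian Hall subgroup (helper24)

A finite group with a faithful character of degree `n` has an abelian Hall `π`-subgroup, `π` the
set of primes `> n + 1`.
-/

set_option autoImplicit false
set_option linter.style.haveILetI false
set_option linter.unusedSectionVars false

namespace Cfsg.Agent.Helper24.Blich

open Cfsg Cfsg.Agent.Helper24

universe u

section Step

variable {G : Type u} [Group G] [Finite G] {n : ℕ}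

theorem centralizer_singleton_ne_top {a : G} (ha : a ∉ Subgroup.center G) :
    Subgroup.centralizer ({a} : Set G) ≠ ⊤ := by
  intro htop
  apply ha
  rw [Subgroup.mem_center_iff]
  intro g
  have : g ∈ Subgroup.centralizer ({a} : Set G) := htop ▸ Subgroup.mem_top g
  rw [Subgroup.mem_centralizer_iff] at this
  exact (this a rfl).symm

theorem le_centralizer_singleton {a : G} {K : Subgroup G} (h : ∀ y ∈ K, a * y = y * a) :
    K ≤ Subgroup.centralizer ({a} : Set G) := by
  intro z hz
  rw [Subgroup.mem_centralizer_iff]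
  intro w hw
  rw [Set.mem_singleton_iff] at hw
  subst hw
  exact h z hz

/-- The inductive step: `KC` gives `CS`. -/
theorem Ctx.cs (h : Ctx n G) : CS n G := by
  intro p q hpq P
  haveI := Fact.mk hpq.hp
  haveI := Fact.mk hpq.hq
  by_cases hc : ∀ a ∈ P, a ∈ Subgroup.center G
  · obtain ⟨Q⟩ : Nonempty (Sylow q G) := inferInstance
    exact ⟨Q, fun a ha b _ => ((Subgroup.mem_center_iff.mp (hc a ha)) b).symm⟩
  · push Not at hc
    obtain ⟨a, haP, hac⟩ := hc
    have hap : PElt p a := pElt_of_mem_isPGroup P.isPGroup' haP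
    obtain ⟨Q₀, hQ₀⟩ := h.good hpq hap
    obtain ⟨C, hC⟩ : ∃ C : Subgroup G, C = Subgroup.centralizer ({a} : Set G) := ⟨_, rfl⟩
    have hCtop : C ≠ ⊤ := hC ▸ centralizer_singleton_ne_top hac
    have hPc := h.sylow_comm hpq.hp (by have := hpq.np; omega) P
    have hPC : (P : Subgroup G) ≤ C := hC ▸ le_centralizer_singleton (fun y hy => hPc a haP y hy)
    have hqC : ¬ q ∣ C.index :=
      not_dvd_index_of_sylow_le hpq.hq Q₀ (hC ▸ le_centralizer_singleton hQ₀)
    obtain ⟨QC, hQC⟩ := h.ih C hCtop p q hpq (P.subtype hPC)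
    obtain ⟨Q, hQ⟩ := exists_sylow_map hpq.hq C hqC QC
    refine ⟨Q, fun a' ha' b hb => ?_⟩
    obtain ⟨z, hz, rfl⟩ := (hQ b).mp hb
    have hmem : (⟨a', hPC ha'⟩ : C) ∈ P.subtype hPC := by
      show (⟨a', hPC ha'⟩ : C) ∈ (P : Subgroup G).subgroupOf C
      rw [Subgroup.mem_subgroupOf]
      exact ha'
    exact congrArg Subtype.val (hQC _ hmem z hz)

end Step

theorem card_lt_of_ne_top {G : Type u} [Group G] [Finite G] {H : Subgroup G} (hH : H ≠ ⊤) :
    Nat.card H < Nat.card G := by
  by_contra hcon
  push Not at hcon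
  exact hH (Subgroup.eq_top_of_card_eq H (le_antisymm (Subgroup.card_le_card_group H) hcon))

/-- Every linear group of degree `n` has the commuting Sylow property. -/
theorem cs_of_lin (n : ℕ) : ∀ (N : ℕ) (G : Type u) [Group G] [Finite G],
    Nat.card G = N → Lin n G → CS n G := by
  intro N
  induction N using Nat.strong_induction_on with
  | _ N ih =>
    intro G _ _ hN hlin
    apply Ctx.cs
    refine ⟨hlin, fun H hH => ?_⟩
    exact ih (Nat.card H) (hN ▸ card_lt_of_ne_top hH) H rfl (hlin.subgroup H)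

section Hall

variable {G : Type u} [Group G] [Finite G] {n : ℕ}

/-- In a linear group of degree `n`, a `p`-element centralises a Sylow `q`-subgroup
(`p ≠ q` primes `> n + 1`). -/
theorem Lin.good (h : Lin n G) {p q : ℕ} (hpq : PP n p q) {x : G} (hx : PElt p x) : Good q x := by
  obtain ⟨P, hP⟩ := hx.exists_mem_sylow
  obtain ⟨Q, hQ⟩ := cs_of_lin n _ G rfl h p q hpq P
  exact ⟨Q, fun y hy => hQ x hP y hy⟩

/-- The central elements all of whose order's prime factors are `> n + 1`. -/
def piCenter (n : ℕ) (G : Type u) [Group G] : Subgroup G where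
  carrier := {z | z ∈ Subgroup.center G ∧ ∀ r : ℕ, r.Prime → r ∣ orderOf z → n + 1 < r}
  one_mem' := ⟨one_mem _, fun r hr hd => by
    rw [orderOf_one] at hd
    exact absurd (Nat.dvd_one.mp hd) hr.ne_one⟩
  mul_mem' := by
    rintro a b ⟨ha, ha'⟩ ⟨hb, hb'⟩
    refine ⟨mul_mem ha hb, fun r hr hd => ?_⟩
    have hcomm : Commute a b := Subgroup.mem_center_iff.mp hb a
    have h1 := hd.trans hcomm.orderOf_mul_dvd_lcm
    have h2 := h1.trans (Nat.lcm_dvd_mul _ _)
    rcases (Nat.Prime.dvd_mul hr).mp h2 with h | h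
    exacts [ha' r hr h, hb' r hr h]
  inv_mem' := by
    rintro a ⟨ha, ha'⟩
    exact ⟨inv_mem ha, fun r hr hd => ha' r hr (by rwa [orderOf_inv] at hd)⟩

/-- **Blichfeldt's theorem**, by induction on the group order. -/
theorem hall_of_lin (n : ℕ) : ∀ (N : ℕ) (G : Type u) [Group G] [Finite G],
    Nat.card G = N → Lin n G →
    ∃ A : Subgroup G, (∀ x ∈ A, ∀ y ∈ A, x * y = y * x) ∧
      (∀ q : ℕ, q.Prime → q ∣ Nat.card A → n + 1 < q) ∧
      ∀ q : ℕ, q.Prime → q ∣ A.index → q ≤ n + 1 := by
  intro N
  induction N using Nat.strong_induction_on with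
  | _ N ih =>
    intro G _ _ hN hlin
    by_cases hc : ∀ (p : ℕ) (x : G), p.Prime → n + 1 < p → PElt p x → x ∈ Subgroup.center G
    · refine ⟨piCenter n G, ?_, ?_, ?_⟩
      · rintro x ⟨hx, -⟩ y -
        exact (Subgroup.mem_center_iff.mp hx y).symm
      · intro q hq hd
        haveI := Fact.mk hq
        obtain ⟨a, ha⟩ := exists_prime_orderOf_dvd_card' q hd
        have := a.2.2 q hq (by rw [Subgroup.orderOf_coe, ha])
        exact this
      · intro q hq hd
        by_contra hlt
        push Not at hlt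
        haveI := Fact.mk hq
        obtain ⟨R⟩ : Nonempty (Sylow q G) := inferInstance
        have hle : (R : Subgroup G) ≤ piCenter n G := by
          intro g hg
          have hgq : PElt q g := pElt_of_mem_isPGroup R.isPGroup' hg
          refine ⟨hc q g hq hlt hgq, fun r hr hrd => ?_⟩
          obtain ⟨k, hk⟩ := hgq.orderOf_eq hq
          rw [hk] at hrd
          have := (Nat.prime_dvd_prime_iff_eq hr hq).mp (hr.dvd_of_dvd_pow hrd)
          omega
        exact not_dvd_index_of_sylow_le hq R hle hd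
    · push Not at hc
      obtain ⟨p, x, hp, hnp, hxp, hxc⟩ := hc
      obtain ⟨C, hC⟩ : ∃ C : Subgroup G, C = Subgroup.centralizer ({x} : Set G) := ⟨_, rfl⟩
      have hCtop : C ≠ ⊤ := hC ▸ centralizer_singleton_ne_top hxc
      obtain ⟨AC, hAC1, hAC2, hAC3⟩ :=
        ih (Nat.card C) (hN ▸ card_lt_of_ne_top hCtop) C rfl (hlin.subgroup C)
      refine ⟨AC.map C.subtype, ?_, ?_, ?_⟩
      · rintro _ ⟨a, ha, rfl⟩ _ ⟨b, hb, rfl⟩
        exact congrArg Subtype.val (hAC1 a ha b hb)
      · intro q hq hd
        rw [Subgroup.card_map_of_injective C.subtype_injective] at hd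
        exact hAC2 q hq hd
      · intro q hq hd
        rw [Subgroup.index_map_subtype] at hd
        rcases (Nat.Prime.dvd_mul hq).mp hd with hd | hd
        · exact hAC3 q hq hd
        · by_contra hlt
          push Not at hlt
          by_cases hqp : q = p
          · subst hqp
            obtain ⟨P, hP⟩ := hxp.exists_mem_sylow
            have hPc := hlin.comm_of_isPGroup hq (by omega) P P.isPGroup'
            exact not_dvd_index_of_sylow_le hq P
              (hC ▸ le_centralizer_singleton (fun y hy => hPc x hP y hy)) hd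
          · have hpq : PP n p q := ⟨hp, hq, hnp, hlt, fun h => hqp h.symm⟩
            obtain ⟨Q₀, hQ₀⟩ := hlin.good hpq hxp
            exact not_dvd_index_of_sylow_le hq Q₀ (hC ▸ le_centralizer_singleton hQ₀) hd

end Hall

end Cfsg.Agent.Helper24.Blich
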