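import Mathlib
import Cfsg.Prelude.Def_Blocks
import Cfsg.Agent.Lib.Helper24.CharInduced
import Cfsg.Agent.Lib.Helper24.BlichC

/-!
# Monomial linear groups have abelian subgroups of index dividing `n!` (helper24)

If every irreducible character of `P` is induced from a linear character and `P` has a faithful
character of degree `n`, then `P` has an abelian normal subgroup whose index divides `n!`:
the kernel of the permutation action on the lines of imprimitivity.
-/

set_option autoImplicit false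
set_option linter.style.haveILetI false
set_option linter.unusedSectionVars false

namespace Cfsg.Agent.Helper24.Blich

open Cfsg Cfsg.Agent.Helper24
open scoped ComplexConjugate

universe u

section Monomial

variable {P : Type u} [Group P] [Fintype P]

/-- A character induced from a linear character is trivial on commutators of elements acting
trivially on the cosets. -/
theorem indFun_comm_eq (H : Subgroup P) (lam : H →* ℂˣ) {a b : P}
    (ha : ∀ x : P, x⁻¹ * a * x ∈ H) (hb : ∀ x : P, x⁻¹ * b * x ∈ H) :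
    indFun H (fun h => (lam h : ℂ)) (a * b * (b * a)⁻¹) =
      indFun H (fun h => (lam h : ℂ)) 1 := by
  rw [indFun_apply, indFun_apply]
  congr 1
  refine Finset.sum_congr rfl fun x _ => ?_
  have h1 : x⁻¹ * 1 * x = 1 := by group
  have h2 : x⁻¹ * (a * b * (b * a)⁻¹) * x =
      (x⁻¹ * a * x) * (x⁻¹ * b * x) * ((x⁻¹ * b * x) * (x⁻¹ * a * x))⁻¹ := by group
  rw [h1, h2]
  have hmem : (x⁻¹ * a * x) * (x⁻¹ * b * x) * ((x⁻¹ * b * x) * (x⁻¹ * a * x))⁻¹ ∈ H :=
    H.mul_mem (H.mul_mem (ha x) (hb x)) (H.inv_mem (H.mul_mem (hb x) (ha x)))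
  rw [extendByZero_of_mem H _ hmem, extendByZero_of_mem H _ H.one_mem]
  have h3 : (⟨(x⁻¹ * a * x) * (x⁻¹ * b * x) * ((x⁻¹ * b * x) * (x⁻¹ * a * x))⁻¹, hmem⟩ : H) =
      (⟨_, ha x⟩ : H) * ⟨_, hb x⟩ * ((⟨_, hb x⟩ : H) * ⟨_, ha x⟩)⁻¹ := rfl
  have h4 : lam ((⟨_, ha x⟩ : H) * ⟨_, hb x⟩ * ((⟨_, hb x⟩ : H) * ⟨_, ha x⟩)⁻¹) = 1 := by
    rw [map_mul, map_inv, map_mul, map_mul, mul_comm (lam ⟨_, hb x⟩)]
    exact mul_inv_cancel _
  have h5 : (⟨1, H.one_mem⟩ : H) = 1 := rfl
  rw [h3, h4, h5, map_one]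

/-- A linear group of degree `n` all of whose irreducible characters are monomial has an abelian
normal subgroup of index dividing `n!`. -/
theorem Lin.exists_abelian_of_monomial {n : ℕ} (h : Lin n P)
    (hM : ∀ ψ : P → ℂ, IsIrrCharacter P ψ →
      ∃ (H : Subgroup P) (lam : H →* ℂˣ), ψ = indFun H (fun h => (lam h : ℂ))) :
    ∃ B : Subgroup P, B.Normal ∧ (∀ a ∈ B, ∀ b ∈ B, a * b = b * a) ∧ B.index ∣ n.factorial := by
  classical
  letI : Fintype (IrrCharacter P) := irrFintype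
  obtain ⟨χ, hχ, hf, hn⟩ := h
  obtain ⟨hm, hdec⟩ := isCharacter_decomp hχ
  choose m hm using hm
  choose H lam hψ using (fun ψ : IrrCharacter P => hM ψ.1 ψ.2)
  -- degrees
  have hdeg : ∀ ψ : IrrCharacter P, charDegree (ψ : P → ℂ) = (H ψ).index := by
    intro ψ
    apply charDegree_natCast
    conv_lhs => rw [hψ ψ]
    rw [indFun_one, map_one]
    simp
  have hsum : n = ∑ ψ : IrrCharacter P, m ψ * charDegree (ψ : P → ℂ) := by
    have h1 := congrFun hdec 1
    rw [Finset.sum_apply, char_one_eq_charDegree hχ, hn] at h1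
    have h2 : (n : ℂ) = ((∑ ψ : IrrCharacter P, m ψ * charDegree (ψ : P → ℂ) : ℕ) : ℂ) := by
      rw [h1]
      push_cast
      refine Finset.sum_congr rfl fun ψ _ => ?_
      rw [Pi.smul_apply, hm, irr_one_eq_charDegree ψ.2, smul_eq_mul]
    exact_mod_cast h2
  -- the set of constituents and the permutation domain
  obtain ⟨S, hS⟩ : ∃ S : Finset (IrrCharacter P), S = Finset.univ.filter (fun ψ => m ψ ≠ 0) :=
    ⟨_, rfl⟩
  obtain ⟨f, hfdef⟩ : ∃ f : P →* Equiv.Perm (Σ ψ : S, P ⧸ H ψ.1),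
      f = MulAction.toPermHom P (Σ ψ : S, P ⧸ H ψ.1) := ⟨_, rfl⟩
  have hcardΩ : Nat.card (Σ ψ : S, P ⧸ H ψ.1) ≤ n := by
    rw [Nat.card_sigma]
    have h1 : ∑ ψ : S, Nat.card (P ⧸ H ψ.1) = ∑ ψ ∈ S, charDegree (ψ : P → ℂ) := by
      rw [← Finset.sum_coe_sort S (fun ψ => charDegree (ψ : P → ℂ))]
      refine Finset.sum_congr rfl fun ψ _ => ?_
      rw [hdeg]
      rfl
    rw [h1, hsum]
    calc ∑ ψ ∈ S, charDegree (ψ : P → ℂ) ≤ ∑ ψ ∈ S, m ψ * charDegree (ψ : P → ℂ) := by
          refine Finset.sum_le_sum fun ψ hψS => ?_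
          have : m ψ ≠ 0 := by
            rw [hS] at hψS
            exact (Finset.mem_filter.mp hψS).2
          exact Nat.le_mul_of_pos_left _ (Nat.pos_of_ne_zero this)
      _ ≤ ∑ ψ : IrrCharacter P, m ψ * charDegree (ψ : P → ℂ) :=
          Finset.sum_le_sum_of_subset (Finset.subset_univ S)
  have hfix : ∀ g ∈ f.ker, ∀ ψ : IrrCharacter P, m ψ ≠ 0 → ∀ x : P, x⁻¹ * g * x ∈ H ψ := by
    intro g hg ψ hψm x
    have hψS : ψ ∈ S := by
      rw [hS]
      exact Finset.mem_filter.mpr ⟨Finset.mem_univ _, hψm⟩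
    rw [MonoidHom.mem_ker, hfdef] at hg
    have h1 := DFunLike.congr_fun hg (⟨⟨ψ, hψS⟩, (x : P ⧸ H ψ)⟩ : Σ ψ : S, P ⧸ H ψ.1)
    rw [MulAction.toPermHom_apply, MulAction.toPerm_apply, Sigma.smul_mk, Equiv.Perm.one_apply] at h1
    have h2 : g • (x : P ⧸ H ψ) = (x : P ⧸ H ψ) := by
      have := (Sigma.mk.inj_iff.mp h1).2
      exact eq_of_heq this
    have h3 : ((g * x : P) : P ⧸ H ψ) = (x : P ⧸ H ψ) := h2
    have h4 := QuotientGroup.eq.mp h3.symm
    rw [mul_assoc]
    exact h4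
  refine ⟨f.ker, inferInstance, ?_, ?_⟩
  · intro a ha b hb
    have key : χ (a * b * (b * a)⁻¹) = χ 1 := by
      apply char_eq_of_constituents hχ
      intro ψ hψirr h0
      have hinst : Fintype.ofFinite P = ‹Fintype P› := Subsingleton.elim _ _
      rw [hinst] at h0
      have hψm : m ⟨ψ, hψirr⟩ ≠ 0 := by
        intro h0'
        apply h0
        have := hm ⟨ψ, hψirr⟩
        rw [h0'] at this
        simpa using this
      have e := hψ ⟨ψ, hψirr⟩
      have e' : ψ = indFun (H ⟨ψ, hψirr⟩) (fun h => (lam ⟨ψ, hψirr⟩ h : ℂ)) := e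
      rw [e']
      exact indFun_comm_eq _ _ (hfix a ha _ hψm) (hfix b hb _ hψm)
    have := hf _ key
    rw [mul_inv_eq_one] at this
    exact this
  · rw [Subgroup.index_ker]
    have h1 : Nat.card f.range ∣ Nat.card (Equiv.Perm (Σ ψ : S, P ⧸ H ψ.1)) :=
      Subgroup.card_subgroup_dvd_card _
    rw [Nat.card_perm] at h1
    exact h1.trans (Nat.factorial_dvd_factorial hcardΩ)

end Monomial

end Cfsg.Agent.Helper24.Blich
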