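import Mathlib
import Cfsg.Prelude.Def_Blocks

/-!
# Jordan–Frobenius, part A: unitarisation of a representation (helper24)

Every representation of a finite group on `Fin n → ℂ` is equivalent to a unitary representation
on `EuclideanSpace ℂ (Fin n)`.
-/

set_option autoImplicit false
set_option linter.style.haveILetI false
set_option linter.unusedSectionVars false

namespace Cfsg.Agent.Helper24.Jordan

open Cfsg
open scoped MatrixOrder Matrix.Norms.L2Operator ComplexOrder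
open Matrix

universe u

section Unitarise

variable {G : Type u} [Group G] [Fintype G] {n : ℕ}

theorem exists_sqrt_of_posDef (H : Matrix (Fin n) (Fin n) ℂ) (hH : H.PosDef) :
    ∃ B : Matrix (Fin n) (Fin n) ℂ, IsUnit B ∧ H = Bᴴ * B := by
  obtain ⟨B, hB⟩ := CStarAlgebra.nonneg_iff_eq_star_mul_self.mp hH.posSemidef.nonneg
  refine ⟨B, ?_, hB⟩
  have hdet : H.det ≠ 0 := (hH.det_pos).ne'
  rw [hB, Matrix.det_mul] at hdet
  rw [Matrix.isUnit_iff_isUnit_det]
  exact isUnit_iff_ne_zero.mpr (right_ne_zero_of_mul hdet)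

/-- the matrices of a representation -/
noncomputable def repMatrix (ρ : Representation ℂ G (Fin n → ℂ)) : G →* Matrix (Fin n) (Fin n) ℂ where
  toFun g := LinearMap.toMatrix' (ρ g)
  map_one' := by rw [map_one]; exact LinearMap.toMatrix'_one
  map_mul' g h := by rw [map_mul]; exact LinearMap.toMatrix'_mul _ _

theorem trace_repMatrix (ρ : Representation ℂ G (Fin n → ℂ)) (g : G) :
    Matrix.trace (repMatrix ρ g) = ρ.character g := by
  show Matrix.trace (LinearMap.toMatrix' (ρ g)) = LinearMap.trace ℂ _ (ρ g)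
  rw [LinearMap.trace_eq_matrix_trace ℂ (Pi.basisFun ℂ (Fin n)), LinearMap.toMatrix_eq_toMatrix']

/-- the averaged form -/
noncomputable def avgForm (M : G →* Matrix (Fin n) (Fin n) ℂ) : Matrix (Fin n) (Fin n) ℂ :=
  ∑ x : G, (M x)ᴴ * M x

theorem avgForm_invariant (M : G →* Matrix (Fin n) (Fin n) ℂ) (g : G) :
    (M g)ᴴ * avgForm M * M g = avgForm M := by
  unfold avgForm
  rw [Finset.mul_sum, Finset.sum_mul]
  apply Fintype.sum_equiv (Equiv.mulRight g)
  intro x
  rw [Equiv.coe_mulRight, map_mul, Matrix.conjTranspose_mul]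
  simp only [Matrix.mul_assoc]

theorem avgForm_posDef (M : G →* Matrix (Fin n) (Fin n) ℂ) : (avgForm M).PosDef := by
  classical
  unfold avgForm
  rw [← Finset.add_sum_erase _ _ (Finset.mem_univ (1 : G))]
  apply Matrix.PosDef.add_posSemidef
  · rw [map_one, Matrix.conjTranspose_one, Matrix.mul_one]
    exact Matrix.PosDef.one
  · apply Matrix.posSemidef_sum
    intro x _
    exact Matrix.posSemidef_conjTranspose_mul_self _

/-- conjugating to a unitary matrix representation -/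
theorem exists_unitary_matrix_rep (M : G →* Matrix (Fin n) (Fin n) ℂ) :
    ∃ W : G →* Matrix (Fin n) (Fin n) ℂ, (∀ g, (W g)ᴴ = W g⁻¹) ∧
      ∀ g, Matrix.trace (W g) = Matrix.trace (M g) := by
  obtain ⟨B, hBu, hB⟩ := exists_sqrt_of_posDef (avgForm M) (avgForm_posDef M)
  have hBdet : IsUnit B.det := (Matrix.isUnit_iff_isUnit_det B).mp hBu
  have hB1 : B * B⁻¹ = 1 := Matrix.mul_nonsing_inv B hBdet
  have hB2 : B⁻¹ * B = 1 := Matrix.nonsing_inv_mul B hBdet
  refine ⟨{ toFun := fun g => B * M g * B⁻¹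
            map_one' := by rw [map_one, Matrix.mul_one, hB1]
            map_mul' := fun g h => by
              rw [map_mul]
              calc B * (M g * M h) * B⁻¹ = B * M g * (B⁻¹ * B) * M h * B⁻¹ := by
                    rw [hB2]; simp only [Matrix.mul_assoc, Matrix.one_mul]
                _ = B * M g * B⁻¹ * (B * M h * B⁻¹) := by simp only [Matrix.mul_assoc] }, ?_, ?_⟩
  · intro g
    show (B * M g * B⁻¹)ᴴ = B * M g⁻¹ * B⁻¹
    -- it suffices to check after multiplying by the invertible `B * M g * B⁻¹`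
    have hinv : (B * M g * B⁻¹) * (B * M g⁻¹ * B⁻¹) = 1 := by
      calc (B * M g * B⁻¹) * (B * M g⁻¹ * B⁻¹) = B * M g * (B⁻¹ * B) * M g⁻¹ * B⁻¹ := by
            simp only [Matrix.mul_assoc]
        _ = B * (M g * M g⁻¹) * B⁻¹ := by rw [hB2]; simp only [Matrix.mul_assoc, Matrix.one_mul]
        _ = 1 := by rw [← map_mul, mul_inv_cancel, map_one, Matrix.mul_one, hB1]
    have hunit : (B * M g * B⁻¹)ᴴ * (B * M g * B⁻¹) = 1 := by
      rw [Matrix.conjTranspose_mul, Matrix.conjTranspose_mul]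
      have h1 : (M g)ᴴ * (Bᴴ * B) * M g = Bᴴ * B := by
        rw [← hB]; exact avgForm_invariant M g
      calc (B⁻¹)ᴴ * ((M g)ᴴ * Bᴴ) * (B * M g * B⁻¹)
          = (B⁻¹)ᴴ * ((M g)ᴴ * (Bᴴ * B) * M g) * B⁻¹ := by simp only [Matrix.mul_assoc]
        _ = (B⁻¹)ᴴ * (Bᴴ * B) * B⁻¹ := by rw [h1]
        _ = (B * B⁻¹)ᴴ * (B * B⁻¹) := by
            rw [Matrix.conjTranspose_mul]; simp only [Matrix.mul_assoc]
        _ = 1 := by rw [hB1, Matrix.conjTranspose_one, Matrix.mul_one]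
    calc (B * M g * B⁻¹)ᴴ = (B * M g * B⁻¹)ᴴ * ((B * M g * B⁻¹) * (B * M g⁻¹ * B⁻¹)) := by
          rw [hinv, Matrix.mul_one]
      _ = ((B * M g * B⁻¹)ᴴ * (B * M g * B⁻¹)) * (B * M g⁻¹ * B⁻¹) :=
          (Matrix.mul_assoc _ _ _).symm
      _ = B * M g⁻¹ * B⁻¹ := by rw [hunit, Matrix.one_mul]
  · intro g
    show Matrix.trace (B * M g * B⁻¹) = Matrix.trace (M g)
    rw [Matrix.trace_mul_cycle, hB2, Matrix.one_mul]

theorem trace_toEuclideanCLM (A : Matrix (Fin n) (Fin n) ℂ) :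
    LinearMap.trace ℂ (EuclideanSpace ℂ (Fin n))
      ((Matrix.toEuclideanCLM (n := Fin n) (𝕜 := ℂ) A : EuclideanSpace ℂ (Fin n) →L[ℂ] _) :
        EuclideanSpace ℂ (Fin n) →ₗ[ℂ] EuclideanSpace ℂ (Fin n)) = Matrix.trace A := by
  rw [Matrix.coe_toEuclideanCLM_eq_toEuclideanLin, Matrix.toEuclideanLin_eq_toLin_orthonormal,
    LinearMap.trace_eq_matrix_trace ℂ (EuclideanSpace.basisFun (Fin n) ℂ).toBasis,
    LinearMap.toMatrix_toLin]

/-- **Unitarisation**: a representation on `Fin n → ℂ` has the same character as a unitary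
representation on `EuclideanSpace ℂ (Fin n)`. -/
theorem exists_unitary_rep (ρ : Representation ℂ G (Fin n → ℂ)) :
    ∃ U : G →* (EuclideanSpace ℂ (Fin n) →L[ℂ] EuclideanSpace ℂ (Fin n)),
      (∀ g, ContinuousLinearMap.adjoint (U g) = U g⁻¹) ∧
      ∀ g, LinearMap.trace ℂ (EuclideanSpace ℂ (Fin n))
        ((U g : EuclideanSpace ℂ (Fin n) →L[ℂ] _) :
          EuclideanSpace ℂ (Fin n) →ₗ[ℂ] EuclideanSpace ℂ (Fin n)) = ρ.character g := by
  obtain ⟨W, hW1, hW2⟩ := exists_unitary_matrix_rep (repMatrix ρ)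
  refine ⟨((Matrix.toEuclideanCLM (n := Fin n) (𝕜 := ℂ) :
      Matrix (Fin n) (Fin n) ℂ ≃⋆ₐ[ℂ] _) : Matrix (Fin n) (Fin n) ℂ →* _).comp W, ?_, ?_⟩
  · intro g
    show ContinuousLinearMap.adjoint (Matrix.toEuclideanCLM (n := Fin n) (𝕜 := ℂ) (W g)) =
      Matrix.toEuclideanCLM (n := Fin n) (𝕜 := ℂ) (W g⁻¹)
    rw [← hW1, ← ContinuousLinearMap.star_eq_adjoint, ← map_star, Matrix.star_eq_conjTranspose]
  · intro g
    show LinearMap.trace ℂ (EuclideanSpace ℂ (Fin n))
      ((Matrix.toEuclideanCLM (n := Fin n) (𝕜 := ℂ) (W g) : EuclideanSpace ℂ (Fin n) →L[ℂ] _) :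
        EuclideanSpace ℂ (Fin n) →ₗ[ℂ] EuclideanSpace ℂ (Fin n)) = _
    rw [trace_toEuclideanCLM, hW2, trace_repMatrix]

end Unitarise

end Cfsg.Agent.Helper24.Jordan
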