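import Mathlib
import Cfsg.Prelude.Def_Blocks

/-!
# Jordan–Frobenius, part B: orthogonal projections and traces on a Hilbert space (helper24)
-/

set_option autoImplicit false
set_option linter.style.haveILetI false
set_option linter.unusedSectionVars false

namespace Cfsg.Agent.Helper24.Jordan

open Cfsg
open scoped InnerProductSpace ComplexConjugate

universe u v

section Proj

variable {E : Type v} [NormedAddCommGroup E] [InnerProductSpace ℂ E] [FiniteDimensional ℂ E]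

/-- the trace of a continuous endomorphism -/
noncomputable def tr (X : E →L[ℂ] E) : ℂ := LinearMap.trace ℂ E (X : E →ₗ[ℂ] E)

theorem tr_add (X Y : E →L[ℂ] E) : tr (X + Y) = tr X + tr Y := by
  unfold tr
  rw [ContinuousLinearMap.toLinearMap_add, map_add]

theorem tr_sub (X Y : E →L[ℂ] E) : tr (X - Y) = tr X - tr Y := by
  unfold tr
  rw [ContinuousLinearMap.toLinearMap_sub, map_sub]

theorem tr_smul (c : ℂ) (X : E →L[ℂ] E) : tr (c • X) = c * tr X := by
  unfold tr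
  rw [ContinuousLinearMap.toLinearMap_smul, map_smul, smul_eq_mul]

theorem tr_sum {ι : Type*} (s : Finset ι) (X : ι → (E →L[ℂ] E)) :
    tr (∑ i ∈ s, X i) = ∑ i ∈ s, tr (X i) := by
  classical
  induction s using Finset.induction_on with
  | empty =>
    simp only [Finset.sum_empty]
    unfold tr
    rw [ContinuousLinearMap.toLinearMap_zero, map_zero]
  | insert a s ha ih =>
    rw [Finset.sum_insert ha, Finset.sum_insert ha, tr_add, ih]

theorem tr_mul_comm (X Y : E →L[ℂ] E) : tr (X * Y) = tr (Y * X) := by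
  unfold tr
  rw [ContinuousLinearMap.toLinearMap_mul, ContinuousLinearMap.toLinearMap_mul]
  exact LinearMap.trace_mul_comm ℂ _ _

theorem tr_one : tr (1 : E →L[ℂ] E) = (Module.finrank ℂ E : ℂ) := by
  unfold tr
  rw [ContinuousLinearMap.toLinearMap_one]
  exact LinearMap.trace_one ℂ E

theorem tr_eq_sum_inner (X : E →L[ℂ] E) :
    tr X = ∑ i, ⟪(stdOrthonormalBasis ℂ E) i, X ((stdOrthonormalBasis ℂ E) i)⟫_ℂ := by
  unfold tr
  rw [LinearMap.trace_eq_sum_inner _ (stdOrthonormalBasis ℂ E)]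
  rfl

/-- an orthogonal projection -/
def IsOProj (P : E →L[ℂ] E) : Prop := P * P = P ∧ ContinuousLinearMap.adjoint P = P

theorem IsOProj.inner_eq {P : E →L[ℂ] E} (hP : IsOProj P) (x y : E) :
    ⟪P x, y⟫_ℂ = ⟪x, P y⟫_ℂ := by
  rw [← ContinuousLinearMap.adjoint_inner_left, hP.2]

theorem IsOProj.apply_apply {P : E →L[ℂ] E} (hP : IsOProj P) (x : E) : P (P x) = P x := by
  have := congrArg (fun T : E →L[ℂ] E => T x) hP.1
  exact this

theorem IsOProj.tr_eq {P : E →L[ℂ] E} (hP : IsOProj P) :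
    tr P = ((∑ i, ‖P ((stdOrthonormalBasis ℂ E) i)‖ ^ 2 : ℝ) : ℂ) := by
  rw [tr_eq_sum_inner]
  push_cast
  apply Finset.sum_congr rfl
  intro i _
  have h1 : ⟪(stdOrthonormalBasis ℂ E) i, P ((stdOrthonormalBasis ℂ E) i)⟫_ℂ =
      ⟪P ((stdOrthonormalBasis ℂ E) i), P ((stdOrthonormalBasis ℂ E) i)⟫_ℂ := by
    rw [hP.inner_eq, hP.apply_apply]
  rw [h1, inner_self_eq_norm_sq_to_K]
  rfl

theorem IsOProj.tr_re_nonneg {P : E →L[ℂ] E} (hP : IsOProj P) : 0 ≤ (tr P).re := by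
  rw [hP.tr_eq, Complex.ofReal_re]
  exact Finset.sum_nonneg fun i _ => by positivity

theorem IsOProj.eq_zero_of_tr_eq_zero {P : E →L[ℂ] E} (hP : IsOProj P) (h : tr P = 0) :
    P = 0 := by
  rw [hP.tr_eq] at h
  have h1 : (∑ i, ‖P ((stdOrthonormalBasis ℂ E) i)‖ ^ 2 : ℝ) = 0 := by exact_mod_cast h
  have h2 : ∀ i, P ((stdOrthonormalBasis ℂ E) i) = 0 := by
    intro i
    have := (Finset.sum_eq_zero_iff_of_nonneg (fun i _ => by positivity)).mp h1 i (Finset.mem_univ i)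
    have h3 : ‖P ((stdOrthonormalBasis ℂ E) i)‖ = 0 := by
      have := pow_eq_zero_iff (n := 2) (by norm_num) |>.mp this
      exact this
    exact norm_eq_zero.mp h3
  apply ContinuousLinearMap.coe_injective
  apply (stdOrthonormalBasis ℂ E).toBasis.ext
  intro i
  rw [OrthonormalBasis.coe_toBasis]
  show P ((stdOrthonormalBasis ℂ E) i) = 0
  exact h2 i

theorem IsOProj.norm_tr_mul_le {P : E →L[ℂ] E} (hP : IsOProj P) (X : E →L[ℂ] E) :
    ‖tr (P * X)‖ ≤ ‖X‖ * (tr P).re := by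
  have h1 : tr (P * X) = tr (P * X * P) := by
    conv_lhs => rw [← hP.1]
    rw [mul_assoc, tr_mul_comm]
  rw [h1, tr_eq_sum_inner, hP.tr_eq, Complex.ofReal_re, Finset.mul_sum]
  refine (norm_sum_le _ _).trans ?_
  apply Finset.sum_le_sum
  intro i _
  have h2 : ⟪(stdOrthonormalBasis ℂ E) i, (P * X * P) ((stdOrthonormalBasis ℂ E) i)⟫_ℂ =
      ⟪P ((stdOrthonormalBasis ℂ E) i), X (P ((stdOrthonormalBasis ℂ E) i))⟫_ℂ := by
    rw [hP.inner_eq]
    rfl
  rw [h2]
  refine (norm_inner_le_norm _ _).trans ?_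
  have h3 := X.le_opNorm (P ((stdOrthonormalBasis ℂ E) i))
  calc ‖P ((stdOrthonormalBasis ℂ E) i)‖ * ‖X (P ((stdOrthonormalBasis ℂ E) i))‖
      ≤ ‖P ((stdOrthonormalBasis ℂ E) i)‖ * (‖X‖ * ‖P ((stdOrthonormalBasis ℂ E) i)‖) :=
        mul_le_mul_of_nonneg_left h3 (norm_nonneg _)
    _ = ‖X‖ * ‖P ((stdOrthonormalBasis ℂ E) i)‖ ^ 2 := by ring

theorem IsOProj.tr_eq_re {P : E →L[ℂ] E} (hP : IsOProj P) : tr P = (((tr P).re : ℝ) : ℂ) := by
  conv_lhs => rw [hP.tr_eq]
  rw [hP.tr_eq, Complex.ofReal_re]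

/-- an orthogonal projection whose product with an operator close to `1` is traceless vanishes -/
theorem IsOProj.eq_zero_of_tr_mul_eq_zero {P : E →L[ℂ] E} (hP : IsOProj P) (W : E →L[ℂ] E)
    (hW : ‖(1 : E →L[ℂ] E) - W‖ < 1) (h : tr (P * W) = 0) : P = 0 := by
  apply hP.eq_zero_of_tr_eq_zero
  have h1 : tr P = tr (P * (1 - W)) := by
    have : P * (1 - W) = P - P * W := by rw [mul_sub, mul_one]
    rw [this, tr_sub, h, sub_zero]
  have h2 := hP.norm_tr_mul_le (1 - W)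
  rw [← h1, hP.tr_eq_re, Complex.norm_real, Real.norm_eq_abs,
    abs_of_nonneg hP.tr_re_nonneg, Complex.ofReal_re] at h2
  have h3 : (tr P).re = 0 := by
    by_contra hne
    have hpos : 0 < (tr P).re := lt_of_le_of_ne hP.tr_re_nonneg (Ne.symm hne)
    have : ‖(1 : E →L[ℂ] E) - W‖ * (tr P).re < 1 * (tr P).re :=
      mul_lt_mul_of_pos_right hW hpos
    linarith
  rw [hP.tr_eq_re, h3, Complex.ofReal_zero]

end Proj

end Cfsg.Agent.Helper24.Jordan
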