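import Mathlib
import Cfsg.Prelude.Def_Blocks
import Cfsg.Agent.Lib.Helper24.JordanB
import Cfsg.Agent.Lib.Helper24.CharAbelian

/-!
# Jordan–Frobenius, part C: spectral projections of a unitary action of an abelian group
(helper24)
-/

set_option autoImplicit false
set_option linter.style.haveILetI false
set_option linter.unusedSectionVars false

namespace Cfsg.Agent.Helper24.Jordan

open Cfsg Cfsg.Agent.Helper24
open scoped InnerProductSpace ComplexConjugate

universe u v

section Pythagoras

variable {E : Type v} [NormedAddCommGroup E] [InnerProductSpace ℂ E]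

theorem norm_sq_sum_of_orthogonal {ι : Type*} [DecidableEq ι] (s : Finset ι) (x : ι → E)
    (h : ∀ i ∈ s, ∀ j ∈ s, i ≠ j → ⟪x i, x j⟫_ℂ = 0) :
    ‖∑ i ∈ s, x i‖ ^ 2 = ∑ i ∈ s, ‖x i‖ ^ 2 := by
  induction s using Finset.induction_on with
  | empty => simp
  | insert a s ha ih =>
    rw [Finset.sum_insert ha, Finset.sum_insert ha]
    have h0 : ⟪x a, ∑ i ∈ s, x i⟫_ℂ = 0 := by
      rw [inner_sum]
      apply Finset.sum_eq_zero
      intro j hj
      exact h a (Finset.mem_insert_self a s) j (Finset.mem_insert_of_mem hj)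
        (fun hne => ha (hne ▸ hj))
    have h1 := norm_add_sq_eq_norm_sq_add_norm_sq_of_inner_eq_zero (x a) (∑ i ∈ s, x i) h0
    rw [pow_two, h1, ← pow_two, ← pow_two, ih]
    intro i hi j hj hij
    exact h i (Finset.mem_insert_of_mem hi) j (Finset.mem_insert_of_mem hj) hij

end Pythagoras

section Spec

variable {E : Type v} [NormedAddCommGroup E] [InnerProductSpace ℂ E] [FiniteDimensional ℂ E]
variable {B : Type u} [Group B] [Fintype B] (U : B →* (E →L[ℂ] E))

/-- the "spectral projection" attached to a function on the group -/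
noncomputable def specProj (f : B → ℂ) : E →L[ℂ] E :=
  (Nat.card B : ℂ)⁻¹ • ∑ b : B, conj (f b) • U b

theorem card_ne_zero' : (Nat.card B : ℂ) ≠ 0 := by
  exact_mod_cast (Nat.card_pos (α := B)).ne'

/-- the character of the action -/
noncomputable def chi (b : B) : ℂ := tr (U b)

theorem tr_specProj (f : B → ℂ) : tr (specProj U f) = classInner (chi U) f := by
  unfold specProj classInner chi
  rw [tr_smul, tr_sum]
  congr 1
  apply Finset.sum_congr rfl
  intro b _
  rw [tr_smul, mul_comm]

variable {f : B → ℂ} (hf1 : f 1 = 1) (hfm : ∀ a b, f (a * b) = f a * f b)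
  (hfi : ∀ b, f b⁻¹ = conj (f b))

include hfm hfi in
theorem U_mul_specProj (b : B) : U b * specProj U f = f b • specProj U f := by
  unfold specProj
  have h1 : U b * ∑ c : B, conj (f c) • U c = f b • ∑ c : B, conj (f c) • U c := by
    rw [Finset.mul_sum, Finset.smul_sum]
    rw [← Equiv.sum_comp (Equiv.mulLeft b⁻¹) (fun c => U b * conj (f c) • U c)]
    apply Finset.sum_congr rfl
    intro c _
    rw [Equiv.coe_mulLeft, mul_smul_comm, ← map_mul, smul_smul, hfm, hfi, map_mul,
      Complex.conj_conj, mul_inv_cancel_left]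
  rw [mul_smul_comm, h1, smul_comm]

variable (hU : ∀ b, ContinuousLinearMap.adjoint (U b) = U b⁻¹)

include hfi hU in
theorem adjoint_specProj : ContinuousLinearMap.adjoint (specProj U f) = specProj U f := by
  unfold specProj
  rw [map_smulₛₗ, map_sum]
  have h1 : (starRingEnd ℂ) ((Nat.card B : ℂ)⁻¹) = (Nat.card B : ℂ)⁻¹ := by
    rw [map_inv₀, Complex.conj_natCast]
  rw [h1]
  congr 1
  rw [← Equiv.sum_comp (Equiv.inv B) (fun c => conj (f c) • U c)]
  apply Finset.sum_congr rfl
  intro c _
  rw [map_smulₛₗ, hU, Equiv.inv_apply, hfi, Complex.conj_conj]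

end Spec

section AbSpec

variable {E : Type v} [NormedAddCommGroup E] [InnerProductSpace ℂ E] [FiniteDimensional ℂ E]
variable {B : Type u} [Group B] [Fintype B] (U : B →* (E →L[ℂ] E))
variable (hB : ∀ a b : B, a * b = b * a)
variable (hU : ∀ b, ContinuousLinearMap.adjoint (U b) = U b⁻¹)

/-- the action as a representation -/
noncomputable def toRep : Representation ℂ B E where
  toFun b := (U b : E →ₗ[ℂ] E)
  map_one' := by rw [map_one]; rfl
  map_mul' a b := by rw [map_mul]; rfl

theorem isCharacter_chi : IsCharacter B (chi U) := isCharacter_of_rep (toRep U)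

include hB in
theorem irr_one (l : IrrCharacter B) : (l : B → ℂ) 1 = 1 := by
  letI : Fintype (IrrCharacter B) := irrFintype
  exact (charDegree_eq_one_iff l.2).mp (charDegree_eq_one_of_comm hB l.2)

include hB in
theorem irr_mul (l : IrrCharacter B) (a b : B) :
    (l : B → ℂ) (a * b) = (l : B → ℂ) a * (l : B → ℂ) b :=
  char_mul_of_degree_one (isCharacter_of_isIrrCharacter l.2) (irr_one hB l) a b

theorem irr_inv' (l : IrrCharacter B) (b : B) : (l : B → ℂ) b⁻¹ = conj ((l : B → ℂ) b) :=
  irr_inv (isCharacter_of_isIrrCharacter l.2) b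

include hB in
theorem norm_irr (l : IrrCharacter B) (b : B) : ‖(l : B → ℂ) b‖ = 1 := by
  have h1 : (l : B → ℂ) b * conj ((l : B → ℂ) b) = 1 := by
    rw [← irr_inv', ← irr_mul hB, mul_inv_cancel, irr_one hB]
  rw [Complex.mul_conj] at h1
  have h2 : Complex.normSq ((l : B → ℂ) b) = 1 := by exact_mod_cast h1
  rw [Complex.normSq_eq_norm_sq] at h2
  have h3 : 0 ≤ ‖(l : B → ℂ) b‖ := norm_nonneg _
  nlinarith

include hB in
theorem specProj_mul_specProj (l m : IrrCharacter B) :
    specProj U (l : B → ℂ) * specProj U (m : B → ℂ) =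
      classInner (m : B → ℂ) (l : B → ℂ) • specProj U (m : B → ℂ) := by
  have h1 : ∀ b, U b * specProj U (m : B → ℂ) = (m : B → ℂ) b • specProj U (m : B → ℂ) :=
    U_mul_specProj U (irr_mul hB m) (irr_inv' m)
  conv_lhs => rw [specProj]
  rw [smul_mul_assoc, Finset.sum_mul]
  have h2 : ∀ b : B, (conj ((l : B → ℂ) b) • U b) * specProj U (m : B → ℂ) =
      ((m : B → ℂ) b * conj ((l : B → ℂ) b)) • specProj U (m : B → ℂ) := by
    intro b
    rw [smul_mul_assoc, h1, smul_smul, mul_comm]
  simp only [h2]
  rw [← Finset.sum_smul, smul_smul]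
  rfl

include hB in
theorem specProj_mul_self (l : IrrCharacter B) :
    specProj U (l : B → ℂ) * specProj U (l : B → ℂ) = specProj U (l : B → ℂ) := by
  letI : Fintype (IrrCharacter B) := irrFintype
  rw [specProj_mul_specProj U hB, irr_orthogonality l.2 l.2, if_pos rfl, one_smul]

include hB in
theorem specProj_mul_of_ne {l m : IrrCharacter B} (h : l ≠ m) :
    specProj U (l : B → ℂ) * specProj U (m : B → ℂ) = 0 := by
  letI : Fintype (IrrCharacter B) := irrFintype
  rw [specProj_mul_specProj U hB, irr_orthogonality m.2 l.2, if_neg, zero_smul]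
  intro h'
  exact h (Subtype.ext h'.symm)

include hB hU in
theorem isOProj_specProj (l : IrrCharacter B) : IsOProj (specProj U (l : B → ℂ)) :=
  ⟨specProj_mul_self U hB l, adjoint_specProj U (irr_inv' l) hU⟩

include hB in
theorem sum_specProj [Fintype (IrrCharacter B)] :
    ∑ l : IrrCharacter B, specProj U (l : B → ℂ) = 1 := by
  classical
  unfold specProj
  rw [← Finset.smul_sum, Finset.sum_comm]
  have h1 : ∀ b : B, ∑ l : IrrCharacter B, conj ((l : B → ℂ) b) • U b =
      (if b = 1 then (Nat.card B : ℂ) else 0) • U b := by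
    intro b
    rw [← Finset.sum_smul]
    congr 1
    have h2 := second_orthogonality (G := B) 1 b
    have h3 : ∑ l : IrrCharacter B, conj ((l : B → ℂ) b) =
        ∑ l : IrrCharacter B, (l : B → ℂ) 1 * conj ((l : B → ℂ) b) := by
      apply Finset.sum_congr rfl
      intro l _
      rw [irr_one hB, one_mul]
    rw [h3, h2]
    by_cases hb : b = 1
    · subst hb
      rw [if_pos rfl]
      congr 1
      rw [Nat.card_eq_fintype_card, Nat.card_eq_fintype_card]
      apply Fintype.card_congr
      exact Equiv.subtypeUnivEquiv (fun y => by simp)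
    · rw [if_neg hb]
      have : IsEmpty {y : B // y * b * y⁻¹ = 1} := by
        constructor
        rintro ⟨y, hy⟩
        apply hb
        have : b = y⁻¹ * (y * b * y⁻¹) * y := by group
        rw [this, hy]
        group
      rw [Nat.card_of_isEmpty, Nat.cast_zero]
  simp only [h1]
  rw [Finset.sum_eq_single (1 : B)]
  · rw [if_pos rfl, map_one, smul_smul, inv_mul_cancel₀ card_ne_zero', one_smul]
  · intro b _ hb
    rw [if_neg hb, zero_smul]
  · intro h
    exact absurd (Finset.mem_univ _) h

include hB in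
theorem U_eq_sum [Fintype (IrrCharacter B)] (b : B) :
    U b = ∑ l : IrrCharacter B, (l : B → ℂ) b • specProj U (l : B → ℂ) := by
  have h1 : U b = U b * ∑ l : IrrCharacter B, specProj U (l : B → ℂ) := by
    rw [sum_specProj U hB, mul_one]
  rw [h1, Finset.mul_sum]
  apply Finset.sum_congr rfl
  intro l _
  exact U_mul_specProj U (irr_mul hB l) (irr_inv' l) b

include hB hU in
/-- the norm of a combination of the spectral projections -/
theorem norm_sum_smul_specProj_le [Fintype (IrrCharacter B)] (a : IrrCharacter B → ℂ) (r : ℝ)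
    (hr : 0 ≤ r) (h : ∀ l : IrrCharacter B, specProj U (l : B → ℂ) ≠ 0 → ‖a l‖ ≤ r) :
    ‖∑ l : IrrCharacter B, a l • specProj U (l : B → ℂ)‖ ≤ r := by
  classical
  apply ContinuousLinearMap.opNorm_le_bound _ hr
  intro v
  have horth : ∀ (c : IrrCharacter B → ℂ), ∀ i ∈ (Finset.univ : Finset (IrrCharacter B)),
      ∀ j ∈ (Finset.univ : Finset (IrrCharacter B)), i ≠ j →
      ⟪(c i • specProj U (i : B → ℂ)) v, (c j • specProj U (j : B → ℂ)) v⟫_ℂ = 0 := by
    intro c i _ j _ hij
    rw [smul_apply, smul_apply, inner_smul_left,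
      inner_smul_right, (isOProj_specProj U hB hU i).inner_eq]
    have : specProj U (i : B → ℂ) (specProj U (j : B → ℂ) v) = 0 := by
      have := congrArg (fun T : E →L[ℂ] E => T v) (specProj_mul_of_ne U hB hij)
      exact this
    rw [this, inner_zero_right, mul_zero, mul_zero]
  have h1 : ‖(∑ l : IrrCharacter B, a l • specProj U (l : B → ℂ)) v‖ ^ 2 =
      ∑ l : IrrCharacter B, ‖a l‖ ^ 2 * ‖specProj U (l : B → ℂ) v‖ ^ 2 := by
    rw [sum_apply, norm_sq_sum_of_orthogonal _ _ (horth a)]
    apply Finset.sum_congr rfl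
    intro l _
    rw [smul_apply, norm_smul, mul_pow]
  have h2 : ‖v‖ ^ 2 = ∑ l : IrrCharacter B, ‖specProj U (l : B → ℂ) v‖ ^ 2 := by
    have h3 : v = (∑ l : IrrCharacter B, (1 : ℂ) • specProj U (l : B → ℂ)) v := by
      simp only [one_smul]
      rw [sum_specProj U hB]
      rfl
    conv_lhs => rw [h3]
    rw [sum_apply, norm_sq_sum_of_orthogonal _ _ (horth (fun _ => 1))]
    apply Finset.sum_congr rfl
    intro l _
    rw [one_smul]
  have h4 : ‖(∑ l : IrrCharacter B, a l • specProj U (l : B → ℂ)) v‖ ^ 2 ≤ (r * ‖v‖) ^ 2 := by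
    rw [h1, mul_pow, h2, Finset.mul_sum]
    apply Finset.sum_le_sum
    intro l _
    by_cases hl : specProj U (l : B → ℂ) = 0
    · rw [hl]
      simp
    · have := h l hl
      have h5 : ‖a l‖ ^ 2 ≤ r ^ 2 := pow_le_pow_left₀ (norm_nonneg _) this 2
      exact mul_le_mul_of_nonneg_right h5 (by positivity)
  exact (sq_le_sq₀ (norm_nonneg _) (by positivity)).mp h4

include hB hU in
/-- at most `dim E` spectral projections are nonzero -/
theorem card_support_le [Fintype (IrrCharacter B)]
    [DecidablePred (fun l : IrrCharacter B => specProj U (l : B → ℂ) ≠ 0)] :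
    (Finset.univ.filter (fun l : IrrCharacter B => specProj U (l : B → ℂ) ≠ 0)).card ≤
      Module.finrank ℂ E := by
  classical
  have hnat : ∀ l : IrrCharacter B, ∃ n : ℕ, tr (specProj U (l : B → ℂ)) = n := by
    intro l
    rw [tr_specProj]
    exact classInner_char_nat (isCharacter_chi U) (isCharacter_of_isIrrCharacter l.2)
  choose n hn using hnat
  have h1 : ∑ l : IrrCharacter B, n l = Module.finrank ℂ E := by
    have h2 : ((∑ l : IrrCharacter B, n l : ℕ) : ℂ) = (Module.finrank ℂ E : ℂ) := by
      rw [← tr_one (E := E), ← sum_specProj U hB, tr_sum, Nat.cast_sum]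
      exact Finset.sum_congr rfl fun l _ => (hn l).symm
    exact_mod_cast h2
  rw [← h1, Finset.card_eq_sum_ones]
  calc ∑ _l ∈ Finset.univ.filter (fun l : IrrCharacter B => specProj U (l : B → ℂ) ≠ 0), 1
      ≤ ∑ l ∈ Finset.univ.filter (fun l : IrrCharacter B => specProj U (l : B → ℂ) ≠ 0), n l := by
        apply Finset.sum_le_sum
        intro l hl
        rw [Finset.mem_filter] at hl
        by_contra hlt
        have h0 : n l = 0 := by omega
        apply hl.2
        apply (isOProj_specProj U hB hU l).eq_zero_of_tr_eq_zero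
        rw [hn l, h0, Nat.cast_zero]
    _ ≤ ∑ l : IrrCharacter B, n l :=
        Finset.sum_le_sum_of_subset (Finset.filter_subset _ _)

end AbSpec

end Cfsg.Agent.Helper24.Jordan
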