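import Mathlib
import Cfsg.Prelude.Def_Blocks
import Cfsg.Agent.Lib.Helper24.JordanC

/-!
# Jordan–Frobenius, part D: elements near the identity commute (helper24)

`U` a faithful unitary action of the finite group `G`.  The elements `g` with
`‖(√3/2) - U g‖ < 1/2` (all eigenvalues within 30° of `1`) commute pairwise.
-/

set_option autoImplicit false
set_option linter.style.haveILetI false
set_option linter.unusedSectionVars false

namespace Cfsg.Agent.Helper24.Jordan

open Cfsg Cfsg.Agent.Helper24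
open scoped InnerProductSpace ComplexConjugate

universe u v

section Near

variable {E : Type v} [NormedAddCommGroup E] [InnerProductSpace ℂ E] [FiniteDimensional ℂ E]
variable {G : Type u} [Group G] (U : G →* (E →L[ℂ] E))
variable (hU : ∀ g, ContinuousLinearMap.adjoint (U g) = U g⁻¹)

include hU in
theorem U_mem_unitary (g : G) : U g ∈ unitary (E →L[ℂ] E) := by
  rw [Unitary.mem_iff, ContinuousLinearMap.star_eq_adjoint, hU, ← map_mul, ← map_mul,
    inv_mul_cancel, mul_inv_cancel, map_one]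
  exact ⟨rfl, rfl⟩

include hU in
theorem norm_U_mul (g : G) (X : E →L[ℂ] E) : ‖U g * X‖ = ‖X‖ :=
  CStarRing.norm_mem_unitary_mul X (U_mem_unitary U hU g)

include hU in
theorem norm_mul_U (g : G) (X : E →L[ℂ] E) : ‖X * U g‖ = ‖X‖ :=
  CStarRing.norm_mul_mem_unitary X (U_mem_unitary U hU g)

/-- the real number `√3/2` as a complex number -/
noncomputable def c0 : ℂ := ((Real.sqrt 3 / 2 : ℝ) : ℂ)

/-- distance from `U g` to the scalar `√3/2` -/
noncomputable def rr (g : G) : ℝ := ‖c0 • (1 : E →L[ℂ] E) - U g‖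

/-- distance from `U g` to `1` -/
noncomputable def dd (g : G) : ℝ := ‖(1 : E →L[ℂ] E) - U g‖

theorem conj_c0 : conj c0 = c0 := by
  unfold c0
  rw [Complex.conj_ofReal]

include hU in
theorem rr_inv (g : G) : rr U g⁻¹ = rr U g := by
  unfold rr
  rw [← hU, ← ContinuousLinearMap.adjoint.norm_map (c0 • (1 : E →L[ℂ] E) - U g), map_sub,
    map_smulₛₗ, conj_c0]
  congr 3
  rw [← ContinuousLinearMap.star_eq_adjoint, star_one]

include hU in
theorem dd_inv (g : G) : dd U g⁻¹ = dd U g := by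
  unfold dd
  rw [← hU, ← ContinuousLinearMap.adjoint.norm_map ((1 : E →L[ℂ] E) - U g), map_sub]
  congr 2
  rw [← ContinuousLinearMap.star_eq_adjoint, star_one]

include hU in
theorem rr_conj (x g : G) : rr U (x * g * x⁻¹) = rr U g := by
  unfold rr
  have h1 : c0 • (1 : E →L[ℂ] E) - U (x * g * x⁻¹) =
      U x * (c0 • (1 : E →L[ℂ] E) - U g) * U x⁻¹ := by
    have e1 : U x * U x⁻¹ = 1 := by rw [← map_mul, mul_inv_cancel, map_one]
    rw [mul_sub, sub_mul, map_mul, map_mul, mul_smul_comm, mul_one, smul_mul_assoc, e1]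
  rw [h1, norm_mul_U U hU, norm_U_mul U hU]

include hU in
/-- the commutator estimate -/
theorem dd_comm_le (g h : G) : dd U (g⁻¹ * h⁻¹ * g * h) ≤ 2 * rr U g * dd U h := by
  unfold dd rr
  have h1 : (1 : E →L[ℂ] E) - U (g⁻¹ * h⁻¹ * g * h) =
      U (g⁻¹ * h⁻¹) * (U h * U g - U g * U h) := by
    rw [mul_sub, ← map_mul, ← map_mul, ← map_mul, ← map_mul]
    congr 2
    · rw [← map_one U]
      congr 1
      group
    · group
  have h2 : U h * U g - U g * U h =
      ((1 : E →L[ℂ] E) - U h) * (c0 • (1 : E →L[ℂ] E) - U g) -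
        (c0 • (1 : E →L[ℂ] E) - U g) * ((1 : E →L[ℂ] E) - U h) := by
    simp only [mul_sub, sub_mul, mul_one, one_mul, smul_mul_assoc, mul_smul_comm, smul_sub]
    abel
  rw [h1, norm_U_mul U hU, h2]
  refine (norm_sub_le _ _).trans ?_
  have h3 := norm_mul_le ((1 : E →L[ℂ] E) - U h) (c0 • (1 : E →L[ℂ] E) - U g)
  have h4 := norm_mul_le (c0 • (1 : E →L[ℂ] E) - U g) ((1 : E →L[ℂ] E) - U h)
  nlinarith [norm_nonneg ((1 : E →L[ℂ] E) - U h), norm_nonneg (c0 • (1 : E →L[ℂ] E) - U g)]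

theorem c0_re_bounds : (1 : ℝ) / 2 < Real.sqrt 3 / 2 ∧ Real.sqrt 3 / 2 ≤ 1 := by
  have h1 : (1 : ℝ) < Real.sqrt 3 := by
    rw [show (1 : ℝ) = Real.sqrt 1 by simp]
    exact Real.sqrt_lt_sqrt (by norm_num) (by norm_num)
  have h2 : Real.sqrt 3 ≤ 2 := by
    rw [show (2 : ℝ) = Real.sqrt 4 by
      rw [show (4 : ℝ) = 2 ^ 2 by norm_num, Real.sqrt_sq (by norm_num)]]
    exact Real.sqrt_le_sqrt (by norm_num)
  constructor <;> linarith

theorem dd_lt_one_of_rr (g : G) (h : rr U g < 1 / 2) : dd U g < 1 := by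
  unfold dd
  unfold rr at h
  have h1 : (1 : E →L[ℂ] E) - U g =
      ((1 : ℂ) - c0) • (1 : E →L[ℂ] E) + (c0 • (1 : E →L[ℂ] E) - U g) := by
    rw [sub_smul, one_smul]
    abel
  rw [h1]
  refine (norm_add_le _ _).trans_lt ?_
  have h2 : ‖((1 : ℂ) - c0) • (1 : E →L[ℂ] E)‖ ≤ 1 - Real.sqrt 3 / 2 := by
    rw [norm_smul]
    have h3 : ‖(1 : ℂ) - c0‖ = 1 - Real.sqrt 3 / 2 := by
      unfold c0
      rw [show ((1 : ℂ) - ((Real.sqrt 3 / 2 : ℝ) : ℂ)) = ((1 - Real.sqrt 3 / 2 : ℝ) : ℂ) by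
        push_cast; ring]
      rw [Complex.norm_real, Real.norm_eq_abs, abs_of_nonneg]
      linarith [c0_re_bounds.2]
    rw [h3]
    have h4 : ‖(1 : E →L[ℂ] E)‖ ≤ 1 := ContinuousLinearMap.norm_id_le
    have h5 : 0 ≤ 1 - Real.sqrt 3 / 2 := by linarith [c0_re_bounds.2]
    calc (1 - Real.sqrt 3 / 2) * ‖(1 : E →L[ℂ] E)‖ ≤ (1 - Real.sqrt 3 / 2) * 1 :=
          mul_le_mul_of_nonneg_left h4 h5
      _ = 1 - Real.sqrt 3 / 2 := mul_one _
  linarith [c0_re_bounds.1]

theorem dd_eq_zero_iff (hinj : Function.Injective U) (g : G) : dd U g = 0 ↔ g = 1 := by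
  unfold dd
  rw [norm_eq_zero, sub_eq_zero]
  constructor
  · intro h
    apply hinj
    rw [map_one, ← h]
  · rintro rfl
    rw [map_one]

theorem chi_conj (x g : G) : chi U (x * g * x⁻¹) = chi U g := by
  unfold chi
  rw [map_mul, map_mul, mul_assoc, tr_mul_comm, mul_assoc, ← map_mul, inv_mul_cancel, map_one,
    mul_one]

end Near

section HalfPlane

variable {E : Type v} [NormedAddCommGroup E] [InnerProductSpace ℂ E] [FiniteDimensional ℂ E]
variable {G : Type u} [Group G] [Fintype G] (U : G →* (E →L[ℂ] E))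
variable (hU : ∀ g, ContinuousLinearMap.adjoint (U g) = U g⁻¹)

theorem conj_pow_identity (x y : G) (hxz : x * (x⁻¹ * y⁻¹ * x * y) = (x⁻¹ * y⁻¹ * x * y) * x)
    (k : ℕ) : x⁻¹ ^ k * y⁻¹ * x ^ k = (x⁻¹ * y⁻¹ * x * y) ^ k * y⁻¹ := by
  induction k with
  | zero => simp
  | succ k ih =>
    obtain ⟨z, hz⟩ : ∃ z, z = x⁻¹ * y⁻¹ * x * y := ⟨_, rfl⟩
    rw [← hz] at hxz ih ⊢
    have h1 : x⁻¹ * z ^ k = z ^ k * x⁻¹ := by
      have hc : Commute x z := hxz
      exact (hc.inv_left.pow_right k).eq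
    have h2 : x⁻¹ * y⁻¹ * x = z * y⁻¹ := by rw [hz]; group
    calc x⁻¹ ^ (k + 1) * y⁻¹ * x ^ (k + 1) = x⁻¹ * (x⁻¹ ^ k * y⁻¹ * x ^ k) * x := by
          rw [pow_succ', pow_succ]; group
      _ = x⁻¹ * (z ^ k * y⁻¹) * x := by rw [ih]
      _ = (x⁻¹ * z ^ k) * y⁻¹ * x := by group
      _ = z ^ k * (x⁻¹ * y⁻¹ * x) := by rw [h1]; group
      _ = z ^ (k + 1) * y⁻¹ := by rw [h2, pow_succ]; group

include hU in
/-- **Frobenius' lemma**: if `x` commutes with `[x, y]` and `U y` is within `1` of the identity,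
then `[x, y] = 1`. -/
theorem comm_eq_one_of_commute (hinj : Function.Injective U) (x y : G)
    (hxz : x * (x⁻¹ * y⁻¹ * x * y) = (x⁻¹ * y⁻¹ * x * y) * x) (hy : dd U y < 1) :
    x⁻¹ * y⁻¹ * x * y = 1 := by
  classical
  obtain ⟨z, hz⟩ : ∃ z, z = x⁻¹ * y⁻¹ * x * y := ⟨_, rfl⟩
  rw [← hz]
  have hpow := conj_pow_identity x y hxz
  rw [← hz] at hpow
  -- the cyclic group generated by `z`
  obtain ⟨B, hBdef⟩ : ∃ B : Subgroup G, B = Subgroup.zpowers z := ⟨_, rfl⟩
  letI : Fintype B := Fintype.ofFinite B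
  letI : Fintype (IrrCharacter B) := irrFintype
  have hB : ∀ a b : B, a * b = b * a := by
    intro a b
    apply Subtype.ext
    have ha : (a : G) ∈ Subgroup.zpowers z := hBdef.le a.2
    have hb : (b : G) ∈ Subgroup.zpowers z := hBdef.le b.2
    rw [Subgroup.mem_zpowers_iff] at ha hb
    obtain ⟨i, hi⟩ := ha
    obtain ⟨j, hj⟩ := hb
    rw [Subgroup.coe_mul, Subgroup.coe_mul, ← hi, ← hj]
    exact ((Commute.refl z).zpow_zpow i j).eq
  obtain ⟨UB, hUBdef⟩ : ∃ UB : B →* (E →L[ℂ] E), UB = U.comp B.subtype := ⟨_, rfl⟩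
  have hUB : ∀ b, ContinuousLinearMap.adjoint (UB b) = UB b⁻¹ := by
    intro b
    rw [hUBdef]
    exact hU b
  -- the character is constant on `B y⁻¹`
  have hchi : ∀ b : B, chi U ((b : G) * y⁻¹) = chi U y⁻¹ := by
    intro b
    have hb : (b : G) ∈ Subgroup.zpowers z := hBdef.le b.2
    rw [← mem_powers_iff_mem_zpowers, Submonoid.mem_powers_iff] at hb
    obtain ⟨k, hk⟩ := hb
    rw [← hk, ← hpow k]
    have : x⁻¹ ^ k * y⁻¹ * x ^ k = x⁻¹ ^ k * y⁻¹ * (x⁻¹ ^ k)⁻¹ := by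
      rw [inv_pow, inv_inv]
    rw [this, chi_conj]
  -- the nonprincipal projections vanish
  have hW : ‖(1 : E →L[ℂ] E) - U y⁻¹‖ < 1 := by
    have := dd_inv U hU y
    unfold dd at this hy
    rw [this]
    exact hy
  have hvanish : ∀ l : IrrCharacter B, l ≠ principalChar B → specProj UB (l : B → ℂ) = 0 := by
    intro l hl
    apply (isOProj_specProj UB hB hUB l).eq_zero_of_tr_mul_eq_zero (U y⁻¹) hW
    unfold specProj
    rw [smul_mul_assoc, tr_smul, Finset.sum_mul, tr_sum]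
    have h1 : ∀ b : B, tr (conj ((l : B → ℂ) b) • UB b * U y⁻¹) =
        conj ((l : B → ℂ) b) * chi U y⁻¹ := by
      intro b
      rw [smul_mul_assoc, tr_smul]
      congr 1
      rw [hUBdef]
      show tr (U (b : G) * U y⁻¹) = _
      rw [← map_mul]
      exact hchi b
    simp only [h1]
    rw [← Finset.sum_mul]
    have h2 := irr_orthogonality (principalChar B).2 l.2
    rw [if_neg (fun h => hl (Subtype.ext h.symm))] at h2
    unfold classInner at h2
    have h3 : ∑ b : B, conj ((l : B → ℂ) b) = 0 := by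
      have h4 : ∑ g : B, ((principalChar B : IrrCharacter B) : B → ℂ) g * conj ((l : B → ℂ) g) =
          ∑ b : B, conj ((l : B → ℂ) b) := by
        apply Finset.sum_congr rfl
        intro b _
        show (1 : ℂ) * _ = _
        rw [one_mul]
      rw [h4] at h2
      rcases mul_eq_zero.mp h2 with h5 | h5
      · exact absurd (inv_eq_zero.mp h5) card_ne_zero'
      · exact h5
    rw [h3, zero_mul, mul_zero]
  -- so `U z = 1`
  have hsum := sum_specProj UB hB
  rw [Finset.sum_eq_single (principalChar B)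
    (fun l _ hl => hvanish l hl) (fun h => absurd (Finset.mem_univ _) h)] at hsum
  have hzB : z ∈ B := by rw [hBdef]; exact Subgroup.mem_zpowers z
  have hUz := U_eq_sum UB hB ⟨z, hzB⟩
  rw [Finset.sum_eq_single (principalChar B)
    (fun l _ hl => by rw [hvanish l hl, smul_zero]) (fun h => absurd (Finset.mem_univ _) h),
    hsum] at hUz
  have h5 : U z = 1 := by
    have : UB ⟨z, hzB⟩ = U z := by rw [hUBdef]; rfl
    rw [← this, hUz]
    show (1 : ℂ) • (1 : E →L[ℂ] E) = 1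
    rw [one_smul]
  apply hinj
  rw [h5, map_one]

end HalfPlane

end Cfsg.Agent.Helper24.Jordan
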