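import Mathlib
import Cfsg.Prelude.Def_Blocks
import Cfsg.Agent.Lib.Helper24.JordanD

/-!
# Jordan–Frobenius, part E: the abelian normal subgroup (helper24)
-/

set_option autoImplicit false
set_option linter.style.haveILetI false
set_option linter.unusedSectionVars false

namespace Cfsg.Agent.Helper24.Jordan

open Cfsg Cfsg.Agent.Helper24
open scoped InnerProductSpace ComplexConjugate

universe u v

section Main

variable {E : Type v} [NormedAddCommGroup E] [InnerProductSpace ℂ E] [FiniteDimensional ℂ E]
variable {G : Type u} [Group G] [Fintype G] (U : G →* (E →L[ℂ] E))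
variable (hU : ∀ g, ContinuousLinearMap.adjoint (U g) = U g⁻¹)

/-- the iterated commutators `[g, [g, ..., [g, h]]]` -/
def commSeq (g h : G) : ℕ → G
  | 0 => h
  | k + 1 => g⁻¹ * (commSeq g h k)⁻¹ * g * commSeq g h k

include hU in
theorem near_commute (hinj : Function.Injective U) (g h : G) (hg : rr U g < 1 / 2)
    (hh : rr U h < 1 / 2) : g * h = h * g := by
  have hstep : ∀ k, dd U (commSeq g h (k + 1)) ≤ 2 * rr U g * dd U (commSeq g h k) :=
    fun k => dd_comm_le U hU g (commSeq g h k)
  have hrr0 : 0 ≤ rr U g := norm_nonneg _
  have hdd0 : ∀ x : G, 0 ≤ dd U x := fun x => norm_nonneg _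
  have hle : ∀ k, dd U (commSeq g h k) ≤ dd U h := by
    intro k
    induction k with
    | zero => exact le_refl _
    | succ k ih =>
      refine (hstep k).trans ?_
      have : 2 * rr U g * dd U (commSeq g h k) ≤ 1 * dd U (commSeq g h k) :=
        mul_le_mul_of_nonneg_right (by linarith) (hdd0 _)
      linarith
  have hlt1 : ∀ k, dd U (commSeq g h k) < 1 :=
    fun k => (hle k).trans_lt (dd_lt_one_of_rr U h hh)
  -- some term of the sequence is trivial
  have hex : ∃ k, commSeq g h k = 1 := by
    by_contra hne
    push Not at hne
    have hpos : ∀ k, 0 < dd U (commSeq g h k) := by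
      intro k
      exact lt_of_le_of_ne (hdd0 _) (fun h0 => hne k ((dd_eq_zero_iff U hinj _).mp h0.symm))
    have hanti : StrictAnti (fun k => dd U (commSeq g h k)) := by
      apply strictAnti_nat_of_succ_lt
      intro k
      refine (hstep k).trans_lt ?_
      have : 2 * rr U g * dd U (commSeq g h k) < 1 * dd U (commSeq g h k) :=
        mul_lt_mul_of_pos_right (by linarith) (hpos k)
      linarith
    have hinj' : Function.Injective (fun k => commSeq g h k) := by
      intro a b hab
      apply hanti.injective
      show dd U (commSeq g h a) = dd U (commSeq g h b)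
      have : commSeq g h a = commSeq g h b := hab
      rw [this]
    exact not_injective_infinite_finite _ hinj'
  obtain ⟨k, hk⟩ := hex
  -- descend
  have hdesc : ∀ k, commSeq g h (k + 1) = 1 → commSeq g h 1 = 1 := by
    intro k
    induction k with
    | zero => exact id
    | succ k ih =>
      intro h2
      apply ih
      have h3 : g * commSeq g h (k + 1) = commSeq g h (k + 1) * g := by
        have h4 : g⁻¹ * (commSeq g h (k + 1))⁻¹ * g * commSeq g h (k + 1) = 1 := h2
        have h5 : g * commSeq g h (k + 1) =
            commSeq g h (k + 1) * g * (g⁻¹ * (commSeq g h (k + 1))⁻¹ * g * commSeq g h (k + 1)) := by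
          group
        rw [h5, h4, mul_one]
      exact comm_eq_one_of_commute U hU hinj g (commSeq g h k) h3 (hlt1 k)
  cases k with
  | zero =>
    have : h = 1 := hk
    rw [this, mul_one, one_mul]
  | succ k =>
    have h1 : g⁻¹ * h⁻¹ * g * h = 1 := hdesc k hk
    have h2 : g * h = h * g * (g⁻¹ * h⁻¹ * g * h) := by group
    rw [h2, h1, mul_one]

/-- the set of elements near the identity -/
def nearSet : Set G := {g | rr U g < 1 / 2}

/-- the subgroup generated by the elements near the identity -/
def nearSubgroup : Subgroup G := Subgroup.closure (nearSet U)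

include hU in
theorem nearSubgroup_comm (hinj : Function.Injective U) :
    ∀ a ∈ nearSubgroup U, ∀ b ∈ nearSubgroup U, a * b = b * a := by
  have h1 : nearSubgroup U ≤ Subgroup.centralizer (nearSet U) := by
    unfold nearSubgroup
    rw [Subgroup.closure_le]
    intro g hg
    rw [SetLike.mem_coe, Subgroup.mem_centralizer_iff]
    intro h hh
    exact near_commute U hU hinj h g hh hg
  have h2 : nearSubgroup U ≤ Subgroup.centralizer (nearSubgroup U : Set G) := by
    unfold nearSubgroup
    rw [Subgroup.closure_le]
    intro g hg
    rw [SetLike.mem_coe, Subgroup.mem_centralizer_iff]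
    intro h hh
    have := h1 hh
    rw [Subgroup.mem_centralizer_iff] at this
    exact (this g hg).symm
  intro a ha b hb
  have := h2 ha
  rw [Subgroup.mem_centralizer_iff] at this
  exact (this b hb).symm

include hU in
theorem nearSubgroup_normal : (nearSubgroup U).Normal := by
  constructor
  intro a ha x
  unfold nearSubgroup at ha ⊢
  induction ha using Subgroup.closure_induction with
  | mem y hy =>
    apply Subgroup.subset_closure
    show rr U (x * y * x⁻¹) < 1 / 2
    rw [rr_conj U hU]
    exact hy
  | one => simp
  | mul y z _ _ hy hz =>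
    have : x * (y * z) * x⁻¹ = (x * y * x⁻¹) * (x * z * x⁻¹) := by group
    rw [this]
    exact Subgroup.mul_mem _ hy hz
  | inv y _ hy =>
    have : x * y⁻¹ * x⁻¹ = (x * y * x⁻¹)⁻¹ := by group
    rw [this]
    exact Subgroup.inv_mem _ hy

end Main

end Cfsg.Agent.Helper24.Jordan
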