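import Mathlib
import Cfsg.Prelude.Def_Blocks
import Cfsg.Agent.Lib.Helper24.JordanE

/-!
# Jordan–Frobenius, part F: twelve sectors of the circle, and the bound `12 ^ n` (helper24)
-/

set_option autoImplicit false
set_option linter.style.haveILetI false
set_option linter.unusedSectionVars false

namespace Cfsg.Agent.Helper24.Jordan

open Cfsg Cfsg.Agent.Helper24
open scoped InnerProductSpace ComplexConjugate

universe u v

section Sector

/-- the scaled argument, in `(0, 12]` -/
noncomputable def scaledArg (z : ℂ) : ℝ := (Complex.arg z + Real.pi) * (6 / Real.pi)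

theorem scaledArg_pos (z : ℂ) : 0 < scaledArg z := by
  unfold scaledArg
  have := Complex.neg_pi_lt_arg z
  have hpi := Real.pi_pos
  apply mul_pos (by linarith) (by positivity)

theorem scaledArg_le (z : ℂ) : scaledArg z ≤ 12 := by
  unfold scaledArg
  have := Complex.arg_le_pi z
  have hpi := Real.pi_pos
  calc (Complex.arg z + Real.pi) * (6 / Real.pi) ≤ (Real.pi + Real.pi) * (6 / Real.pi) :=
        mul_le_mul_of_nonneg_right (by linarith) (by positivity)
    _ = 12 := by field_simp; ring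

/-- one of twelve sectors of angle 30° -/
noncomputable def sector (z : ℂ) : Fin 12 :=
  ⟨⌈scaledArg z⌉₊ - 1, by
    have h1 : ⌈scaledArg z⌉₊ ≤ 12 := by
      rw [Nat.ceil_le]
      exact_mod_cast scaledArg_le z
    have h2 : 0 < ⌈scaledArg z⌉₊ := Nat.ceil_pos.mpr (scaledArg_pos z)
    omega⟩

theorem abs_arg_sub_lt_of_sector_eq {z w : ℂ} (h : sector z = sector w) :
    |Complex.arg w - Complex.arg z| < Real.pi / 6 := by
  have h1 : ⌈scaledArg z⌉₊ - 1 = ⌈scaledArg w⌉₊ - 1 := congrArg Fin.val h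
  have hz0 : 0 < ⌈scaledArg z⌉₊ := Nat.ceil_pos.mpr (scaledArg_pos z)
  have hw0 : 0 < ⌈scaledArg w⌉₊ := Nat.ceil_pos.mpr (scaledArg_pos w)
  have h2 : ⌈scaledArg z⌉₊ = ⌈scaledArg w⌉₊ := by omega
  have hz1 : scaledArg z ≤ ⌈scaledArg z⌉₊ := Nat.le_ceil _
  have hw1 : scaledArg w ≤ ⌈scaledArg w⌉₊ := Nat.le_ceil _
  have hz2 : (⌈scaledArg z⌉₊ : ℝ) < scaledArg z + 1 := Nat.ceil_lt_add_one (scaledArg_pos z).le
  have hw2 : (⌈scaledArg w⌉₊ : ℝ) < scaledArg w + 1 := Nat.ceil_lt_add_one (scaledArg_pos w).le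
  have h3 : (⌈scaledArg z⌉₊ : ℝ) = ⌈scaledArg w⌉₊ := by exact_mod_cast h2
  have h4 : |scaledArg w - scaledArg z| < 1 := by
    rw [abs_lt]
    constructor <;> linarith
  unfold scaledArg at h4
  have hpi := Real.pi_pos
  have h5 : (Complex.arg w + Real.pi) * (6 / Real.pi) - (Complex.arg z + Real.pi) * (6 / Real.pi) =
      (Complex.arg w - Complex.arg z) * (6 / Real.pi) := by ring
  rw [h5, abs_mul, abs_of_pos (by positivity : (0 : ℝ) < 6 / Real.pi)] at h4
  have h6 : |Complex.arg w - Complex.arg z| * (6 / Real.pi) * (Real.pi / 6) < 1 * (Real.pi / 6) :=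
    mul_lt_mul_of_pos_right h4 (by positivity)
  have h7 : |Complex.arg w - Complex.arg z| * (6 / Real.pi) * (Real.pi / 6) =
      |Complex.arg w - Complex.arg z| := by field_simp
  rw [h7, one_mul] at h6
  exact h6

/-- two unit complex numbers in the same sector have quotient within `1/2` of `√3/2` -/
theorem norm_c0_sub_lt_of_sector_eq {z w : ℂ} (hz : ‖z‖ = 1) (hw : ‖w‖ = 1)
    (h : sector z = sector w) : ‖c0 - conj z * w‖ < 1 / 2 := by
  have hδ := abs_arg_sub_lt_of_sector_eq h
  obtain ⟨δ, hδdef⟩ : ∃ δ : ℝ, δ = Complex.arg w - Complex.arg z := ⟨_, rfl⟩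
  rw [← hδdef] at hδ
  have hz' : z = Complex.exp (Complex.arg z * Complex.I) := by
    have := Complex.norm_mul_exp_arg_mul_I z
    rw [hz, Complex.ofReal_one, one_mul] at this
    exact this.symm
  have hw' : w = Complex.exp (Complex.arg w * Complex.I) := by
    have := Complex.norm_mul_exp_arg_mul_I w
    rw [hw, Complex.ofReal_one, one_mul] at this
    exact this.symm
  have hprod : conj z * w = Complex.exp ((δ : ℂ) * Complex.I) := by
    conv_lhs => rw [hz', hw']
    rw [← Complex.exp_conj, ← Complex.exp_add]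
    congr 1
    rw [map_mul, Complex.conj_ofReal, Complex.conj_I, hδdef]
    push_cast
    ring
  have hcos : Real.sqrt 3 / 2 < Real.cos δ := by
    rw [← Real.cos_pi_div_six, ← Real.cos_abs δ]
    apply Real.cos_lt_cos_of_nonneg_of_le_pi (abs_nonneg _) _ hδ
    linarith [Real.pi_pos]
  have hsq : ‖c0 - conj z * w‖ ^ 2 < (1 / 2) ^ 2 := by
    rw [hprod, ← Complex.normSq_eq_norm_sq, Complex.normSq_apply]
    have hre : (c0 - Complex.exp ((δ : ℂ) * Complex.I)).re = Real.sqrt 3 / 2 - Real.cos δ := by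
      unfold c0
      rw [Complex.sub_re, Complex.ofReal_re, Complex.exp_ofReal_mul_I_re]
    have him : (c0 - Complex.exp ((δ : ℂ) * Complex.I)).im = - Real.sin δ := by
      unfold c0
      rw [Complex.sub_im, Complex.ofReal_im, Complex.exp_ofReal_mul_I_im, zero_sub]
    rw [hre, him]
    have h3 : Real.sqrt 3 ^ 2 = 3 := Real.sq_sqrt (by norm_num)
    have h4 := Real.sin_sq_add_cos_sq δ
    have h5 : (0 : ℝ) < Real.sqrt 3 := Real.sqrt_pos.mpr (by norm_num)
    nlinarith
  have h0 : (0 : ℝ) ≤ 1 / 2 := by norm_num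
  exact (sq_lt_sq₀ (norm_nonneg _) h0).mp hsq

end Sector

section Bound

variable {E : Type v} [NormedAddCommGroup E] [InnerProductSpace ℂ E] [FiniteDimensional ℂ E]

section Strict

variable {B : Type u} [Group B] [Fintype B] (U : B →* (E →L[ℂ] E))
variable (hB : ∀ a b : B, a * b = b * a)
variable (hU : ∀ b, ContinuousLinearMap.adjoint (U b) = U b⁻¹)

include hB hU in
theorem norm_sum_smul_specProj_lt [Fintype (IrrCharacter B)] (a : IrrCharacter B → ℂ) (r : ℝ)
    (hr : 0 < r) (h : ∀ l : IrrCharacter B, specProj U (l : B → ℂ) ≠ 0 → ‖a l‖ < r) :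
    ‖∑ l : IrrCharacter B, a l • specProj U (l : B → ℂ)‖ < r := by
  classical
  by_cases hne : (Finset.univ.filter (fun l : IrrCharacter B => specProj U (l : B → ℂ) ≠ 0)).Nonempty
  · obtain ⟨l0, hl0, hmax⟩ := Finset.exists_max_image _ (fun l => ‖a l‖) hne
    rw [Finset.mem_filter] at hl0
    refine (norm_sum_smul_specProj_le U hB hU a ‖a l0‖ (norm_nonneg _) ?_).trans_lt (h l0 hl0.2)
    intro l hl
    exact hmax l (Finset.mem_filter.mpr ⟨Finset.mem_univ _, hl⟩)
  · rw [Finset.not_nonempty_iff_eq_empty] at hne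
    refine (norm_sum_smul_specProj_le U hB hU a 0 (le_refl _) ?_).trans_lt hr
    intro l hl
    have : l ∈ Finset.univ.filter (fun l : IrrCharacter B => specProj U (l : B → ℂ) ≠ 0) :=
      Finset.mem_filter.mpr ⟨Finset.mem_univ _, hl⟩
    rw [hne] at this
    exact absurd this (Finset.notMem_empty _)

include hB hU in
/-- if all "eigenvalues" of `b` are within `1/2` of `√3/2`, then `b` is near the identity -/
theorem rr_lt_of_forall [Fintype (IrrCharacter B)] (b : B)
    (h : ∀ l : IrrCharacter B, specProj U (l : B → ℂ) ≠ 0 → ‖c0 - (l : B → ℂ) b‖ < 1 / 2) :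
    rr U b < 1 / 2 := by
  unfold rr
  have h1 : c0 • (1 : E →L[ℂ] E) - U b =
      ∑ l : IrrCharacter B, (c0 - (l : B → ℂ) b) • specProj U (l : B → ℂ) := by
    conv_lhs => rw [U_eq_sum U hB b, ← sum_specProj U hB, Finset.smul_sum,
      ← Finset.sum_sub_distrib]
    apply Finset.sum_congr rfl
    intro l _
    rw [sub_smul]
  rw [h1]
  exact norm_sum_smul_specProj_lt U hB hU _ _ (by norm_num) h

end Strict

variable {G : Type u} [Group G] [Fintype G] (U : G →* (E →L[ℂ] E))
variable (hU : ∀ g, ContinuousLinearMap.adjoint (U g) = U g⁻¹)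

include hU in
/-- **the bound `12 ^ n`** for abelian subgroups modulo the abelian normal subgroup -/
theorem index_nearSubgroup_le (H : Subgroup G) (hH : ∀ x ∈ H, ∀ y ∈ H, x * y = y * x) :
    ((nearSubgroup U).subgroupOf H).index ≤ 12 ^ Module.finrank ℂ E := by
  classical
  letI : Fintype H := Fintype.ofFinite H
  letI : Fintype (IrrCharacter H) := irrFintype
  have hB : ∀ a b : H, a * b = b * a := fun a b => Subtype.ext (hH a a.2 b b.2)
  obtain ⟨UB, hUBdef⟩ : ∃ UB : H →* (E →L[ℂ] E), UB = U.comp H.subtype := ⟨_, rfl⟩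
  have hUB : ∀ b, ContinuousLinearMap.adjoint (UB b) = UB b⁻¹ := by
    intro b
    rw [hUBdef]
    exact hU b
  -- the cells
  let cell : H → ({l : IrrCharacter H // specProj UB (l : H → ℂ) ≠ 0} → Fin 12) :=
    fun h l => sector ((l.1 : H → ℂ) h)
  have hkey : ∀ h₁ h₂ : H, cell h₁ = cell h₂ → h₁⁻¹ * h₂ ∈ (nearSubgroup U).subgroupOf H := by
    intro h₁ h₂ hc
    rw [Subgroup.mem_subgroupOf]
    apply Subgroup.subset_closure
    show rr U ((h₁⁻¹ * h₂ : H) : G) < 1 / 2
    have h1 : rr U ((h₁⁻¹ * h₂ : H) : G) = rr UB (h₁⁻¹ * h₂) := by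
      unfold rr
      rw [hUBdef]
      rfl
    rw [h1]
    apply rr_lt_of_forall UB hB hUB
    intro l hl
    have h2 : sector ((l : H → ℂ) h₁) = sector ((l : H → ℂ) h₂) := congrFun hc ⟨l, hl⟩
    have h3 := norm_c0_sub_lt_of_sector_eq (norm_irr hB l h₁) (norm_irr hB l h₂) h2
    rw [irr_mul hB, irr_inv']
    exact h3
  -- the injection of the quotient into the cells
  rw [Subgroup.index]
  have hinj : Function.Injective
      (fun q : H ⧸ (nearSubgroup U).subgroupOf H => cell (Quotient.out q)) := by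
    intro q₁ q₂ hq
    have := hkey _ _ hq
    rw [← QuotientGroup.eq, QuotientGroup.out_eq', QuotientGroup.out_eq'] at this
    exact this
  refine (Nat.card_le_card_of_injective _ hinj).trans ?_
  rw [Nat.card_eq_fintype_card, Fintype.card_fun, Fintype.card_fin, Fintype.card_subtype]
  apply Nat.pow_le_pow_right (by norm_num)
  exact card_support_le UB hB hUB

end Bound

end Cfsg.Agent.Helper24.Jordan
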