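import Mathlib
import Cfsg.Prelude.Def_Blocks
import Cfsg.Agent.Lib.Helper24.JordanA
import Cfsg.Agent.Lib.Helper24.JordanF

/-!
# Jordan–Frobenius, part G: the theorem for faithful characters (helper24)

A finite group with a faithful character of degree `n` has an abelian normal subgroup `A` with
`[H : H ∩ A] ≤ 12 ^ n` for every abelian subgroup `H`.
-/

set_option autoImplicit false
set_option linter.style.haveILetI false
set_option linter.unusedSectionVars false

namespace Cfsg.Agent.Helper24.Jordan

open Cfsg Cfsg.Agent.Helper24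

universe u

theorem jordan_abelian_bound {G : Type u} [Group G] [Finite G] (χ : G → ℂ)
    (hχ : IsCharacter G χ) (hfaith : ∀ g : G, χ g = χ 1 → g = 1) (n : ℕ)
    (hn : charDegree χ = n) :
    ∃ A : Subgroup G, A.Normal ∧ (∀ x ∈ A, ∀ y ∈ A, x * y = y * x) ∧
      ∀ H : Subgroup G, (∀ x ∈ H, ∀ y ∈ H, x * y = y * x) →
        (A.subgroupOf H).index ≤ 12 ^ n := by
  classical
  haveI : Fintype G := Fintype.ofFinite G
  obtain ⟨m, ρ, rfl⟩ := hχ
  have hm : m = n := by
    rw [← hn]
    symm
    apply charDegree_natCast
    rw [Representation.char_one, Module.finrank_fin_fun]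
  subst hm
  obtain ⟨U, hU, htr⟩ := exists_unitary_rep ρ
  have hinj : Function.Injective U := by
    rw [injective_iff_map_eq_one]
    intro g hg
    apply hfaith
    rw [← htr g, ← htr 1, hg, map_one]
  refine ⟨nearSubgroup U, nearSubgroup_normal U hU, nearSubgroup_comm U hU hinj, ?_⟩
  intro H hH
  have := index_nearSubgroup_le U hU H hH
  rwa [finrank_euclideanSpace_fin] at this

end Cfsg.Agent.Helper24.Jordan
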