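import Mathlib
import Cfsg.Prelude.Def_Blocks
import Cfsg.Agent.S0176
import Cfsg.Agent.Lib.Helper24.JordanG
import Cfsg.Agent.Lib.Helper24.BlichF
import Cfsg.Agent.Lib.Helper24.BlichG

/-!
# Jordan's theorem with an explicit bound (helper24)

A finite group with a faithful character of degree `n` has an abelian normal subgroup of index at
most `n! * 12 ^ (n * (π (n + 1) + 1))`.
-/

set_option autoImplicit false
set_option linter.style.haveILetI false
set_option linter.unusedSectionVars false

namespace Cfsg.Agent.Helper24.Blich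

open Cfsg Cfsg.Agent.Helper24

universe u

theorem prod_ordProj_dvd (S : Finset ℕ) (N : ℕ) (hN : N ≠ 0) :
    ∏ p ∈ S, p ^ N.factorization p ∣ N := by
  have h1 : ∏ p ∈ S, p ^ N.factorization p = ∏ p ∈ S ∩ N.primeFactors, p ^ N.factorization p := by
    symm
    apply Finset.prod_subset Finset.inter_subset_left
    intro p hpS hp
    have : p ∉ N.primeFactors := fun h => hp (Finset.mem_inter.mpr ⟨hpS, h⟩)
    have : N.factorization p = 0 := by
      rw [← Finsupp.notMem_support_iff, Nat.support_factorization]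
      exact this
    rw [this, pow_zero]
  rw [h1]
  have h2 : ∏ p ∈ N.primeFactors, p ^ N.factorization p = N := by
    have := Nat.prod_factorization_pow_eq_self hN
    rwa [Nat.prod_factorization_eq_prod_primeFactors] at this
  conv_rhs => rw [← h2]
  exact Finset.prod_dvd_prod_of_subset _ _ _ Finset.inter_subset_right

theorem index_bound_arith (I n : ℕ) (hI : I ≠ 0) (c : ℕ) (hc : 1 ≤ c)
    (h1 : ∀ p, p.Prime → p ≤ n + 1 → p ∣ I →
      p ^ I.factorization p ≤ p ^ (n.factorial).factorization p * c)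
    (h2 : ∏ p ∈ I.primeFactors.filter (fun p => ¬ p ≤ n + 1), p ^ I.factorization p ≤ c) :
    I ≤ n.factorial * c ^ (Nat.primeCounting (n + 1) + 1) := by
  have hfact : ∏ p ∈ I.primeFactors, p ^ I.factorization p = I := by
    have := Nat.prod_factorization_pow_eq_self hI
    rwa [Nat.prod_factorization_eq_prod_primeFactors] at this
  rw [← Finset.prod_filter_mul_prod_filter_not I.primeFactors (fun p => p ≤ n + 1)] at hfact
  obtain ⟨S₁, hS₁⟩ : ∃ S₁, S₁ = I.primeFactors.filter (fun p => p ≤ n + 1) := ⟨_, rfl⟩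
  rw [← hS₁] at hfact
  have hb1 : ∏ p ∈ S₁, p ^ I.factorization p ≤
      ∏ p ∈ S₁, (p ^ (n.factorial).factorization p * c) := by
    apply Finset.prod_le_prod'
    intro p hp
    rw [hS₁, Finset.mem_filter, Nat.mem_primeFactors] at hp
    exact h1 p hp.1.1 hp.2 hp.1.2.1
  rw [Finset.prod_mul_distrib, Finset.prod_const] at hb1
  have hb2 : ∏ p ∈ S₁, p ^ (n.factorial).factorization p ≤ n.factorial :=
    Nat.le_of_dvd (Nat.factorial_pos n) (prod_ordProj_dvd S₁ _ (Nat.factorial_pos n).ne')
  have hb3 : S₁.card ≤ Nat.primeCounting (n + 1) := by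
    rw [Nat.primeCounting, Nat.primeCounting', Nat.count_eq_card_filter_range]
    apply Finset.card_le_card
    intro p hp
    rw [hS₁, Finset.mem_filter, Nat.mem_primeFactors] at hp
    rw [Finset.mem_filter, Finset.mem_range]
    exact ⟨by omega, hp.1.1⟩
  calc I = (∏ p ∈ S₁, p ^ I.factorization p) *
        ∏ p ∈ I.primeFactors.filter (fun p => ¬ p ≤ n + 1), p ^ I.factorization p := hfact.symm
    _ ≤ (n.factorial * c ^ Nat.primeCounting (n + 1)) * c := by
        apply Nat.mul_le_mul _ h2
        apply le_trans hb1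
        exact Nat.mul_le_mul hb2 (Nat.pow_le_pow_right hc hb3)
    _ = n.factorial * c ^ (Nat.primeCounting (n + 1) + 1) := by rw [pow_succ, mul_assoc]

/-- A `p`-group with a faithful character of degree `n` has an abelian subgroup of index dividing
`n!` (`p`-groups are M-groups). -/
theorem Lin.exists_abelian_of_isPGroup {P : Type u} [Group P] [Finite P] {n p : ℕ} (hp : p.Prime)
    (hP : IsPGroup p P) (h : Lin n P) :
    ∃ B : Subgroup P, (∀ a ∈ B, ∀ b ∈ B, a * b = b * a) ∧ B.index ∣ n.factorial := by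
  letI := Fintype.ofFinite P
  haveI := Fact.mk hp
  haveI : Group.IsNilpotent P := hP.isNilpotent
  obtain ⟨B, -, hB1, hB2⟩ := h.exists_abelian_of_monomial
    (fun ψ hψ => Cfsg.Agent.S0176.result ψ hψ)
  exact ⟨B, hB1, hB2⟩

section Main

variable {G : Type u} [Group G] [Finite G]

/-- For a subgroup `K`, the index of `A` divides `[K : K ∩ A] [G : K]`. -/
theorem index_dvd_relIndex_mul (A K : Subgroup G) : A.index ∣ A.relIndex K * K.index := by
  have h1 : (A ⊓ K).relIndex K * K.index = (A ⊓ K).index :=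
    Subgroup.relIndex_mul_index inf_le_right
  rw [Subgroup.inf_relIndex_right] at h1
  rw [h1]
  exact Subgroup.index_dvd_of_le inf_le_left

/-- **Jordan's theorem with the explicit bound.** -/
theorem jordan_index_bound (χ : G → ℂ) (hχ : IsCharacter G χ)
    (hfaith : ∀ g : G, χ g = χ 1 → g = 1) (n : ℕ) (hn : charDegree χ = n) :
    ∃ A : Subgroup G, A.Normal ∧ (∀ x ∈ A, ∀ y ∈ A, x * y = y * x) ∧
      A.index ≤ n.factorial * 12 ^ (n * (Nat.primeCounting (n + 1) + 1)) := by
  obtain ⟨A, hAn, hAc, hAb⟩ := Jordan.jordan_abelian_bound χ hχ hfaith n hn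
  refine ⟨A, hAn, hAc, ?_⟩
  have hlin : Lin n G := ⟨χ, hχ, hfaith, hn⟩
  have hI0 : A.index ≠ 0 := Subgroup.index_ne_zero_of_finite
  rw [pow_mul]
  apply index_bound_arith A.index n hI0 (12 ^ n) (Nat.one_le_pow _ _ (by norm_num))
  · -- small primes
    intro p hp hpn hpI
    haveI := Fact.mk hp
    obtain ⟨P⟩ : Nonempty (Sylow p G) := inferInstance
    obtain ⟨B, hBc, hBi⟩ := Lin.exists_abelian_of_isPGroup hp P.isPGroup' (hlin.subgroup P)
    obtain ⟨B', hB'⟩ : ∃ B' : Subgroup G, B' = B.map (P : Subgroup G).subtype := ⟨_, rfl⟩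
    have hB'c : ∀ x ∈ B', ∀ y ∈ B', x * y = y * x := by
      rw [hB']
      rintro _ ⟨a, ha, rfl⟩ _ ⟨b, hb, rfl⟩
      exact congrArg Subtype.val (hBc a ha b hb)
    have ht : A.relIndex B' ≤ 12 ^ n := hAb B' hB'c
    have hB'i : B'.index = B.index * (P : Subgroup G).index := by
      rw [hB', Subgroup.index_map_subtype]
    have hdvd := index_dvd_relIndex_mul A B'
    rw [hB'i, ← mul_assoc] at hdvd
    have h1 : p ^ A.index.factorization p ∣ A.relIndex B' * B.index := by
      have h2 : p ^ A.index.factorization p ∣ A.relIndex B' * B.index * (P : Subgroup G).index :=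
        (Nat.ordProj_dvd _ _).trans hdvd
      have h3 : Nat.Coprime (p ^ A.index.factorization p) (P : Subgroup G).index :=
        Nat.Coprime.pow_left _ ((Nat.Prime.coprime_iff_not_dvd hp).mpr P.not_dvd_index)
      exact h3.dvd_of_dvd_mul_right h2
    have hBpos : 0 < B.index := Nat.pos_of_ne_zero Subgroup.index_ne_zero_of_finite
    have htpos : 0 < A.relIndex B' :=
      Nat.pos_of_ne_zero (Subgroup.index_ne_zero_of_finite (H := A.subgroupOf B'))
    have h4 : p ^ A.index.factorization p ≤ A.relIndex B' * B.index :=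
      Nat.le_of_dvd (Nat.mul_pos htpos hBpos) h1
    -- `B.index` is a power of `p` dividing `n!`
    obtain ⟨k, hk⟩ := P.isPGroup'.exists_card_eq
    have hBp : B.index ∣ p ^ k := hk ▸ Subgroup.index_dvd_card B
    obtain ⟨j, -, hj⟩ := (Nat.dvd_prime_pow hp).mp hBp
    have h5 : B.index ≤ p ^ (n.factorial).factorization p := by
      rw [hj]
      apply Nat.pow_le_pow_right hp.pos
      exact (hp.pow_dvd_iff_le_factorization (Nat.factorial_pos n).ne').mp (hj ▸ hBi)
    calc p ^ A.index.factorization p ≤ A.relIndex B' * B.index := h4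
      _ ≤ 12 ^ n * p ^ (n.factorial).factorization p := Nat.mul_le_mul ht h5
      _ = p ^ (n.factorial).factorization p * 12 ^ n := mul_comm _ _
  · -- large primes
    obtain ⟨H, hHc, -, hH2⟩ := hall_of_lin n _ G rfl hlin
    have ht : A.relIndex H ≤ 12 ^ n := hAb H hHc
    have hdvd := index_dvd_relIndex_mul A H
    have h1 : ∏ p ∈ A.index.primeFactors.filter (fun p => ¬ p ≤ n + 1),
        p ^ A.index.factorization p ∣ A.index := prod_ordProj_dvd _ _ hI0
    have h2 : Nat.Coprime (∏ p ∈ A.index.primeFactors.filter (fun p => ¬ p ≤ n + 1),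
        p ^ A.index.factorization p) H.index := by
      apply Nat.Coprime.prod_left
      intro p hp
      rw [Finset.mem_filter, Nat.mem_primeFactors] at hp
      apply Nat.Coprime.pow_left
      rw [Nat.Prime.coprime_iff_not_dvd hp.1.1]
      intro hd
      exact hp.2 (hH2 p hp.1.1 hd)
    have h3 := h2.dvd_of_dvd_mul_right (h1.trans hdvd)
    have htpos : 0 < A.relIndex H :=
      Nat.pos_of_ne_zero (Subgroup.index_ne_zero_of_finite (H := A.subgroupOf H))
    exact (Nat.le_of_dvd htpos h3).trans ht

end Main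

end Cfsg.Agent.Helper24.Blich
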