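import Mathlib

/-!
# Coprime action of two commuting automorphisms on a finite abelian group
(helper24's shared library)
-/

set_option autoImplicit false

namespace Cfsg.Agent.Helper24

open Finset

section Additive

variable {A : Type*} [AddCommGroup A]

/-- `n - (1 + x + ... + x^(n-1)) = (1 - x) * Q` for an explicit `Q`. -/
theorem natCast_sub_geom_sum {R : Type*} [Ring R] (x : R) (n : ℕ) :
    (n : R) - ∑ i ∈ range n, x ^ i = (1 - x) * ∑ i ∈ range n, ∑ k ∈ range i, x ^ k := by
  rw [Finset.mul_sum]
  have : ∀ i ∈ range n, (1 - x) * ∑ k ∈ range i, x ^ k = 1 - x ^ i := by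
    intro i _
    have := mul_geom_sum x i
    have h2 : (1 - x) * ∑ k ∈ range i, x ^ k = -((x - 1) * ∑ k ∈ range i, x ^ k) := by
      rw [← neg_mul, neg_sub]
    rw [h2, this, neg_sub]
  rw [Finset.sum_congr rfl this, Finset.sum_sub_distrib]
  simp

/-- For commuting endomorphisms `α β` of a finite abelian group `A` with `α^n = β^n = 1` and `n`
coprime to `|A|`, the number of pairs `(a, b)` with `a + α b = b + β a` is `|A|` times the number
of common fixed points. -/
theorem card_pairs_twisted_commute [Finite A] (α β : Module.End ℤ A) (hc : Commute α β) (n : ℕ)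
    (hn : (Nat.card A).Coprime n) (hα : α ^ n = 1) (hβ : β ^ n = 1) :
    Nat.card {p : A × A // p.1 + α p.2 = p.2 + β p.1} =
      Nat.card A * Nat.card {v : A // α v = v ∧ β v = v} := by
  set Eα : Module.End ℤ A := ∑ i ∈ range n, α ^ i with hEα
  set Eβ : Module.End ℤ A := ∑ i ∈ range n, β ^ i with hEβ
  set Qα : Module.End ℤ A := ∑ i ∈ range n, ∑ k ∈ range i, α ^ k with hQα
  set Qβ : Module.End ℤ A := ∑ i ∈ range n, ∑ k ∈ range i, β ^ k with hQβ
  set N : Module.End ℤ A := Eα * Eβ with hN
  have h1 : (α - 1) * Eα = 0 := by rw [hEα, mul_geom_sum, hα, sub_self]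
  have h1' : Eα * (α - 1) = 0 := by rw [hEα, geom_sum_mul, hα, sub_self]
  have h2 : (β - 1) * Eβ = 0 := by rw [hEβ, mul_geom_sum, hβ, sub_self]
  have h2' : Eβ * (β - 1) = 0 := by rw [hEβ, geom_sum_mul, hβ, sub_self]
  have hcEαβ : Commute Eα β := by
    rw [hEα]
    exact Commute.sum_left _ _ _ fun i _ => (hc.pow_left i)
  have hcEβα : Commute Eβ α := by
    rw [hEβ]
    exact Commute.sum_left _ _ _ fun i _ => (hc.symm.pow_left i)
  have hcEαβ1 : Commute Eα (β - 1) := hcEαβ.sub_right (Commute.one_right _)
  have hcEβα1 : Commute Eβ (α - 1) := hcEβα.sub_right (Commute.one_right _)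
  have hN1 : (α - 1) * N = 0 := by rw [hN, ← mul_assoc, h1, zero_mul]
  have hN2 : (β - 1) * N = 0 := by
    rw [hN, ← mul_assoc, ← hcEαβ1.eq, mul_assoc, h2, mul_zero]
  have hN3 : N * (α - 1) = 0 := by
    rw [hN, mul_assoc, hcEβα1.eq, ← mul_assoc, h1', zero_mul]
  have hN4 : N * (β - 1) = 0 := by rw [hN, mul_assoc, h2', mul_zero]
  have hkey : ((n : Module.End ℤ A)) ^ 2 - N =
      (1 - β) * ((n : Module.End ℤ A) * Qβ) + (1 - α) * (Qα * Eβ) := by
    have e1 : (1 - β) * ((n : Module.End ℤ A) * Qβ) =
        (n : Module.End ℤ A) * ((n : Module.End ℤ A) - Eβ) := by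
      rw [natCast_sub_geom_sum β n, ← mul_assoc, ← mul_assoc, (Nat.cast_commute n (1 - β)).eq]
    have e2 : (1 - α) * (Qα * Eβ) = ((n : Module.End ℤ A) - Eα) * Eβ := by
      rw [natCast_sub_geom_sum α n, mul_assoc]
    rw [e1, e2, hN]
    noncomm_ring
  -- the two homomorphisms
  let ψ : A × A →+ A :=
    ((1 - β : Module.End ℤ A).toAddMonoidHom.comp (AddMonoidHom.fst A A)) +
      ((α - 1 : Module.End ℤ A).toAddMonoidHom.comp (AddMonoidHom.snd A A))
  have hψ : ∀ p : A × A, ψ p = (p.1 - β p.1) + (α p.2 - p.2) := fun p => rfl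
  have hN_fix : ∀ v : A, α (N v) = N v ∧ β (N v) = N v := by
    intro v
    have e1 := congrArg (fun f : Module.End ℤ A => f v) hN1
    have e2 := congrArg (fun f : Module.End ℤ A => f v) hN2
    simp only [Module.End.mul_apply, LinearMap.sub_apply, Module.End.one_apply,
      LinearMap.zero_apply, sub_eq_zero] at e1 e2
    exact ⟨e1, e2⟩
  have hN_psi : ∀ p : A × A, N (ψ p) = 0 := by
    intro p
    have e3 := congrArg (fun f : Module.End ℤ A => f p.2) hN3
    have e4 := congrArg (fun f : Module.End ℤ A => f p.1) hN4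
    simp only [Module.End.mul_apply, LinearMap.sub_apply, Module.End.one_apply,
      LinearMap.zero_apply] at e3 e4
    rw [hψ, map_add, e3, add_zero]
    have : p.1 - β p.1 = -(β p.1 - p.1) := by abel
    rw [this, map_neg, e4, neg_zero]
  have hN_C : ∀ v : A, α v = v → β v = v → N v = (n ^ 2) • v := by
    intro v hv1 hv2
    have hpa : ∀ i : ℕ, (α ^ i) v = v := by
      intro i
      induction i with
      | zero => simp
      | succ i ih => rw [pow_succ, Module.End.mul_apply, hv1, ih]
    have hpb : ∀ i : ℕ, (β ^ i) v = v := by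
      intro i
      induction i with
      | zero => simp
      | succ i ih => rw [pow_succ, Module.End.mul_apply, hv2, ih]
    have e1 : Eβ v = n • v := by
      rw [hEβ, LinearMap.sum_apply]  
      simp [hpb]
    have e2 : Eα v = n • v := by
      rw [hEα, LinearMap.sum_apply]
      simp [hpa]
    rw [hN, Module.End.mul_apply, e1, map_nsmul, e2, pow_two, mul_nsmul]
  have hsq : ∀ v : A, (n ^ 2) • v - N v ∈ ψ.range := by
    intro v
    have e := congrArg (fun f : Module.End ℤ A => f v) hkey
    simp only [Module.End.mul_apply, LinearMap.sub_apply, Module.End.one_apply,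
      LinearMap.add_apply] at e
    refine ⟨((n : Module.End ℤ A) (Qβ v), -(Qα (Eβ v))), ?_⟩
    rw [hψ]
    simp only [map_neg]
    have e' : (n ^ 2) • v - N v = ((n : Module.End ℤ A) ^ 2) v - N v := by
      congr 1
      rw [← Nat.cast_pow, Module.End.natCast_apply]
    rw [e', e]
    abel
  have hcop2 : (Nat.card A).Coprime (n ^ 2) := Nat.Coprime.pow_right 2 hn
  have hbij := hcop2.nsmul_right_bijective (G := A)
  -- kernel of N equals range of ψ
  have hker : N.toAddMonoidHom.ker = ψ.range := by
    ext v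
    constructor
    · intro hv
      rw [AddMonoidHom.mem_ker] at hv
      have hv' : N v = 0 := hv
      have h3 := hsq v
      rw [hv', sub_zero] at h3
      have hk : ((Nat.card A).gcdB (n ^ 2)) • ((n ^ 2) • v) = v :=
        (nsmulCoprime hcop2).left_inv v
      rw [← hk]
      exact ψ.range.zsmul_mem h3 _
    · rintro ⟨p, rfl⟩
      exact hN_psi p
  have hrange : ∀ v : A, v ∈ N.toAddMonoidHom.range ↔ (α v = v ∧ β v = v) := by
    intro v
    constructor
    · rintro ⟨w, rfl⟩
      exact hN_fix w
    · rintro ⟨h1, h2⟩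
      obtain ⟨w, hw⟩ := hbij.2 v
      simp only at hw
      have hw1 : α w = w := by
        apply hbij.1
        simp only
        rw [← map_nsmul, hw, h1]
      have hw2 : β w = w := by
        apply hbij.1
        simp only
        rw [← map_nsmul, hw, h2]
      refine ⟨w, ?_⟩
      show N w = v
      rw [hN_C w hw1 hw2, hw]
  -- cardinalities
  have c1 : Nat.card N.toAddMonoidHom.ker * Nat.card N.toAddMonoidHom.range = Nat.card A := by
    rw [← AddSubgroup.index_ker]
    exact AddSubgroup.card_mul_index _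
  have c2 : Nat.card ψ.ker * Nat.card ψ.range = Nat.card A * Nat.card A := by
    rw [← AddSubgroup.index_ker, AddSubgroup.card_mul_index, Nat.card_prod]
  have c3 : Nat.card N.toAddMonoidHom.range = Nat.card {v : A // α v = v ∧ β v = v} :=
    Nat.card_congr (Equiv.subtypeEquivRight hrange)
  have c4 : Nat.card ψ.ker = Nat.card {p : A × A // p.1 + α p.2 = p.2 + β p.1} := by
    apply Nat.card_congr
    apply Equiv.subtypeEquivRight
    intro p
    rw [AddMonoidHom.mem_ker, hψ]
    constructor
    · intro h
      have : p.1 + α p.2 - (p.2 + β p.1) = 0 := by rw [← h]; abel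
      exact sub_eq_zero.mp this
    · intro h
      have : p.1 - β p.1 + (α p.2 - p.2) = p.1 + α p.2 - (p.2 + β p.1) := by abel
      rw [this, h, sub_self]
  rw [← c4, ← c3]
  rw [← hker] at c2
  have hpos : 0 < Nat.card N.toAddMonoidHom.ker := Nat.card_pos
  rw [← c1] at c2
  -- c2 : |ker ψ| * |ker N| = (|ker N| * |range N|) * (|ker N| * |range N|)
  have c5 : Nat.card ψ.ker * Nat.card N.toAddMonoidHom.ker =
      (Nat.card N.toAddMonoidHom.ker * Nat.card N.toAddMonoidHom.range * Nat.card N.toAddMonoidHom.range) *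
        Nat.card N.toAddMonoidHom.ker := by
    rw [c2]
    ring
  rw [c1] at c5
  exact Nat.eq_of_mul_eq_mul_right hpos c5

end Additive

section Multiplicative

variable {W : Type*} [CommGroup W]

/-- Multiplicative version of `card_pairs_twisted_commute`. -/
theorem card_pairs_twisted_commute_mul [Finite W] (α β : W →* W)
    (hc : ∀ w, α (β w) = β (α w)) (n : ℕ) (hn : (Nat.card W).Coprime n)
    (hα : ∀ w, α^[n] w = w) (hβ : ∀ w, β^[n] w = w) :
    Nat.card {p : W × W // p.1 * α p.2 = p.2 * β p.1} =
      Nat.card W * Nat.card {w : W // α w = w ∧ β w = w} := by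
  let α' : Module.End ℤ (Additive W) := (MonoidHom.toAdditive α).toIntLinearMap
  let β' : Module.End ℤ (Additive W) := (MonoidHom.toAdditive β).toIntLinearMap
  have hα'app : ∀ a : Additive W, α' a = Additive.ofMul (α (Additive.toMul a)) := fun _ => rfl
  have hβ'app : ∀ a : Additive W, β' a = Additive.ofMul (β (Additive.toMul a)) := fun _ => rfl
  have hiter : ∀ (γ : W →* W) (k : ℕ) (a : Additive W),
      ((MonoidHom.toAdditive γ).toIntLinearMap ^ k : Module.End ℤ (Additive W)) a =
        Additive.ofMul (γ^[k] (Additive.toMul a)) := by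
    intro γ k
    induction k with
    | zero => intro a; simp
    | succ k ih =>
      intro a
      rw [pow_succ, Module.End.mul_apply, ih, Function.iterate_succ_apply]
      rfl
  have hc' : Commute α' β' := by
    apply LinearMap.ext
    intro a
    rw [Module.End.mul_apply, Module.End.mul_apply, hα'app, hβ'app, hα'app, hβ'app]
    simp only [toMul_ofMul]
    rw [hc]
  have hα' : α' ^ n = 1 := by
    apply LinearMap.ext
    intro a
    rw [hiter α n a, hα]
    rfl
  have hβ' : β' ^ n = 1 := by
    apply LinearMap.ext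
    intro a
    rw [hiter β n a, hβ]
    rfl
  have hn' : (Nat.card (Additive W)).Coprime n := hn
  have key := card_pairs_twisted_commute α' β' hc' n hn' hα' hβ'
  have e1 : Nat.card {p : W × W // p.1 * α p.2 = p.2 * β p.1} =
      Nat.card {p : Additive W × Additive W // p.1 + α' p.2 = p.2 + β' p.1} := by
    apply Nat.card_congr
    refine ⟨fun p => ⟨(Additive.ofMul p.1.1, Additive.ofMul p.1.2), ?_⟩,
      fun p => ⟨(Additive.toMul p.1.1, Additive.toMul p.1.2), ?_⟩, ?_, ?_⟩
    · exact congrArg Additive.ofMul p.2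
    · exact congrArg Additive.toMul p.2
    · intro p; rfl
    · intro p; rfl
  have e2 : Nat.card {w : W // α w = w ∧ β w = w} =
      Nat.card {v : Additive W // α' v = v ∧ β' v = v} := by
    apply Nat.card_congr
    refine ⟨fun w => ⟨Additive.ofMul w.1, ?_⟩, fun v => ⟨Additive.toMul v.1, ?_⟩, ?_, ?_⟩
    · exact ⟨congrArg Additive.ofMul w.2.1, congrArg Additive.ofMul w.2.2⟩
    · exact ⟨congrArg Additive.toMul v.2.1, congrArg Additive.toMul v.2.2⟩
    · intro p; rfl
    · intro p; rfl
  rw [e1, e2, key]
  rfl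

end Multiplicative

end Cfsg.Agent.Helper24
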