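import Mathlib
import Cfsg.Prelude.Def_Characters
import Cfsg.Prelude.Def_Blocks

/-!
# S0679, piece EVEN (helper24 for helper27): a simple non-solvable permutation group is even.
-/

set_option autoImplicit false
set_option linter.unusedSectionVars false
set_option linter.unusedVariables false

namespace Cfsg.Agent.Helper27.D11

open Cfsg Equiv MulAction

universe u

variable {α : Type u} [Fintype α] [DecidableEq α]

/-- PIECE EVEN. -/
theorem le_alternating (G : Subgroup (Perm α)) (hs : IsSimpleGroup G) (hG : ¬ Group.IsSolvable G) :
    G ≤ alternatingGroup α := by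
  rcases hs.eq_bot_or_eq_top_of_normal ((Equiv.Perm.sign).comp G.subtype).ker
    (MonoidHom.normal_ker _) with h | h
  · exfalso
    apply hG
    have hinj : Function.Injective ((Equiv.Perm.sign).comp G.subtype) :=
      (MonoidHom.ker_eq_bot_iff _).mp h
    exact Group.isSolvable_of_isSolvable_injective hinj
  · intro g hg
    have h1 : (⟨g, hg⟩ : G) ∈ ((Equiv.Perm.sign).comp G.subtype).ker := by
      rw [h]; trivial
    rw [Equiv.Perm.mem_alternatingGroup]
    exact h1

end Cfsg.Agent.Helper27.D11
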