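import Mathlib
import Cfsg.Agent.Lib.Helper3.DPDefs
import Cfsg.Agent.S0675

set_option autoImplicit false
open scoped Pointwise commutatorElement
open MulAction

/-!
# S2205, piece DICH: Burnside's dichotomy for a subgroup of prime index

`S ≤ X` of prime index `q`.  Either there is a normal subgroup `N ⊇ core_X(S)` with
`|N : core| = q`, or `S` acts transitively on the nontrivial cosets (double coset form).
-/

namespace Cfsg.Agent.Helper3.DP

/-- A solvable nontrivial quotient `X ⧸ C` has a nontrivial abelian normal subgroup; pulled back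
to `X`. -/
theorem dich_exists_abelian {X : Type*} [Group X] (C : Subgroup X) [C.Normal]
    (hsol : Group.IsSolvable (X ⧸ C)) (hC : C ≠ ⊤) :
    ∃ N : Subgroup X, N.Normal ∧ C ≤ N ∧ ¬ N ≤ C ∧ ∀ a ∈ N, ∀ b ∈ N, ⁅a, b⁆ ∈ C := by
  classical
  have hex : ∃ n, derivedSeries (X ⧸ C) n = ⊥ := hsol.solvable
  set n := Nat.find hex with hn
  have hnspec : derivedSeries (X ⧸ C) n = ⊥ := Nat.find_spec hex
  have hn0 : n ≠ 0 := by
    intro h0
    rw [h0, derivedSeries_zero] at hnspec
    apply hC
    rw [eq_top_iff]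
    intro x _
    have hx : (QuotientGroup.mk' C x) ∈ (⊤ : Subgroup (X ⧸ C)) := Subgroup.mem_top _
    rw [hnspec, Subgroup.mem_bot] at hx
    exact (QuotientGroup.eq_one_iff x).mp hx
  obtain ⟨m, hm⟩ := Nat.exists_eq_succ_of_ne_zero hn0
  have hmin : derivedSeries (X ⧸ C) m ≠ ⊥ := by
    have : m < n := by omega
    exact Nat.find_min hex this
  have hA : (derivedSeries (X ⧸ C) m).Normal := derivedSeries_normal _ m
  refine ⟨(derivedSeries (X ⧸ C) m).comap (QuotientGroup.mk' C), inferInstance, ?_, ?_, ?_⟩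
  · intro c hc
    rw [Subgroup.mem_comap]
    have : QuotientGroup.mk' C c = 1 := (QuotientGroup.eq_one_iff c).mpr hc
    rw [this]; exact one_mem _
  · intro hle
    apply hmin
    rw [eq_bot_iff]
    intro y hy
    obtain ⟨x, rfl⟩ := QuotientGroup.mk'_surjective C y
    have hx : x ∈ C := hle (Subgroup.mem_comap.mpr hy)
    rw [Subgroup.mem_bot]
    exact (QuotientGroup.eq_one_iff x).mpr hx
  · intro a ha b hb
    rw [Subgroup.mem_comap] at ha hb
    have h1 : ⁅QuotientGroup.mk' C a, QuotientGroup.mk' C b⁆ ∈ derivedSeries (X ⧸ C) n := by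
      rw [hm, derivedSeries_succ]
      exact Subgroup.commutator_mem_commutator ha hb
    rw [hnspec, Subgroup.mem_bot, ← map_commutatorElement] at h1
    exact (QuotientGroup.eq_one_iff _).mp h1

/-- counting: `|N : S ⊓ N| = |X : S|` when `N` is normal and `S ⊔ N = ⊤`. -/
theorem dich_relIndex_of_sup_eq_top {X : Type*} [Group X] [Finite X] (S N : Subgroup X)
    [N.Normal] (h : S ⊔ N = ⊤) : (S ⊓ N).relIndex N = S.index := by
  have h1 : Nat.card ↥(S ⊓ N) * (S ⊓ N).relIndex N = Nat.card N := by
    have := Subgroup.relIndex_mul_relIndex (⊥ : Subgroup X) (S ⊓ N) N bot_le inf_le_right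
    rwa [Subgroup.relIndex_bot_left, Subgroup.relIndex_bot_left] at this
  have h2 : Nat.card ↥(S ⊓ N) * (S ⊓ N).relIndex S = Nat.card S := by
    have := Subgroup.relIndex_mul_relIndex (⊥ : Subgroup X) (S ⊓ N) S bot_le inf_le_left
    rwa [Subgroup.relIndex_bot_left, Subgroup.relIndex_bot_left] at this
  have h3 : (S ⊓ N).relIndex S = N.index := by
    rw [Subgroup.inf_relIndex_left, ← Subgroup.relIndex_sup_right S N, h,
      Subgroup.relIndex_top_right]
  have h4 : Nat.card N * N.index = Nat.card X := N.card_mul_index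
  have h5 : Nat.card S * S.index = Nat.card X := S.card_mul_index
  have hpos1 : 0 < Nat.card ↥(S ⊓ N) := Nat.card_pos
  have hpos2 : 0 < N.index := Nat.pos_of_ne_zero N.index_ne_zero_of_finite
  rw [h3] at h2
  have : Nat.card ↥(S ⊓ N) * N.index * (S ⊓ N).relIndex N
      = Nat.card ↥(S ⊓ N) * N.index * S.index := by
    calc Nat.card ↥(S ⊓ N) * N.index * (S ⊓ N).relIndex N
        = (Nat.card ↥(S ⊓ N) * (S ⊓ N).relIndex N) * N.index := by ring
      _ = Nat.card X := by rw [h1, h4]
      _ = Nat.card ↥(S ⊓ N) * N.index * S.index := by rw [h2, h5]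
  exact Nat.eq_of_mul_eq_mul_left (Nat.mul_pos hpos1 hpos2) this

/-- PIECE DICH (generic, from S0675). -/
theorem dich_coset {X : Type*} [Group X] [Finite X] {q : ℕ} (hq : q.Prime) (S : Subgroup X)
    (hS : S.index = q) :
    (∃ N : Subgroup X, N.Normal ∧ S.normalCore ≤ N ∧ (S.normalCore).relIndex N = q) ∨
    (∀ g g' : X, g ∉ S → g' ∉ S → ∃ s ∈ S, ∃ s' ∈ S, g' = s * g * s') := by
  classical
  haveI : Fintype (X ⧸ S) := Fintype.ofFinite _
  have hcard : Fintype.card (X ⧸ S) = q := by
    rw [← Nat.card_eq_fintype_card, ← Subgroup.index_eq_card, hS]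
  set φ : X →* Equiv.Perm (X ⧸ S) := MulAction.toPermHom X (X ⧸ S) with hφ
  have hker : S.normalCore = φ.ker := Subgroup.normalCore_eq_ker S
  have : MulAction.IsPretransitive φ.range (X ⧸ S) := by
    constructor
    intro a b
    obtain ⟨g, hg⟩ := MulAction.exists_smul_eq X a b
    exact ⟨⟨φ g, g, rfl⟩, hg⟩
  rcases Cfsg.Agent.S0675.result (hcard ▸ hq) φ.range with hsol | h2
  · left
    have hSne : S ≠ ⊤ := by
      intro h
      rw [h, Subgroup.index_top] at hS
      exact hq.one_lt.ne hS
    have hCne : S.normalCore ≠ ⊤ := fun h => hSne (top_le_iff.mp (h ▸ S.normalCore_le))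
    have hsolQ : Group.IsSolvable (X ⧸ S.normalCore) := by
      have hinj : Function.Injective (QuotientGroup.kerLift φ) := QuotientGroup.kerLift_injective φ
      have e : X ⧸ S.normalCore ≃* X ⧸ φ.ker := QuotientGroup.quotientMulEquivOfEq hker
      let ψ : X ⧸ S.normalCore →* φ.range :=
        (QuotientGroup.quotientKerEquivRange φ).toMonoidHom.comp e.toMonoidHom
      have hψ : Function.Injective ψ :=
        (QuotientGroup.quotientKerEquivRange φ).injective.comp e.injective
      exact Group.isSolvable_of_isSolvable_injective hψ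
    obtain ⟨N, hNn, hCN, hNC, hcomm⟩ := dich_exists_abelian S.normalCore hsolQ hCne
    have := hNn
    have hNS : ¬ N ≤ S := fun h => hNC (Subgroup.normal_le_normalCore.mpr h)
    have hsup : S ⊔ N = ⊤ := by
      have hdvd : (S ⊔ N).index ∣ q := hS ▸ Subgroup.index_dvd_of_le (le_sup_left : S ≤ S ⊔ N)
      rcases (Nat.dvd_prime hq).mp hdvd with h1 | h1
      · exact Subgroup.index_eq_one.mp h1
      · exfalso
        have hmul := Subgroup.relIndex_mul_index (le_sup_left : S ≤ S ⊔ N)
        rw [h1, hS] at hmul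
        have hrel : S.relIndex (S ⊔ N) = 1 := by
          have hq0 : 0 < q := hq.pos
          exact Nat.eq_of_mul_eq_mul_right hq0 (by rw [hmul, one_mul])
        exact hNS (le_sup_right.trans (Subgroup.relIndex_eq_one.mp hrel))
    have hinf : S ⊓ N = S.normalCore := by
      apply le_antisymm
      · rintro n ⟨hnS, hnN⟩
        intro b
        have hb : b ∈ S ⊔ N := hsup ▸ Subgroup.mem_top b
        rw [sup_comm, ← SetLike.mem_coe, Subgroup.normal_mul] at hb
        obtain ⟨m, hm, s, hs, rfl⟩ := Set.mem_mul.mp hb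
        set n' := s * n * s⁻¹ with hn'
        have hn'S : n' ∈ S := S.mul_mem (S.mul_mem hs hnS) (S.inv_mem hs)
        have hn'N : n' ∈ N := hNn.conj_mem n hnN s
        have hc : ⁅m, n'⁆ ∈ S := S.normalCore_le (hcomm m hm n' hn'N)
        have : m * s * n * (m * s)⁻¹ = ⁅m, n'⁆ * n' := by
          rw [commutatorElement_def, hn']; group
        rw [this]
        exact S.mul_mem hc hn'S
      · exact le_inf S.normalCore_le hCN
    refine ⟨N, hNn, hCN, ?_⟩
    rw [← hinf, dich_relIndex_of_sup_eq_top S N hsup, hS]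
  · right
    intro g g' hg hg'
    have hne1 : ((1 : X) : X ⧸ S) ≠ (g : X ⧸ S) := by
      intro h
      rw [QuotientGroup.eq] at h
      apply hg
      simpa using h
    have hne2 : ((1 : X) : X ⧸ S) ≠ (g' : X ⧸ S) := by
      intro h
      rw [QuotientGroup.eq] at h
      apply hg'
      simpa using h
    obtain ⟨⟨σ, s, hs⟩, h1, h2'⟩ := MulAction.is_two_pretransitive_iff.mp h2 hne1 hne2
    have h1' : s • ((1 : X) : X ⧸ S) = ((1 : X) : X ⧸ S) := by
      have : σ • ((1 : X) : X ⧸ S) = ((1 : X) : X ⧸ S) := h1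
      rw [← hs] at this
      exact this
    have h2'' : s • ((g : X) : X ⧸ S) = ((g' : X) : X ⧸ S) := by
      have : σ • ((g : X) : X ⧸ S) = ((g' : X) : X ⧸ S) := h2'
      rw [← hs] at this
      exact this
    have hsS : s ∈ S := by
      rw [MulAction.Quotient.smul_coe, QuotientGroup.eq] at h1'
      simpa using h1'
    rw [MulAction.Quotient.smul_coe, QuotientGroup.eq] at h2''
    refine ⟨s, hsS, (s • g)⁻¹ * g', h2'', ?_⟩
    simp only [smul_eq_mul]
    group

end Cfsg.Agent.Helper3.DP
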