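import Mathlib
import Cfsg.Agent.Lib.Helper3.DPDefs
import Cfsg.Agent.Lib.Helper3.DPBasA
import Cfsg.Agent.Lib.Helper3.DPBasB
import Cfsg.Agent.Lib.Helper24.DPDICH

set_option autoImplicit false
set_option linter.unusedSectionVars false
open scoped Pointwise
open MulAction

/-!
# S2205, piece DICHB: Burnside's dichotomy for `H = G_a` acting on the `p` translates of `B`
-/

namespace Cfsg.Agent.Helper3.DP

/-- Bezout for membership of powers in a subgroup. -/
theorem dich_mem_of_pow_mem {X : Type*} [Group X] (N : Subgroup X) (g : X) {a b : ℕ}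
    (hab : Nat.Coprime a b) (ha : g ^ a ∈ N) (hb : g ^ b ∈ N) : g ∈ N := by
  have h := Nat.gcd_eq_gcd_ab a b
  rw [hab.gcd_eq_one] at h
  have : g = (g ^ a) ^ (Nat.gcdA a b) * (g ^ b) ^ (Nat.gcdB a b) := by
    rw [← zpow_natCast, ← zpow_natCast, ← zpow_mul, ← zpow_mul, ← zpow_add, ← h]
    simp
  rw [this]
  exact N.mul_mem (N.zpow_mem ha _) (N.zpow_mem hb _)

variable {G Ω : Type*} [Group G] [Finite G] [Fintype Ω] [MulAction G Ω] [FaithfulSMul G Ω] {p : ℕ}

/-- PIECE DICHB. -/
theorem dich_blocks (S : Setup G Ω p) {B : Set Ω} (hK : KData S B) :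
    (∀ h ∈ stabilizer G S.a, ∀ v ∈ S.P ⊔ kern G S.a B, h * v * h⁻¹ ∈ S.P ⊔ kern G S.a B) ∨
    (∀ h ∈ stabilizer G S.a, ∀ h' ∈ stabilizer G S.a, h • B ≠ B → h' • B ≠ B →
      ∃ m ∈ stabilizer G S.a, m • B = B ∧ m • (h • B) = h' • B) := by
  classical
  have hp := S.prime
  obtain ⟨x, hx⟩ := S.blk_nonempty hK.blk
  have hxa : x ≠ S.a := S.blk_ne hK.blk hx
  set H := stabilizer G S.a with hHdef
  set K := kern G S.a B with hKdef
  have hKH : K ≤ H := kern_le_stabilizer S.a B
  have hsm : ∀ (h : ↥H) (C : Set Ω), h • C = (h : G) • C := fun _ _ => rfl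
  -- the orbit of `B` under `H` is the set of translates
  have horb : orbit ↥H B = {B' : Set Ω | ∃ h ∈ stabilizer G S.a, B' = h • B} := by
    ext C
    constructor
    · rintro ⟨h, rfl⟩
      exact ⟨h.1, h.2, rfl⟩
    · rintro ⟨h, hh, rfl⟩
      exact ⟨⟨h, hh⟩, rfl⟩
  have hidx : (stabilizer ↥H B).index = p := by
    rw [index_stabilizer, horb, S.blk_ncard_translates hK.blk]
  have hmemSB : ∀ h : ↥H, h ∈ stabilizer ↥H B ↔ (h : G) • B = B := fun h => by
    rw [mem_stabilizer_iff, hsm]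
  rcases dich_coset hp (stabilizer ↥H B) hidx with ⟨N, hNn, hcoreN, hNrel⟩ | hdc
  · left
    have := hNn
    -- the core is `K`
    have hcore : (stabilizer ↥H B).normalCore = K.subgroupOf H := by
      ext c
      rw [Subgroup.mem_subgroupOf]
      constructor
      · intro hc
        refine mem_kern.mpr ⟨c.2, fun h hh => ?_⟩
        have h1 : (⟨h, hh⟩ : ↥H)⁻¹ * c * (⟨h, hh⟩ : ↥H)⁻¹⁻¹ ∈ stabilizer ↥H B := hc _
        rw [hmemSB] at h1
        have h2 : ((h⁻¹ * (c : G) * h : G)) • B = B := by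
          simpa using h1
        rw [mul_smul, mul_smul, inv_smul_eq_iff] at h2
        exact h2
      · intro hc b
        rw [hmemSB]
        have h1 := (mem_kern.mp hc).2 ((b : G)⁻¹) (H.inv_mem b.2)
        have : ((b * c * b⁻¹ : ↥H) : G) = (b : G) * (c : G) * (b : G)⁻¹ := by simp
        rw [this, mul_smul, mul_smul, h1, smul_inv_smul]
    rw [hcore] at hcoreN hNrel
    -- orders
    have hcardK' : Nat.card ↥(K.subgroupOf H) = Nat.card ↥K :=
      Nat.card_congr (Subgroup.subgroupOfEquivOfLe hKH).toEquiv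
    have hcardN : Nat.card ↥N = Nat.card ↥K * p := by
      have := Subgroup.relIndex_mul_relIndex (⊥ : Subgroup ↥H) (K.subgroupOf H) N bot_le hcoreN
      rw [Subgroup.relIndex_bot_left, Subgroup.relIndex_bot_left, hNrel, hcardK'] at this
      exact this.symm
    have hcop : Nat.Coprime (p ^ 2) N.index := by
      apply Nat.Coprime.pow_left
      rw [Nat.Prime.coprime_iff_not_dvd hp]
      intro hdvd
      have h1 : Nat.card ↥N * N.index = Nat.card ↥H := N.card_mul_index
      rw [hcardN, S.card_kern hK hxa, S.card_stab hxa] at h1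
      have h2 : p ^ 2 * (Nat.card ↥(K ⊓ stabilizer G x) * N.index)
          = p ^ 2 * Nat.card ↥(stabilizer G S.a ⊓ stabilizer G x) := by
        rw [← h1]; ring
      have h3 := Nat.eq_of_mul_eq_mul_left (pow_pos hp.pos 2) h2
      exact S.not_dvd x hxa (h3 ▸ (hdvd.trans (dvd_mul_left _ _)))
    -- `P ≤ N`
    have hPN : ∀ v (hv : v ∈ S.P), (⟨v, S.P_le hv⟩ : ↥H) ∈ N := by
      intro v hv
      apply dich_mem_of_pow_mem N _ hcop
      · have h1 : (⟨v, hv⟩ : ↥S.P) ^ Nat.card ↥S.P = 1 := pow_card_eq_one'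
        rw [S.P_card] at h1
        have h2 : v ^ p ^ 2 = 1 := by
          have := congrArg (fun g : ↥S.P => (g : G)) h1
          simpa using this
        have h3 : (⟨v, S.P_le hv⟩ : ↥H) ^ p ^ 2 = 1 := by
          apply Subtype.ext
          simpa using h2
        rw [h3]
        exact one_mem _
      · exact Subgroup.pow_index_mem N _
    -- `N' = N.map H.subtype = P ⊔ K`
    set N' := N.map H.subtype with hN'def
    have hN'H : N' ≤ H := by
      rintro _ ⟨n, -, rfl⟩
      exact n.2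
    have hN'sub : N'.subgroupOf H = N := by
      rw [hN'def, Subgroup.subgroupOf, Subgroup.comap_map_eq_self_of_injective H.subtype_injective]
    have hPN' : S.P ≤ N' := fun v hv => ⟨⟨v, S.P_le hv⟩, hPN v hv, rfl⟩
    have hKN' : K ≤ N' := fun k hk => ⟨⟨k, hKH hk⟩, hcoreN (Subgroup.mem_subgroupOf.mpr hk), rfl⟩
    have hle : S.P ⊔ K ≤ N' := sup_le hPN' hKN'
    have hrelN' : K.relIndex N' = p := by
      rw [← Subgroup.relIndex_subgroupOf hN'H, hN'sub]
      exact hNrel
    have hge : N' ≤ S.P ⊔ K := by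
      have hmul := Subgroup.relIndex_mul_relIndex K (S.P ⊔ K) N' le_sup_right hle
      rw [hrelN'] at hmul
      have hdvd : (S.P ⊔ K).relIndex N' ∣ p := Dvd.intro_left _ hmul
      rcases (Nat.dvd_prime hp).mp hdvd with h1 | h1
      · exact Subgroup.relIndex_eq_one.mp h1
      · exfalso
        rw [h1] at hmul
        have h2 : K.relIndex (S.P ⊔ K) = 1 :=
          Nat.eq_of_mul_eq_mul_right hp.pos (by rw [hmul, one_mul])
        have h3 : S.P ≤ K := le_sup_left.trans (Subgroup.relIndex_eq_one.mp h2)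
        have h4 : S.P ⊓ K = S.P := inf_eq_left.mpr h3
        have h5 := hK.card_P0
        rw [h4, S.P_card] at h5
        have : p ^ 2 = p ^ 1 := by rw [h5, pow_one]
        have := Nat.pow_right_injective hp.two_le this
        omega
    have hEq : S.P ⊔ K = N' := le_antisymm hle hge
    intro h hh v hv
    rw [hEq] at hv ⊢
    obtain ⟨n, hn, rfl⟩ := hv
    refine ⟨⟨h, hh⟩ * n * ⟨h, hh⟩⁻¹, hNn.conj_mem n hn _, ?_⟩
    simp
  · right
    intro h hh h' hh' hne hne'
    have hS : (⟨h, hh⟩ : ↥H) ∉ stabilizer ↥H B := by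
      rw [hmemSB]; exact hne
    have hS' : (⟨h', hh'⟩ : ↥H) ∉ stabilizer ↥H B := by
      rw [hmemSB]; exact hne'
    obtain ⟨s, hs, s', hs', heq⟩ := hdc _ _ hS hS'
    rw [hmemSB] at hs hs'
    refine ⟨s.1, s.2, hs, ?_⟩
    have h1 : h' = (s : G) * h * (s' : G) := by
      have := congrArg (fun g : ↥H => (g : G)) heq
      simpa using this
    rw [h1, mul_smul, mul_smul, hs']
end Cfsg.Agent.Helper3.DP
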