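import Mathlib
import Cfsg.Agent.Lib.Helper3.DPDefs
import Cfsg.Agent.Lib.Helper3.DPBasA
import Cfsg.Agent.Lib.Helper3.DPBasB
import Cfsg.Agent.Lib.Helper24.DPDICH

set_option autoImplicit false
set_option linter.unusedSectionVars false
open scoped Pointwise
open MulAction

/-!
# S2205, piece DICHK: Burnside's dichotomy for the kernel `K` acting on the block `B`
-/

namespace Cfsg.Agent.Helper3.DP

/-- two subgroups of prime order `p`, one of them normal, in a group whose order is not divisible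
by `p²`, are equal. -/
theorem dich_eq_of_normal_card {X : Type*} [Group X] [Finite X] {p : ℕ} (hp : p.Prime)
    (N Q : Subgroup X) [N.Normal] (hN : Nat.card N = p) (hQ : Nat.card Q = p)
    (hX : ¬ p ^ 2 ∣ Nat.card X) : Q = N := by
  haveI : Fact p.Prime := ⟨hp⟩
  have hNp : IsPGroup p N := IsPGroup.of_card (n := 1) (by rw [hN, pow_one])
  have hQp : IsPGroup p Q := IsPGroup.of_card (n := 1) (by rw [hQ, pow_one])
  have hsup : IsPGroup p (N ⊔ Q : Subgroup X) := hNp.to_sup_of_normal_left hQp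
  obtain ⟨k, hk⟩ := hsup.exists_card_eq
  have hdvd : p ^ k ∣ Nat.card X := hk ▸ Subgroup.card_subgroup_dvd_card _
  have hk1 : k ≤ 1 := by
    by_contra hlt
    push_neg at hlt
    exact hX ((pow_dvd_pow p hlt).trans hdvd)
  have hle : Nat.card (N ⊔ Q : Subgroup X) ≤ p := by
    rw [hk]
    calc p ^ k ≤ p ^ 1 := Nat.pow_le_pow_right hp.pos hk1
      _ = p := pow_one p
  have h1 : N = N ⊔ Q := Subgroup.eq_of_le_of_card_ge le_sup_left (by rw [hN]; exact hle)
  have h2 : Q = N ⊔ Q := Subgroup.eq_of_le_of_card_ge le_sup_right (by rw [hQ]; exact hle)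
  rw [h2, ← h1]

variable {G Ω : Type*} [Group G] [Finite G] [Fintype Ω] [MulAction G Ω] [FaithfulSMul G Ω] {p : ℕ}

/-- elements of the kernel preserve `B`. -/
theorem dichk_smul_B (S : Setup G Ω p) {B : Set Ω} {k : G} (hk : k ∈ kern G S.a B) : k • B = B := by
  have := (mem_kern.mp hk).2 1 (one_mem _)
  rwa [one_smul] at this

/-- the kernel is transitive on `B`. -/
theorem dichk_trans (S : Setup G Ω p) {B : Set Ω} (hK : KData S B) {y y' : Ω} (hy : y ∈ B)
    (hy' : y' ∈ B) : ∃ k ∈ kern G S.a B, k • y = y' := by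
  obtain ⟨k, hk, hky⟩ := hK.trans 1 (one_mem _) y (by rwa [one_smul]) y' (by rwa [one_smul])
  exact ⟨k, (Subgroup.mem_inf.mp hk).2, hky⟩

/-- PIECE DICHK. -/
theorem dich_kern (S : Setup G Ω p) {B : Set Ω} (hK : KData S B) :
    (∀ k ∈ kern G S.a B, ∀ z ∈ S.P ⊓ kern G S.a B, k * z * k⁻¹ ∈ S.P ⊓ kern G S.a B) ∨
    (∀ y₁ ∈ B, ∀ y₂ ∈ B, ∀ y₁' ∈ B, ∀ y₂' ∈ B, y₁ ≠ y₂ → y₁' ≠ y₂' →
      ∃ k ∈ kern G S.a B, k • y₁ = y₁' ∧ k • y₂ = y₂') := by
  classical
  have hp := S.prime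
  obtain ⟨x, hx⟩ := S.blk_nonempty hK.blk
  have hxa : x ≠ S.a := S.blk_ne hK.blk hx
  set K := kern G S.a B with hKdef
  -- the orbit of `x` under `K` is `B`
  have horb : orbit ↥K x = B := by
    ext y
    constructor
    · rintro ⟨k, rfl⟩
      have : (k : G) • x ∈ (k : G) • B := Set.smul_mem_smul_set hx
      rwa [dichk_smul_B S k.2] at this
    · intro hy
      obtain ⟨k, hk, hky⟩ := dichk_trans S hK hx hy
      exact ⟨⟨k, hk⟩, hky⟩
  have hidx : (stabilizer ↥K x).index = p := by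
    rw [index_stabilizer, horb, hK.blk.2.1]
  rcases dich_coset hp (stabilizer ↥K x) hidx with ⟨N, hNn, -, hNrel⟩ | hdc
  · left
    -- the core is trivial
    have hcore : (stabilizer ↥K x).normalCore = ⊥ := by
      rw [eq_bot_iff]
      intro c hc
      rw [Subgroup.mem_bot]
      apply Subtype.ext
      refine hK.faithful c.1 c.2 1 (one_mem _) ?_
      intro y hy
      rw [one_smul] at hy
      obtain ⟨k, hk, hky⟩ := dichk_trans S hK hx hy
      have h1 : (⟨k, hk⟩ : ↥K)⁻¹ * c * (⟨k, hk⟩ : ↥K)⁻¹⁻¹ ∈ stabilizer ↥K x := hc _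
      rw [mem_stabilizer_iff, inv_inv, mul_smul, mul_smul] at h1
      have h2 : c • ((⟨k, hk⟩ : ↥K) • x) = (⟨k, hk⟩ : ↥K) • x := by
        rw [inv_smul_eq_iff] at h1
        exact h1
      have h3 : ((⟨k, hk⟩ : ↥K) • x) = y := hky
      rw [h3] at h2
      exact h2
    rw [hcore, Subgroup.relIndex_bot_left] at hNrel
    -- `P0` as a subgroup of `K`
    have hP0card : Nat.card ↥((S.P ⊓ K).subgroupOf K) = p := by
      rw [Nat.card_congr (Subgroup.subgroupOfEquivOfLe (inf_le_right : S.P ⊓ K ≤ K)).toEquiv]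
      exact hK.card_P0
    have hnd : ¬ p ^ 2 ∣ Nat.card ↥K := by
      rw [S.card_kern hK hxa, pow_two]
      intro h
      exact S.not_dvd_card_kern_inf hK hxa ((Nat.mul_dvd_mul_iff_left hp.pos).mp h)
    have hEq : (S.P ⊓ K).subgroupOf K = N := dich_eq_of_normal_card hp N _ hNrel hP0card hnd
    intro k hk z hz
    have hzK : z ∈ K := (Subgroup.mem_inf.mp hz).2
    have hzN : (⟨z, hzK⟩ : ↥K) ∈ N := by
      rw [← hEq, Subgroup.mem_subgroupOf]
      exact hz
    have := hNn.conj_mem _ hzN ⟨k, hk⟩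
    rw [← hEq, Subgroup.mem_subgroupOf] at this
    exact this
  · right
    -- `K_x` is transitive on `B ∖ {x}`
    have hstab : ∀ y ∈ B, ∀ y' ∈ B, y ≠ x → y' ≠ x → ∃ s ∈ K, s • x = x ∧ s • y = y' := by
      intro y hy y' hy' hyx hy'x
      obtain ⟨g, hg, hgy⟩ := dichk_trans S hK hx hy
      obtain ⟨g', hg', hgy'⟩ := dichk_trans S hK hx hy'
      have hgS : (⟨g, hg⟩ : ↥K) ∉ stabilizer ↥K x := by
        intro h
        rw [mem_stabilizer_iff] at h
        apply hyx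
        rw [← hgy]
        exact h
      have hgS' : (⟨g', hg'⟩ : ↥K) ∉ stabilizer ↥K x := by
        intro h
        rw [mem_stabilizer_iff] at h
        apply hy'x
        rw [← hgy']
        exact h
      obtain ⟨s, hs, s', hs', heq⟩ := hdc _ _ hgS hgS'
      refine ⟨s.1, s.2, hs, ?_⟩
      rw [mem_stabilizer_iff] at hs hs'
      have h1 : (⟨g', hg'⟩ : ↥K) • x = (s * ⟨g, hg⟩ * s') • x := by rw [heq]
      rw [mul_smul, mul_smul, hs'] at h1
      have h2 : (⟨g', hg'⟩ : ↥K) • x = y' := hgy'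
      have h3 : (⟨g, hg⟩ : ↥K) • x = y := hgy
      rw [h2, h3] at h1
      exact h1.symm
    intro y₁ hy₁ y₂ hy₂ y₁' hy₁' y₂' hy₂' hne hne'
    obtain ⟨k₁, hk₁, hk₁y⟩ := dichk_trans S hK hy₁ hx
    obtain ⟨k₁', hk₁', hk₁y'⟩ := dichk_trans S hK hy₁' hx
    have hmem : k₁ • y₂ ∈ B := by
      have : k₁ • y₂ ∈ k₁ • B := Set.smul_mem_smul_set hy₂
      rwa [dichk_smul_B S hk₁] at this
    have hmem' : k₁' • y₂' ∈ B := by
      have : k₁' • y₂' ∈ k₁' • B := Set.smul_mem_smul_set hy₂'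
      rwa [dichk_smul_B S hk₁'] at this
    have hnx : k₁ • y₂ ≠ x := by
      intro h
      apply hne
      rw [← hk₁y] at h
      exact (smul_left_cancel k₁ h).symm
    have hnx' : k₁' • y₂' ≠ x := by
      intro h
      apply hne'
      rw [← hk₁y'] at h
      exact (smul_left_cancel k₁' h).symm
    obtain ⟨s, hs, hsx, hsy⟩ := hstab _ hmem _ hmem' hnx hnx'
    refine ⟨k₁'⁻¹ * s * k₁, K.mul_mem (K.mul_mem (K.inv_mem hk₁') hs) hk₁, ?_, ?_⟩
    · rw [mul_smul, mul_smul, hk₁y, hsx, inv_smul_eq_iff, hk₁y']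
    · rw [mul_smul, mul_smul, hsy, inv_smul_smul]

end Cfsg.Agent.Helper3.DP
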