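import Mathlib
import Cfsg.Agent.Lib.Helper24.CharAbelian

/-!
# A counting inequality for class-two normal subgroups (piece B of helper22's S4843)
-/

set_option autoImplicit false

namespace Cfsg.Agent.Helper24.FitCenB

open scoped BigOperators

section Dual

variable {A : Type*} [Group A] [Finite A]

theorem finite_hom : Finite (A →* ℂˣ) := by
  apply Nat.finite_of_card_ne_zero
  rw [Cfsg.Agent.Helper24.card_monoidHom_units]
  exact Subgroup.index_ne_zero_of_finite

theorem card_hom_le : Nat.card (A →* ℂˣ) ≤ Nat.card A := by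
  rw [Cfsg.Agent.Helper24.card_monoidHom_units]
  exact Nat.le_of_dvd Nat.card_pos (Subgroup.index_dvd_card _)

/-- Homomorphisms to `ℂˣ` trivial on a normal subgroup `T` are at most `|A : T|` many. -/
theorem card_homs_trivial_on (T : Subgroup A) [T.Normal] (I : Set (A →* ℂˣ))
    (hI : ∀ f ∈ I, ∀ t ∈ T, f t = 1) : Nat.card I * Nat.card T ≤ Nat.card A := by
  have : Finite (A ⧸ T →* ℂˣ) := finite_hom
  have hinj : Nat.card I ≤ Nat.card (A ⧸ T →* ℂˣ) := by
    apply Nat.card_le_card_of_injective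
      (fun f : I => QuotientGroup.lift T f.1 (fun t ht => hI f.1 f.2 t ht))
    intro f f' h
    apply Subtype.ext
    ext u
    have := congrArg (fun φ : A ⧸ T →* ℂˣ => φ (QuotientGroup.mk u)) h
    have h2 : (f : A →* ℂˣ) u = (f' : A →* ℂˣ) u := this
    rw [h2]
  calc Nat.card I * Nat.card T ≤ Nat.card (A ⧸ T) * Nat.card T :=
        Nat.mul_le_mul_right _ (hinj.trans card_hom_le)
    _ = Nat.card A := (Subgroup.card_eq_card_quotient_mul_card_subgroup T).symm

variable (Z0 : Subgroup A)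
  (hcomm : ∀ u v : A, u * v * u⁻¹ * v⁻¹ ∈ Z0)
  (hZ0 : ∀ z ∈ Z0, ∀ u : A, z * u = u * z)

/-- The commutator pairing with values in `Z0`. -/
def pair (w v : A) : Z0 := ⟨w * v * w⁻¹ * v⁻¹, hcomm w v⟩

include hZ0 in
theorem pair_mul_right (w v v' : A) :
    pair Z0 hcomm w (v * v') = pair Z0 hcomm w v * pair Z0 hcomm w v' := by
  apply Subtype.ext
  have hc := hZ0 _ (hcomm w v') v
  show w * (v * v') * w⁻¹ * (v * v')⁻¹ = (w * v * w⁻¹ * v⁻¹) * (w * v' * w⁻¹ * v'⁻¹)
  have h1 : w * (v * v') * w⁻¹ * (v * v')⁻¹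
      = (w * v * w⁻¹ * v⁻¹) * (v * (w * v' * w⁻¹ * v'⁻¹) * v⁻¹) := by group
  rw [h1, ← hc]
  group

include hZ0 in
theorem pair_mul_left (w w' v : A) :
    pair Z0 hcomm (w * w') v = pair Z0 hcomm w v * pair Z0 hcomm w' v := by
  apply Subtype.ext
  have hc := hZ0 _ (hcomm w' v) w
  show w * w' * v * (w * w')⁻¹ * v⁻¹ = (w * v * w⁻¹ * v⁻¹) * (w' * v * w'⁻¹ * v⁻¹)
  have h1 : w * w' * v * (w * w')⁻¹ * v⁻¹
      = (w * (w' * v * w'⁻¹ * v⁻¹)) * (v * w⁻¹ * v⁻¹) := by group
  have hc2 := hZ0 _ (hcomm w' v) (w * v * w⁻¹ * v⁻¹)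
  rw [h1, ← hc]
  rw [show w' * v * w'⁻¹ * v⁻¹ * w * (v * w⁻¹ * v⁻¹)
      = (w' * v * w'⁻¹ * v⁻¹) * (w * v * w⁻¹ * v⁻¹) by group, hc2]

theorem pair_one_right (w : A) : pair Z0 hcomm w 1 = 1 := by
  apply Subtype.ext
  show w * 1 * w⁻¹ * 1⁻¹ = 1
  group

variable (ω : Z0 →* ℂˣ)

/-- `v ↦ ω [w, v]` as a homomorphism. -/
def pairHom (w : A) : A →* ℂˣ where
  toFun v := ω (pair Z0 hcomm w v)
  map_one' := by rw [pair_one_right, map_one]
  map_mul' v v' := by rw [pair_mul_right Z0 hcomm hZ0, map_mul]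

/-- `w ↦ (v ↦ ω [w, v])` as a homomorphism on a subgroup `C`. -/
def pairHom₂ (C : Subgroup A) : C →* (A →* ℂˣ) where
  toFun w := pairHom Z0 hcomm hZ0 ω w
  map_one' := by
    ext v
    show ((ω (pair Z0 hcomm 1 v) : ℂˣ) : ℂ) = ((1 : ℂˣ) : ℂ)
    have : pair Z0 hcomm (1 : A) v = 1 := by
      apply Subtype.ext
      show 1 * v * 1⁻¹ * v⁻¹ = 1
      group
    rw [this, map_one]
  map_mul' w w' := by
    ext v
    show ((ω (pair Z0 hcomm ((w : A) * (w' : A)) v) : ℂˣ) : ℂ)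
      = ((ω (pair Z0 hcomm w v) * ω (pair Z0 hcomm w' v) : ℂˣ) : ℂ)
    rw [pair_mul_left Z0 hcomm hZ0, map_mul]

include hcomm hZ0 in
/-- Duality count: `|C| * |C_A(C)| ≤ |A| * |Z0|`. -/
theorem card_mul_card_centralizer_le (hcen : ∀ u : A, (∀ v, u * v = v * u) → u ∈ Z0)
    (hω : Function.Injective ω) (C : Subgroup A) :
    Nat.card C * Nat.card (Subgroup.centralizer (C : Set A)) ≤ Nat.card A * Nat.card Z0 := by
  set T : Subgroup A := Subgroup.centralizer (C : Set A) with hT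
  have hTn : T.Normal := by
    constructor
    intro t ht v
    rw [hT, Subgroup.mem_centralizer_iff] at ht ⊢
    intro c hc
    have hz := hZ0 _ (hcomm v t)
    have h1 := ht c hc
    calc c * (v * t * v⁻¹) = (c * (v * t * v⁻¹ * t⁻¹)) * t := by group
      _ = ((v * t * v⁻¹ * t⁻¹) * c) * t := by rw [hz c]
      _ = (v * t * v⁻¹ * t⁻¹) * (c * t) := by group
      _ = (v * t * v⁻¹ * t⁻¹) * (t * c) := by rw [h1]
      _ = v * t * v⁻¹ * c := by group
  set Φ := pairHom₂ Z0 hcomm hZ0 ω C with hΦ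
  -- range of Φ is trivial on T
  have hI : ∀ f ∈ (Φ.range : Set (A →* ℂˣ)), ∀ t ∈ T, f t = 1 := by
    rintro f ⟨w, rfl⟩ t ht
    show ω (pair Z0 hcomm (w : A) t) = 1
    have : pair Z0 hcomm (w : A) t = 1 := by
      apply Subtype.ext
      show (w : A) * t * (w : A)⁻¹ * t⁻¹ = 1
      rw [hT, Subgroup.mem_centralizer_iff] at ht
      rw [ht w w.2]
      group
    rw [this, map_one]
  have h1 := card_homs_trivial_on T (Φ.range : Set (A →* ℂˣ)) hI
  -- kernel of Φ injects into Z0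
  have hker : Nat.card Φ.ker ≤ Nat.card Z0 := by
    apply Nat.card_le_card_of_injective
      (fun w : Φ.ker => (⟨((w : C) : A), by
        apply hcen
        intro v
        have hw : Φ (w : C) = 1 := w.2
        have h2 : ω (pair Z0 hcomm ((w : C) : A) v) = 1 := by
          have := congrArg (fun f : A →* ℂˣ => f v) hw
          simpa [hΦ, pairHom₂, pairHom] using this
        have h3 : pair Z0 hcomm ((w : C) : A) v = 1 := by
          apply hω
          rw [h2, map_one]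
        have h4 : ((w : C) : A) * v * ((w : C) : A)⁻¹ * v⁻¹ = 1 := congrArg Subtype.val h3
        calc ((w : C) : A) * v = (((w : C) : A) * v * ((w : C) : A)⁻¹ * v⁻¹) * (v * ((w : C) : A)) := by
              group
          _ = v * ((w : C) : A) := by rw [h4, one_mul]⟩ : Z0))
    intro w w' h
    apply Subtype.ext
    apply Subtype.ext
    exact congrArg (fun z : Z0 => (z : A)) h
  have h2 : Nat.card C = Nat.card Φ.ker * Nat.card Φ.range := by
    rw [← Subgroup.index_ker, Subgroup.card_mul_index]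
  have h1' : Nat.card Φ.range * Nat.card T ≤ Nat.card A := h1
  calc Nat.card C * Nat.card T = Nat.card Φ.ker * (Nat.card Φ.range * Nat.card T) := by
        rw [h2]; ring
    _ ≤ Nat.card Z0 * Nat.card A := Nat.mul_le_mul hker h1'
    _ = Nat.card A * Nat.card Z0 := by ring

end Dual

section Main

variable {G : Type*} [Group G]

/-- `g` is good (w.r.t. `U`) if no commutator `[g, v]`, `v ∈ U`, is a nontrivial central element. -/
def Good (U : Subgroup G) (g : G) : Prop :=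
  ∀ v ∈ U, g * v * g⁻¹ * v⁻¹ ∈ Subgroup.center G → g * v * g⁻¹ * v⁻¹ = 1

theorem good_one (U : Subgroup G) : Good U (1 : G) := by
  intro v _ _
  group

/-- If `[h, v] = ζ` is central then `[h ^ m, v] = ζ ^ m`. -/
theorem comm_pow_of_central (h v : G) (hz : h * v * h⁻¹ * v⁻¹ ∈ Subgroup.center G) (m : ℕ) :
    h ^ m * v * (h ^ m)⁻¹ * v⁻¹ = (h * v * h⁻¹ * v⁻¹) ^ m := by
  induction m with
  | zero => simp
  | succ m ih =>
    have hc := Subgroup.mem_center_iff.mp (Subgroup.pow_mem _ hz m)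
    have e : h ^ (m + 1) * v * (h ^ (m + 1))⁻¹ * v⁻¹
        = h * ((h ^ m * v * (h ^ m)⁻¹ * v⁻¹) * (v * h⁻¹ * v⁻¹)) := by
      rw [pow_succ']; group
    rw [e, ih, ← mul_assoc, hc h, pow_succ]
    group

theorem good_pow [Finite G] (U : Subgroup G) {g : G} (hg : Good U g) {k : ℕ}
    (hk : Nat.Coprime k (Nat.card G)) : Good U (g ^ k) := by
  intro v hv hz
  have hco : Nat.Coprime k (orderOf g) :=
    Nat.Coprime.coprime_dvd_right (orderOf_dvd_natCard g) hk
  obtain ⟨m, hm⟩ := exists_pow_eq_self_of_coprime hco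
  have h1 := comm_pow_of_central (g ^ k) v hz m
  rw [hm] at h1
  have h2 : g * v * g⁻¹ * v⁻¹ = 1 := by
    apply hg v hv
    rw [h1]
    exact Subgroup.pow_mem _ hz m
  have h3 : g * v = v * g := by
    calc g * v = (g * v * g⁻¹ * v⁻¹) * (v * g) := by group
      _ = v * g := by rw [h2, one_mul]
  have h4 : g ^ k * v = v * g ^ k := by
    have : Commute g v := h3
    exact (this.pow_left k).eq
  calc g ^ k * v * (g ^ k)⁻¹ * v⁻¹ = (g ^ k * v) * (g ^ k)⁻¹ * v⁻¹ := by group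
    _ = 1 := by rw [h4]; group

/-- Conjugation by `c` fixes `g⁻¹ v⁻¹ g v z` when `c` commutes with `g`, `z` is central and
`c v = ζ v c` with `ζ` central. -/
theorem conj_fix_aux (c g v z ζ : G) (hcg : c * g = g * c) (hz : ∀ x : G, x * z = z * x)
    (hζ : ∀ x : G, x * ζ = ζ * x) (hv : c * v = ζ * v * c) :
    c * (g⁻¹ * v⁻¹ * g * v * z) = (g⁻¹ * v⁻¹ * g * v * z) * c := by
  have h1 : c * g⁻¹ = g⁻¹ * c := by
    calc c * g⁻¹ = g⁻¹ * (g * c) * g⁻¹ := by group
      _ = g⁻¹ * (c * g) * g⁻¹ := by rw [hcg]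
      _ = g⁻¹ * c := by group
  have h2 : c * v⁻¹ = v⁻¹ * ζ⁻¹ * c := by
    calc c * v⁻¹ = v⁻¹ * ζ⁻¹ * (ζ * v * c) * v⁻¹ := by group
      _ = v⁻¹ * ζ⁻¹ * (c * v) * v⁻¹ := by rw [hv]
      _ = v⁻¹ * ζ⁻¹ * c := by group
  calc c * (g⁻¹ * v⁻¹ * g * v * z) = (c * g⁻¹) * v⁻¹ * g * v * z := by group
    _ = g⁻¹ * (c * v⁻¹) * g * v * z := by rw [h1]; group
    _ = g⁻¹ * v⁻¹ * ζ⁻¹ * (c * g) * v * z := by rw [h2]; group
    _ = g⁻¹ * v⁻¹ * ζ⁻¹ * g * (c * v) * z := by rw [hcg]; group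
    _ = g⁻¹ * v⁻¹ * ζ⁻¹ * (g * ζ) * v * (c * z) := by rw [hv]; group
    _ = g⁻¹ * v⁻¹ * ζ⁻¹ * (ζ * g) * v * (z * c) := by rw [hζ g, hz c]
    _ = (g⁻¹ * v⁻¹ * g * v * z) * c := by group

variable [Fintype G] (U : Subgroup G) [U.Normal] [Fintype U]

/-- KEY CLAIM: if `g` and `g * u` (`u ∈ U`) are both good, then `g * u` is `U`-conjugate to `g`
up to a central factor. -/
theorem exists_conj_of_good
    (hUU : ∀ u ∈ U, ∀ v ∈ U, u * v * u⁻¹ * v⁻¹ ∈ Subgroup.center G)
    (hZU : ∀ u ∈ U, (∀ v ∈ U, u * v = v * u) → u ∈ Subgroup.center G)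
    (ω : Subgroup.center G →* ℂˣ) (hω : Function.Injective ω)
    {g : G} (hg : Good U g) {u : G} (hu : u ∈ U) (hgu : Good U (g * u)) :
    ∃ v ∈ U, ∃ z ∈ Subgroup.center G, g * u = v⁻¹ * g * v * z := by
  classical
  -- the abstract data inside the group `↥U`
  set Z0 : Subgroup U := (Subgroup.center G).subgroupOf U with hZ0def
  have hcomm : ∀ a b : U, a * b * a⁻¹ * b⁻¹ ∈ Z0 := by
    intro a b
    rw [hZ0def, Subgroup.mem_subgroupOf]
    have := hUU a a.2 b b.2
    simpa using this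
  have hZ0 : ∀ z ∈ Z0, ∀ a : U, z * a = a * z := by
    intro z hz a
    rw [hZ0def, Subgroup.mem_subgroupOf] at hz
    apply Subtype.ext
    have := Subgroup.mem_center_iff.mp hz (a : G)
    simpa using this.symm
  have hcen : ∀ a : U, (∀ b : U, a * b = b * a) → a ∈ Z0 := by
    intro a ha
    rw [hZ0def, Subgroup.mem_subgroupOf]
    apply hZU a a.2
    intro v hv
    have := congrArg Subtype.val (ha ⟨v, hv⟩)
    simpa using this
  let ι : Z0 →* Subgroup.center G :=
    { toFun := fun z => ⟨((z : U) : G), Subgroup.mem_subgroupOf.mp z.2⟩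
      map_one' := rfl
      map_mul' := fun _ _ => rfl }
  have hι : Function.Injective ι := by
    intro z z' h
    apply Subtype.ext
    apply Subtype.ext
    exact congrArg (fun x : Subgroup.center G => (x : G)) h
  set ω' : Z0 →* ℂˣ := ω.comp ι with hω'def
  have hω' : Function.Injective ω' := hω.comp hι
  set C : Subgroup U := (Subgroup.centralizer ({g} : Set G)).subgroupOf U with hCdef
  have hCmem : ∀ a : U, a ∈ C ↔ g * (a : G) = (a : G) * g := by
    intro a
    rw [hCdef, Subgroup.mem_subgroupOf, Subgroup.mem_centralizer_iff]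
    simp
  set T : Subgroup U := Subgroup.centralizer (C : Set U) with hTdef
  have hdual := card_mul_card_centralizer_le Z0 hcomm hZ0 ω' hcen hω' C
  -- the map φ
  have hφmem : ∀ p : U × Z0, g⁻¹ * ((p.1 : U) : G)⁻¹ * g * (p.1 : G) * ((p.2 : U) : G) ∈ U := by
    intro p
    have h1 : g⁻¹ * ((p.1 : U) : G)⁻¹ * g ∈ U := by
      have := (inferInstance : U.Normal).conj_mem ((p.1 : G)⁻¹) (U.inv_mem p.1.2) g⁻¹
      simpa using this
    exact U.mul_mem (U.mul_mem h1 p.1.2) (p.2 : U).2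
  let φ : U × Z0 → U := fun p => ⟨_, hφmem p⟩
  have hφT : ∀ p, φ p ∈ T := by
    intro p
    rw [hTdef, Subgroup.mem_centralizer_iff]
    intro c hc
    have hcg : g * (c : G) = (c : G) * g := (hCmem c).mp hc
    apply Subtype.ext
    have hz : ∀ x : G, x * ((p.2 : U) : G) = ((p.2 : U) : G) * x :=
      fun x => Subgroup.mem_center_iff.mp (Subgroup.mem_subgroupOf.mp p.2.2) x
    have hζmem := hUU c c.2 p.1 p.1.2
    have hζ : ∀ x : G, x * ((c : G) * (p.1 : G) * (c : G)⁻¹ * (p.1 : G)⁻¹)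
        = ((c : G) * (p.1 : G) * (c : G)⁻¹ * (p.1 : G)⁻¹) * x :=
      fun x => Subgroup.mem_center_iff.mp hζmem x
    have hv : (c : G) * (p.1 : G) = ((c : G) * (p.1 : G) * (c : G)⁻¹ * (p.1 : G)⁻¹) * (p.1 : G) * c := by
      group
    have := conj_fix_aux (c : G) g (p.1 : G) ((p.2 : U) : G) _ hcg.symm hz hζ hv
    simpa [φ] using this
  -- fibres of φ have size at most |C|
  have hfib : ∀ a ∈ (Finset.univ : Finset (U × Z0)).image φ,
      ((Finset.univ : Finset (U × Z0)).filter (fun p => φ p = a)).card ≤ Nat.card C := by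
    intro a ha
    obtain ⟨p0, -, rfl⟩ := Finset.mem_image.mp ha
    have key : ∀ p : U × Z0, φ p = φ p0 → (p.1 * p0.1⁻¹ ∈ C ∧ p.2 = p0.2) := by
      intro p hp
      have hp' : g⁻¹ * ((p.1 : U) : G)⁻¹ * g * (p.1 : G) * ((p.2 : U) : G)
          = g⁻¹ * ((p0.1 : U) : G)⁻¹ * g * (p0.1 : G) * ((p0.2 : U) : G) :=
        congrArg Subtype.val hp
      have hz : ∀ x : G, x * ((p.2 : U) : G) = ((p.2 : U) : G) * x :=
        fun x => Subgroup.mem_center_iff.mp (Subgroup.mem_subgroupOf.mp p.2.2) x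
      have hz0 : ∀ x : G, x * ((p0.2 : U) : G) = ((p0.2 : U) : G) * x :=
        fun x => Subgroup.mem_center_iff.mp (Subgroup.mem_subgroupOf.mp p0.2.2) x
      set w : G := (p.1 : G) * (p0.1 : G)⁻¹ with hw
      have hwU : w ∈ U := U.mul_mem p.1.2 (U.inv_mem p0.1.2)
      -- g w z' = w g z
      have e1 : g * w * ((p.2 : U) : G) = w * g * ((p0.2 : U) : G) := by
        have e2 : g * (p.1 : G) * ((p.2 : U) : G)
            = (p.1 : G) * (p0.1 : G)⁻¹ * g * (p0.1 : G) * ((p0.2 : U) : G) := by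
          calc g * (p.1 : G) * ((p.2 : U) : G)
              = (p.1 : G) * g * (g⁻¹ * ((p.1 : U) : G)⁻¹ * g * (p.1 : G) * ((p.2 : U) : G)) := by
                group
            _ = (p.1 : G) * g * (g⁻¹ * ((p0.1 : U) : G)⁻¹ * g * (p0.1 : G) * ((p0.2 : U) : G)) := by
                rw [hp']
            _ = (p.1 : G) * (p0.1 : G)⁻¹ * g * (p0.1 : G) * ((p0.2 : U) : G) := by group
        calc g * w * ((p.2 : U) : G) = g * (p.1 : G) * ((p0.1 : G)⁻¹ * ((p.2 : U) : G)) := by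
              rw [hw]; group
          _ = g * (p.1 : G) * (((p.2 : U) : G) * (p0.1 : G)⁻¹) := by rw [hz]
          _ = (g * (p.1 : G) * ((p.2 : U) : G)) * (p0.1 : G)⁻¹ := by group
          _ = ((p.1 : G) * (p0.1 : G)⁻¹ * g * (p0.1 : G) * ((p0.2 : U) : G)) * (p0.1 : G)⁻¹ := by
              rw [e2]
          _ = (p.1 : G) * (p0.1 : G)⁻¹ * g * ((p0.1 : G) * ((p0.2 : U) : G)) * (p0.1 : G)⁻¹ := by
              group
          _ = (p.1 : G) * (p0.1 : G)⁻¹ * g * (((p0.2 : U) : G) * (p0.1 : G)) * (p0.1 : G)⁻¹ := by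
              rw [hz0]
          _ = w * g * ((p0.2 : U) : G) := by rw [hw]; group
      -- [g, w] = z z'⁻¹
      have e3 : g * w * g⁻¹ * w⁻¹ = ((p0.2 : U) : G) * ((p.2 : U) : G)⁻¹ := by
        have e4 : g * w = w * g * ((p0.2 : U) : G) * ((p.2 : U) : G)⁻¹ := by
          calc g * w = (g * w * ((p.2 : U) : G)) * ((p.2 : U) : G)⁻¹ := by group
            _ = w * g * ((p0.2 : U) : G) * ((p.2 : U) : G)⁻¹ := by rw [e1]
        calc g * w * g⁻¹ * w⁻¹ = (g * w) * g⁻¹ * w⁻¹ := by group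
          _ = w * g * ((p0.2 : U) : G) * ((p.2 : U) : G)⁻¹ * g⁻¹ * w⁻¹ := by rw [e4]
          _ = w * g * (((p0.2 : U) : G) * (((p.2 : U) : G)⁻¹ * (g⁻¹ * w⁻¹))) := by group
          _ = w * g * (((p0.2 : U) : G) * ((g⁻¹ * w⁻¹) * ((p.2 : U) : G)⁻¹)) := by
              have : ((p.2 : U) : G)⁻¹ * (g⁻¹ * w⁻¹) = (g⁻¹ * w⁻¹) * ((p.2 : U) : G)⁻¹ := by
                have h := hz (g⁻¹ * w⁻¹)
                calc ((p.2 : U) : G)⁻¹ * (g⁻¹ * w⁻¹)
                    = ((p.2 : U) : G)⁻¹ * ((g⁻¹ * w⁻¹) * ((p.2 : U) : G)) * ((p.2 : U) : G)⁻¹ := by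
                      group
                  _ = ((p.2 : U) : G)⁻¹ * (((p.2 : U) : G) * (g⁻¹ * w⁻¹)) * ((p.2 : U) : G)⁻¹ := by
                      rw [h]
                  _ = (g⁻¹ * w⁻¹) * ((p.2 : U) : G)⁻¹ := by group
              rw [this]
          _ = w * g * ((((p0.2 : U) : G) * (g⁻¹ * w⁻¹)) * ((p.2 : U) : G)⁻¹) := by group
          _ = w * g * (((g⁻¹ * w⁻¹) * ((p0.2 : U) : G)) * ((p.2 : U) : G)⁻¹) := by
              rw [← hz0 (g⁻¹ * w⁻¹)]
          _ = ((p0.2 : U) : G) * ((p.2 : U) : G)⁻¹ := by group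
      have hcen1 : g * w * g⁻¹ * w⁻¹ ∈ Subgroup.center G := by
        rw [e3]
        exact Subgroup.mul_mem _ (Subgroup.mem_subgroupOf.mp p0.2.2)
          (Subgroup.inv_mem _ (Subgroup.mem_subgroupOf.mp p.2.2))
      have e5 := hg w hwU hcen1
      constructor
      · rw [hCmem]
        have : ((p.1 * p0.1⁻¹ : U) : G) = w := by simp [hw]
        rw [this]
        calc g * w = (g * w * g⁻¹ * w⁻¹) * (w * g) := by group
          _ = w * g := by rw [e5, one_mul]
      · apply Subtype.ext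
        apply Subtype.ext
        have : ((p0.2 : U) : G) * ((p.2 : U) : G)⁻¹ = 1 := by rw [← e3, e5]
        have h6 : ((p0.2 : U) : G) = ((p.2 : U) : G) := by
          calc ((p0.2 : U) : G) = (((p0.2 : U) : G) * ((p.2 : U) : G)⁻¹) * ((p.2 : U) : G) := by
                group
            _ = ((p.2 : U) : G) := by rw [this, one_mul]
        exact h6.symm
    -- injection of the fibre into C
    have hinj : ((Finset.univ : Finset (U × Z0)).filter (fun p => φ p = φ p0)).card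
        ≤ ((Finset.univ : Finset U).filter (fun a => a ∈ C)).card := by
      apply Finset.card_le_card_of_injOn (fun p => p.1 * p0.1⁻¹)
      · intro p hp
        have hp' : φ p = φ p0 := by simpa using hp
        simpa using (key p hp').1
      · intro p hp p' hp' heq
        have h1 : φ p = φ p0 := by simpa using hp
        have h2 : φ p' = φ p0 := by simpa using hp'
        have h3 : p.1 = p'.1 := by
          have : p.1 * p0.1⁻¹ = p'.1 * p0.1⁻¹ := heq
          exact mul_right_cancel this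
        have h4 : p.2 = p'.2 := by rw [(key p h1).2, (key p' h2).2]
        exact Prod.ext h3 h4
    have hCcard : ((Finset.univ : Finset U).filter (fun a => a ∈ C)).card = Nat.card C := by
      rw [Nat.card_eq_fintype_card, Fintype.card_subtype]
    rw [← hCcard]
    exact hinj
  have hcount := Finset.card_le_mul_card_image (f := φ) (Finset.univ : Finset (U × Z0))
    (Nat.card C) hfib
  -- compare cardinalities
  set D : Finset U := (Finset.univ : Finset (U × Z0)).image φ with hD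
  set Tf : Finset U := (Finset.univ : Finset U).filter (fun a => a ∈ T) with hTf
  have hDT : D ⊆ Tf := by
    intro a ha
    obtain ⟨p, -, rfl⟩ := Finset.mem_image.mp ha
    simp [hTf, hφT p]
  have hTcard : Tf.card = Nat.card T := by
    rw [Nat.card_eq_fintype_card, Fintype.card_subtype]
  have hUZ : (Finset.univ : Finset (U × Z0)).card = Nat.card U * Nat.card Z0 := by
    rw [Finset.card_univ, Fintype.card_prod, Nat.card_eq_fintype_card, Nat.card_eq_fintype_card]
  have hCpos : 0 < Nat.card C := Nat.card_pos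
  have hle : Tf.card ≤ D.card := by
    have h1 : Nat.card C * Tf.card ≤ Nat.card C * D.card := by
      rw [hTcard]
      calc Nat.card C * Nat.card T ≤ Nat.card U * Nat.card Z0 := hdual
        _ = (Finset.univ : Finset (U × Z0)).card := hUZ.symm
        _ ≤ Nat.card C * D.card := hcount
    exact Nat.le_of_mul_le_mul_left h1 hCpos
  have hDeq : D = Tf := Finset.eq_of_subset_of_card_le hDT hle
  -- `u ∈ T`
  have huT : (⟨u, hu⟩ : U) ∈ T := by
    rw [hTdef, Subgroup.mem_centralizer_iff]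
    intro c hc
    have hcg : g * (c : G) = (c : G) * g := (hCmem c).mp hc
    apply Subtype.ext
    show (c : G) * u = u * (c : G)
    have hζmem := hUU u hu c c.2
    have hζ := Subgroup.mem_center_iff.mp hζmem
    have hgi : g⁻¹ * (c : G)⁻¹ = (c : G)⁻¹ * g⁻¹ := by
      rw [← mul_inv_rev, ← mul_inv_rev, hcg]
    have e : (g * u) * (c : G) * (g * u)⁻¹ * (c : G)⁻¹ = u * (c : G) * u⁻¹ * (c : G)⁻¹ := by
      calc (g * u) * (c : G) * (g * u)⁻¹ * (c : G)⁻¹
          = g * u * (c : G) * u⁻¹ * (g⁻¹ * (c : G)⁻¹) := by group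
        _ = g * u * (c : G) * u⁻¹ * ((c : G)⁻¹ * g⁻¹) := by rw [hgi]
        _ = g * (u * (c : G) * u⁻¹ * (c : G)⁻¹) * g⁻¹ := by group
        _ = (u * (c : G) * u⁻¹ * (c : G)⁻¹) * g * g⁻¹ := by rw [hζ g]
        _ = u * (c : G) * u⁻¹ * (c : G)⁻¹ := by group
    have h1 : (g * u) * (c : G) * (g * u)⁻¹ * (c : G)⁻¹ = 1 := by
      apply hgu (c : G) c.2
      rw [e]
      exact hζmem
    rw [e] at h1
    calc (c : G) * u = (u * (c : G) * u⁻¹ * (c : G)⁻¹)⁻¹ * (u * (c : G)) := by group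
      _ = u * (c : G) := by rw [h1]; group
  have huD : (⟨u, hu⟩ : U) ∈ D := by
    rw [hDeq]
    simp [hTf, huT]
  obtain ⟨p, -, hp⟩ := Finset.mem_image.mp huD
  have hp' : g⁻¹ * ((p.1 : U) : G)⁻¹ * g * (p.1 : G) * ((p.2 : U) : G) = u :=
    congrArg Subtype.val hp
  refine ⟨(p.1 : G), p.1.2, ((p.2 : U) : G), Subgroup.mem_subgroupOf.mp p.2.2, ?_⟩
  rw [← hp']
  group

/-- Powers of an element of the coset `g U` lie in the coset `g ^ j U`. -/
theorem exists_pow_mul_eq (g u : G) (hu : u ∈ U) (j : ℕ) : ∃ w ∈ U, (g * u) ^ j = g ^ j * w := by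
  induction j with
  | zero => exact ⟨1, U.one_mem, by simp⟩
  | succ j ih =>
    obtain ⟨w, hw, he⟩ := ih
    refine ⟨g⁻¹ * w * g * u, ?_, ?_⟩
    · have h1 : g⁻¹ * w * g ∈ U := by
        have := (inferInstance : U.Normal).conj_mem w hw g⁻¹
        simpa using this
      exact U.mul_mem h1 hu
    · rw [pow_succ, he, pow_succ]
      group

theorem sum_theta_gt
    (hUU : ∀ u ∈ U, ∀ v ∈ U, u * v * u⁻¹ * v⁻¹ ∈ Subgroup.center G)
    (hZU : ∀ u ∈ U, (∀ v ∈ U, u * v = v * u) → u ∈ Subgroup.center G)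
    (hUZ : ¬ U ≤ Subgroup.center G)
    (ω : Subgroup.center G →* ℂˣ) (hω : Function.Injective ω)
    (k : ℕ) (hk : Nat.Coprime k (Fintype.card G))
    (Θ : G → ℝ) (hΘ0 : ∀ g, 0 ≤ Θ g) (hΘ1 : 0 < Θ 1)
    (hΘc : ∀ g h, Θ (h * g * h⁻¹) = Θ g)
    (hΘz : ∀ g, ∀ z ∈ Subgroup.center G, Θ (g * z) = Θ g)
    (hΘb : ∀ g, ∀ v ∈ U, g * v * g⁻¹ * v⁻¹ ∈ Subgroup.center G → g * v * g⁻¹ * v⁻¹ ≠ 1 →
      Θ g = 0) :
    ∑ g : G, (∑ u : U, Θ (g * u)) * (∑ u : U, Θ (g ^ k * u))
      < (Fintype.card U : ℝ) ^ 2 * ∑ g : G, Θ g * Θ (g ^ k) := by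
  classical
  have hk' : Nat.Coprime k (Nat.card G) := by rwa [Nat.card_eq_fintype_card]
  -- bad elements are zeros of Θ
  have hbad : ∀ g, ¬ Good U g → Θ g = 0 := by
    intro g hg
    unfold Good at hg
    push_neg at hg
    obtain ⟨v, hv, hz, hne⟩ := hg
    exact hΘb g v hv hz hne
  -- values on the coset of a good element
  have hval : ∀ g, Good U g → ∀ u : U, Good U (g * u) →
      Θ (g * u) = Θ g ∧ Θ ((g * u) ^ k) = Θ (g ^ k) := by
    intro g hg u hgu
    obtain ⟨v, hv, z, hz, he⟩ := exists_conj_of_good U hUU hZU ω hω hg u.2 hgu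
    constructor
    · rw [he, hΘz _ z hz]
      have := hΘc g v⁻¹
      simpa using this
    · have hzc := Subgroup.mem_center_iff.mp hz
      have hcomm : Commute (v⁻¹ * g * v) z := hzc _
      rw [he, hcomm.mul_pow, hΘz _ _ (Subgroup.pow_mem _ hz k)]
      have e : (v⁻¹ * g * v) ^ k = v⁻¹ * g ^ k * v⁻¹⁻¹ := by
        have := conj_pow (a := v⁻¹) (b := g) (i := k)
        simpa using this
      rw [e, hΘc]
  -- number of good elements in a coset
  set n : G → ℕ := fun g =>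
    ((Finset.univ : Finset ↥U).filter (fun u : ↥U => Good U (g * (u : G)))).card with hn
  have hnle : ∀ g, (n g : ℝ) ≤ Fintype.card U := by
    intro g
    have : n g ≤ Fintype.card U := by
      rw [hn]
      exact (Finset.card_le_univ _)
    exact_mod_cast this
  have hsum1 : ∀ g, Good U g → ∑ u : U, Θ (g * u) = n g * Θ g := by
    intro g hg
    have : ∀ u : U, Θ (g * u) = if Good U (g * u) then Θ g else 0 := by
      intro u
      by_cases h : Good U (g * u)
      · rw [if_pos h, (hval g hg u h).1]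
      · rw [if_neg h, hbad _ h]
    rw [Finset.sum_congr rfl (fun u _ => this u), ← Finset.sum_filter, Finset.sum_const,
      nsmul_eq_mul]
  have hsum2 : ∀ g, Good U g → ∑ u : U, Θ (g * u) * Θ ((g * u) ^ k) = n g * (Θ g * Θ (g ^ k)) := by
    intro g hg
    have : ∀ u : U, Θ (g * u) * Θ ((g * u) ^ k)
        = if Good U (g * u) then Θ g * Θ (g ^ k) else 0 := by
      intro u
      by_cases h : Good U (g * u)
      · rw [if_pos h, (hval g hg u h).1, (hval g hg u h).2]
      · rw [if_neg h, hbad _ h, zero_mul]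
    rw [Finset.sum_congr rfl (fun u _ => this u), ← Finset.sum_filter, Finset.sum_const,
      nsmul_eq_mul]
  -- coset reindexing
  have hre : ∀ (F : G → ℝ) (g : G) (u0 w : U), ((w : G) = u0) → 
      ∑ u : U, F (g * u0 * u) = ∑ u : U, F (g * u) := by
    intro F g u0 w _
    apply Fintype.sum_equiv (Equiv.mulLeft u0)
    intro u
    simp [mul_assoc]
  -- pointwise inequality
  set L : G → ℝ := fun g => (∑ u : U, Θ (g * u)) * (∑ u : U, Θ (g ^ k * u)) with hL
  set R : G → ℝ := fun g => (Fintype.card U : ℝ) * ∑ u : U, Θ (g * u) * Θ ((g * u) ^ k) with hR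
  have hRnonneg : ∀ g, 0 ≤ R g := by
    intro g
    apply mul_nonneg (by positivity)
    apply Finset.sum_nonneg
    intro u _
    exact mul_nonneg (hΘ0 _) (hΘ0 _)
  have hLR : ∀ g, L g ≤ R g := by
    intro g
    by_cases hex : ∃ u0 : U, Good U (g * u0)
    · obtain ⟨u0, hg0⟩ := hex
      obtain ⟨w, hw, hpw⟩ := exists_pow_mul_eq U g (u0 : G) u0.2 k
      have hgk : Good U ((g * u0) ^ k) := good_pow U hg0 hk'
      have e1 : ∑ u : U, Θ (g * u) = ∑ u : U, Θ (g * u0 * u) :=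
        (hre Θ g u0 u0 rfl).symm
      have e2 : ∑ u : U, Θ (g ^ k * u) = ∑ u : U, Θ ((g * u0) ^ k * u) := by
        rw [hpw]
        exact (hre Θ (g ^ k) ⟨w, hw⟩ ⟨w, hw⟩ rfl).symm
      have e3 : ∑ u : U, Θ (g * u) * Θ ((g * u) ^ k)
          = ∑ u : U, Θ (g * u0 * u) * Θ ((g * u0 * u) ^ k) :=
        (hre (fun x => Θ x * Θ (x ^ k)) g u0 u0 rfl).symm
      show (∑ u : U, Θ (g * u)) * (∑ u : U, Θ (g ^ k * u))
        ≤ (Fintype.card U : ℝ) * ∑ u : U, Θ (g * u) * Θ ((g * u) ^ k)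
      rw [e1, e2, e3, hsum1 _ hg0, hsum1 _ hgk, hsum2 _ hg0]
      have h1 : (0 : ℝ) ≤ n (g * u0) * Θ (g * u0) := mul_nonneg (by positivity) (hΘ0 _)
      have h2 : (n ((g * u0) ^ k) : ℝ) * Θ ((g * u0) ^ k)
          ≤ (Fintype.card U : ℝ) * Θ ((g * u0) ^ k) :=
        mul_le_mul_of_nonneg_right (hnle _) (hΘ0 _)
      calc (n (g * u0) : ℝ) * Θ (g * u0) * ((n ((g * u0) ^ k) : ℝ) * Θ ((g * u0) ^ k))
          ≤ (n (g * u0) : ℝ) * Θ (g * u0) * ((Fintype.card U : ℝ) * Θ ((g * u0) ^ k)) :=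
            mul_le_mul_of_nonneg_left h2 h1
        _ = (Fintype.card U : ℝ) * ((n (g * u0) : ℝ) * (Θ (g * u0) * Θ ((g * u0) ^ k))) := by ring
    · push_neg at hex
      have : ∑ u : U, Θ (g * u) = 0 := by
        apply Finset.sum_eq_zero
        intro u _
        exact hbad _ (hex u)
      show (∑ u : U, Θ (g * u)) * (∑ u : U, Θ (g ^ k * u)) ≤ R g
      rw [this, zero_mul]
      exact hRnonneg g
  -- strictness at 1
  have hstrict : L 1 < R 1 := by
    have hg1 : Good U (1 : G) := good_one U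
    have hg1k : Good U ((1 : G) ^ k) := by rw [one_pow]; exact hg1
    show (∑ u : U, Θ (1 * u)) * (∑ u : U, Θ (1 ^ k * u))
      < (Fintype.card U : ℝ) * ∑ u : U, Θ (1 * u) * Θ ((1 * u) ^ k)
    rw [hsum1 _ hg1, hsum1 _ hg1k, hsum2 _ hg1]
    simp only [one_pow]
    -- n 1 < |U| and n 1 ≥ 1
    have hn1 : 1 ≤ n 1 := by
      rw [hn]
      apply Finset.card_pos.mpr
      refine ⟨(1 : ↥U), ?_⟩
      rw [Finset.mem_filter]
      refine ⟨Finset.mem_univ _, ?_⟩
      simpa using hg1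
    have hn2 : n 1 < Fintype.card U := by
      rw [hn]
      have hnot : ∃ u : U, ¬ Good U (1 * (u : G)) := by
        by_contra hall
        push_neg at hall
        apply hUZ
        intro u hu
        apply hZU u hu
        intro v hv
        have hgood := hall ⟨u, hu⟩
        rw [one_mul] at hgood
        have h1 := hgood v hv (hUU u hu v hv)
        calc u * v = (u * v * u⁻¹ * v⁻¹) * (v * u) := by group
          _ = v * u := by rw [h1, one_mul]
      obtain ⟨u, hu⟩ := hnot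
      have : (Finset.univ : Finset ↥U).filter (fun u : ↥U => Good U (1 * (u : G)))
          ⊂ (Finset.univ : Finset ↥U) := by
        rw [Finset.ssubset_iff_of_subset (Finset.subset_univ _)]
        exact ⟨u, Finset.mem_univ _, by rw [Finset.mem_filter]; exact fun h => hu h.2⟩
      have h3 := Finset.card_lt_card this
      rwa [Finset.card_univ] at h3
    have hn1' : (1 : ℝ) ≤ n 1 := by exact_mod_cast hn1
    have hn2' : (n 1 : ℝ) < Fintype.card U := by exact_mod_cast hn2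
    have hpos : 0 < (n 1 : ℝ) * (Θ 1 * Θ 1) := by positivity
    calc (n 1 : ℝ) * Θ 1 * ((n 1 : ℝ) * Θ 1) = (n 1 : ℝ) * ((n 1 : ℝ) * (Θ 1 * Θ 1)) := by ring
      _ < (Fintype.card U : ℝ) * ((n 1 : ℝ) * (Θ 1 * Θ 1)) :=
          mul_lt_mul_of_pos_right hn2' hpos
  -- sum up
  have hsumLR : ∑ g : G, L g < ∑ g : G, R g :=
    Finset.sum_lt_sum (fun g _ => hLR g) ⟨1, Finset.mem_univ _, hstrict⟩
  have hRsum : ∑ g : G, R g = (Fintype.card U : ℝ) ^ 2 * ∑ g : G, Θ g * Θ (g ^ k) := by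
    have h1 : ∑ g : G, ∑ u : U, Θ (g * u) * Θ ((g * u) ^ k)
        = (Fintype.card U : ℝ) * ∑ g : G, Θ g * Θ (g ^ k) := by
      rw [Finset.sum_comm]
      have : ∀ u : U, ∑ g : G, Θ (g * u) * Θ ((g * u) ^ k) = ∑ g : G, Θ g * Θ (g ^ k) := by
        intro u
        exact Fintype.sum_equiv (Equiv.mulRight (u : G)) _ _ (fun g => rfl)
      rw [Finset.sum_congr rfl (fun u _ => this u), Finset.sum_const, Finset.card_univ,
        nsmul_eq_mul]
    show ∑ g : G, (Fintype.card U : ℝ) * ∑ u : U, Θ (g * u) * Θ ((g * u) ^ k) = _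
    rw [← Finset.mul_sum, h1]
    ring
  calc ∑ g : G, (∑ u : U, Θ (g * u)) * (∑ u : U, Θ (g ^ k * u)) = ∑ g : G, L g := rfl
    _ < ∑ g : G, R g := hsumLR
    _ = _ := hRsum

end Main

end Cfsg.Agent.Helper24.FitCenB
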