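import Mathlib
import Cfsg.Prelude.Def_Characters

/-!
# Cosets of a Frobenius-like kernel (helper24's shared library)

`N ≤ G` normal subgroups of `Γ` and `y ∈ Γ` such that `[y, g] ∈ N` forces `g ∈ N` for `g ∈ G`
(`y` acts fixed-point-freely on `G/N`).  Then every element of `G y` is `G`-conjugate to an element
of `N y`, uniformly: sums of class functions over `G y` reduce to sums over `N y`.
-/

set_option autoImplicit false
set_option linter.style.haveILetI false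
set_option linter.unusedSectionVars false

namespace Cfsg.Agent.Helper24.FrobCoset

open Cfsg

universe u

variable {Γ : Type u} [Group Γ] (G N : Subgroup Γ) [hG : G.Normal] [hN : N.Normal]
  [Fintype G] [Fintype N]

/-- The relation `h⁻¹ (g y) h ∈ N y`. -/
def Rel (y : Γ) (g h : G) : Prop := (h : Γ)⁻¹ * (g : Γ) * y * (h : Γ) * y⁻¹ ∈ N

/-- The element `h n y h⁻¹ y⁻¹` of `G`. -/
def conjElt (hNG : N ≤ G) (y : Γ) (h : G) (n : N) : G :=
  ⟨(h : Γ) * (n : Γ) * (y * (h : Γ)⁻¹ * y⁻¹),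
    G.mul_mem (G.mul_mem h.2 (hNG n.2)) (hG.conj_mem _ (G.inv_mem h.2) y)⟩

theorem conjElt_mul (hNG : N ≤ G) (y : Γ) (h : G) (n : N) :
    ((conjElt G N hNG y h n : G) : Γ) * y = (h : Γ) * ((n : Γ) * y) * (h : Γ)⁻¹ := by
  show (h : Γ) * (n : Γ) * (y * (h : Γ)⁻¹ * y⁻¹) * y = _
  group

/-- Reindexing the fibre over `h`. -/
theorem sum_rel_eq {M : Type*} [AddCommMonoid M] [DecidableEq Γ] (hNG : N ≤ G) (y : Γ) (h : G)
    (φ : G → M) [DecidablePred (fun g : G => Rel G N y g h)] :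
    ∑ g : G, (if Rel G N y g h then φ g else 0) = ∑ n : N, φ (conjElt G N hNG y h n) := by
  rw [← Finset.sum_filter]
  symm
  apply Finset.sum_bij (fun (n : N) _ => conjElt G N hNG y h n)
  · intro n _
    rw [Finset.mem_filter]
    refine ⟨Finset.mem_univ _, ?_⟩
    show (h : Γ)⁻¹ * ((h : Γ) * (n : Γ) * (y * (h : Γ)⁻¹ * y⁻¹)) * y * (h : Γ) * y⁻¹ ∈ N
    have : (h : Γ)⁻¹ * ((h : Γ) * (n : Γ) * (y * (h : Γ)⁻¹ * y⁻¹)) * y * (h : Γ) * y⁻¹ = (n : Γ) := by
      group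
    rw [this]
    exact n.2
  · intro n _ n' _ hnn'
    have h1 := congrArg (fun g : G => (g : Γ)) hnn'
    have h2 : (h : Γ) * (n : Γ) * (y * (h : Γ)⁻¹ * y⁻¹) =
        (h : Γ) * (n' : Γ) * (y * (h : Γ)⁻¹ * y⁻¹) := h1
    have h3 : (h : Γ) * (n : Γ) = (h : Γ) * (n' : Γ) := mul_right_cancel h2
    exact Subtype.ext (mul_left_cancel h3)
  · intro g hg
    rw [Finset.mem_filter] at hg
    refine ⟨⟨_, hg.2⟩, Finset.mem_univ _, ?_⟩
    apply Subtype.ext
    show (h : Γ) * ((h : Γ)⁻¹ * (g : Γ) * y * (h : Γ) * y⁻¹) * (y * (h : Γ)⁻¹ * y⁻¹) = (g : Γ)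
    group
  · intro n _
    rfl

/-- Two elements in the same fibre differ by an element of `N`. -/
theorem rel_unique (y : Γ) (hfrob : ∀ g : Γ, g ∈ G → y * g * y⁻¹ * g⁻¹ ∈ N → g ∈ N)
    {g h h₀ : G} (h1 : Rel G N y g h) (h0 : Rel G N y g h₀) : (h₀ : Γ)⁻¹ * (h : Γ) ∈ N := by
  set k : Γ := (h₀ : Γ)⁻¹ * (h : Γ) with hk
  have hkG : k ∈ G := G.mul_mem (G.inv_mem h₀.2) h.2
  set n₁ : Γ := (h : Γ)⁻¹ * (g : Γ) * y * (h : Γ) * y⁻¹ with hn₁
  set n₀ : Γ := (h₀ : Γ)⁻¹ * (g : Γ) * y * (h₀ : Γ) * y⁻¹ with hn₀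
  have hn₁N : n₁ ∈ N := h1
  have hn₀N : n₀ ∈ N := h0
  have key : y * k⁻¹ * y⁻¹ * (k⁻¹)⁻¹ = n₁⁻¹ * (k⁻¹ * n₀ * (k⁻¹)⁻¹) := by
    rw [hk, hn₁, hn₀]
    group
  have hmem : y * k⁻¹ * y⁻¹ * (k⁻¹)⁻¹ ∈ N := by
    rw [key]
    exact N.mul_mem (N.inv_mem hn₁N) (hN.conj_mem _ hn₀N _)
  have := hfrob k⁻¹ (G.inv_mem hkG) hmem
  have h2 := N.inv_mem this
  rwa [inv_inv] at h2

/-- Each fibre has exactly `|N|` elements. -/
theorem card_fibre [DecidableEq Γ] (hNG : N ≤ G) (y : Γ)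
    (hfrob : ∀ g : Γ, g ∈ G → y * g * y⁻¹ * g⁻¹ ∈ N → g ∈ N)
    [∀ g h : G, Decidable (Rel G N y g h)] (g : G) :
    (Finset.univ.filter (fun h : G => Rel G N y g h)).card = Fintype.card N := by
  classical
  -- each fibre has at most `|N|` elements
  have hle : ∀ g : G, (Finset.univ.filter (fun h : G => Rel G N y g h)).card ≤ Fintype.card N := by
    intro g
    by_cases hne : (Finset.univ.filter (fun h : G => Rel G N y g h)).Nonempty
    · obtain ⟨h₀, hh₀⟩ := hne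
      rw [Finset.mem_filter] at hh₀
      rw [← Finset.card_univ (α := N)]
      have hmem : ∀ h : G, Rel G N y g h → (h₀ : Γ)⁻¹ * (h : Γ) ∈ N := fun h hh =>
        rel_unique G N y hfrob hh hh₀.2
      apply Finset.card_le_card_of_injOn
        (fun h : G => if hh : Rel G N y g h then (⟨(h₀ : Γ)⁻¹ * (h : Γ), hmem h hh⟩ : N) else 1)
      · intro h _
        exact Finset.mem_coe.mpr (Finset.mem_univ _)
      · intro h hh h' hh' heq
        have hh1 : Rel G N y g h := (Finset.mem_filter.mp (Finset.mem_coe.mp hh)).2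
        have hh1' : Rel G N y g h' := (Finset.mem_filter.mp (Finset.mem_coe.mp hh')).2
        simp only [dif_pos hh1, dif_pos hh1'] at heq
        have h2 := congrArg (fun n : N => (n : Γ)) heq
        have h3 : (h₀ : Γ)⁻¹ * (h : Γ) = (h₀ : Γ)⁻¹ * (h' : Γ) := h2
        exact Subtype.ext (mul_left_cancel h3)
    · rw [Finset.not_nonempty_iff_eq_empty] at hne
      rw [hne, Finset.card_empty]
      exact Nat.zero_le _
  -- the total count
  have htotal : ∑ g : G, (Finset.univ.filter (fun h : G => Rel G N y g h)).card =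
      ∑ _g : G, Fintype.card N := by
    have h1 : ∀ g : G, (Finset.univ.filter (fun h : G => Rel G N y g h)).card =
        ∑ h : G, if Rel G N y g h then 1 else 0 := by
      intro g
      rw [Finset.card_filter]
    rw [Finset.sum_congr rfl (fun g _ => h1 g), Finset.sum_comm]
    have h2 : ∀ h : G, (∑ g : G, if Rel G N y g h then 1 else 0) = Fintype.card N := by
      intro h
      rw [sum_rel_eq G N hNG y h (fun _ => 1)]
      simp
    rw [Finset.sum_congr rfl (fun h _ => h2 h)]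
  exact (Finset.sum_eq_sum_iff_of_le (fun g _ => hle g)).mp htotal g (Finset.mem_univ g)

/-- Sums of class functions over `G y` reduce to sums over `N y`. -/
theorem coset_sum_eq (hNG : N ≤ G) (y : Γ)
    (hfrob : ∀ g : Γ, g ∈ G → y * g * y⁻¹ * g⁻¹ ∈ N → g ∈ N)
    (F : Γ → ℂ) (hF : IsClassFunction Γ F) :
    (Nat.card N : ℂ) * ∑ g : G, F ((g : Γ) * y) =
      (Nat.card G : ℂ) * ∑ n : N, F ((n : Γ) * y) := by
  classical
  have h1 : ∀ g : G, (Nat.card N : ℂ) * F ((g : Γ) * y) =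
      ∑ h : G, if Rel G N y g h then F ((g : Γ) * y) else 0 := by
    intro g
    rw [← Finset.sum_filter, Finset.sum_const, card_fibre G N hNG y hfrob g,
      Nat.card_eq_fintype_card, nsmul_eq_mul]
  rw [Finset.mul_sum, Finset.sum_congr rfl (fun g _ => h1 g), Finset.sum_comm]
  have h2 : ∀ h : G, (∑ g : G, if Rel G N y g h then F ((g : Γ) * y) else 0) =
      ∑ n : N, F ((n : Γ) * y) := by
    intro h
    rw [sum_rel_eq G N hNG y h (fun g : G => F ((g : Γ) * y))]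
    apply Finset.sum_congr rfl
    intro n _
    rw [conjElt_mul, hF]
  rw [Finset.sum_congr rfl (fun h _ => h2 h), Finset.sum_const, Finset.card_univ, nsmul_eq_mul,
    Nat.card_eq_fintype_card]

end Cfsg.Agent.Helper24.FrobCoset
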