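import Mathlib
import Cfsg.Prelude.Def_Blocks
import Cfsg.Agent.S0868
import Cfsg.Agent.S0886
import Cfsg.Agent.Lib.Helper24.CharCentral
import Cfsg.Agent.Lib.Helper24.CharLinear
import Cfsg.Agent.Lib.Helper24.CharHom
import Cfsg.Agent.Lib.Helper24.CharOrtho
import Cfsg.Agent.Lib.Helper5.Clifford

/-!
# Fully ramified characters (helper24's shared library)

`χ ∈ Irr(H)` is fully ramified over `Z ⊴ H` when `χ_Z = e θ` with `e² = |H : Z|`.
-/

set_option autoImplicit false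
set_option linter.style.haveILetI false
set_option linter.unusedSectionVars false

namespace Cfsg.Agent.Helper24.FullRam

open Cfsg Cfsg.Agent.Helper24 Cfsg.Agent.Helper5
open scoped ComplexConjugate

universe u

variable {H : Type u} [Group H] [Fintype H] (Z : Subgroup H) [hZn : Z.Normal] [Fintype Z]

omit hZn in
/-- A fully ramified character vanishes off `Z`. -/
theorem vanish_off {χ : H → ℂ} (hχ : IsIrrCharacter H χ) {θ : Z → ℂ} (hθ : IsIrrCharacter Z θ)
    {e : ℕ} (he : e ^ 2 = Z.index) (hres : ∀ z : Z, χ z = (e : ℂ) * θ z) {g : H} (hg : g ∉ Z) :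
    χ g = 0 := by
  classical
  have h1 : classInner χ χ = 1 := by rw [irr_orthogonality hχ hχ, if_pos rfl]
  have h2 : classInner θ θ = 1 := by rw [irr_orthogonality hθ hθ, if_pos rfl]
  unfold classInner at h1 h2
  have hH0 : (Nat.card H : ℂ) ≠ 0 := by
    rw [Nat.cast_ne_zero]; exact Nat.card_pos.ne'
  have hZ0 : (Nat.card Z : ℂ) ≠ 0 := by
    rw [Nat.cast_ne_zero]; exact Nat.card_pos.ne'
  have s1 : ∑ g : H, χ g * conj (χ g) = (Nat.card H : ℂ) := by
    have := congrArg (fun x => (Nat.card H : ℂ) * x) h1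
    simp only [← mul_assoc, mul_inv_cancel₀ hH0, one_mul, mul_one] at this
    exact this
  have s2 : ∑ z : Z, θ z * conj (θ z) = (Nat.card Z : ℂ) := by
    have := congrArg (fun x => (Nat.card Z : ℂ) * x) h2
    simp only [← mul_assoc, mul_inv_cancel₀ hZ0, one_mul, mul_one] at this
    exact this
  have s3 : ∑ z : Z, χ z * conj (χ z) = (Nat.card H : ℂ) := by
    have : ∀ z : Z, χ z * conj (χ z) = ((e : ℂ) ^ 2) * (θ z * conj (θ z)) := by
      intro z
      rw [hres z, map_mul, Complex.conj_natCast]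
      ring
    rw [Finset.sum_congr rfl (fun z _ => this z), ← Finset.mul_sum, s2]
    have h3 := Subgroup.card_mul_index Z
    rw [← h3, ← he]
    push_cast
    ring
  -- real version
  have hn : ∀ x : H, χ x * conj (χ x) = ((Complex.normSq (χ x) : ℝ) : ℂ) := fun x =>
    Complex.mul_conj (χ x)
  have s4 : ∑ x : H, Complex.normSq (χ x) = ∑ z : Z, Complex.normSq (χ z) := by
    have a1 : ((∑ x : H, Complex.normSq (χ x) : ℝ) : ℂ) = (Nat.card H : ℂ) := by
      rw [← s1]; push_cast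
      exact Finset.sum_congr rfl (fun x _ => (hn x).symm)
    have a2 : ((∑ z : Z, Complex.normSq (χ z) : ℝ) : ℂ) = (Nat.card H : ℂ) := by
      rw [← s3]; push_cast
      exact Finset.sum_congr rfl (fun x _ => (hn x).symm)
    exact_mod_cast a1.trans a2.symm
  have s5 : ∑ x : H, Complex.normSq (χ x) =
      ∑ x ∈ Finset.univ.filter (fun x : H => x ∈ Z), Complex.normSq (χ x) +
      ∑ x ∈ Finset.univ.filter (fun x : H => ¬ x ∈ Z), Complex.normSq (χ x) :=
    (Finset.sum_filter_add_sum_filter_not _ _ _).symm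
  have s6 : ∑ x ∈ Finset.univ.filter (fun x : H => x ∈ Z), Complex.normSq (χ x) =
      ∑ z : Z, Complex.normSq (χ z) := by
    rw [Finset.sum_subtype (Finset.univ.filter (fun x : H => x ∈ Z)) (p := fun x => x ∈ Z)
      (fun x => by simp) (fun x => Complex.normSq (χ x))]
  rw [s6, s4] at s5
  have s7 : ∑ x ∈ Finset.univ.filter (fun x : H => ¬ x ∈ Z), Complex.normSq (χ x) = 0 := by
    linarith
  have s8 := (Finset.sum_eq_zero_iff_of_nonneg (fun x _ => Complex.normSq_nonneg (χ x))).mp s7 g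
    (by simp [hg])
  exact Complex.normSq_eq_zero.mp s8

/-- The character `θ` under a fully ramified character is `H`-invariant. -/
theorem theta_invariant {χ : H → ℂ} (hχ : IsIrrCharacter H χ) {θ : Z → ℂ}
    {e : ℕ} (he : e ^ 2 = Z.index) (hres : ∀ z : Z, χ z = (e : ℂ) * θ z) (h : H) (z : Z) :
    θ ⟨h * z * h⁻¹, hZn.conj_mem z z.2 h⟩ = θ z := by
  have he0 : (e : ℂ) ≠ 0 := by
    rw [Nat.cast_ne_zero]
    intro h0
    rw [h0] at he
    exact Subgroup.index_ne_zero_of_finite (by simpa using he.symm)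
  have h1 := hres ⟨h * z * h⁻¹, hZn.conj_mem z z.2 h⟩
  have h2 := hres z
  have h3 : χ (h * z * h⁻¹) = χ z := isClassFunction_of_isIrrCharacter hχ z h
  have h4 : (e : ℂ) * θ ⟨h * z * h⁻¹, hZn.conj_mem z z.2 h⟩ = (e : ℂ) * θ z := by
    rw [← h1, ← h2]; exact h3
  exact mul_left_cancel₀ he0 h4

/-- **No self-centralizing cyclic subgroup**: if `χ` is fully ramified over `Z ≠ H`, then `H/Z`
has no cyclic subgroup that is its own centralizer. -/
theorem no_self_centralizing {χ : H → ℂ} (hχ : IsIrrCharacter H χ) {θ : Z → ℂ}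
    (hθ : IsIrrCharacter Z θ) {e : ℕ} (he : e ^ 2 = Z.index)
    (hres : ∀ z : Z, χ z = (e : ℂ) * θ z) (hZ : Z ≠ ⊤)
    (C : Subgroup (H ⧸ Z)) (hC : IsCyclic C) :
    Subgroup.centralizer (C : Set (H ⧸ Z)) ≠ C := by
  classical
  intro hcent
  have he0 : (e : ℂ) ≠ 0 := by
    rw [Nat.cast_ne_zero]
    intro h0
    rw [h0] at he
    exact Subgroup.index_ne_zero_of_finite (by simpa using he.symm)
  obtain ⟨c, hc⟩ := hC.exists_generator
  obtain ⟨g, hg⟩ := QuotientGroup.mk_surjective (c : H ⧸ Z)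
  set T : Subgroup H := C.comap (QuotientGroup.mk' Z) with hT
  have hmemT : ∀ x : H, x ∈ T ↔ (x : H ⧸ Z) ∈ C := fun x => Iff.rfl
  have hZT : Z ≤ T := by
    intro z hz
    rw [hmemT, (QuotientGroup.eq_one_iff z).mpr hz]
    exact C.one_mem
  -- every element of `C` is a power of `mk g`
  have hpow : ∀ x : H ⧸ Z, x ∈ C → ∃ k : ℤ, x = (g : H ⧸ Z) ^ k := by
    intro x hx
    obtain ⟨k, hk⟩ := Subgroup.mem_zpowers_iff.mp (hc ⟨x, hx⟩)
    refine ⟨k, ?_⟩
    have := congrArg Subtype.val hk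
    rw [hg]
    simpa using this.symm
  have hgC : (g : H ⧸ Z) ∈ C := by rw [hg]; exact c.2
  have hgT : g ∈ T := hgC
  -- `g ∉ Z`
  have hgZ : g ∉ Z := by
    intro hgz
    apply hZ
    rw [eq_top_iff]
    intro x _
    have h1 : (g : H ⧸ Z) = 1 := (QuotientGroup.eq_one_iff g).mpr hgz
    have hCbot : ∀ y : H ⧸ Z, y ∈ C → y = 1 := by
      intro y hy
      obtain ⟨k, hk⟩ := hpow y hy
      rw [hk, h1, one_zpow]
    have h2 : (x : H ⧸ Z) ∈ Subgroup.centralizer (C : Set (H ⧸ Z)) := by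
      rw [Subgroup.mem_centralizer_iff]
      intro y hy
      rw [hCbot y hy, one_mul, mul_one]
    rw [hcent] at h2
    exact (QuotientGroup.eq_one_iff x).mp (hCbot _ h2)
  -- if `h` commutes with `g` modulo `Z`, then `h ∈ T`
  have hcomm : ∀ h : H, (h : H ⧸ Z) * (g : H ⧸ Z) = (g : H ⧸ Z) * (h : H ⧸ Z) → h ∈ T := by
    intro h hh
    rw [hmemT, ← hcent, Subgroup.mem_centralizer_iff]
    intro y hy
    obtain ⟨k, hk⟩ := hpow y hy
    rw [hk]
    exact ((Commute.zpow_left (show Commute (g : H ⧸ Z) (h : H ⧸ Z) from hh.symm) k)).eq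
  -- elements of `T` commute with `g` modulo `Z`
  have hTcomm : ∀ t : H, t ∈ T → (t : H ⧸ Z) * (g : H ⧸ Z) = (g : H ⧸ Z) * (t : H ⧸ Z) := by
    intro t ht
    obtain ⟨k, hk⟩ := hpow _ ((hmemT t).mp ht)
    rw [hk]
    exact ((Commute.zpow_left (Commute.refl (g : H ⧸ Z)) k)).eq
  letI : Fintype T := Fintype.ofFinite _
  set Z' : Subgroup T := Z.subgroupOf T with hZ'
  letI : Fintype Z' := Fintype.ofFinite _
  -- cyclic quotient
  have hcyc : IsCyclic (T ⧸ Z') := by
    refine ⟨⟨((⟨g, hgT⟩ : T) : T ⧸ Z'), fun x => ?_⟩⟩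
    obtain ⟨t, rfl⟩ := QuotientGroup.mk_surjective x
    obtain ⟨k, hk⟩ := hpow _ ((hmemT t).mp t.2)
    refine ⟨k, ?_⟩
    show ((⟨g, hgT⟩ : T) : T ⧸ Z') ^ k = (t : T ⧸ Z')
    rw [← QuotientGroup.mk_zpow, QuotientGroup.eq]
    rw [hZ', Subgroup.mem_subgroupOf]
    have h1 : ((t : H) : H ⧸ Z) = ((g ^ k : H) : H ⧸ Z) := by rw [hk, QuotientGroup.mk_zpow]
    have h2 := QuotientGroup.eq.mp h1.symm
    simpa using h2
  -- the character `ϑ` of `Z'`
  set ϑ : Z' → ℂ := fun n : Z' => θ ⟨((n : T) : H), n.2⟩ with hϑ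
  have hϑirr : IsIrrCharacter Z' ϑ :=
    isIrrCharacter_comp_equiv (Subgroup.subgroupOfEquivOfLe hZT) hθ
  have hϑinv : ∀ (t : T) (n : Z'), ϑ ⟨t * n * t⁻¹,
      (inferInstance : Z'.Normal).conj_mem (n : T) n.2 t⟩ = ϑ n := by
    intro t n
    exact theta_invariant Z hχ he hres (t : H) ⟨((n : T) : H), n.2⟩
  obtain ⟨φ, hφ, hφext⟩ := Cfsg.Agent.S0886.result Z' hcyc ϑ hϑirr hϑinv
  have hφc := isCharacter_of_isIrrCharacter hφ
  -- `φ` vanishes on the coset `Z g`
  have hvan : ∀ g' : H, (g' : H ⧸ Z) = (g : H ⧸ Z) → ∀ hm : g' ∈ T, φ ⟨g', hm⟩ = 0 := by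
    intro g' hg'q hm
    have hg'Z : g' ∉ Z := by
      intro h
      apply hgZ
      rw [← QuotientGroup.eq_one_iff, ← hg'q]
      exact (QuotientGroup.eq_one_iff g').mpr h
    have hχ0 : χ g' = 0 := vanish_off Z hχ hθ he hres hg'Z
    have hs := sum_char_mul_conj hχ g'⁻¹ g'
    rw [hχ0, mul_zero, zero_div] at hs
    -- membership criterion
    have hcrit : ∀ h : H, g'⁻¹ * (h * g' * h⁻¹) ∈ Z ↔ h ∈ T := by
      intro h
      constructor
      · intro hin
        apply hcomm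
        have h1 := (QuotientGroup.eq_one_iff _).mpr hin
        rw [QuotientGroup.mk_mul, QuotientGroup.mk_inv, QuotientGroup.mk_mul, QuotientGroup.mk_mul,
          QuotientGroup.mk_inv, hg'q] at h1
        have h2 : (h : H ⧸ Z) * (g : H ⧸ Z) * (h : H ⧸ Z)⁻¹ = (g : H ⧸ Z) := by
          have := congrArg (fun x => (g : H ⧸ Z) * x) h1
          simpa [mul_assoc] using this
        calc (h : H ⧸ Z) * (g : H ⧸ Z) = (h : H ⧸ Z) * (g : H ⧸ Z) * (h : H ⧸ Z)⁻¹ * (h : H ⧸ Z) := by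
              group
          _ = (g : H ⧸ Z) * (h : H ⧸ Z) := by rw [h2]
      · intro ht
        apply (QuotientGroup.eq_one_iff _).mp
        rw [QuotientGroup.mk_mul, QuotientGroup.mk_inv, QuotientGroup.mk_mul, QuotientGroup.mk_mul,
          QuotientGroup.mk_inv, hg'q, hTcomm h ht]
        group
    -- split the sum
    have hsplit : ∑ y : H, χ (g'⁻¹ * (y * g' * y⁻¹)) =
        ∑ t : T, χ (g'⁻¹ * ((t : H) * g' * (t : H)⁻¹)) := by
      rw [← Finset.sum_filter_add_sum_filter_not Finset.univ (fun y : H => y ∈ T)]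
      have hz : ∑ y ∈ Finset.univ.filter (fun y : H => ¬ y ∈ T), χ (g'⁻¹ * (y * g' * y⁻¹)) = 0 := by
        apply Finset.sum_eq_zero
        intro y hy
        rw [Finset.mem_filter] at hy
        apply vanish_off Z hχ hθ he hres
        rw [hcrit]
        exact hy.2
      rw [hz, add_zero]
      rw [Finset.sum_subtype (Finset.univ.filter (fun y : H => y ∈ T)) (p := fun y => y ∈ T)
        (fun x => by simp) (fun y => χ (g'⁻¹ * (y * g' * y⁻¹)))]
    rw [hsplit] at hs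
    have hterm : ∀ t : T, χ (g'⁻¹ * ((t : H) * g' * (t : H)⁻¹)) =
        (e : ℂ) * φ ((⟨g', hm⟩ : T)⁻¹ * (t * ⟨g', hm⟩ * t⁻¹)) := by
      intro t
      have hin : g'⁻¹ * ((t : H) * g' * (t : H)⁻¹) ∈ Z := (hcrit t).mpr t.2
      have h1 := hres ⟨_, hin⟩
      have h2 : ((⟨g', hm⟩ : T)⁻¹ * (t * ⟨g', hm⟩ * t⁻¹)) ∈ Z' := by
        rw [hZ', Subgroup.mem_subgroupOf]
        exact hin
      have h3 := hφext ⟨_, h2⟩
      rw [show χ (g'⁻¹ * ((t : H) * g' * (t : H)⁻¹)) = (e : ℂ) * θ ⟨_, hin⟩ from h1]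
      congr 1
      rw [show φ ((⟨g', hm⟩ : T)⁻¹ * (t * ⟨g', hm⟩ * t⁻¹)) = ϑ ⟨_, h2⟩ from h3]
      rfl
    rw [Finset.sum_congr rfl (fun t _ => hterm t), ← Finset.mul_sum,
      sum_char_mul_conj hφ (⟨g', hm⟩ : T)⁻¹ ⟨g', hm⟩] at hs
    have hT0 : (Nat.card T : ℂ) ≠ 0 := by
      rw [Nat.cast_ne_zero]; exact Nat.card_pos.ne'
    have hφ1 : φ 1 ≠ 0 := by
      obtain ⟨d, hd, hd1⟩ := irr_one_eq hφ
      rw [hd1, Nat.cast_ne_zero]; omega
    have h5 : φ (⟨g', hm⟩ : T)⁻¹ * φ ⟨g', hm⟩ = 0 := by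
      rcases mul_eq_zero.mp hs with h | h
      · exact absurd h he0
      · rw [div_eq_zero_iff] at h
        rcases h with h | h
        · rw [mul_assoc] at h
          rcases mul_eq_zero.mp h with h' | h'
          · exact absurd h' hT0
          · exact h'
        · exact absurd h hφ1
    rw [irr_inv hφc] at h5
    rcases mul_eq_zero.mp h5 with h | h
    · exact (map_eq_zero (starRingEnd ℂ)).mp h
    · exact h
  -- coset norm
  have hnorm := (Cfsg.Agent.S0868.result Z' φ hφ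
    (by
      have : (fun n : Z' => φ n) = ϑ := funext hφext
      rw [this]; exact hϑirr) φ hφ _ rfl).2.2 rfl
  have h6 := congrFun hnorm ⟨g, hgT⟩
  have h7 : ∑ n : Z', φ ((n : T) * ⟨g, hgT⟩) * conj (φ ((n : T) * ⟨g, hgT⟩)) = 0 := by
    apply Finset.sum_eq_zero
    intro n _
    have : φ ((n : T) * ⟨g, hgT⟩) = 0 := by
      apply hvan (((n : T) : H) * g)
      have hn : ((((n : T) : H)) : H ⧸ Z) = 1 := (QuotientGroup.eq_one_iff ((n : T) : H)).mpr n.2
      rw [QuotientGroup.mk_mul, hn, one_mul]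
    rw [this, zero_mul]
  rw [h7, mul_zero] at h6
  exact zero_ne_one h6

end Cfsg.Agent.Helper24.FullRam
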