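import Mathlib
import Cfsg.Prelude.Def_Blocks
import Cfsg.Agent.Lib.Helper24.FullyRamified
import Cfsg.Agent.Lib.Helper24.CharAlgebra
import Cfsg.Agent.Lib.Helper24.CharInduced
import Cfsg.Agent.Lib.Helper5.Clifford
import Cfsg.Agent.Lib.Helper18.CliffordCorr
import Cfsg.Agent.Lib.Helper24.CharHom

/-!
# Inner products against a fully ramified character (helper24's shared library)
-/

set_option autoImplicit false
set_option linter.style.haveILetI false
set_option linter.unusedSectionVars false

namespace Cfsg.Agent.Helper24.FullRam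

open Cfsg Cfsg.Agent.Helper24 Cfsg.Agent.Helper5 Cfsg.Agent.Helper18
open scoped ComplexConjugate

universe u

section Inner

variable {G : Type u} [Group G] [Fintype G]

/-- **Key inner product formula**: if `Ξ = e θ` on `Z` and `Ξ` vanishes off `Z`, then for any
function `ψ` on a subgroup `D ⊇ Z`, `⟨Ξ_D, ψ⟩ |D| = e |Z| ⟨θ, ψ_Z⟩`. -/
theorem inner_restrict (Z D : Subgroup G) [Fintype Z] [Fintype D] (hZD : Z ≤ D)
    {θ : Z → ℂ} {Ξ : G → ℂ} {e : ℂ} (hΞZ : ∀ z : Z, Ξ z = e * θ z)
    (hΞ0 : ∀ g, g ∉ Z → Ξ g = 0) (ψ : D → ℂ) :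
    classInner (fun d : D => Ξ d) ψ * (Nat.card D : ℂ) =
      e * (Nat.card Z : ℂ) * classInner θ (resFun hZD ψ) := by
  classical
  have hD0 : (Nat.card D : ℂ) ≠ 0 := by
    rw [Nat.cast_ne_zero]; exact Nat.card_pos.ne'
  have hZ0 : (Nat.card Z : ℂ) ≠ 0 := by
    rw [Nat.cast_ne_zero]; exact Nat.card_pos.ne'
  unfold classInner
  have hsum : ∑ z : Z, e * (θ z * conj (resFun hZD ψ z)) = ∑ d : D, Ξ d * conj (ψ d) := by
    apply Finset.sum_of_injOn (fun z : Z => (⟨z, hZD z.2⟩ : D))
    · intro a _ b _ hab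
      apply Subtype.ext
      exact congrArg (fun d : D => (d : G)) hab
    · intro a _
      exact Finset.mem_coe.mpr (Finset.mem_univ _)
    · intro d _ hd
      have : (d : G) ∉ Z := by
        intro h
        apply hd
        exact ⟨⟨d, h⟩, Finset.mem_coe.mpr (Finset.mem_univ _), rfl⟩
      rw [hΞ0 _ this, zero_mul]
    · intro z _
      rw [resFun_apply, show Ξ ((⟨z, hZD z.2⟩ : D) : G) = e * θ z from hΞZ z]
      ring
  rw [← hsum, ← Finset.mul_sum]
  field_simp

/-- Relative form of `restrict_eq_smul_of_invariant`: for `Z ≤ K ≤ G` with `Z` normal in `G`, an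
irreducible character of `K` over a `K`-invariant `θ ∈ Irr(Z)` restricts to a multiple of `θ`. -/
theorem resFun_eq_smul_of_invariant (Z K : Subgroup G) [hZ : Z.Normal] [Fintype Z] [Fintype K]
    (hZK : Z ≤ K) {φ : K → ℂ} (hφ : IsIrrCharacter K φ) {θ : Z → ℂ} (hθ : IsIrrCharacter Z θ)
    (hinv : ∀ k ∈ K, conjFun Z k θ = θ) (hcon : classInner (resFun hZK φ) θ ≠ 0) :
    ∃ c : ℕ, c ≠ 0 ∧ classInner (resFun hZK φ) θ = c ∧ resFun hZK φ = (c : ℂ) • θ := by
  haveI : (Z.subgroupOf K).Normal := Subgroup.normal_subgroupOf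
  letI : Fintype (Z.subgroupOf K) := Fintype.ofFinite _
  let ε : Z.subgroupOf K ≃* Z := Subgroup.subgroupOfEquivOfLe hZK
  have hres : (fun n' : Z.subgroupOf K => φ n') = resFun hZK φ ∘ ε := by
    funext n'
    rfl
  have hθ' : IsIrrCharacter (Z.subgroupOf K) (θ ∘ ε) := isIrrCharacter_comp_equiv ε hθ
  have hinv' : ∀ k : K, conjFun (Z.subgroupOf K) k (θ ∘ ε) = θ ∘ ε := by
    intro k
    funext n
    rw [conjFun_apply, Function.comp_apply, Function.comp_apply]
    have := congrFun (hinv (k : G) k.2) (ε n)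
    rw [conjFun_apply] at this
    rw [← this]
    congr 1
  have hcon' : classInner (fun n' : Z.subgroupOf K => φ n') (θ ∘ ε) ≠ 0 := by
    rw [hres, classInner_comp_equiv]; exact hcon
  obtain ⟨c, hc0, hc1, hc2⟩ := restrict_eq_smul_of_invariant (Z.subgroupOf K) hφ hθ' hinv' hcon'
  refine ⟨c, hc0, ?_, ?_⟩
  · rw [← hc1, hres, classInner_comp_equiv]
  · funext z
    have := congrFun hc2 (ε.symm z)
    rw [Pi.smul_apply, Function.comp_apply, MulEquiv.apply_symm_apply] at this
    rw [Pi.smul_apply, ← this]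
    have h2 := congrFun hres (ε.symm z)
    rw [Function.comp_apply, MulEquiv.apply_symm_apply] at h2
    exact h2.symm

/-- A sum of a function invariant under right multiplication by a subgroup `D` is a multiple of
`|D|`. -/
theorem sum_eq_card_mul_of_right_invariant (D : Subgroup G) (F : G → ℕ)
    (hF : ∀ h : G, ∀ d ∈ D, F (h * d) = F h) : ∃ n : ℕ, ∑ h : G, F h = Nat.card D * n := by
  classical
  letI : Fintype (G ⧸ D) := Fintype.ofFinite _
  letI : Fintype D := Fintype.ofFinite _
  let f : (G ⧸ D) × D → G := fun x => x.1.out * (x.2 : G)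
  have hf : Function.Bijective f := by
    constructor
    · rintro ⟨q, d⟩ ⟨q', d'⟩ h
      have h0 : q.out * (d : G) = q'.out * (d' : G) := h
      have h1 : ((q.out * (d : G) : G) : G ⧸ D) = ((q'.out * (d' : G) : G) : G ⧸ D) := by rw [h0]
      have hq : ∀ (r : G ⧸ D) (x : D), ((r.out * (x : G) : G) : G ⧸ D) = r := by
        intro r x
        have : ((r.out * (x : G) : G) : G ⧸ D) = (r.out : G ⧸ D) := by
          rw [QuotientGroup.eq]
          simp
        rw [this]
        exact QuotientGroup.out_eq' r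
      rw [hq, hq] at h1
      subst h1
      have h2 : (d : G) = (d' : G) := mul_left_cancel h0
      rw [Subtype.ext h2]
    · intro h
      refine ⟨⟨(h : G ⧸ D), ⟨((h : G ⧸ D).out)⁻¹ * h, ?_⟩⟩, ?_⟩
      · rw [← QuotientGroup.eq]
        exact QuotientGroup.out_eq' _
      · show (h : G ⧸ D).out * (((h : G ⧸ D).out)⁻¹ * h) = h
        group
  refine ⟨∑ q : G ⧸ D, F q.out, ?_⟩
  rw [← Fintype.sum_bijective f hf (fun x => F (f x)) F (fun _ => rfl), Fintype.sum_prod_type]
  have : ∀ q : G ⧸ D, ∑ d : D, F (f (q, d)) = Nat.card D * F q.out := by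
    intro q
    have h1 : ∀ d : D, F (f (q, d)) = F q.out := fun d => hF q.out d d.2
    rw [Finset.sum_congr rfl (fun d _ => h1 d), Finset.sum_const, Finset.card_univ,
      ← Nat.card_eq_fintype_card, smul_eq_mul]
  rw [Finset.sum_congr rfl (fun q _ => this q), Finset.mul_sum]

/-- Cardinality of a join with a normal subgroup. -/
theorem card_sup_normal (K T : Subgroup G) [K.Normal] :
    Nat.card (T ⊔ K : Subgroup G) = K.relIndex T * Nat.card K := by
  have h1 : K ≤ T ⊔ K := le_sup_right
  have h2 := (K.subgroupOf (T ⊔ K)).card_mul_index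
  have h3 : Nat.card (K.subgroupOf (T ⊔ K)) = Nat.card K :=
    Nat.card_congr (Subgroup.subgroupOfEquivOfLe h1).toEquiv
  have h4 : (K.subgroupOf (T ⊔ K)).index = K.relIndex T := by
    have := Subgroup.relIndex_sup_right T K
    exact this
  rw [h3, h4] at h2
  rw [← h2, mul_comm]

/-- **Divisibility lemma for induced characters**: if `χ = φ^G` with `φ` a character of the normal
subgroup `K`, and `β` is a character of `K ∩ D` fixed by a subgroup `T ≥ K ∩ D` of `D`, then
`⟨χ_{K ∩ D}, β⟩` is a multiple of `|T : K ∩ D|`. -/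
theorem induced_restrict_dvd (K : Subgroup G) [hK : K.Normal] [Fintype K] {φ : K → ℂ}
    (hφ : IsCharacter K φ) (D : Subgroup G) [Fintype (K.subgroupOf D)] {β : K.subgroupOf D → ℂ}
    (hβ : IsCharacter (K.subgroupOf D) β) (T : Subgroup D)
    (hinv : ∀ t ∈ T, conjFun (K.subgroupOf D) t β = β) :
    ∃ n : ℕ, classInner (fun x : K.subgroupOf D => indFun K φ ((x : D) : G)) β =
      n * (K.subgroupOf D).relIndex T := by
  classical
  letI : Fintype D := Fintype.ofFinite _
  letI := irrFintype (G := K.subgroupOf D)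
  have hK0 : (Nat.card K : ℂ) ≠ 0 := by
    rw [Nat.cast_ne_zero]; exact Nat.card_pos.ne'
  -- the inclusion `K ∩ D → K`
  let ι : K.subgroupOf D →* K :=
    (D.subtype.comp (K.subgroupOf D).subtype).codRestrict K (fun x => x.2)
  have hι : ∀ x : K.subgroupOf D, ((ι x : K) : G) = ((x : D) : G) := fun x => rfl
  -- the family `β_h`
  set B : G → K.subgroupOf D → ℂ := fun h => (conjFun K h φ) ∘ ι with hB
  have hBchar : ∀ h, IsCharacter (K.subgroupOf D) (B h) := fun h =>
    isCharacter_comp ι (isCharacter_conjFun K h hφ)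
  have hres : (fun x : K.subgroupOf D => indFun K φ ((x : D) : G)) =
      (Nat.card K : ℂ)⁻¹ • ∑ h : G, B h := by
    funext x
    have h1 := congrFun (indFun_normal_restrict K φ) (ι x)
    rw [Pi.smul_apply, Finset.sum_apply] at h1
    rw [Pi.smul_apply, Finset.sum_apply]
    exact h1
  have hnat : ∀ h, ∃ n : ℕ, classInner (B h) β = n := fun h => classInner_char_nat (hBchar h) hβ
  choose F hFdef using hnat
  -- invariance under `K`
  have hφcf := isClassFunction_of_isCharacter hφ
  have hinvK : ∀ h : G, ∀ k ∈ K, B (h * k) = B h := by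
    intro h k hk
    rw [hB]
    show (conjFun K (h * k) φ) ∘ ι = (conjFun K h φ) ∘ ι
    rw [conjFun_mul]
    have hcf : IsClassFunction K (conjFun K h φ) :=
      isClassFunction_of_isCharacter (isCharacter_conjFun K h hφ)
    have := le_inertia K hcf hk
    rw [mem_inertia] at this
    rw [this]
  -- invariance under `T`
  have hinvT : ∀ h : G, ∀ t : D, t ∈ T → classInner (B (h * (t : G))) β = classInner (B h) β := by
    intro h t ht
    have h1 : B (h * (t : G)) = conjFun (K.subgroupOf D) t (B h) := by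
      funext x
      rw [conjFun_apply]
      show conjFun K (h * (t : G)) φ (ι x) = conjFun K h φ (ι _)
      rw [conjFun_apply, conjFun_apply]
      congr 1
      apply Subtype.ext
      show h * (t : G) * ((x : D) : G) * (h * (t : G))⁻¹ = h * ((t : G) * ((x : D) : G) * (t : G)⁻¹) * h⁻¹
      group
    rw [h1]
    conv_lhs => rw [← hinv t ht]
    exact classInner_conjFun (K.subgroupOf D) t (B h) β
  -- the invariance subgroup
  let Stab : Subgroup G :=
    { carrier := {d | ∀ h : G, F (h * d) = F h}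
      mul_mem' := by
        intro a b ha hb h
        rw [← mul_assoc, hb (h * a), ha h]
      one_mem' := by
        intro h
        rw [mul_one]
      inv_mem' := by
        intro a ha h
        have := ha (h * a⁻¹)
        rw [inv_mul_cancel_right] at this
        exact this.symm }
  have hmemStab : ∀ d, d ∈ Stab ↔ ∀ h : G, F (h * d) = F h := fun d => Iff.rfl
  have hK_le : K ≤ Stab := by
    intro k hk
    rw [hmemStab]
    intro h
    have h1 := hFdef (h * k)
    rw [hinvK h k hk, hFdef h] at h1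
    exact_mod_cast h1.symm
  set T₁ : Subgroup G := T.map D.subtype with hT₁
  have hT_le : T₁ ≤ Stab := by
    rintro _ ⟨t, ht, rfl⟩
    rw [hmemStab]
    intro h
    have h1 := hinvT h t ht
    rw [hFdef, hFdef] at h1
    exact_mod_cast h1
  have hsup_le : T₁ ⊔ K ≤ Stab := sup_le hT_le hK_le
  obtain ⟨n, hn⟩ := sum_eq_card_mul_of_right_invariant (T₁ ⊔ K) F
    (fun h d hd => hsup_le hd h)
  refine ⟨n, ?_⟩
  rw [hres, classInner_smul_left, classInner_sum_left]
  rw [Finset.sum_congr rfl (fun h _ => hFdef h), ← Nat.cast_sum, hn, card_sup_normal]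
  have hrel : K.relIndex T₁ = (K.subgroupOf D).relIndex T := by
    rw [hT₁]
    exact (Subgroup.relIndex_comap K D.subtype T).symm
  rw [hrel]
  push_cast
  field_simp

end Inner

end Cfsg.Agent.Helper24.FullRam
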