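import Mathlib
import Cfsg.Prelude.Def_Blocks
import Cfsg.Agent.Lib.Helper24.FullyRamifiedInner
import Cfsg.Agent.Lib.Helper24.RamifiedCyc
import Cfsg.Agent.S0886

/-!
# Fully ramified characters: the Sylow level (helper24's shared library)

Abstract setting: a finite group `G` (in applications `G = Z R` with `R` a Sylow `p`-subgroup of
the big group), normal subgroups `Z ≤ K`, a `G`-invariant `θ ∈ Irr(Z)` and a character `Ξ` of `G`
with `Ξ = e θ` on `Z`, vanishing off `Z`, where `|G : Z| = p^(2k)` and `e = p^k e'`, `p ∤ e'`.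
-/

set_option autoImplicit false
set_option linter.style.haveILetI false
set_option linter.unusedSectionVars false

namespace Cfsg.Agent.Helper24.FullRam

open Cfsg Cfsg.Agent.Helper24 Cfsg.Agent.Helper5 Cfsg.Agent.Helper18
open scoped ComplexConjugate

universe u

section Full

variable {G : Type u} [Group G] [Fintype G]

/-- The inner product formula for the whole group. -/
theorem inner_full (Z : Subgroup G) [Fintype Z]
    {θ : Z → ℂ} {Ξ : G → ℂ} {e : ℂ} (hΞZ : ∀ z : Z, Ξ z = e * θ z)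
    (hΞ0 : ∀ g, g ∉ Z → Ξ g = 0) (ψ : G → ℂ) :
    classInner Ξ ψ * (Nat.card G : ℂ) =
      e * (Nat.card Z : ℂ) * classInner θ (fun z : Z => ψ z) := by
  classical
  have hD0 : (Nat.card G : ℂ) ≠ 0 := by
    rw [Nat.cast_ne_zero]; exact Nat.card_pos.ne'
  have hZ0 : (Nat.card Z : ℂ) ≠ 0 := by
    rw [Nat.cast_ne_zero]; exact Nat.card_pos.ne'
  unfold classInner
  have hsum : ∑ z : Z, e * (θ z * conj (ψ z)) = ∑ d : G, Ξ d * conj (ψ d) := by
    apply Finset.sum_of_injOn (fun z : Z => (z : G))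
    · intro a _ b _ hab
      exact Subtype.ext hab
    · intro a _
      exact Finset.mem_coe.mpr (Finset.mem_univ _)
    · intro d _ hd
      have : d ∉ Z := by
        intro h
        apply hd
        exact ⟨⟨d, h⟩, Finset.mem_coe.mpr (Finset.mem_univ _), rfl⟩
      rw [hΞ0 _ this, zero_mul]
    · intro z _
      rw [hΞZ z]
      ring
  rw [← hsum, ← Finset.mul_sum]
  field_simp

/-- If an irreducible character restricts to `a θ` on `Z`, then `a² |Z| ≤ |G|`. -/
theorem sq_mul_card_le (Z : Subgroup G) [Fintype Z] {ξ : G → ℂ} (hξ : IsIrrCharacter G ξ)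
    {θ : Z → ℂ} (hθ : IsIrrCharacter Z θ) {a : ℕ} (hres : ∀ z : Z, ξ z = (a : ℂ) * θ z) :
    a ^ 2 * Nat.card Z ≤ Nat.card G := by
  classical
  have h1 : classInner ξ ξ = 1 := by rw [irr_orthogonality hξ hξ, if_pos rfl]
  have h2 : classInner θ θ = 1 := by rw [irr_orthogonality hθ hθ, if_pos rfl]
  unfold classInner at h1 h2
  have hH0 : (Nat.card G : ℂ) ≠ 0 := by
    rw [Nat.cast_ne_zero]; exact Nat.card_pos.ne'
  have hZ0 : (Nat.card Z : ℂ) ≠ 0 := by
    rw [Nat.cast_ne_zero]; exact Nat.card_pos.ne'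
  have s1 : ∑ g : G, ξ g * conj (ξ g) = (Nat.card G : ℂ) := by
    have := congrArg (fun x => (Nat.card G : ℂ) * x) h1
    simp only [← mul_assoc, mul_inv_cancel₀ hH0, one_mul, mul_one] at this
    exact this
  have s2 : ∑ z : Z, θ z * conj (θ z) = (Nat.card Z : ℂ) := by
    have := congrArg (fun x => (Nat.card Z : ℂ) * x) h2
    simp only [← mul_assoc, mul_inv_cancel₀ hZ0, one_mul, mul_one] at this
    exact this
  have s3 : ∑ z : Z, ξ z * conj (ξ z) = ((a ^ 2 * Nat.card Z : ℕ) : ℂ) := by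
    have : ∀ z : Z, ξ z * conj (ξ z) = ((a : ℂ) ^ 2) * (θ z * conj (θ z)) := by
      intro z
      rw [hres z, map_mul, Complex.conj_natCast]
      ring
    rw [Finset.sum_congr rfl (fun z _ => this z), ← Finset.mul_sum, s2]
    push_cast
    ring
  have hn : ∀ x : G, ξ x * conj (ξ x) = ((Complex.normSq (ξ x) : ℝ) : ℂ) := fun x =>
    Complex.mul_conj (ξ x)
  have a1 : (∑ x : G, Complex.normSq (ξ x) : ℝ) = (Nat.card G : ℝ) := by
    have : ((∑ x : G, Complex.normSq (ξ x) : ℝ) : ℂ) = ((Nat.card G : ℝ) : ℂ) := by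
      push_cast
      rw [← s1]
      exact Finset.sum_congr rfl (fun x _ => (hn x).symm)
    exact_mod_cast this
  have a2 : (∑ z : Z, Complex.normSq (ξ z) : ℝ) = ((a ^ 2 * Nat.card Z : ℕ) : ℝ) := by
    have : ((∑ z : Z, Complex.normSq (ξ z) : ℝ) : ℂ) = (((a ^ 2 * Nat.card Z : ℕ) : ℝ) : ℂ) := by
      push_cast
      have := s3
      push_cast at this
      rw [← this]
      exact Finset.sum_congr rfl (fun x _ => (hn x).symm)
    exact_mod_cast this
  have s6 : ∑ x ∈ Finset.univ.filter (fun x : G => x ∈ Z), Complex.normSq (ξ x) =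
      ∑ z : Z, Complex.normSq (ξ z) := by
    rw [Finset.sum_subtype (Finset.univ.filter (fun x : G => x ∈ Z)) (p := fun x => x ∈ Z)
      (fun x => by simp) (fun x => Complex.normSq (ξ x))]
  have s7 : ∑ x ∈ Finset.univ.filter (fun x : G => x ∈ Z), Complex.normSq (ξ x) ≤
      ∑ x : G, Complex.normSq (ξ x) :=
    Finset.sum_le_sum_of_subset_of_nonneg (Finset.filter_subset _ _)
      (fun x _ _ => Complex.normSq_nonneg _)
  rw [s6, a1, a2] at s7
  exact_mod_cast s7

end Full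

section SylowLevel

variable {G : Type u} [Group G] [Fintype G] (Z : Subgroup G) [hZ : Z.Normal] [Fintype Z]

/-- **Sylow reduction**: any irreducible character of `G` over `θ` is `p^k θ` on `Z` and vanishes
off `Z`. -/
theorem irr_over_eq {θ : Z → ℂ} (hθ : IsIrrCharacter Z θ) (hθinv : ∀ g : G, conjFun Z g θ = θ)
    {Ξ : G → ℂ} (hΞ : IsCharacter G Ξ) {e : ℕ} (hΞZ : ∀ z : Z, Ξ z = (e : ℂ) * θ z)
    (hΞ0 : ∀ g, g ∉ Z → Ξ g = 0)
    {p : ℕ} (hp : p.Prime) {k e' : ℕ} (he : e = p ^ k * e') (he' : ¬ p ∣ e')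
    (hidx : Z.index = p ^ (2 * k))
    {ξ : G → ℂ} (hξ : IsIrrCharacter G ξ) (hcon : classInner (fun z : Z => ξ z) θ ≠ 0) :
    (∀ z : Z, ξ z = ((p ^ k : ℕ) : ℂ) * θ z) ∧ (∀ g, g ∉ Z → ξ g = 0) := by
  classical
  letI := irrFintype (G := G)
  obtain ⟨a, ha0, ha1, ha2⟩ := restrict_eq_smul_of_invariant Z hξ hθ hθinv hcon
  have hres : ∀ z : Z, ξ z = (a : ℂ) * θ z := by
    intro z
    have := congrFun ha2 z
    rwa [Pi.smul_apply, smul_eq_mul] at this
  obtain ⟨n, hn⟩ := classInner_char_nat hΞ (isCharacter_of_isIrrCharacter hξ)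
  have hL := inner_full Z hΞZ hΞ0 ξ
  have hθξ : classInner θ (fun z : Z => ξ z) = (a : ℂ) := by
    rw [← classInner_conj_symm, ha1, Complex.conj_natCast]
  rw [hn, hθξ] at hL
  have hcard := Subgroup.card_mul_index Z
  rw [hidx] at hcard
  -- `n * p^(2k) = e * a`
  have hZ0 : Nat.card Z ≠ 0 := Nat.card_pos.ne'
  have h1 : n * (Nat.card Z * p ^ (2 * k)) = e * Nat.card Z * a := by
    have : ((n * (Nat.card Z * p ^ (2 * k)) : ℕ) : ℂ) = ((e * Nat.card Z * a : ℕ) : ℂ) := by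
      rw [hcard]
      push_cast
      exact hL
    exact_mod_cast this
  have h2 : n * p ^ (2 * k) = e * a := by
    have : Nat.card Z * (n * p ^ (2 * k)) = Nat.card Z * (e * a) := by
      rw [← mul_assoc, mul_comm (Nat.card Z) n, mul_assoc, h1]; ring
    exact Nat.eq_of_mul_eq_mul_left (Nat.pos_of_ne_zero hZ0) this
  have hpk : 0 < p ^ k := Nat.pow_pos hp.pos
  have h3 : n * p ^ k = e' * a := by
    have : p ^ k * (n * p ^ k) = p ^ k * (e' * a) := by
      have e1 : p ^ (2 * k) = p ^ k * p ^ k := by rw [two_mul, pow_add]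
      rw [e1, he] at h2
      calc p ^ k * (n * p ^ k) = n * (p ^ k * p ^ k) := by ring
        _ = p ^ k * e' * a := h2
        _ = p ^ k * (e' * a) := by ring
    exact Nat.eq_of_mul_eq_mul_left hpk this
  have hcop : Nat.Coprime (p ^ k) e' :=
    Nat.Coprime.pow_left k ((Nat.Prime.coprime_iff_not_dvd hp).mpr he')
  have h4 : p ^ k ∣ a := by
    apply hcop.dvd_of_dvd_mul_left
    exact ⟨n, by rw [← h3]; ring⟩
  have h5 : p ^ k ≤ a := Nat.le_of_dvd (Nat.pos_of_ne_zero ha0) h4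
  have h6 := sq_mul_card_le Z hξ hθ hres
  rw [← hcard] at h6
  have h7 : a ^ 2 ≤ p ^ (2 * k) := by
    have : a ^ 2 * Nat.card Z ≤ p ^ (2 * k) * Nat.card Z := by
      rw [mul_comm (p ^ (2 * k))]; exact h6
    exact Nat.le_of_mul_le_mul_right this (Nat.pos_of_ne_zero hZ0)
  have h8 : a ≤ p ^ k := by
    have e1 : p ^ (2 * k) = (p ^ k) ^ 2 := by rw [mul_comm, pow_mul]
    rw [e1] at h7
    exact (Nat.pow_le_pow_iff_left (by norm_num)).mp h7
  have hak : a = p ^ k := le_antisymm h8 h5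
  have hres' : ∀ z : Z, ξ z = ((p ^ k : ℕ) : ℂ) * θ z := by
    intro z
    rw [← hak]
    exact hres z
  refine ⟨hres', ?_⟩
  intro g hg
  have he2 : (p ^ k) ^ 2 = Z.index := by rw [hidx, mul_comm, pow_mul]
  exact vanish_off Z hξ hθ he2 hres' hg

variable (K : Subgroup G) [hK : K.Normal] [Fintype K]

/-- Every irreducible character of `K` over `θ` lies under an irreducible character of `G` which
is `p^k θ` on `Z` and vanishes off `Z`. -/
theorem exists_irr_over (hZK : Z ≤ K) {θ : Z → ℂ} (hθ : IsIrrCharacter Z θ)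
    (hθinv : ∀ g : G, conjFun Z g θ = θ)
    {Ξ : G → ℂ} (hΞ : IsCharacter G Ξ) {e : ℕ} (hΞZ : ∀ z : Z, Ξ z = (e : ℂ) * θ z)
    (hΞ0 : ∀ g, g ∉ Z → Ξ g = 0)
    {p : ℕ} (hp : p.Prime) {k e' : ℕ} (he : e = p ^ k * e') (he' : ¬ p ∣ e')
    (hidx : Z.index = p ^ (2 * k))
    {φ : K → ℂ} (hφ : IsIrrCharacter K φ) (hcon : classInner (resFun hZK φ) θ ≠ 0) :
    ∃ ξ : G → ℂ, IsIrrCharacter G ξ ∧ classInner (fun x : K => ξ x) φ ≠ 0 ∧
      (∀ z : Z, ξ z = ((p ^ k : ℕ) : ℂ) * θ z) ∧ (∀ g, g ∉ Z → ξ g = 0) := by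
  classical
  letI := irrFintype (G := G)
  have he0 : e ≠ 0 := by
    rw [he]
    apply Nat.mul_ne_zero (pow_ne_zero _ hp.ne_zero)
    rintro rfl
    exact he' (dvd_zero p)
  obtain ⟨c, hc0, hc1, hc2⟩ := resFun_eq_smul_of_invariant Z K hZK hφ hθ
    (fun k _ => hθinv k) hcon
  have hL := inner_restrict Z K hZK hΞZ hΞ0 φ
  have hθφ : classInner θ (resFun hZK φ) = (c : ℂ) := by
    rw [← classInner_conj_symm, hc1, Complex.conj_natCast]
  rw [hθφ] at hL
  have hΞK : classInner (fun x : K => Ξ x) φ ≠ 0 := by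
    intro h
    rw [h, zero_mul] at hL
    have hZ0 : (Nat.card Z : ℂ) ≠ 0 := by
      rw [Nat.cast_ne_zero]; exact Nat.card_pos.ne'
    have : (e : ℂ) * (Nat.card Z : ℂ) * (c : ℂ) ≠ 0 := by
      apply mul_ne_zero (mul_ne_zero _ hZ0)
      · exact_mod_cast hc0
      · exact_mod_cast he0
    exact this hL.symm
  have hdec := (isCharacter_decomp hΞ).2
  have h1 : (fun x : K => Ξ x) =
      ∑ χ : IrrCharacter G, classInner Ξ (χ : G → ℂ) • (fun x : K => (χ : G → ℂ) x) := by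
    funext x
    conv_lhs => rw [hdec]
    simp only [Finset.sum_apply, Pi.smul_apply]
  have h2 : classInner (fun x : K => Ξ x) φ =
      ∑ χ : IrrCharacter G, classInner Ξ (χ : G → ℂ) *
        classInner (fun x : K => (χ : G → ℂ) x) φ := by
    rw [h1, classInner_sum_left]
    exact Finset.sum_congr rfl (fun χ _ => classInner_smul_left _ _ _)
  have h3 : ∃ χ : IrrCharacter G, classInner Ξ (χ : G → ℂ) ≠ 0 ∧
      classInner (fun x : K => (χ : G → ℂ) x) φ ≠ 0 := by
    by_contra hno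
    push Not at hno
    apply hΞK
    rw [h2]
    apply Finset.sum_eq_zero
    intro χ _
    by_cases h : classInner Ξ (χ : G → ℂ) = 0
    · rw [h, zero_mul]
    · rw [hno χ h, mul_zero]
  obtain ⟨ξ, hξ1, hξ2⟩ := h3
  have hΞZ' : (fun n : Z => Ξ n) = (e : ℂ) • θ := by
    funext z
    rw [Pi.smul_apply, smul_eq_mul]
    exact hΞZ z
  have hover := RamCyc.over_of_constituent Z hθ hΞ (e : ℂ) hΞZ' ξ.2 hξ1
  obtain ⟨h4, h5⟩ := irr_over_eq Z hθ hθinv hΞ hΞZ hΞ0 hp he he' hidx ξ.2 hover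
  exact ⟨ξ, ξ.2, hξ2, h4, h5⟩

/-- **Sylow-level theorem**: under the divisibility hypothesis `hB`, every irreducible character
of `K` over `θ` has inertia group `K` in `G`. -/
theorem inertia_le (hZK : Z ≤ K) {θ : Z → ℂ} (hθ : IsIrrCharacter Z θ)
    (hθinv : ∀ g : G, conjFun Z g θ = θ)
    {Ξ : G → ℂ} (hΞ : IsCharacter G Ξ) {e : ℕ} (hΞZ : ∀ z : Z, Ξ z = (e : ℂ) * θ z)
    (hΞ0 : ∀ g, g ∉ Z → Ξ g = 0)
    {p : ℕ} (hp : p.Prime) {k e' : ℕ} (he : e = p ^ k * e') (he' : ¬ p ∣ e')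
    (hidx : Z.index = p ^ (2 * k))
    {φ : K → ℂ} (hφ : IsIrrCharacter K φ) (hcon : classInner (resFun hZK φ) θ ≠ 0)
    (hB : ∃ n : ℕ, classInner (fun x : K => Ξ x) φ = n * K.relIndex (inertia K φ)) :
    inertia K φ ≤ K := by
  classical
  letI := irrFintype (G := G)
  letI := irrFintype (G := K)
  obtain ⟨ξ, hξ, hξcon, hξZ, hξ0⟩ := exists_irr_over Z K hZK hθ hθinv hΞ hΞZ hΞ0 hp he he' hidx
    hφ hcon
  obtain ⟨c, hc0, hc1, hc2⟩ := resFun_eq_smul_of_invariant Z K hZK hφ hθ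
    (fun k _ => hθinv k) hcon
  have hθφ : classInner θ (resFun hZK φ) = (c : ℂ) := by
    rw [← classInner_conj_symm, hc1, Complex.conj_natCast]
  have hξc := isCharacter_of_isIrrCharacter hξ
  have hφc := isCharacter_of_isIrrCharacter hφ
  obtain ⟨m, hm⟩ := classInner_char_nat (isCharacter_restrict K hξc) hφc
  obtain ⟨n, hn⟩ := hB
  set T := inertia K φ with hT
  set r := K.relIndex T with hr
  have hKT : K ≤ T := le_inertia K (isClassFunction_of_isIrrCharacter hφ)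
  -- (E1)
  have hL1 := inner_restrict Z K hZK hξZ hξ0 φ
  rw [hθφ, hm] at hL1
  have E1 : m * Nat.card K = p ^ k * Nat.card Z * c := by exact_mod_cast hL1
  -- (E2)
  have hL2 := inner_restrict Z K hZK hΞZ hΞ0 φ
  rw [hθφ, hn] at hL2
  have E2 : n * r * Nat.card K = e * Nat.card Z * c := by exact_mod_cast hL2
  -- (E3)
  have hdeg := degree_eq_of_constituent K hξ hφ hξcon
  rw [hm] at hdeg
  have hξ1 : ξ 1 = ((p ^ k : ℕ) : ℂ) * θ 1 := hξZ 1
  have hφ1 : φ 1 = (c : ℂ) * θ 1 := by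
    have := congrFun hc2 1
    rw [Pi.smul_apply, smul_eq_mul] at this
    exact this
  have hθ1 : θ 1 ≠ 0 := by
    obtain ⟨d, hd, hd1⟩ := irr_one_eq hθ
    rw [hd1, Nat.cast_ne_zero]; omega
  rw [hξ1, hφ1] at hdeg
  have E3 : p ^ k = m * T.index * c := by
    have : ((p ^ k : ℕ) : ℂ) * θ 1 = ((m * T.index * c : ℕ) : ℂ) * θ 1 := by
      rw [hdeg]; push_cast; ring
    exact_mod_cast mul_right_cancel₀ hθ1 this
  -- (E4)
  have hcardT : Nat.card T = r * Nat.card K := by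
    have := card_sup_normal K T
    rwa [sup_eq_left.mpr hKT] at this
  have E4 : r * Nat.card K * T.index = Nat.card Z * p ^ (2 * k) := by
    rw [← hcardT, Subgroup.card_mul_index, ← hidx, Subgroup.card_mul_index]
  -- arithmetic
  have hK0 : 0 < Nat.card K := Nat.card_pos
  have hZ0 : 0 < Nat.card Z := Nat.card_pos
  have hpk : 0 < p ^ k := Nat.pow_pos hp.pos
  have hidx0 : 0 < T.index := Nat.pos_of_ne_zero Subgroup.index_ne_zero_of_finite
  have hc0' : 0 < c := Nat.pos_of_ne_zero hc0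
  have hm0 : 0 < m := by
    rcases Nat.eq_zero_or_pos m with h | h
    · rw [h, zero_mul, zero_mul] at E3
      omega
    · exact h
  have A1 : n * r = e' * m := by
    have : Nat.card K * (n * r) = Nat.card K * (e' * m) := by
      calc Nat.card K * (n * r) = n * r * Nat.card K := by ring
        _ = e * Nat.card Z * c := E2
        _ = e' * (p ^ k * Nat.card Z * c) := by rw [he]; ring
        _ = e' * (m * Nat.card K) := by rw [E1]
        _ = Nat.card K * (e' * m) := by ring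
    exact Nat.eq_of_mul_eq_mul_left hK0 this
  have A2 : r * c * T.index = m * p ^ k := by
    have : (Nat.card Z * p ^ k) * (r * c * T.index) = (Nat.card Z * p ^ k) * (m * p ^ k) := by
      calc (Nat.card Z * p ^ k) * (r * c * T.index)
          = r * (p ^ k * Nat.card Z * c) * T.index := by ring
        _ = r * (m * Nat.card K) * T.index := by rw [E1]
        _ = m * (r * Nat.card K * T.index) := by ring
        _ = m * (Nat.card Z * p ^ (2 * k)) := by rw [E4]
        _ = (Nat.card Z * p ^ k) * (m * p ^ k) := by rw [two_mul, pow_add]; ring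
    exact Nat.eq_of_mul_eq_mul_left (Nat.mul_pos hZ0 hpk) this
  have A3 : r = m * m := by
    have : (T.index * c) * r = (T.index * c) * (m * m) := by
      calc (T.index * c) * r = r * c * T.index := by ring
        _ = m * p ^ k := A2
        _ = m * (m * T.index * c) := by rw [← E3]
        _ = (T.index * c) * (m * m) := by ring
    exact Nat.eq_of_mul_eq_mul_left (Nat.mul_pos hidx0 hc0') this
  have A4 : n * m = e' := by
    have : m * (n * m) = m * e' := by
      calc m * (n * m) = n * (m * m) := by ring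
        _ = n * r := by rw [A3]
        _ = e' * m := A1
        _ = m * e' := by ring
    exact Nat.eq_of_mul_eq_mul_left hm0 this
  have hmdvd : m ∣ p ^ k := ⟨T.index * c, by rw [E3]; ring⟩
  obtain ⟨j, -, hj⟩ := (Nat.dvd_prime_pow hp).mp hmdvd
  have hj0 : j = 0 := by
    by_contra hne
    apply he'
    rw [← A4, hj]
    exact Dvd.dvd.mul_left (dvd_pow_self p hne) n
  have hm1 : m = 1 := by rw [hj, hj0, pow_zero]
  have hr1 : r = 1 := by rw [A3, hm1]
  exact Subgroup.relIndex_eq_one.mp hr1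

/-- Any two irreducible characters of `K` over `θ` are `G`-conjugate. -/
theorem exists_conj (hZK : Z ≤ K) {θ : Z → ℂ} (hθ : IsIrrCharacter Z θ)
    (hθinv : ∀ g : G, conjFun Z g θ = θ)
    {Ξ : G → ℂ} (hΞ : IsCharacter G Ξ) {e : ℕ} (hΞZ : ∀ z : Z, Ξ z = (e : ℂ) * θ z)
    (hΞ0 : ∀ g, g ∉ Z → Ξ g = 0)
    {p : ℕ} (hp : p.Prime) {k e' : ℕ} (he : e = p ^ k * e') (he' : ¬ p ∣ e')
    (hidx : Z.index = p ^ (2 * k))
    {φ₁ φ₂ : K → ℂ} (hφ₁ : IsIrrCharacter K φ₁) (hφ₂ : IsIrrCharacter K φ₂)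
    (hcon₁ : classInner (resFun hZK φ₁) θ ≠ 0) (hcon₂ : classInner (resFun hZK φ₂) θ ≠ 0) :
    ∃ g : G, conjFun K g φ₁ = φ₂ := by
  obtain ⟨ξ₁, hξ₁, h1, hξ₁Z, hξ₁0⟩ := exists_irr_over Z K hZK hθ hθinv hΞ hΞZ hΞ0 hp he he' hidx
    hφ₁ hcon₁
  obtain ⟨ξ₂, hξ₂, h2, hξ₂Z, hξ₂0⟩ := exists_irr_over Z K hZK hθ hθinv hΞ hΞZ hΞ0 hp he he' hidx
    hφ₂ hcon₂
  have heq : ξ₂ = ξ₁ := by
    funext g
    by_cases hg : g ∈ Z
    · rw [hξ₂Z ⟨g, hg⟩, hξ₁Z ⟨g, hg⟩]
    · rw [hξ₂0 g hg, hξ₁0 g hg]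
  rw [heq] at h2
  exact clifford_conj K hξ₁ hφ₁ hφ₂ h1 h2

/-- The divisibility hypothesis holds when `G/K` is cyclic. -/
theorem hB_of_cyclic (hZK : Z ≤ K) {θ : Z → ℂ}
    {Ξ : G → ℂ} (hΞ : IsCharacter G Ξ) {e : ℕ} (hΞZ : ∀ z : Z, Ξ z = (e : ℂ) * θ z)
    (hΞ0 : ∀ g, g ∉ Z → Ξ g = 0) (hcyc : IsCyclic (G ⧸ K))
    {φ : K → ℂ} (hφ : IsIrrCharacter K φ) :
    ∃ n : ℕ, classInner (fun x : K => Ξ x) φ = n * K.relIndex (inertia K φ) := by
  classical
  set T := inertia K φ with hT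
  have hKT : K ≤ T := le_inertia K (isClassFunction_of_isIrrCharacter hφ)
  letI : Fintype T := Fintype.ofFinite _
  letI := irrFintype (G := T)
  haveI : (K.subgroupOf T).Normal := Subgroup.normal_subgroupOf
  letI : Fintype (K.subgroupOf T) := Fintype.ofFinite _
  -- cyclic quotient
  have hcyc' : IsCyclic (T ⧸ K.subgroupOf T) := by
    let g : T →* G ⧸ K := (QuotientGroup.mk' K).comp T.subtype
    have hker : g.ker = K.subgroupOf T := by
      rw [← MonoidHom.comap_ker, QuotientGroup.ker_mk']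
      rfl
    have h1 : IsCyclic (T ⧸ g.ker) :=
      isCyclic_of_injective (QuotientGroup.kerLift g) (QuotientGroup.kerLift_injective g)
    exact isCyclic_of_surjective (QuotientGroup.quotientMulEquivOfEq hker)
      (QuotientGroup.quotientMulEquivOfEq hker).surjective
  let ε : K.subgroupOf T ≃* K := Subgroup.subgroupOfEquivOfLe hKT
  have hϑ : IsIrrCharacter (K.subgroupOf T) (φ ∘ ε) := isIrrCharacter_comp_equiv ε hφ
  have hinv : ∀ (t : T) (n : K.subgroupOf T), (φ ∘ ε) ⟨t * n * t⁻¹,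
      (inferInstance : (K.subgroupOf T).Normal).conj_mem (n : T) n.2 t⟩ = (φ ∘ ε) n := by
    intro t n
    have h1 : conjFun K (t : G) φ = φ := (mem_inertia K φ t).mp t.2
    have h2 := congrFun h1 (ε n)
    rw [conjFun_apply] at h2
    rw [Function.comp_apply, Function.comp_apply, ← h2]
    congr 1
  obtain ⟨μ, hμ, hμext⟩ := Cfsg.Agent.S0886.result (K.subgroupOf T) hcyc' (φ ∘ ε) hϑ hinv
  have hZT : Z ≤ T := hZK.trans hKT
  have hres : resFun hZT μ = resFun hZK φ := by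
    funext z
    rw [resFun_apply, resFun_apply]
    have hmem : (⟨(z : G), hZT z.2⟩ : T) ∈ K.subgroupOf T := by
      rw [Subgroup.mem_subgroupOf]; exact hZK z.2
    have := hμext ⟨_, hmem⟩
    rw [show μ (⟨(z : G), hZT z.2⟩ : T) = (φ ∘ ε) ⟨_, hmem⟩ from this]
    rfl
  obtain ⟨n, hn⟩ := classInner_char_nat (isCharacter_restrict T hΞ)
    (isCharacter_of_isIrrCharacter hμ)
  have hL1 := inner_restrict Z T hZT hΞZ hΞ0 μ
  have hL2 := inner_restrict Z K hZK hΞZ hΞ0 φ
  rw [hres, ← hL2, hn] at hL1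
  refine ⟨n, ?_⟩
  have hcardT : Nat.card T = K.relIndex T * Nat.card K := by
    have := card_sup_normal K T
    rwa [sup_eq_left.mpr hKT] at this
  rw [hcardT] at hL1
  have hK0 : (Nat.card K : ℂ) ≠ 0 := by
    rw [Nat.cast_ne_zero]; exact Nat.card_pos.ne'
  push_cast at hL1
  have : classInner (fun x : K => Ξ x) φ * (Nat.card K : ℂ) =
      ((n : ℂ) * (K.relIndex T : ℂ)) * (Nat.card K : ℂ) := by
    rw [← hL1]; ring
  exact mul_right_cancel₀ hK0 this

end SylowLevel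

end Cfsg.Agent.Helper24.FullRam
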