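import Mathlib
import Cfsg.Prelude.Def_Blocks
import Cfsg.Agent.Lib.Helper24.FullyRamifiedSylow
import Cfsg.Agent.Lib.Helper24.NormalizerAct
import Cfsg.Agent.Lib.Helper24.SylIn

/-!
# Fully ramified characters: Hall `p'`-subgroups of quotients (helper24's shared library)

If `χ ∈ Irr(Γ)` is fully ramified over `Z ⊴ Γ`, `Z ≤ K ⊴ Γ`, and a divisibility condition holds at
the Sylow level, then `Γ/K` has a subgroup whose index is the `p`-part of `|Γ/K|`.
-/

set_option autoImplicit false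
set_option linter.style.haveILetI false
set_option linter.unusedSectionVars false

namespace Cfsg.Agent.Helper24.FullRam

open Cfsg Cfsg.Agent.Helper24 Cfsg.Agent.Helper5 Cfsg.Agent.Helper18 Cfsg.Agent.Helper24.SylIn
open scoped ComplexConjugate

universe u

section Aux

variable {Γ : Type u} [Group Γ] [Finite Γ]

/-- The `p`-part of the index of a normal subgroup, via a Sylow `p`-subgroup. -/
theorem relIndex_sylow_normal {p : ℕ} [hp : Fact p.Prime] {R : Subgroup Γ}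
    (hR : IsSylIn p ⊤ R) (A : Subgroup Γ) [A.Normal] :
    A.relIndex R = p ^ (A.index).factorization p := by
  have h1 : A.relIndex (R ⊔ A) * (R ⊔ A).index = A.index :=
    Subgroup.relIndex_mul_index le_sup_right
  have h2 : A.relIndex (R ⊔ A) = A.relIndex R := Subgroup.relIndex_sup_right R A
  have h3 : A.relIndex R ∣ Nat.card R := Subgroup.relIndex_dvd_card A R
  obtain ⟨a, ha⟩ := hR.isPGroup.exists_card_eq
  rw [ha] at h3
  obtain ⟨j, -, hj⟩ := (Nat.dvd_prime_pow hp.out).mp h3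
  have h4 : (R ⊔ A).index ∣ R.index := Subgroup.index_dvd_of_le le_sup_left
  have h5 : ¬ p ∣ R.index := by
    have := hR.not_dvd_relIndex
    rwa [Subgroup.relIndex_top_right] at this
  have h6 : ¬ p ∣ (R ⊔ A).index := fun h => h5 (h.trans h4)
  rw [h2, hj] at h1
  rw [hj, ← h1]
  have hne : (R ⊔ A).index ≠ 0 := Subgroup.index_ne_zero_of_finite
  rw [Nat.factorization_mul (pow_ne_zero _ hp.out.ne_zero) hne, Finsupp.add_apply,
    hp.out.factorization_pow, Finsupp.single_eq_same,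
    Nat.factorization_eq_zero_of_not_dvd h6, add_zero]

end Aux

section Over

variable {G : Type u} [Group G] [Fintype G]

/-- A constituent of a character of `K` whose restriction to `Z` is a multiple of `θ` lies over
`θ` (no normality needed). -/
theorem over_of_constituent_res (Z K : Subgroup G) [Fintype Z] [Fintype K] (hZK : Z ≤ K)
    {θ : Z → ℂ} (hθ : IsIrrCharacter Z θ) {ρ : K → ℂ} (hρ : IsCharacter K ρ) (c : ℂ)
    (hρZ : resFun hZK ρ = c • θ) {φ : K → ℂ} (hφ : IsIrrCharacter K φ)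
    (hcon : classInner ρ φ ≠ 0) : classInner (resFun hZK φ) θ ≠ 0 := by
  classical
  obtain ⟨ρ', hρ', hsum⟩ := exists_add_of_constituent hρ hφ hcon
  have hφc := isCharacter_of_isIrrCharacter hφ
  have hφZ : IsCharacter Z (resFun hZK φ) := isCharacter_resFun hZK hφc
  have hρ'Z : IsCharacter Z (resFun hZK ρ') := isCharacter_resFun hZK hρ'
  have h0 : resFun hZK φ ≠ 0 := by
    intro h
    have h1 := congrFun h 1
    obtain ⟨d, hd, hd1⟩ := irr_one_eq hφ
    have h2 : φ 1 = 0 := h1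
    rw [hd1] at h2
    have : d = 0 := by exact_mod_cast h2
    omega
  obtain ⟨θ', hθ', hcon'⟩ := exists_constituent hφZ h0
  have h1 : classInner (resFun hZK φ + resFun hZK ρ') θ' ≠ 0 :=
    classInner_add_ne_zero hφZ hρ'Z (isCharacter_of_isIrrCharacter hθ') hcon'
  have h2 : resFun hZK φ + resFun hZK ρ' = c • θ := by
    rw [← hρZ, hsum, resFun_add]
  rw [h2, classInner_smul_left, irr_orthogonality hθ hθ'] at h1
  by_cases heq : θ = θ'
  · rw [heq]; exact hcon'
  · rw [if_neg heq, mul_zero] at h1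
    exact absurd rfl h1

end Over

section Action

variable {N : Type u} [Group N] [Finite N] {X : Type*} [MulAction N X]

/-- For a normal subgroup `A` and any subgroup `B`: `|A : A ∩ B| = |AB : B|`. -/
theorem relIndex_sup_normal_left (A B : Subgroup N) [A.Normal] :
    B.relIndex (B ⊔ A) = B.relIndex A := by
  have h1 : A.relIndex (B ⊔ A) = A.relIndex B := Subgroup.relIndex_sup_right B A
  have h2 : (A ⊓ B).relIndex A * A.relIndex (B ⊔ A) = (A ⊓ B).relIndex (B ⊔ A) :=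
    Subgroup.relIndex_mul_relIndex _ _ _ inf_le_left le_sup_right
  have h3 : (A ⊓ B).relIndex B * B.relIndex (B ⊔ A) = (A ⊓ B).relIndex (B ⊔ A) :=
    Subgroup.relIndex_mul_relIndex _ _ _ inf_le_right le_sup_left
  have h4 : (A ⊓ B).relIndex B = A.relIndex B := Subgroup.inf_relIndex_right A B
  have h5 : (A ⊓ B).relIndex A = B.relIndex A := Subgroup.inf_relIndex_left A B
  rw [h4] at h3
  rw [h5, h1] at h2
  have h6 : A.relIndex B * B.relIndex (B ⊔ A) = A.relIndex B * B.relIndex A := by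
    rw [h3, ← h2, mul_comm]
  have h7 : 0 < A.relIndex B := by
    apply Nat.pos_of_ne_zero
    show (A.subgroupOf B).index ≠ 0
    exact Subgroup.index_ne_zero_of_finite
  exact Nat.eq_of_mul_eq_mul_left h7 h6

/-- **Orbit counting lemma.** -/
theorem stabilizer_index_of_transitive_subgroup {p : ℕ} (hp : p.Prime) (x : X)
    (A S C : Subgroup N) [A.Normal]
    (hCstab : C ≤ MulAction.stabilizer N x) (hpA : ¬ p ∣ C.relIndex A)
    (htrans : ∀ n : N, ∃ s ∈ S, s • x = n • x)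
    (hstabS : ∀ s ∈ S, s • x = x → s ∈ C) {j : ℕ} (hj : C.relIndex S = p ^ j) :
    A ≤ MulAction.stabilizer N x ∧ (MulAction.stabilizer N x).index = p ^ j := by
  set M₀ := MulAction.stabilizer N x with hM₀
  -- index of the stabilizer
  have hidx : M₀.index = p ^ j := by
    rw [← hj, hM₀, MulAction.index_stabilizer N x]
    have horb : MulAction.orbit N x = MulAction.orbit S x := by
      ext y
      constructor
      · rintro ⟨n, rfl⟩
        obtain ⟨s, hs, hsx⟩ := htrans n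
        exact ⟨⟨s, hs⟩, hsx⟩
      · rintro ⟨s, rfl⟩
        exact ⟨(s : N), rfl⟩
    rw [horb, ← MulAction.index_stabilizer S x]
    have hstab : MulAction.stabilizer S x = C.subgroupOf S := by
      ext s
      rw [MulAction.mem_stabilizer_iff, Subgroup.mem_subgroupOf]
      constructor
      · intro h
        exact hstabS (s : N) s.2 h
      · intro h
        exact hCstab h
    rw [hstab]
    rfl
  refine ⟨?_, hidx⟩
  -- `A ≤ M₀`
  have h1 : M₀.relIndex (M₀ ⊔ A) = M₀.relIndex A := relIndex_sup_normal_left A M₀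
  have h2 : M₀.relIndex (M₀ ⊔ A) ∣ M₀.index := Subgroup.relIndex_dvd_index_of_le le_sup_left
  rw [h1, hidx] at h2
  obtain ⟨i, -, hi⟩ := (Nat.dvd_prime_pow hp).mp h2
  have h3 : M₀.relIndex A ∣ C.relIndex A := Subgroup.relIndex_dvd_of_le_left A hCstab
  have hi0 : i = 0 := by
    by_contra hne
    apply hpA
    refine Dvd.dvd.trans ?_ h3
    rw [hi]
    exact dvd_pow_self p hne
  rw [hi0, pow_zero] at hi
  exact Subgroup.relIndex_eq_one.mp hi

end Action

section Main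

variable {Γ : Type u} [Group Γ] [Fintype Γ] (Z K : Subgroup Γ) [hZ : Z.Normal] [hK : K.Normal]
  [Fintype Z]

/-- Group-theoretic setup: a Sylow `p`-subgroup `R`, `S = Z R`, `K₁ = S ∩ K`. -/
theorem setup_facts (hZK : Z ≤ K) (p : ℕ) [hp : Fact p.Prime] {R : Subgroup Γ}
    (hR : IsSylIn p ⊤ R) :
    (Z ⊔ R) ≤ Subgroup.normalizer (((Z ⊔ R) ⊓ K : Subgroup Γ) : Set Γ) ∧
    Subgroup.normalizer (((Z ⊔ R) ⊓ K : Subgroup Γ) : Set Γ) ⊔ K = ⊤ ∧
    ¬ p ∣ ((Z ⊔ R) ⊓ K).relIndex K ∧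
    ((Z ⊔ R) ⊓ K).relIndex (Z ⊔ R) = p ^ (K.index).factorization p ∧
    Z.relIndex (Z ⊔ R) = p ^ (Z.index).factorization p := by
  classical
  set S := Z ⊔ R with hS
  set Q := R ⊓ K with hQdef
  have hQ : IsSylIn p K Q := hR.inf_normal le_top (fun a _ n hn => hK.conj_mem n hn a)
  -- modular law
  have hK₁ : S ⊓ K = Z ⊔ Q := by
    apply le_antisymm
    · intro x hx
      rw [Subgroup.mem_inf] at hx
      obtain ⟨hxS, hxK⟩ := hx
      rw [hS, Subgroup.mem_sup_of_normal_left] at hxS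
      obtain ⟨z, hz, r, hr, rfl⟩ := hxS
      have hrK : r ∈ K := by
        have : r = z⁻¹ * (z * r) := by group
        rw [this]
        exact K.mul_mem (K.inv_mem (hZK hz)) hxK
      exact Subgroup.mul_mem_sup hz ⟨hr, hrK⟩
    · apply sup_le
      · exact le_inf le_sup_left hZK
      · exact le_inf (inf_le_left.trans le_sup_right) inf_le_right
  refine ⟨?_, ?_, ?_, ?_, ?_⟩
  · apply le_normalizer_of_forall_conj_mem
    intro s hs g hg
    exact ⟨S.mul_mem (S.mul_mem hs hg.1) (S.inv_mem hs), hK.conj_mem g hg.2 s⟩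
  · have h1 := hQ.normalizer_sup_eq_top
    have h2 : Subgroup.normalizer (Q : Set Γ) ≤ Subgroup.normalizer ((S ⊓ K : Subgroup Γ) : Set Γ) := by
      apply le_normalizer_of_forall_conj_mem
      intro n hn g hg
      rw [hK₁] at hg ⊢
      rw [Subgroup.mem_sup_of_normal_left] at hg
      obtain ⟨z, hz, q, hq, rfl⟩ := hg
      have e1 : n * (z * q) * n⁻¹ = (n * z * n⁻¹) * (n * q * n⁻¹) := by group
      rw [e1]
      apply Subgroup.mul_mem_sup (hZ.conj_mem z hz n)
      exact (Subgroup.mem_normalizer_iff.mp hn q).mp hq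
    rw [eq_top_iff, ← h1]
    exact sup_le_sup_right h2 K
  · intro hdvd
    apply hQ.not_dvd_relIndex
    have hle : Q ≤ S ⊓ K := by rw [hK₁]; exact le_sup_right
    exact hdvd.trans (Subgroup.relIndex_dvd_of_le_left K hle)
  · rw [Subgroup.inf_relIndex_left]
    have h1 : K.relIndex (S ⊔ K) = K.relIndex S := Subgroup.relIndex_sup_right S K
    have h2 : S ⊔ K = R ⊔ K := by
      rw [hS, sup_comm Z R, sup_assoc, sup_eq_right.mpr hZK]
    have h3 : K.relIndex (R ⊔ K) = K.relIndex R := Subgroup.relIndex_sup_right R K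
    rw [← h1, h2, h3]
    exact relIndex_sylow_normal hR K
  · rw [Subgroup.relIndex_sup_left]
    exact relIndex_sylow_normal hR Z

/-- **Main theorem**: existence of a subgroup of `Γ/K` whose index is the `p`-part of `|Γ/K|`,
under the Sylow-level divisibility hypothesis `hB`. -/
theorem exists_subgroup_index_eq (hZK : Z ≤ K) {χ : Γ → ℂ} (hχ : IsIrrCharacter Γ χ) {θ : Z → ℂ}
    (hθ : IsIrrCharacter Z θ) {e : ℕ} (he : e ^ 2 = Z.index)
    (hres : ∀ z : Z, χ z = (e : ℂ) * θ z) (p : ℕ) [hp : Fact p.Prime]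
    (hB : ∀ R : Subgroup Γ, IsPGroup p R → ∀ [Fintype (K.subgroupOf (Z ⊔ R))]
        (φ : K.subgroupOf (Z ⊔ R) → ℂ), IsIrrCharacter (K.subgroupOf (Z ⊔ R)) φ →
        ∃ n : ℕ, classInner
            (fun x : K.subgroupOf (Z ⊔ R) => χ ((x : (Z ⊔ R : Subgroup Γ)) : Γ)) φ =
          n * (K.subgroupOf (Z ⊔ R)).relIndex (inertia (K.subgroupOf (Z ⊔ R)) φ)) :
    ∃ M : Subgroup (Γ ⧸ K), M.index = p ^ (K.index).factorization p := by
  classical
  obtain ⟨R, hR⟩ := exists_isSylIn p (⊤ : Subgroup Γ)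
  obtain ⟨hSN, hfrat, hpK, hidxS, hidxZ⟩ := setup_facts Z K hZK p hR
  have hBR := @hB R hR.isPGroup
  clear hB
  set S := Z ⊔ R with hS
  set K₁ := S ⊓ K with hK₁
  set N := Subgroup.normalizer (K₁ : Set Γ) with hN
  have hZS : Z ≤ S := le_sup_left
  have hZK₁ : Z ≤ K₁ := le_inf hZS hZK
  have he0 : e ≠ 0 := by
    intro h0
    rw [h0] at he
    exact Subgroup.index_ne_zero_of_finite (by simpa using he.symm)
  letI : Fintype S := Fintype.ofFinite _
  letI : Fintype K₁ := Fintype.ofFinite _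
  letI : Fintype (Z.subgroupOf S) := Fintype.ofFinite _
  letI : Fintype (K.subgroupOf S) := Fintype.ofFinite _
  have hZ'K' : Z.subgroupOf S ≤ K.subgroupOf S := fun x hx => hZK hx
  -- `θ` is `Γ`-invariant
  have hθinvΓ : ∀ g : Γ, conjFun Z g θ = θ := by
    intro g
    funext z
    rw [conjFun_apply]
    exact theta_invariant Z hχ he hres g z
  -- the `S`-level data
  let εZ : Z.subgroupOf S ≃* Z := Subgroup.subgroupOfEquivOfLe hZS
  have hθ' : IsIrrCharacter (Z.subgroupOf S) (θ ∘ εZ) := isIrrCharacter_comp_equiv εZ hθ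
  have hθ'inv : ∀ s : S, conjFun (Z.subgroupOf S) s (θ ∘ εZ) = θ ∘ εZ := by
    intro s
    funext z
    rw [conjFun_apply, Function.comp_apply, Function.comp_apply]
    have := congrFun (hθinvΓ (s : Γ)) (εZ z)
    rw [conjFun_apply] at this
    rw [← this]
    congr 1
  have hΞ : IsCharacter S (fun s : S => χ s) :=
    isCharacter_restrict S (isCharacter_of_isIrrCharacter hχ)
  have hΞZ : ∀ z : Z.subgroupOf S, (fun s : S => χ s) z = (e : ℂ) * (θ ∘ εZ) z := by
    intro z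
    exact hres (εZ z)
  have hΞ0 : ∀ s : S, s ∉ Z.subgroupOf S → (fun s : S => χ s) s = 0 := by
    intro s hs
    exact vanish_off Z hχ hθ he hres hs
  -- the numbers
  obtain ⟨k, e', hee, he'⟩ : ∃ k e' : ℕ, e = p ^ k * e' ∧ ¬ p ∣ e' :=
    ⟨e.factorization p, e / p ^ e.factorization p,
      (Nat.ordProj_mul_ordCompl_eq_self e p).symm, Nat.not_dvd_ordCompl hp.out he0⟩
  have hk : (Z.index).factorization p = 2 * k := by
    rw [← he, Nat.factorization_pow, Finsupp.smul_apply, smul_eq_mul, hee,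
      Nat.factorization_mul (pow_ne_zero _ hp.out.ne_zero) (by rintro rfl; exact he' (dvd_zero p)),
      Finsupp.add_apply, hp.out.factorization_pow, Finsupp.single_eq_same,
      Nat.factorization_eq_zero_of_not_dvd he', add_zero]
  have hidx : (Z.subgroupOf S).index = p ^ (2 * k) := by
    rw [← hk, ← hidxZ]
    rfl
  -- `S`-level conclusions
  have O1 : ∀ φ : K.subgroupOf S → ℂ, IsIrrCharacter (K.subgroupOf S) φ →
      classInner (resFun hZ'K' φ) (θ ∘ εZ) ≠ 0 → inertia (K.subgroupOf S) φ ≤ K.subgroupOf S :=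
    fun φ hφ hcon => inertia_le (Z.subgroupOf S) (K.subgroupOf S) hZ'K' hθ' hθ'inv hΞ hΞZ hΞ0
      hp.out hee he' hidx hφ hcon (hBR φ hφ)
  have O2 : ∀ φ₁ φ₂ : K.subgroupOf S → ℂ, IsIrrCharacter (K.subgroupOf S) φ₁ →
      IsIrrCharacter (K.subgroupOf S) φ₂ → classInner (resFun hZ'K' φ₁) (θ ∘ εZ) ≠ 0 →
      classInner (resFun hZ'K' φ₂) (θ ∘ εZ) ≠ 0 →
      ∃ g : S, conjFun (K.subgroupOf S) g φ₁ = φ₂ :=
    fun φ₁ φ₂ h1 h2 c1 c2 => exists_conj (Z.subgroupOf S) (K.subgroupOf S) hZ'K' hθ' hθ'inv hΞ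
      hΞZ hΞ0 hp.out hee he' hidx h1 h2 c1 c2
  -- transport between `K ∩ S ≤ S` and `K₁ ≤ Γ`
  let ε₁ : K.subgroupOf S ≃* K₁ :=
    { toFun := fun x => ⟨((x : S) : Γ), ⟨(x : S).2, x.2⟩⟩
      invFun := fun y => ⟨⟨(y : Γ), y.2.1⟩, y.2.2⟩
      left_inv := fun x => rfl
      right_inv := fun y => rfl
      map_mul' := fun x y => rfl }
  have hover_iff : ∀ ψ : K₁ → ℂ,
      classInner (resFun hZ'K' (ψ ∘ ε₁)) (θ ∘ εZ) = classInner (resFun hZK₁ ψ) θ := by
    intro ψ
    have : resFun hZ'K' (ψ ∘ ε₁) = (resFun hZK₁ ψ) ∘ εZ := by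
      funext z
      rfl
    rw [this, classInner_comp_equiv]
  -- a character of `K₁` over `θ`
  have hχ1 : χ 1 ≠ 0 := by
    obtain ⟨d, hd, hd1⟩ := irr_one_eq hχ
    rw [hd1, Nat.cast_ne_zero]; omega
  have hΞK0 : (fun x : K.subgroupOf S => (fun s : S => χ s) x) ≠ 0 := by
    intro h
    exact hχ1 (congrFun h 1)
  obtain ⟨φ', hφ', hφ'con⟩ := exists_constituent (isCharacter_restrict (K.subgroupOf S) hΞ) hΞK0
  have hφ'over : classInner (resFun hZ'K' φ') (θ ∘ εZ) ≠ 0 := by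
    apply over_of_constituent_res (Z.subgroupOf S) (K.subgroupOf S) hZ'K' hθ'
      (isCharacter_restrict (K.subgroupOf S) hΞ) (e : ℂ) _ hφ' hφ'con
    funext z
    exact hΞZ z
  set φ₁ : IrrCharacter K₁ := ⟨φ' ∘ ε₁.symm, isIrrCharacter_comp_equiv ε₁.symm hφ'⟩ with hφ₁
  have hφ₁ε : (φ₁ : K₁ → ℂ) ∘ ε₁ = φ' := by
    funext x
    show φ' (ε₁.symm (ε₁ x)) = φ' x
    rw [MulEquiv.symm_apply_apply]
  have hφ₁over : classInner (resFun hZK₁ (φ₁ : K₁ → ℂ)) θ ≠ 0 := by
    rw [← hover_iff, hφ₁ε]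
    exact hφ'over
  -- the action of `N`
  letI := normAct K₁
  have hsmul : ∀ (n : N) (ψ : IrrCharacter K₁) (h h' : K₁),
      (h' : Γ) = (n : Γ)⁻¹ * h * (n : Γ) →
      ((n • ψ : IrrCharacter K₁) : K₁ → ℂ) h = (ψ : K₁ → ℂ) h' := by
    intro n ψ h h' hh'
    show (ψ : K₁ → ℂ) (normConj K₁ (n : Γ)⁻¹ _ h) = (ψ : K₁ → ℂ) h'
    apply congrArg (ψ : K₁ → ℂ)
    apply Subtype.ext
    rw [normConj_apply, inv_inv]
    exact hh'.symm
  have O3Γ : ∀ (n : N) (ψ : IrrCharacter K₁), classInner (resFun hZK₁ (ψ : K₁ → ℂ)) θ ≠ 0 →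
      classInner (resFun hZK₁ ((n • ψ : IrrCharacter K₁) : K₁ → ℂ)) θ ≠ 0 := by
    intro n ψ hψ
    have h1 : resFun hZK₁ ((n • ψ : IrrCharacter K₁) : K₁ → ℂ) =
        conjFun Z (n : Γ)⁻¹ (resFun hZK₁ (ψ : K₁ → ℂ)) := by
      funext z
      rw [conjFun_apply, resFun_apply, resFun_apply]
      apply hsmul
      simp
    rw [h1]
    conv_lhs => rw [← hθinvΓ (n : Γ)⁻¹]
    rw [classInner_conjFun]
    exact hψ
  have O2Γ : ∀ ψ₁ ψ₂ : IrrCharacter K₁, classInner (resFun hZK₁ (ψ₁ : K₁ → ℂ)) θ ≠ 0 →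
      classInner (resFun hZK₁ (ψ₂ : K₁ → ℂ)) θ ≠ 0 →
      ∃ n : N, n ∈ S.subgroupOf N ∧ n • ψ₁ = ψ₂ := by
    intro ψ₁ ψ₂ h1 h2
    obtain ⟨g, hg⟩ := O2 ((ψ₁ : K₁ → ℂ) ∘ ε₁) ((ψ₂ : K₁ → ℂ) ∘ ε₁)
      (isIrrCharacter_comp_equiv ε₁ ψ₁.2) (isIrrCharacter_comp_equiv ε₁ ψ₂.2)
      (by rw [hover_iff]; exact h1) (by rw [hover_iff]; exact h2)
    refine ⟨⟨((g⁻¹ : S) : Γ), hSN (g⁻¹ : S).2⟩, (g⁻¹ : S).2, ?_⟩
    apply Subtype.ext
    funext h
    have h3 := congrFun hg (ε₁.symm h)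
    rw [conjFun_apply, Function.comp_apply, Function.comp_apply, MulEquiv.apply_symm_apply] at h3
    rw [← h3]
    apply hsmul
    simp
    rfl
  have O1Γ : ∀ ψ : IrrCharacter K₁, classInner (resFun hZK₁ (ψ : K₁ → ℂ)) θ ≠ 0 →
      ∀ n : N, n ∈ S.subgroupOf N → n • ψ = ψ → n ∈ K₁.subgroupOf N := by
    intro ψ hψ n hnS hfix
    have hin : (⟨(n : Γ), hnS⟩ : S)⁻¹ ∈ inertia (K.subgroupOf S) ((ψ : K₁ → ℂ) ∘ ε₁) := by
      rw [mem_inertia]
      funext x
      rw [conjFun_apply, Function.comp_apply, Function.comp_apply]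
      have h1 := congrFun (congrArg Subtype.val hfix) (ε₁ x)
      rw [← h1]
      symm
      apply hsmul
      simp
      rfl
    have h2 := O1 ((ψ : K₁ → ℂ) ∘ ε₁) (isIrrCharacter_comp_equiv ε₁ ψ.2)
      (by rw [hover_iff]; exact hψ) hin
    rw [Subgroup.mem_subgroupOf] at h2 ⊢
    have h3 : (n : Γ)⁻¹ ∈ K := h2
    have h4 : (n : Γ) ∈ K := by
      have := K.inv_mem h3
      rwa [inv_inv] at this
    exact ⟨hnS, h4⟩
  -- the orbit counting lemma
  have hCstab : K₁.subgroupOf N ≤ MulAction.stabilizer N φ₁ := by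
    intro n hn
    rw [MulAction.mem_stabilizer_iff]
    apply Subtype.ext
    funext h
    have hmem : (n : Γ)⁻¹ * h * (n : Γ) ∈ K₁ :=
      K₁.mul_mem (K₁.mul_mem (K₁.inv_mem hn) h.2) hn
    have hinv : (⟨(n : Γ), hn⟩ : K₁)⁻¹ * h * (⟨(n : Γ), hn⟩ : K₁)⁻¹⁻¹ =
        ⟨(n : Γ)⁻¹ * h * (n : Γ), hmem⟩ := by
      apply Subtype.ext
      simp
    rw [hsmul n φ₁ h ⟨_, hmem⟩ rfl, ← hinv]
    exact isClassFunction_of_isIrrCharacter φ₁.2 h (⟨(n : Γ), hn⟩ : K₁)⁻¹
  have hpA : ¬ p ∣ (K₁.subgroupOf N).relIndex (K.subgroupOf N) := by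
    intro hdvd
    apply hpK
    have h1 : (K₁.subgroupOf N).relIndex (K.subgroupOf N) = K₁.relIndex (K ⊓ N) := by
      have := Subgroup.relIndex_comap K₁ N.subtype (K.subgroupOf N)
      rw [Subgroup.subgroupOf_map_subtype] at this
      exact this
    have h2 : K₁.relIndex (K ⊓ N) * (K ⊓ N).relIndex K = K₁.relIndex K := by
      apply Subgroup.relIndex_mul_relIndex
      · exact le_inf inf_le_right Subgroup.le_normalizer
      · exact inf_le_left
    rw [h1] at hdvd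
    rw [← h2]
    exact Dvd.dvd.mul_right hdvd _
  have hj : (K₁.subgroupOf N).relIndex (S.subgroupOf N) = p ^ (K.index).factorization p := by
    rw [Subgroup.relIndex_subgroupOf hSN]
    exact hidxS
  obtain ⟨hker_le, hM₀⟩ := stabilizer_index_of_transitive_subgroup hp.out φ₁
    (K.subgroupOf N) (S.subgroupOf N) (K₁.subgroupOf N) hCstab hpA
    (fun n => by
      obtain ⟨s, hs, hsx⟩ := O2Γ φ₁ (n • φ₁) hφ₁over (O3Γ n φ₁ hφ₁over)
      exact ⟨s, hs, hsx⟩)
    (fun s hs hfix => O1Γ φ₁ hφ₁over s hs hfix) hj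
  -- the quotient map restricted to `N`
  let f : N →* Γ ⧸ K := (QuotientGroup.mk' K).comp N.subtype
  have hfker : f.ker = K.subgroupOf N := by
    rw [← MonoidHom.comap_ker, QuotientGroup.ker_mk']
    rfl
  have hfsurj : Function.Surjective f := by
    intro q
    obtain ⟨g, rfl⟩ := QuotientGroup.mk_surjective q
    have hg : g ∈ N ⊔ K := by rw [hfrat]; exact Subgroup.mem_top g
    rw [Subgroup.mem_sup_of_normal_right] at hg
    obtain ⟨n, hn, k, hk, rfl⟩ := hg
    refine ⟨⟨n, hn⟩, ?_⟩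
    show ((n : Γ) : Γ ⧸ K) = ((n * k : Γ) : Γ ⧸ K)
    rw [QuotientGroup.mk_mul, (QuotientGroup.eq_one_iff k).mpr hk, mul_one]
  refine ⟨(MulAction.stabilizer N φ₁).map f, ?_⟩
  rw [Subgroup.index_map_eq _ hfsurj (by rw [hfker]; exact hker_le)]
  exact hM₀

end Main

section Cyclic

variable {Γ : Type u} [Group Γ] [Finite Γ]

/-- If `Γ/K` has a cyclic Sylow `p`-subgroup, then `ZR/(K ∩ ZR)` is cyclic for every `p`-subgroup
`R` (where `Z ≤ K`). -/
theorem isCyclic_quotient_of_sylow (Z K : Subgroup Γ) [hZ : Z.Normal] [hK : K.Normal]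
    (hZK : Z ≤ K) {p : ℕ} [hp : Fact p.Prime] (P : Sylow p (Γ ⧸ K)) (hcyc : IsCyclic P)
    {R : Subgroup Γ} (hR : IsPGroup p R) :
    IsCyclic (↥(Z ⊔ R) ⧸ K.subgroupOf (Z ⊔ R)) := by
  have hRmap : IsPGroup p (R.map (QuotientGroup.mk' K)) := hR.map _
  obtain ⟨P', hP'⟩ := hRmap.exists_le_sylow
  haveI : IsCyclic P' := isCyclic_of_surjective (Sylow.equiv P P') (Sylow.equiv P P').surjective
  let g : ↥(Z ⊔ R) →* Γ ⧸ K := (QuotientGroup.mk' K).comp (Z ⊔ R).subtype
  have hg : ∀ s : ↥(Z ⊔ R), g s ∈ (P' : Subgroup (Γ ⧸ K)) := by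
    intro s
    have hs := s.2
    rw [Subgroup.mem_sup_of_normal_left] at hs
    obtain ⟨z, hz, r, hr, hzr⟩ := hs
    apply hP'
    refine ⟨r, hr, ?_⟩
    show ((r : Γ) : Γ ⧸ K) = (((s : Γ)) : Γ ⧸ K)
    rw [← hzr, QuotientGroup.mk_mul, (QuotientGroup.eq_one_iff z).mpr (hZK hz), one_mul]
  let g' : ↥(Z ⊔ R) →* (P' : Subgroup (Γ ⧸ K)) := g.codRestrict (P' : Subgroup (Γ ⧸ K)) hg
  have hker : g'.ker = K.subgroupOf (Z ⊔ R) := by
    ext s
    rw [MonoidHom.mem_ker, Subgroup.mem_subgroupOf]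
    constructor
    · intro h
      have h1 : g s = 1 := congrArg Subtype.val h
      exact (QuotientGroup.eq_one_iff (s : Γ)).mp h1
    · intro h
      apply Subtype.ext
      exact (QuotientGroup.eq_one_iff (s : Γ)).mpr h
  have h1 : IsCyclic (↥(Z ⊔ R) ⧸ g'.ker) :=
    isCyclic_of_injective (QuotientGroup.kerLift g') (QuotientGroup.kerLift_injective g')
  exact isCyclic_of_surjective (QuotientGroup.quotientMulEquivOfEq hker)
    (QuotientGroup.quotientMulEquivOfEq hker).surjective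

end Cyclic

end Cfsg.Agent.Helper24.FullRam
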