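import Mathlib
import Cfsg.Prelude.Def_Local
import Cfsg.Agent.Lib.Helper22.PPrimeCore

/-!
# Gaschütz–Yen (S3798), part 1: the transitivity hypothesis passes to `G / O_{p'}(G)` (helper24)
-/

set_option autoImplicit false

namespace Cfsg.Agent.Helper24.GY

open Cfsg Subgroup

/-- The automorphism group permutes the subgroups of order `p` transitively. -/
def Trans (p : ℕ) (X : Type*) [Group X] : Prop :=
  ∀ U V : Subgroup X, Nat.card U = p → Nat.card V = p → ∃ a : MulAut X, U.map a.toMonoidHom = V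

variable {G : Type*} [Group G]

/-- A subgroup of prime order is generated by each of its non-identity elements. -/
theorem gy_zpowers_eq_of_card_prime [Finite G] {p : ℕ} (hp : p.Prime) {U : Subgroup G}
    (hU : Nat.card U = p) {x : G} (hx : x ∈ U) (hx1 : x ≠ 1) : zpowers x = U := by
  have hle : zpowers x ≤ U := (zpowers_le).mpr hx
  apply Subgroup.eq_of_le_of_card_ge hle
  rw [hU, Nat.card_zpowers]
  have hdvd : orderOf x ∣ p := by
    rw [← hU]
    have := Subgroup.orderOf_dvd_natCard U hx
    exact this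
  rcases (Nat.dvd_prime hp).1 hdvd with h | h
  · exact absurd (orderOf_eq_one_iff.1 h) hx1
  · exact h.ge

/-- Subgroups of order `p` of `G / K`, `K` a normal `p'`-subgroup, lift to subgroups of order `p`. -/
theorem gy_exists_lift [Finite G] {p : ℕ} [hp : Fact p.Prime] (K : Subgroup G) [K.Normal]
    (hK : (Nat.card K).Coprime p) (Ub : Subgroup (G ⧸ K)) (hUb : Nat.card Ub = p) :
    ∃ U : Subgroup G, Nat.card U = p ∧ U.map (QuotientGroup.mk' K) = Ub := by
  set π := QuotientGroup.mk' K with hπ
  have hπs : Function.Surjective π := QuotientGroup.mk'_surjective K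
  set L : Subgroup G := Ub.comap π with hL
  have hmap : L.map π = Ub := Subgroup.map_comap_eq_self_of_surjective hπs Ub
  have hdvd : p ∣ Nat.card L := by
    have h1 : Nat.card (L.map π) ∣ Nat.card L := Subgroup.card_map_dvd L π
    rw [hmap, hUb] at h1
    exact h1
  obtain ⟨u, hu⟩ := exists_prime_orderOf_dvd_card' (G := L) p hdvd
  have huo : orderOf (u : G) = p := by rw [Subgroup.orderOf_coe]; exact hu
  have hu1 : π (u : G) ≠ 1 := by
    intro h
    have hmem : (u : G) ∈ K := (QuotientGroup.eq_one_iff _).1 h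
    have h2 : orderOf (u : G) ∣ Nat.card K := Subgroup.orderOf_dvd_natCard K hmem
    rw [huo] at h2
    have h3 : p ∣ Nat.gcd (Nat.card K) p := Nat.dvd_gcd h2 dvd_rfl
    rw [hK] at h3
    exact hp.out.one_lt.ne' (Nat.dvd_one.1 h3)
  have huU : π (u : G) ∈ Ub := u.2
  refine ⟨zpowers (u : G), ?_, ?_⟩
  · rw [Nat.card_zpowers, huo]
  · rw [MonoidHom.map_zpowers]
    exact gy_zpowers_eq_of_card_prime hp.out hUb huU hu1

/-- The transitivity hypothesis passes to `G / O_{p'}(G)`. -/
theorem trans_quotient [Finite G] {p : ℕ} [hp : Fact p.Prime] (ht : Trans p G)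
    [hKn : (pPrimeCore p G).Normal] : Trans p (G ⧸ pPrimeCore p G) := by
  intro Ub Vb hUb hVb
  have hK : (Nat.card (pPrimeCore p G)).Coprime p := Helper22.card_pPrimeCore_coprime p
  obtain ⟨U, hU, hUm⟩ := gy_exists_lift (pPrimeCore p G) hK Ub hUb
  obtain ⟨V, hV, hVm⟩ := gy_exists_lift (pPrimeCore p G) hK Vb hVb
  obtain ⟨a, ha⟩ := ht U V hU hV
  have hKa : (pPrimeCore p G).map (a : G →* G) = pPrimeCore p G :=
    Helper22.pPrimeCore_map_equiv p a
  refine ⟨QuotientGroup.congr (pPrimeCore p G) (pPrimeCore p G) a hKa, ?_⟩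
  rw [← hUm, ← hVm, ← ha, Subgroup.map_map, Subgroup.map_map]
  congr 1
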