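import Mathlib
import Cfsg.Prelude.Def_Local
import Cfsg.Agent.Lib.Helper24.GYTrans
import Cfsg.Agent.Lib.Helper23.PSolvable
import Cfsg.Agent.Lib.Helper9.PCoreSub
import Cfsg.Agent.Lib.Helper10.Cores
import Cfsg.Agent.Lib.Helper20.ConjComplement
import Cfsg.Agent.Lib.Helper20.PreimageComplement
import Cfsg.Agent.Lib.Helper18.PSolvLin2
import Cfsg.Agent.Lib.Helper7.DlSylC2
import Cfsg.Agent.S0120

/-!
# Gaschütz–Yen (S3798), part 2: the core argument (helper24)

`X` `p`-soluble, `p` odd, `O_{p'}(X) = 1`, `Aut X` transitive on the subgroups of order `p`.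
Then `X / O_p(X)` is a `p'`-group.
-/

set_option autoImplicit false
set_option linter.style.haveILetI false

namespace Cfsg.Agent.Helper24.GY

open Cfsg Subgroup

variable {X : Type*} [Group X]

/-- `Ω₁(Z(R))` for a subgroup `R`, as a subgroup of `X`. -/
def omegaZ (p : ℕ) (R : Subgroup X) : Subgroup X where
  carrier := {z | z ∈ R ∧ (∀ r ∈ R, r * z = z * r) ∧ z ^ p = 1}
  mul_mem' := by
    rintro a b ⟨ha, hac, hap⟩ ⟨hb, hbc, hbp⟩
    refine ⟨mul_mem ha hb, ?_, ?_⟩
    · intro r hr
      rw [← mul_assoc, hac r hr, mul_assoc, hbc r hr, mul_assoc]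
    · have hc : Commute a b := (hbc a ha)
      rw [hc.mul_pow, hap, hbp, one_mul]
  one_mem' := ⟨one_mem _, by intro r _; simp, one_pow _⟩
  inv_mem' := by
    rintro a ⟨ha, hac, hap⟩
    refine ⟨inv_mem ha, ?_, ?_⟩
    · intro r hr
      have := hac r hr
      have h2 : Commute r a := this
      exact h2.inv_right
    · rw [inv_pow, hap, inv_one]

theorem mem_omegaZ {p : ℕ} {R : Subgroup X} {z : X} :
    z ∈ omegaZ p R ↔ z ∈ R ∧ (∀ r ∈ R, r * z = z * r) ∧ z ^ p = 1 := Iff.rfl

/-- `Ω₁(Z(R))` is invariant under automorphisms when `R` is characteristic. -/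
theorem omegaZ_invariant {p : ℕ} {R : Subgroup X} (hR : R.Characteristic) (a : MulAut X) {z : X}
    (hz : z ∈ omegaZ p R) : a z ∈ omegaZ p R := by
  obtain ⟨hzR, hzc, hzp⟩ := hz
  have hmem : ∀ (b : MulAut X) (x : X), x ∈ R → b x ∈ R := by
    intro b x hx
    have h1 := hR.fixed b.symm
    have h2 : b x ∈ R.comap b.symm.toMonoidHom := by
      rw [Subgroup.mem_comap]
      simpa using hx
    rwa [h1] at h2
  refine ⟨hmem a z hzR, ?_, ?_⟩
  · intro r hr
    have h1 : a.symm r ∈ R := hmem a.symm r hr
    have h2 := hzc _ h1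
    have h3 := congrArg a h2
    simpa using h3
  · rw [← map_pow, hzp, map_one]

/-- A nontrivial finite `p`-group `R ≤ X` has an element of order `p` in `Ω₁(Z(R))`. -/
theorem exists_mem_omegaZ [Finite X] {p : ℕ} [hp : Fact p.Prime] {R : Subgroup X}
    (hRp : IsPGroup p R) (hR : R ≠ ⊥) : ∃ e ∈ omegaZ p R, e ≠ 1 := by
  haveI : Nontrivial R := (Subgroup.nontrivial_iff_ne_bot R).2 hR
  haveI : Nontrivial (Subgroup.center R) := hRp.center_nontrivial
  have hZp : IsPGroup p (Subgroup.center R) := hRp.to_subgroup _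
  have hdvd : p ∣ Nat.card (Subgroup.center R) := by
    rcases hZp.card_eq_or_dvd with h | h
    · exact absurd h (by
        have : 1 < Nat.card (Subgroup.center R) := Finite.one_lt_card
        omega)
    · exact h
  obtain ⟨z, hz⟩ := exists_prime_orderOf_dvd_card' (G := Subgroup.center R) p hdvd
  refine ⟨((z : R) : X), ⟨(z : R).2, ?_, ?_⟩, ?_⟩
  · intro r hr
    have h1 := (Subgroup.mem_center_iff.1 z.2) ⟨r, hr⟩
    have h2 := congrArg (Subtype.val) h1
    simpa using h2
  · have h1 : z ^ p = 1 := by rw [← hz]; exact pow_orderOf_eq_one z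
    have h2 := congrArg (fun w : Subgroup.center R => ((w : R) : X)) h1
    simpa using h2
  · intro h
    have h1 : z = 1 := by
      apply Subtype.ext
      apply Subtype.ext
      simpa using h
    rw [h1, orderOf_one] at hz
    exact hp.out.one_lt.ne hz


/-- Every element of order dividing `p` lies in `Ω₁(Z(R))`, `R` characteristic nontrivial `p`-group. -/
theorem all_mem_omegaZ [Finite X] {p : ℕ} [hp : Fact p.Prime] (ht : Trans p X) {R : Subgroup X}
    (hRc : R.Characteristic) {e : X} (he : e ∈ omegaZ p R) (he1 : e ≠ 1) {x : X} (hx : x ^ p = 1) :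
    x ∈ omegaZ p R := by
  by_cases hx1 : x = 1
  · rw [hx1]; exact one_mem _
  have hox : orderOf x = p := orderOf_eq_prime hx hx1
  have hoe : orderOf e = p := orderOf_eq_prime he.2.2 he1
  obtain ⟨a, ha⟩ := ht (zpowers e) (zpowers x) (by rw [Nat.card_zpowers, hoe])
    (by rw [Nat.card_zpowers, hox])
  have hxm : x ∈ (zpowers e).map a.toMonoidHom := by rw [ha]; exact mem_zpowers x
  obtain ⟨y, hy, hyx⟩ := hxm
  have hyE : y ∈ omegaZ p R := (zpowers_le.2 he) hy
  have := omegaZ_invariant hRc a hyE
  rw [← hyx]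
  exact this

/-- The core of the Gaschütz–Yen theorem. -/
theorem core_coprime [Finite X] {p : ℕ} [hp : Fact p.Prime] (hp2 : p ≠ 2)
    (hsol : IsPSolvable p X) (hO : pPrimeCore p X = ⊥) (ht : Trans p X)
    [hRn : (pCore p X).Normal] : (Nat.card (X ⧸ pCore p X)).Coprime p := by
  classical
  set R : Subgroup X := pCore p X with hRdef
  have hRp : IsPGroup p R := Helper10.pCore_isPGroup p
  have hRc : R.Characteristic := Helper9.pCore_characteristic p
  have hc : centralizer (R : Set X) ≤ R := Helper23.PSolv.centralizer_pCore_le hsol hO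
  by_cases hRbot : R = ⊥
  · -- `X` is trivial
    have htop : (⊤ : Subgroup X) ≤ R := by
      refine le_trans ?_ hc
      rw [hRbot]
      intro x _
      rw [mem_centralizer_iff]
      intro y hy
      have : y = 1 := by simpa using hy
      rw [this]; simp
    have hidx : R.index = 1 := by
      rw [Subgroup.index_eq_one]; exact top_le_iff.1 htop
    rw [← Subgroup.index_eq_card, hidx]
    exact Nat.coprime_one_left p
  -- the main case
  obtain ⟨e, he, he1⟩ := exists_mem_omegaZ hRp hRbot
  set E : Subgroup X := omegaZ p R with hEdef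
  have hall : ∀ x : X, x ^ p = 1 → x ∈ E := fun x hx => all_mem_omegaZ ht hRc he he1 hx
  -- the complement
  haveI hMbn : (pPrimeCore p (X ⧸ R)).Normal := Helper22.pPrimeCore_normal p
  have hMb : ¬ p ∣ Nat.card (pPrimeCore p (X ⧸ R)) := Helper22.not_dvd_card_pPrimeCore p hp.out
  obtain ⟨Nc, hNR, hNmap, hNcard, hsup⟩ :=
    Helper20.exists_complement_preimage p R hRp (pPrimeCore p (X ⧸ R)) hMb
  have hNp : ¬ p ∣ Nat.card Nc := by rw [hNcard]; exact hMb
  have hNcop : (Nat.card Nc).Coprime p :=
    ((Nat.Prime.coprime_iff_not_dvd hp.out).2 hNp).symm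
  set M : Subgroup X := R ⊔ Nc with hMdef
  haveI hMn : M.Normal := by rw [hsup]; exact Subgroup.Normal.comap hMbn _
  have hRM : R ≤ M := le_sup_left
  have hNM : Nc ≤ M := le_sup_right
  -- `M` is invariant under automorphisms
  have hMinv : ∀ (a : MulAut X) (m : X), m ∈ M → a m ∈ M := by
    intro a m hm
    have hRa : R.map (a : X →* X) = R := by
      apply le_antisymm
      · rintro _ ⟨r, hr, rfl⟩
        have h1 := hRc.fixed a.symm
        have h2 : a r ∈ R.comap a.symm.toMonoidHom := by
          rw [Subgroup.mem_comap]; simpa using hr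
        rwa [h1] at h2
      · intro r hr
        have h1 := hRc.fixed a
        have h2 : a.symm r ∈ R.comap a.toMonoidHom := by
          rw [Subgroup.mem_comap]; simpa using hr
        rw [h1] at h2
        exact ⟨a.symm r, h2, by simp⟩
    set ab : (X ⧸ R) ≃* (X ⧸ R) := QuotientGroup.congr R R a hRa with hab
    have h1 : (pPrimeCore p (X ⧸ R)).map ab.toMonoidHom = pPrimeCore p (X ⧸ R) :=
      Helper22.pPrimeCore_map_equiv p ab
    rw [hsup, Subgroup.mem_comap] at hm ⊢
    have h2 : ab (QuotientGroup.mk' R m) ∈ (pPrimeCore p (X ⧸ R)).map ab.toMonoidHom :=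
      ⟨_, hm, rfl⟩
    rw [h1] at h2
    exact h2
  by_cases hC : ∃ z ∈ E, z ≠ 1 ∧ ∀ n ∈ Nc, n * z = z * n
  · -- Case 1: `Nc` centralises `E`, hence `R`, hence is trivial
    obtain ⟨z, hzE, hz1, hzN⟩ := hC
    have hzM : M ≤ centralizer ({z} : Set X) := by
      rw [hMdef]
      apply sup_le
      · intro r hr
        rw [mem_centralizer_iff]
        intro y hy
        have : y = z := by simpa using hy
        rw [this]
        exact (hzE.2.1 r hr).symm
      · intro n hn
        rw [mem_centralizer_iff]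
        intro y hy
        have : y = z := by simpa using hy
        rw [this]
        exact (hzN n hn).symm
    have hoz : orderOf z = p := orderOf_eq_prime hzE.2.2 hz1
    have hEN : ∀ x ∈ E, ∀ n ∈ Nc, n * x = x * n := by
      intro x hx n hn
      by_cases hx1 : x = 1
      · rw [hx1]; simp
      have hox : orderOf x = p := orderOf_eq_prime hx.2.2 hx1
      obtain ⟨a, ha⟩ := ht (zpowers z) (zpowers x) (by rw [Nat.card_zpowers, hoz])
        (by rw [Nat.card_zpowers, hox])
      have hxm : x ∈ (zpowers z).map a.toMonoidHom := by rw [ha]; exact mem_zpowers x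
      obtain ⟨y, hy, hyx⟩ := hxm
      have hyc : ∀ m ∈ M, m * y = y * m := by
        intro m hm
        have hm' := hzM hm
        rw [mem_centralizer_iff] at hm'
        have h1 : Commute z m := hm' z (by simp)
        obtain ⟨k, rfl⟩ := Subgroup.mem_zpowers_iff.1 hy
        exact ((h1.zpow_left k).eq).symm
      have h1 : a.symm n ∈ M := hMinv a.symm n (hNM hn)
      have h2 := hyc _ h1
      have h3 := congrArg a h2
      have hyx' : a y = x := hyx
      simpa [hyx'] using h3
    have hNbot : Nc = ⊥ := by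
      rw [eq_bot_iff]
      intro n hn
      have hfix : ∀ x : R, x ^ p = 1 → (MulAut.conjNormal (H := R) n) x = x := by
        intro x hx
        have hxE : (x : X) ∈ E := hall _ (by
          have := congrArg (Subtype.val) hx
          simpa using this)
        apply Subtype.ext
        rw [MulAut.conjNormal_apply]
        have := hEN _ hxE n hn
        rw [this, mul_inv_cancel_right]
      have hord : (orderOf (MulAut.conjNormal (H := R) n)).Coprime p := by
        have h1 : orderOf (MulAut.conjNormal (H := R) n) ∣ orderOf n := orderOf_map_dvd _ n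
        have h2 : orderOf n ∣ Nat.card Nc := Subgroup.orderOf_dvd_natCard Nc hn
        exact Nat.Coprime.coprime_dvd_left (h1.trans h2) hNcop
      have h1 := Cfsg.Agent.S0120.result hp2 hRp (MulAut.conjNormal (H := R) n) hord hfix
      have hnc : n ∈ centralizer (R : Set X) := by
        rw [mem_centralizer_iff]
        intro r hr
        have h2 : (MulAut.conjNormal (H := R) n) ⟨r, hr⟩ = ⟨r, hr⟩ := by rw [h1]; rfl
        have h3 := congrArg Subtype.val h2
        rw [MulAut.conjNormal_apply] at h3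
        have h4 : n * r * n⁻¹ = r := h3
        calc r * n = (n * r * n⁻¹) * n := by rw [h4]
          _ = n * r := by group
      have hnR : n ∈ R := hc hnc
      have : n ∈ Nc ⊓ R := ⟨hn, hnR⟩
      rwa [hNR] at this
    have hpp : pPrimeCore p (X ⧸ R) = ⊥ := by
      rw [← hNmap, hNbot, Subgroup.map_bot]
    have hpc : pCore p (X ⧸ R) = ⊥ := Helper18.PSolvLin.pCore_quotient_pCore_bot p
    have hsolQ : IsPSolvable p (X ⧸ R) := Helper23.PSolv.isPSolvable_quotient R hsol
    by_cases hnt : Nontrivial (X ⧸ R)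
    · rcases Helper7.DlSylC2.pCore_or_pPrimeCore_ne_bot (p := p) hsolQ with h | h
      · exact absurd hpc h
      · exact absurd hpp h
    · rw [not_nontrivial_iff_subsingleton] at hnt
      have : Nat.card (X ⧸ R) = 1 := Nat.card_eq_one_iff_unique.2 ⟨hnt, ⟨1⟩⟩
      rw [this]
      exact Nat.coprime_one_left p
  · -- Case 2: `C_E(Nc) = 1`
    push Not at hC
    by_contra hcop
    have hdvd : p ∣ Nat.card (X ⧸ R) := by
      by_contra h
      exact hcop ((Nat.Prime.coprime_iff_not_dvd hp.out).2 h).symm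
    set H : Subgroup X := normalizer (Nc : Set X) with hH
    have hsurj : Function.Surjective ((QuotientGroup.mk' R).comp H.subtype) := by
      intro q
      obtain ⟨g, rfl⟩ := QuotientGroup.mk'_surjective R q
      obtain ⟨u, hu, w, hw, rfl⟩ :=
        Helper20.exists_mul_mem_normalizer_of_conj_le p R hRp Nc hNp g (by
          intro h hh
          exact hMn.conj_mem h (hNM hh) g)
      have hu' : u ∈ ((R ⊔ Nc : Subgroup X) : Set X) := hu
      rw [Subgroup.normal_mul] at hu'
      obtain ⟨r, hr, n, hn, rfl⟩ := Set.mem_mul.1 hu'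
      refine ⟨⟨n * w, mul_mem (le_normalizer hn) hw⟩, ?_⟩
      show QuotientGroup.mk' R (n * w) = QuotientGroup.mk' R (r * n * w)
      have hr1 : QuotientGroup.mk' R r = 1 := (QuotientGroup.eq_one_iff r).2 hr
      rw [mul_assoc r n w, map_mul (QuotientGroup.mk' R) r, hr1, one_mul]
    have hdvdH : p ∣ Nat.card H := dvd_trans hdvd (Subgroup.card_dvd_of_surjective _ hsurj)
    obtain ⟨w, hw⟩ := exists_prime_orderOf_dvd_card' (G := H) p hdvdH
    have hwo : orderOf (w : X) = p := by rw [Subgroup.orderOf_coe]; exact hw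
    have hwp : (w : X) ^ p = 1 := by rw [← hwo]; exact pow_orderOf_eq_one _
    have hwE : (w : X) ∈ E := hall _ hwp
    have hw1 : (w : X) ≠ 1 := by
      intro h
      rw [h, orderOf_one] at hwo
      exact hp.out.one_lt.ne hwo
    obtain ⟨n, hn, hnw⟩ := hC _ hwE hw1
    apply hnw
    have hc1 : (w : X) * n * (w : X)⁻¹ * n⁻¹ ∈ Nc :=
      mul_mem ((mem_normalizer_iff.1 w.2 n).1 hn) (inv_mem hn)
    have hc2 : (w : X) * n * (w : X)⁻¹ * n⁻¹ ∈ R := by
      have h1 : n * (w : X)⁻¹ * n⁻¹ ∈ R := hRn.conj_mem _ (inv_mem hwE.1) n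
      have h2 := mul_mem hwE.1 h1
      have h3 : (w : X) * (n * (w : X)⁻¹ * n⁻¹) = (w : X) * n * (w : X)⁻¹ * n⁻¹ := by group
      rwa [h3] at h2
    have hc3 : (w : X) * n * (w : X)⁻¹ * n⁻¹ ∈ Nc ⊓ R := ⟨hc1, hc2⟩
    rw [hNR, Subgroup.mem_bot] at hc3
    calc n * (w : X) = ((w : X) * n * (w : X)⁻¹ * n⁻¹)⁻¹ * ((w : X) * n) := by group
      _ = (w : X) * n := by rw [hc3, inv_one, one_mul]

end Cfsg.Agent.Helper24.GY
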