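import Mathlib
import Cfsg.Prelude.Def_Blocks
import Cfsg.Agent.Lib.Helper24.CharQuotient
import Cfsg.Agent.Lib.Helper24.CharComplete
import Cfsg.Agent.Lib.Helper24.Cd2Basic

/-!
# Groups whose nonlinear characters of equal degree are Galois conjugate (helper24's library)

Basic closure properties of the hypothesis `Hyp`, and the Galois counting bound.
-/

set_option autoImplicit false
set_option linter.style.haveILetI false
set_option linter.unusedSectionVars false

namespace Cfsg.Agent.Helper24.GalConjP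

open Cfsg Cfsg.Agent.Helper24

universe u

/-- Nonlinear irreducible characters of equal degree are Galois conjugate (through a power map). -/
def Hyp (Q : Type u) [Group Q] : Prop :=
  ∀ χ ψ : IrrCharacter Q, charDegree (χ : Q → ℂ) ≠ 1 →
    charDegree (χ : Q → ℂ) = charDegree (ψ : Q → ℂ) →
    ∃ k : ℕ, Nat.Coprime k (Nat.card Q) ∧ ∀ g : Q, (ψ : Q → ℂ) g = (χ : Q → ℂ) (g ^ k)

section Basic

variable {Q : Type u} [Group Q] [Finite Q]

/-- Power-map conjugate functions have the same kernel. -/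
theorem ker_of_conj {χ ψ : Q → ℂ} {k : ℕ} (hk : Nat.Coprime k (Nat.card Q))
    (h : ∀ g, ψ g = χ (g ^ k)) (L : Subgroup Q) :
    (∀ l ∈ L, χ l = χ 1) ↔ (∀ l ∈ L, ψ l = ψ 1) := by
  have h1 : ψ 1 = χ 1 := by rw [h 1, one_pow]
  constructor
  · intro hL l hl
    rw [h l, h1]
    exact hL _ (L.pow_mem hl k)
  · intro hL l hl
    have hco : Nat.Coprime k (orderOf l) :=
      Nat.Coprime.coprime_dvd_right (orderOf_dvd_natCard l) hk
    obtain ⟨m, hm⟩ := exists_pow_eq_self_of_coprime hco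
    have h2 : χ l = ψ (l ^ m) := by
      rw [h (l ^ m), ← pow_mul, mul_comm, pow_mul, hm]
    rw [h2, hL _ (L.pow_mem hl m), h1]

/-- The hypothesis passes to quotients. -/
theorem Hyp.quotient (hQ : Hyp Q) (N : Subgroup Q) [N.Normal] : Hyp (Q ⧸ N) := by
  intro χ ψ hχ hdeg
  have h1 := hQ (inflateEquiv N χ).1 (inflateEquiv N ψ).1
    (by rw [inflateEquiv_coe, charDegree_inflate]; exact hχ)
    (by rw [inflateEquiv_coe, inflateEquiv_coe, charDegree_inflate, charDegree_inflate]; exact hdeg)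
  obtain ⟨k, hk, hkg⟩ := h1
  refine ⟨k, Nat.Coprime.coprime_dvd_right (Subgroup.card_quotient_dvd_card N) hk, ?_⟩
  intro q
  obtain ⟨g, rfl⟩ := QuotientGroup.mk_surjective q
  have := hkg g
  rw [inflateEquiv_coe, inflateEquiv_coe] at this
  simpa using this

end Basic

section Bound

variable {Q : Type u} [Group Q] [Finite Q]

/-- If `k ≡ k'` modulo `E`, both prime to the group order, and `χ₀` vanishes on the elements `g`
with `g ^ E ≠ 1`, then `χ₀ (g ^ k) = χ₀ (g ^ k')`. -/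
theorem pow_congr {χ₀ : Q → ℂ} {E : ℕ} (hE : ∀ g : Q, χ₀ g ≠ 0 → g ^ E = 1) {k k' : ℕ}
    (hk : Nat.Coprime k (Nat.card Q)) (hk' : Nat.Coprime k' (Nat.card Q))
    (hmod : k % E = k' % E) (g : Q) : χ₀ (g ^ k) = χ₀ (g ^ k') := by
  have key : ∀ j : ℕ, Nat.Coprime j (Nat.card Q) → χ₀ (g ^ j) ≠ 0 → g ^ E = 1 := by
    intro j hj hne
    have h1 := hE _ hne
    rw [← pow_mul, mul_comm, pow_mul] at h1
    have hco : Nat.Coprime j (orderOf (g ^ E)) :=
      Nat.Coprime.coprime_dvd_right (orderOf_dvd_natCard _) hj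
    have h2 : orderOf (g ^ E) ∣ j := orderOf_dvd_of_pow_eq_one h1
    have h3 : orderOf (g ^ E) = 1 := Nat.eq_one_of_dvd_coprimes hco h2 dvd_rfl
    exact orderOf_eq_one_iff.mp h3
  by_cases hg : g ^ E = 1
  · rw [pow_eq_pow_mod k hg, pow_eq_pow_mod k' hg, hmod]
  · have a1 : χ₀ (g ^ k) = 0 := by
      by_contra hne
      exact hg (key k hk hne)
    have a2 : χ₀ (g ^ k') = 0 := by
      by_contra hne
      exact hg (key k' hk' hne)
    rw [a1, a2]

/-- **Galois counting bound**: under `Hyp`, if the nonlinear `χ₀` vanishes on all elements of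
order not dividing `p ^ m`, there are at most `φ (p ^ m)` irreducible characters of the degree
of `χ₀`. -/
theorem card_degree_le_totient [Fintype (IrrCharacter Q)] (hQ : Hyp Q) {p m : ℕ}
    (hpQ : p ∣ Nat.card Q) (χ₀ : IrrCharacter Q)
    (hnl : charDegree (χ₀ : Q → ℂ) ≠ 1)
    (hE : ∀ g : Q, (χ₀ : Q → ℂ) g ≠ 0 → g ^ (p ^ m) = 1) :
    (Finset.univ.filter (fun χ : IrrCharacter Q =>
      charDegree (χ : Q → ℂ) = charDegree (χ₀ : Q → ℂ))).card ≤ Nat.totient (p ^ m) := by
  classical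
  rw [Nat.totient_eq_card_coprime]
  have hex : ∀ χ : IrrCharacter Q, ∃ k : ℕ,
      charDegree (χ : Q → ℂ) = charDegree (χ₀ : Q → ℂ) →
      (Nat.Coprime k (Nat.card Q) ∧ ∀ g : Q, (χ : Q → ℂ) g = (χ₀ : Q → ℂ) (g ^ k)) := by
    intro χ
    by_cases h : charDegree (χ : Q → ℂ) = charDegree (χ₀ : Q → ℂ)
    · obtain ⟨k, hk⟩ := hQ χ₀ χ hnl h.symm
      exact ⟨k, fun _ => hk⟩
    · exact ⟨0, fun h' => absurd h' h⟩
  choose kf hkf using hex
  apply Finset.card_le_card_of_injOn (fun χ => kf χ % p ^ m)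
  · intro χ hχ
    rw [Finset.coe_filter, Set.mem_ofPred_eq] at hχ
    obtain ⟨hk, -⟩ := hkf χ hχ.2
    rw [Finset.coe_filter, Set.mem_ofPred_eq, Finset.mem_range]
    have hpos : 0 < p ^ m := by
      apply Nat.pos_of_ne_zero
      intro h0
      have hp0 : p = 0 := by
        by_contra hp
        exact (pow_ne_zero m hp) h0
      rw [hp0, zero_dvd_iff] at hpQ
      exact Nat.card_pos.ne' hpQ
    refine ⟨Nat.mod_lt _ hpos, ?_⟩
    have h1 : Nat.Coprime (kf χ) p := Nat.Coprime.coprime_dvd_right hpQ hk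
    have h2 : Nat.Coprime (kf χ) (p ^ m) := Nat.Coprime.pow_right m h1
    rw [Nat.Coprime, Nat.gcd_comm, ← Nat.gcd_rec, Nat.gcd_comm]
    exact h2
  · intro χ hχ ψ hψ hmod
    rw [Finset.coe_filter, Set.mem_ofPred_eq] at hχ hψ
    obtain ⟨hk1, hg1⟩ := hkf χ hχ.2
    obtain ⟨hk2, hg2⟩ := hkf ψ hψ.2
    apply Subtype.ext
    funext g
    rw [hg1 g, hg2 g]
    exact pow_congr hE hk1 hk2 hmod g

end Bound

end Cfsg.Agent.Helper24.GalConjP
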