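import Mathlib
import Cfsg.Agent.Lib.Helper24.GalConjP1
import Cfsg.Agent.Lib.Helper24.CdPCenter
import Cfsg.Agent.Lib.Helper24.CharAbelian

/-!
# Same-degree Galois conjugacy in `p`-groups: commutator subgroup of order `p`
(helper24's library)
-/

set_option autoImplicit false
set_option linter.style.haveILetI false
set_option linter.unusedSectionVars false

namespace Cfsg.Agent.Helper24.GalConjP

open Cfsg Cfsg.Agent.Helper24 Cfsg.Agent.Helper24.Cd2 Cfsg.Agent.Helper24.CdP
  Cfsg.Agent.Helper5 Cfsg.Agent.Helper23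
open scoped commutatorElement ComplexConjugate

universe u

/-- A subgroup of prime order is contained in every subgroup containing one of its nontrivial
elements. -/
theorem le_of_mem_of_card_prime {G : Type u} [Group G] {p : ℕ} [Fact p.Prime] (H K : Subgroup G)
    (hH : Nat.card H = p) {z : G} (hz : z ∈ H) (hz1 : z ≠ 1) (hzK : z ∈ K) : H ≤ K := by
  intro h hh
  have h1 : Subgroup.zpowers (⟨z, hz⟩ : H) = ⊤ :=
    zpowers_eq_top_of_prime_card hH (fun h0 => hz1 (congrArg Subtype.val h0))
  have h2 : (⟨h, hh⟩ : H) ∈ Subgroup.zpowers (⟨z, hz⟩ : H) := by rw [h1]; trivial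
  obtain ⟨n, hn⟩ := Subgroup.mem_zpowers_iff.mp h2
  have h3 : z ^ n = h := by
    have := congrArg Subtype.val hn
    simpa using this
  rw [← h3]
  exact K.zpow_mem hzK n

/-- A normal subgroup of prime order of a `p`-group is central. -/
theorem le_center_of_card_prime {G : Type u} [Group G] [Finite G] {p : ℕ} [Fact p.Prime]
    (hG : IsPGroup p G) (N : Subgroup G) [N.Normal] (hN : Nat.card N = p) :
    N ≤ Subgroup.center G := by
  have hp : p.Prime := Fact.out
  have hne : N ≠ ⊥ := by
    intro h
    rw [h, Subgroup.card_bot] at hN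
    exact hp.one_lt.ne hN
  have h1 := Cfsg.Agent.Helper19.normal_inf_center_ne_bot hG N hne
  rcases Subgroup.bot_or_exists_ne_one (N ⊓ Subgroup.center G) with h0 | ⟨z, hz, hz1⟩
  · exact absurd h0 h1
  have hzN : z ∈ N := (Subgroup.mem_inf.mp hz).1
  have hzZ : z ∈ Subgroup.center G := (Subgroup.mem_inf.mp hz).2
  exact le_of_mem_of_card_prime N _ hN hzN hz1 hzZ

/-- A character faithful on the (central) commutator subgroup vanishes off the centre and the
square of its degree is the index of the centre. -/
theorem central_type_of_faithful {G : Type u} [Group G] [Finite G]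
    (hle : commutator G ≤ Subgroup.center G) {ψ : G → ℂ} (hψ : IsIrrCharacter G ψ)
    (hfaith : ∀ z ∈ commutator G, ψ z = ψ 1 → z = 1) :
    (∀ g, g ∉ Subgroup.center G → ψ g = 0) ∧
      charDegree ψ ^ 2 = (Subgroup.center G).index := by
  classical
  letI : Fintype G := Fintype.ofFinite G
  have hvan : ∀ g, g ∉ Subgroup.center G → ψ g = 0 := by
    intro g hg
    rw [Subgroup.mem_center_iff] at hg
    push Not at hg
    obtain ⟨x, hx⟩ := hg
    set z : G := g⁻¹ * x⁻¹ * g * x with hz
    have hzc : z ∈ commutator G := by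
      have : z = ⁅g⁻¹, x⁻¹⁆ := by rw [commutatorElement_def, hz]; group
      rw [this, commutator_def]
      exact Subgroup.commutator_mem_commutator (Subgroup.mem_top _) (Subgroup.mem_top _)
    have hz1 : z ≠ 1 := by
      intro h
      apply hx
      have : x * g = g * x * z⁻¹ := by rw [hz]; group
      rw [this, h, inv_one, mul_one]
    have hzne : ψ z ≠ ψ 1 := fun h => hz1 (hfaith z hzc h)
    have h1 : ψ (x⁻¹ * g * x⁻¹⁻¹) = ψ g := isClassFunction_of_isIrrCharacter hψ g x⁻¹
    have h2 : x⁻¹ * g * x⁻¹⁻¹ = z * g := by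
      have hcomm := Subgroup.mem_center_iff.mp (hle hzc) g
      rw [← hcomm, hz]
      group
    rw [h2, irr_central_mul ψ hψ z (hle hzc) g] at h1
    have h0 := irr_one_ne_zero ψ hψ
    by_contra hg0
    apply hzne
    have h3 : ψ z / ψ 1 = 1 := by
      have := mul_right_cancel₀ hg0 (h1.trans (one_mul _).symm)
      exact this
    field_simp at h3
    exact h3
  refine ⟨hvan, ?_⟩
  letI : Fintype (Subgroup.center G) := Fintype.ofFinite _
  exact sq_degree_of_vanish_off_central (Subgroup.center G) le_rfl hψ hvan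

/-- In a `p`-group with commutator subgroup of order `p`, nonlinear characters vanish off the
centre and have degree squared equal to the index of the centre. -/
theorem central_type_of_card_commutator {P : Type u} [Group P] [Finite P] {p : ℕ} [Fact p.Prime]
    (hP : IsPGroup p P) (hc : Nat.card (commutator P) = p) {ψ : P → ℂ}
    (hψ : IsIrrCharacter P ψ) (hnl : charDegree ψ ≠ 1) :
    commutator P ≤ Subgroup.center P ∧ (∀ g, g ∉ Subgroup.center P → ψ g = 0) ∧
      charDegree ψ ^ 2 = (Subgroup.center P).index := by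
  have hle : commutator P ≤ Subgroup.center P := le_center_of_card_prime hP _ hc
  have hψc := isCharacter_of_isIrrCharacter hψ
  have hfaith : ∀ z ∈ commutator P, ψ z = ψ 1 → z = 1 := by
    intro z hz hz1
    by_contra hne
    apply hnl
    apply linear_of_commutator_le_ker hψ
    intro x hx
    have h1 : commutator P ≤ charKer hψc :=
      le_of_mem_of_card_prime _ _ hc hz hne ((mem_charKer hψc z).mpr hz1)
    exact (mem_charKer hψc x).mp (h1 hx)
  exact ⟨hle, central_type_of_faithful hle hψ hfaith⟩

/-- A group with nontrivial commutator subgroup is nonabelian. -/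
theorem exists_not_comm_of_commutator_ne_bot {G : Type u} [Group G]
    (h : commutator G ≠ ⊥) : ∃ a b : G, a * b ≠ b * a := by
  by_contra hcon
  push Not at hcon
  apply h
  rw [commutator_def, Subgroup.commutator_eq_bot_iff_le_centralizer]
  intro x _
  rw [Subgroup.mem_centralizer_iff]
  intro y _
  exact hcon y x

open scoped IsMulCommutative in
/-- **Cyclic centre**: a `p`-group with commutator subgroup of order `p` satisfying `Hyp` has
cyclic centre. -/
theorem center_cyclic_of_card_commutator {P : Type u} [Group P] [Finite P] {p : ℕ}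
    [Fact p.Prime] (hP : IsPGroup p P) (hc : Nat.card (commutator P) = p) (hH : Hyp P) :
    IsCyclic (Subgroup.center P) := by
  classical
  letI : Fintype P := Fintype.ofFinite P
  letI : Fintype (IrrCharacter P) := irrFintype
  have hp : p.Prime := Fact.out
  have hcne : commutator P ≠ ⊥ := by
    intro h
    rw [h, Subgroup.card_bot] at hc
    exact hp.one_lt.ne hc
  obtain ⟨χ₀f, hχ₀, hnl₀⟩ := exists_nonlinear (exists_not_comm_of_commutator_ne_bot hcne)
  set χ₀ : IrrCharacter P := ⟨χ₀f, hχ₀⟩ with hχ₀def
  obtain ⟨hle, hvan₀, hdeg₀⟩ := central_type_of_card_commutator hP hc hχ₀ hnl₀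
  obtain ⟨n, hn⟩ : ∃ n, Nat.card (Subgroup.center P) = p ^ n := (hP.to_subgroup (Subgroup.center P)).exists_card_eq
  have hexp_dvd : Monoid.exponent (Subgroup.center P) ∣ p ^ n := hn ▸ Group.exponent_dvd_nat_card
  obtain ⟨m, hm, hmE⟩ := (Nat.dvd_prime_pow hp).mp hexp_dvd
  -- a nontrivial element of the commutator subgroup
  obtain ⟨c, hcmem, hc1⟩ : ∃ c ∈ commutator P, c ≠ 1 := by
    rcases Subgroup.bot_or_exists_ne_one (commutator P) with h0 | h0
    · exact absurd h0 hcne
    · exact h0
  have hpow : ∀ g : P, g ∈ (Subgroup.center P) → g ^ (p ^ m) = 1 := by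
    intro g hg
    have h1 : (⟨g, hg⟩ : (Subgroup.center P)) ^ Monoid.exponent (Subgroup.center P) = 1 := Monoid.pow_exponent_eq_one _
    rw [hmE] at h1
    have := congrArg Subtype.val h1
    simpa using this
  have hm1 : 1 ≤ m := by
    by_contra h0
    have hm0 : m = 0 := by omega
    have := hpow c (hle hcmem)
    rw [hm0, pow_zero, pow_one] at this
    exact hc1 this
  have hn1 : 1 ≤ n := by
    by_contra h0
    have hn0 : n = 0 := by omega
    rw [hn0, pow_zero] at hn
    have hsub : Subsingleton (Subgroup.center P) := (Nat.card_eq_one_iff_unique.mp hn).1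
    have : (⟨c, hle hcmem⟩ : (Subgroup.center P)) = 1 := Subsingleton.elim _ _
    exact hc1 (congrArg Subtype.val this)
  -- the Galois bound
  have hpQ : p ∣ Nat.card P := hc ▸ Subgroup.card_subgroup_dvd_card (commutator P)
  have hE : ∀ g : P, (χ₀ : P → ℂ) g ≠ 0 → g ^ (p ^ m) = 1 := by
    intro g hg
    apply hpow
    by_contra hgZ
    exact hg (hvan₀ g hgZ)
  have hbound := card_degree_le_totient hH hpQ χ₀ hnl₀ hE
  rw [Nat.totient_prime_pow hp hm1] at hbound
  -- count
  set idx := (Subgroup.center P).index with hidx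
  have hidx0 : 0 < idx := Nat.pos_of_ne_zero Subgroup.index_ne_zero_of_finite
  have hall : ∀ χ : IrrCharacter P, charDegree (χ : P → ℂ) ≠ 1 →
      charDegree (χ : P → ℂ) ^ 2 = idx ∧ charDegree (χ : P → ℂ) = charDegree (χ₀ : P → ℂ) := by
    intro χ hχ
    obtain ⟨-, -, hd⟩ := central_type_of_card_commutator hP hc χ.2 hχ
    refine ⟨hd, ?_⟩
    have h1 : charDegree (χ : P → ℂ) ^ 2 = charDegree (χ₀ : P → ℂ) ^ 2 := by
      rw [hd]; exact hdeg₀.symm
    exact Nat.pow_left_injective (by norm_num : 2 ≠ 0) h1
  have hsum := sum_charDegree_sq (G := P)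
  rw [← Finset.sum_filter_add_sum_filter_not Finset.univ
    (fun χ : IrrCharacter P => charDegree (χ : P → ℂ) = 1)] at hsum
  have hs1 : ∑ χ ∈ Finset.univ.filter (fun χ : IrrCharacter P => charDegree (χ : P → ℂ) = 1),
      charDegree (χ : P → ℂ) ^ 2 = (commutator P).index := by
    rw [← card_linear_characters' (G := P), Nat.card_eq_fintype_card, Fintype.card_subtype]
    rw [Finset.card_eq_sum_ones]
    apply Finset.sum_congr rfl
    intro χ hχ
    rw [(Finset.mem_filter.mp hχ).2, one_pow]
  have hs2 : ∑ χ ∈ Finset.univ.filter (fun χ : IrrCharacter P => ¬ charDegree (χ : P → ℂ) = 1),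
      charDegree (χ : P → ℂ) ^ 2 =
      (Finset.univ.filter (fun χ : IrrCharacter P => ¬ charDegree (χ : P → ℂ) = 1)).card * idx := by
    rw [Finset.card_eq_sum_ones, Finset.sum_mul]
    apply Finset.sum_congr rfl
    intro χ hχ
    rw [(hall χ (Finset.mem_filter.mp hχ).2).1, one_mul]
  rw [hs1, hs2] at hsum
  have hle2 : (Finset.univ.filter (fun χ : IrrCharacter P => ¬ charDegree (χ : P → ℂ) = 1)).card ≤
      (Finset.univ.filter (fun χ : IrrCharacter P =>
        charDegree (χ : P → ℂ) = charDegree (χ₀ : P → ℂ))).card := by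
    apply Finset.card_le_card
    intro χ hχ
    rw [Finset.mem_filter] at hχ ⊢
    exact ⟨hχ.1, (hall χ hχ.2).2⟩
  set N' := (Finset.univ.filter
    (fun χ : IrrCharacter P => ¬ charDegree (χ : P → ℂ) = 1)).card with hN'
  have hN'le : N' ≤ p ^ (m - 1) * (p - 1) := hle2.trans hbound
  have h1 : Nat.card (commutator P) * (commutator P).index = Nat.card P :=
    Subgroup.card_mul_index _
  have h2 : Nat.card (Subgroup.center P) * idx = Nat.card P := Subgroup.card_mul_index _
  rw [hc] at h1
  rw [hn] at h2
  -- `cidx = p^(n-1) * idx`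
  have h3 : (commutator P).index = p ^ (n - 1) * idx := by
    have : p * (commutator P).index = p * (p ^ (n - 1) * idx) := by
      rw [h1, ← h2, ← mul_assoc, ← pow_succ', Nat.sub_add_cancel hn1]
    exact Nat.eq_of_mul_eq_mul_left hp.pos this
  have h4 : N' = p ^ (n - 1) * (p - 1) := by
    have : N' * idx = (p ^ (n - 1) * (p - 1)) * idx := by
      have e1 : p ^ n = p ^ (n - 1) * p := by rw [← pow_succ, Nat.sub_add_cancel hn1]
      have e2 : p = (p - 1) + 1 := by have := hp.one_lt; omega
      rw [h3, ← h2, e1] at hsum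
      have e3 : p ^ (n - 1) * p * idx =
          p ^ (n - 1) * idx + p ^ (n - 1) * (p - 1) * idx := by
        obtain ⟨q, hq⟩ : ∃ q, p = q + 1 := ⟨p - 1, e2⟩
        rw [hq]
        simp only [Nat.add_sub_cancel]
        ring
      rw [e3] at hsum
      exact Nat.add_left_cancel hsum
    exact Nat.eq_of_mul_eq_mul_right hidx0 this
  rw [h4] at hN'le
  have hp1 : 0 < p - 1 := by have := hp.one_lt; omega
  have h5 : p ^ (n - 1) ≤ p ^ (m - 1) := Nat.le_of_mul_le_mul_right hN'le hp1
  have h6 : n - 1 ≤ m - 1 := (Nat.pow_le_pow_iff_right hp.one_lt).mp h5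
  have hmn : m = n := by omega
  have hfin : Monoid.exponent (Subgroup.center P) = Nat.card (Subgroup.center P) := by rw [hmE, hn, hmn]
  exact (IsCyclic.iff_exponent_eq_card (α := Subgroup.center P)).mpr hfin

end Cfsg.Agent.Helper24.GalConjP
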