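import Mathlib
import Cfsg.Agent.Lib.Helper24.GalConjP2

/-!
# Same-degree Galois conjugacy in `p`-groups: cyclic centre (helper24's library)
-/

set_option autoImplicit false
set_option linter.style.haveILetI false
set_option linter.unusedSectionVars false

namespace Cfsg.Agent.Helper24.GalConjP

open Cfsg Cfsg.Agent.Helper24 Cfsg.Agent.Helper24.Cd2 Cfsg.Agent.Helper24.CdP
  Cfsg.Agent.Helper5 Cfsg.Agent.Helper23
open scoped commutatorElement ComplexConjugate

universe u

/-- In a cyclic subgroup `Z`, a subgroup `A ≤ Z` of prime order `p` contains every element of `Z`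
of order dividing `p`. -/
theorem mem_of_pow_eq_one_of_cyclic {G : Type u} [Group G] [Finite G] {p : ℕ} [Fact p.Prime]
    (Z : Subgroup G) [hZ : IsCyclic Z] (A : Subgroup G) (hAZ : A ≤ Z) (hA : Nat.card A = p)
    {b : G} (hbZ : b ∈ Z) (hb : b ^ p = 1) : b ∈ A := by
  classical
  letI : Fintype Z := Fintype.ofFinite Z
  letI : Fintype A := Fintype.ofFinite A
  set S : Finset Z := Finset.univ.filter (fun x : Z => x ^ p = 1) with hS
  set T : Finset Z := Finset.univ.filter (fun x : Z => (x : G) ∈ A) with hT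
  have hp : p.Prime := Fact.out
  have hTS : T ⊆ S := by
    intro x hx
    rw [hT, Finset.mem_filter] at hx
    rw [hS, Finset.mem_filter]
    refine ⟨Finset.mem_univ _, ?_⟩
    have h1 : (⟨(x : G), hx.2⟩ : A) ^ Nat.card A = 1 := pow_card_eq_one'
    rw [hA] at h1
    have h2 := congrArg Subtype.val h1
    apply Subtype.ext
    simpa using h2
  have hScard : S.card ≤ p := IsCyclic.card_pow_eq_one_le hp.pos
  have hTcard : T.card = p := by
    rw [← hA, Nat.card_eq_fintype_card, ← Finset.card_univ]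
    symm
    apply Finset.card_bij (fun (a : A) _ => (⟨(a : G), hAZ a.2⟩ : Z))
    · intro a _
      rw [hT, Finset.mem_filter]
      exact ⟨Finset.mem_univ _, a.2⟩
    · intro a _ a' _ h
      apply Subtype.ext
      exact congrArg (fun x : Z => (x : G)) h
    · intro x hx
      rw [hT, Finset.mem_filter] at hx
      exact ⟨⟨(x : G), hx.2⟩, Finset.mem_univ _, rfl⟩
  have hEq : T = S := Finset.eq_of_subset_of_card_le hTS (by rw [hTcard]; exact hScard)
  have hbS : (⟨b, hbZ⟩ : Z) ∈ S := by
    rw [hS, Finset.mem_filter]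
    refine ⟨Finset.mem_univ _, ?_⟩
    apply Subtype.ext
    simpa using hb
  rw [← hEq, hT, Finset.mem_filter] at hbS
  exact hbS.2

/-- In a `p`-group with cyclic centre and commutator subgroup of order `p`, every nontrivial
normal subgroup contains the commutator subgroup. -/
theorem commutator_le_of_normal {P : Type u} [Group P] [Finite P] {p : ℕ} [Fact p.Prime]
    (hP : IsPGroup p P) (hcyc : IsCyclic (Subgroup.center P))
    (hc : Nat.card (commutator P) = p) (N : Subgroup P) (hN : N.Normal) (hne : N ≠ ⊥) :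
    commutator P ≤ N := by
  have hp : p.Prime := Fact.out
  have hle : commutator P ≤ Subgroup.center P := le_center_of_card_prime hP _ hc
  have h1 := Cfsg.Agent.Helper19.normal_inf_center_ne_bot hP N hne
  rcases Subgroup.bot_or_exists_ne_one (N ⊓ Subgroup.center P) with h0 | ⟨z, hz, hz1⟩
  · exact absurd h0 h1
  have hzN : z ∈ N := (Subgroup.mem_inf.mp hz).1
  have hzZ : z ∈ Subgroup.center P := (Subgroup.mem_inf.mp hz).2
  obtain ⟨j, hj⟩ := IsPGroup.iff_orderOf.mp hP z
  have hj1 : 1 ≤ j := by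
    by_contra h0
    have hj0 : j = 0 := by omega
    rw [hj0, pow_zero, orderOf_eq_one_iff] at hj
    exact hz1 hj
  set z' : P := z ^ (p ^ (j - 1)) with hz'
  have hz'p : z' ^ p = 1 := by
    rw [hz', ← pow_mul, ← pow_succ, Nat.sub_add_cancel hj1, ← hj, pow_orderOf_eq_one]
  have hz'1 : z' ≠ 1 := by
    apply pow_ne_one_of_lt_orderOf (pow_ne_zero _ hp.ne_zero)
    rw [hj]
    exact Nat.pow_lt_pow_right hp.one_lt (by omega)
  have hz'N : z' ∈ N := N.pow_mem hzN _
  have hz'Z : z' ∈ Subgroup.center P := (Subgroup.center P).pow_mem hzZ _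
  have hz'c : z' ∈ commutator P :=
    mem_of_pow_eq_one_of_cyclic (Subgroup.center P) (commutator P) hle hc hz'Z hz'p
  exact le_of_mem_of_card_prime _ _ hc hz'c hz'1 hz'N


/-- Values of an irreducible character on the powers of a central element. -/
theorem irr_central_pow {G : Type u} [Group G] {χ : G → ℂ} (hχ : IsIrrCharacter G χ) {w : G}
    (hw : w ∈ Subgroup.center G) (j : ℕ) : χ (w ^ j) = χ 1 * (χ w / χ 1) ^ j := by
  induction j with
  | zero => simp
  | succ j ih =>
    rw [pow_succ', irr_central_mul χ hχ w hw, ih, pow_succ]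
    ring

/-- **The converse direction**: a `p`-group with cyclic centre and commutator subgroup of order
`p` satisfies `Hyp`. -/
theorem hyp_of_cyclic_center {P : Type u} [Group P] [Finite P] {p : ℕ} [Fact p.Prime]
    (hP : IsPGroup p P) (hcyc : IsCyclic (Subgroup.center P))
    (hc : Nat.card (commutator P) = p) : Hyp P := by
  classical
  intro χ ψ hχ hdeg
  have hp : p.Prime := Fact.out
  have hψ : charDegree (ψ : P → ℂ) ≠ 1 := hdeg ▸ hχ
  have hq := commutator_le_of_normal hP hcyc hc
  obtain ⟨hle, hvχ, hdχ⟩ := central_type_of_card_commutator hP hc χ.2 hχ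
  obtain ⟨-, hvψ, hdψ⟩ := central_type_of_card_commutator hP hc ψ.2 hψ
  have hker : ∀ φ : IrrCharacter P, charDegree (φ : P → ℂ) ≠ 1 →
      ∀ z, (φ : P → ℂ) z = (φ : P → ℂ) 1 → z = 1 := by
    intro φ hφ z hz
    by_contra hz1
    have hφc := isCharacter_of_isIrrCharacter φ.2
    have hne : charKer hφc ≠ ⊥ := by
      intro h
      have hmem : z ∈ charKer hφc := hz
      rw [h, Subgroup.mem_bot] at hmem
      exact hz1 hmem
    have h2 := hq _ (charKer_normal hφc) hne
    exact hφ (linear_of_commutator_le_ker φ.2 (fun x hx => h2 hx))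
  obtain ⟨w, hw⟩ := IsCyclic.exists_monoid_generator (α := Subgroup.center P)
  have hwZ : (w : P) ∈ Subgroup.center P := w.2
  have hgen : ∀ g ∈ Subgroup.center P, ∃ j : ℕ, (w : P) ^ j = g := by
    intro g hg
    obtain ⟨j, hj⟩ := (Submonoid.mem_powers_iff _ _).mp (hw ⟨g, hg⟩)
    refine ⟨j, ?_⟩
    have := congrArg Subtype.val hj
    simpa using this
  have hχ1 : (χ : P → ℂ) 1 ≠ 0 := irr_one_ne_zero _ χ.2
  have hψ1 : (ψ : P → ℂ) 1 ≠ 0 := irr_one_ne_zero _ ψ.2
  have h11 : (χ : P → ℂ) 1 = (ψ : P → ℂ) 1 := by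
    rw [irr_one_eq_charDegree χ.2, irr_one_eq_charDegree ψ.2, hdeg]
  set n := orderOf (w : P) with hn
  have hn0 : 0 < n := orderOf_pos _
  have hprim : ∀ (φ : IrrCharacter P), charDegree (φ : P → ℂ) ≠ 1 →
      IsPrimitiveRoot ((φ : P → ℂ) w / (φ : P → ℂ) 1) n := by
    intro φ hφ
    have hφ1 : (φ : P → ℂ) 1 ≠ 0 := irr_one_ne_zero _ φ.2
    refine ⟨?_, ?_⟩
    · have h1 := irr_central_pow φ.2 hwZ n
      rw [hn, pow_orderOf_eq_one] at h1
      have h2 : (φ : P → ℂ) 1 * 1 = (φ : P → ℂ) 1 * ((φ : P → ℂ) w / (φ : P → ℂ) 1) ^ n := by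
        rw [mul_one, hn]; exact h1
      exact (mul_left_cancel₀ hφ1 h2).symm
    · intro l hl
      have h1 := irr_central_pow φ.2 hwZ l
      rw [hl, mul_one] at h1
      have h2 := hker φ hφ _ h1
      exact orderOf_dvd_of_pow_eq_one h2
  have hpa := hprim χ hχ
  have hpb := hprim ψ hψ
  haveI : NeZero n := ⟨hn0.ne'⟩
  obtain ⟨i, hi, hab⟩ := hpa.eq_pow_of_pow_eq_one hpb.pow_eq_one
  have hico : i.Coprime n := by
    rw [← hpa.pow_iff_coprime hn0 i, hab]
    exact hpb
  -- `n` is a nontrivial power of `p`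
  obtain ⟨t, ht⟩ := IsPGroup.iff_orderOf.mp hP (w : P)
  have ht1 : 1 ≤ t := by
    by_contra h0
    have ht0 : t = 0 := by omega
    rw [ht0, pow_zero, orderOf_eq_one_iff] at ht
    -- then the centre is trivial, but it contains the commutator subgroup
    have hcne : commutator P ≠ ⊥ := by
      intro h
      rw [h, Subgroup.card_bot] at hc
      exact hp.one_lt.ne hc
    rcases Subgroup.bot_or_exists_ne_one (commutator P) with h0' | ⟨c, hcm, hc1⟩
    · exact hcne h0'
    · obtain ⟨j, hj⟩ := hgen c (hle hcm)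
      rw [ht, one_pow] at hj
      exact hc1 hj.symm
  have hip : i.Coprime p := by
    apply Nat.Coprime.coprime_dvd_right _ hico
    rw [hn, ht]
    exact dvd_pow_self p (by omega)
  obtain ⟨s, hs⟩ := hP.exists_card_eq
  refine ⟨i, by rw [hs]; exact Nat.Coprime.pow_right s hip, ?_⟩
  intro g
  by_cases hg : g ∈ Subgroup.center P
  · obtain ⟨j, hj⟩ := hgen g hg
    rw [← hj, ← pow_mul, irr_central_pow ψ.2 hwZ j, irr_central_pow χ.2 hwZ (j * i),
      ← hab, h11, ← pow_mul, mul_comm i j]
  · rw [hvψ g hg]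
    symm
    apply hvχ
    intro hgi
    apply hg
    have hco : Nat.Coprime i (orderOf g) := by
      obtain ⟨r, hr⟩ := IsPGroup.iff_orderOf.mp hP g
      rw [hr]
      exact Nat.Coprime.pow_right r hip
    obtain ⟨m, hm⟩ := exists_pow_eq_self_of_coprime hco
    rw [← hm]
    exact (Subgroup.center P).pow_mem hgi m

end Cfsg.Agent.Helper24.GalConjP
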