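import Mathlib
import Cfsg.Agent.Lib.Helper24.GalConjP3

/-!
# Same-degree Galois conjugacy in `p`-groups: group-theoretic lemmas (helper24's library)
-/

set_option autoImplicit false
set_option linter.style.haveILetI false
set_option linter.unusedSectionVars false

namespace Cfsg.Agent.Helper24.GalConjP

open Cfsg Cfsg.Agent.Helper24
open scoped commutatorElement

universe u

section Comm

variable {G : Type u} [Group G]

/-- `⁅a * b, h⁆ = ⁅a, h⁆ * ⁅b, h⁆` when `⁅b, h⁆` is central. -/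
theorem comm_mul_left {a b h : G} (hc : ⁅b, h⁆ ∈ Subgroup.center G) :
    ⁅a * b, h⁆ = ⁅a, h⁆ * ⁅b, h⁆ := by
  have h1 : ⁅a * b, h⁆ = a * ⁅b, h⁆ * a⁻¹ * ⁅a, h⁆ := by
    simp only [commutatorElement_def]; group
  have h3 := Subgroup.mem_center_iff.mp hc a
  have h2 := Subgroup.mem_center_iff.mp hc ⁅a, h⁆
  rw [h1, h3]
  calc ⁅b, h⁆ * a * a⁻¹ * ⁅a, h⁆ = ⁅b, h⁆ * ⁅a, h⁆ := by group
    _ = ⁅a, h⁆ * ⁅b, h⁆ := h2.symm

/-- `⁅a ^ k, h⁆ = ⁅a, h⁆ ^ k` when `⁅a, h⁆` is central. -/
theorem comm_pow_left {a h : G} (hc : ⁅a, h⁆ ∈ Subgroup.center G) (k : ℕ) :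
    ⁅a ^ k, h⁆ = ⁅a, h⁆ ^ k := by
  induction k with
  | zero => simp [commutatorElement_def]
  | succ k ih =>
    rw [pow_succ, comm_mul_left hc, ih, pow_succ]

/-- A central factor can be dropped from a commutator. -/
theorem comm_mul_central {a l h : G} (hl : l ∈ Subgroup.center G) : ⁅a * l, h⁆ = ⁅a, h⁆ := by
  have h1 : ⁅l, h⁆ = 1 := by
    rw [commutatorElement_def, ← Subgroup.mem_center_iff.mp hl h]; group
  rw [comm_mul_left (by rw [h1]; exact Subgroup.one_mem _), h1, mul_one]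

end Comm

section Quot

variable {G : Type u} [Group G] (N : Subgroup G) [N.Normal]

/-- The commutator subgroup of a quotient is the image of the commutator subgroup. -/
theorem commutator_quotient :
    commutator (G ⧸ N) = (commutator G).map (QuotientGroup.mk' N) := by
  rw [commutator_def, commutator_def, Subgroup.map_commutator,
    Subgroup.map_top_of_surjective _ (QuotientGroup.mk'_surjective N)]

/-- The order of the image of a subgroup containing `N` in `G ⧸ N`. -/
theorem card_map_mk_mul [Finite G] (K : Subgroup G) (hNK : N ≤ K) :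
    Nat.card (K.map (QuotientGroup.mk' N)) * Nat.card N = Nat.card K := by
  have h1 : (K.map (QuotientGroup.mk' N)).index = K.index :=
    Subgroup.index_map_eq K (QuotientGroup.mk'_surjective N) (by rw [QuotientGroup.ker_mk']; exact hNK)
  have h2 := Subgroup.card_mul_index (K.map (QuotientGroup.mk' N))
  have h3 := Subgroup.card_mul_index K
  have h4 := Subgroup.card_eq_card_quotient_mul_card_subgroup N
  have hidx : 0 < K.index := Nat.pos_of_ne_zero Subgroup.index_ne_zero_of_finite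
  apply Nat.eq_of_mul_eq_mul_right hidx
  rw [h3, h4, ← h2, h1]
  ring

/-- Membership of a coset in the centre of the quotient. -/
theorem mk_mem_center_iff (g : G) :
    (QuotientGroup.mk g : G ⧸ N) ∈ Subgroup.center (G ⧸ N) ↔ ∀ h : G, ⁅g, h⁆ ∈ N := by
  rw [Subgroup.mem_center_iff]
  constructor
  · intro hc h
    have h1 := hc (QuotientGroup.mk h)
    rw [← QuotientGroup.mk_mul, ← QuotientGroup.mk_mul, QuotientGroup.eq] at h1
    have h2 : ⁅g, h⁆ = (h * g) * ((h * g)⁻¹ * (g * h)) * (h * g)⁻¹ := by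
      rw [commutatorElement_def]; group
    rw [h2]
    exact Subgroup.Normal.conj_mem inferInstance _ h1 _
  · intro hc x
    obtain ⟨h, rfl⟩ := QuotientGroup.mk_surjective x
    rw [← QuotientGroup.mk_mul, ← QuotientGroup.mk_mul, QuotientGroup.eq]
    have h2 : (h * g)⁻¹ * (g * h) = (h * g)⁻¹ * ⁅g, h⁆ * (h * g)⁻¹⁻¹ := by
      rw [commutatorElement_def]; group
    rw [h2]
    exact Subgroup.Normal.conj_mem inferInstance _ (hc h) _

end Quot


section CaseIa

variable {P : Type u} [Group P] [Finite P]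

/-- Elements of the preimage of the cyclic centre of `P ⧸ L` are of the form `w ^ i * l`. -/
theorem exists_generator_lift (L : Subgroup P) [L.Normal]
    (hcyc : IsCyclic (Subgroup.center (P ⧸ L))) :
    ∃ w : P, (∀ h : P, ⁅w, h⁆ ∈ L) ∧
      ∀ g : P, (∀ h : P, ⁅g, h⁆ ∈ L) → ∃ i : ℕ, ∃ l ∈ L, g = w ^ i * l := by
  obtain ⟨wb, hwb⟩ := IsCyclic.exists_monoid_generator (α := Subgroup.center (P ⧸ L))
  obtain ⟨w, hw⟩ := QuotientGroup.mk_surjective (wb : P ⧸ L)
  refine ⟨w, ?_, ?_⟩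
  · rw [← mk_mem_center_iff, hw]
    exact wb.2
  · intro g hg
    have hgc : (QuotientGroup.mk g : P ⧸ L) ∈ Subgroup.center (P ⧸ L) :=
      (mk_mem_center_iff L g).mpr hg
    obtain ⟨i, hi⟩ := (Submonoid.mem_powers_iff _ _).mp (hwb ⟨_, hgc⟩)
    have h1 : ((wb : P ⧸ L)) ^ i = QuotientGroup.mk g := by
      have := congrArg Subtype.val hi
      simpa using this
    rw [← hw, ← QuotientGroup.mk_pow, QuotientGroup.eq] at h1
    exact ⟨i, _, h1, by group⟩

/-- **Case I-a**: a central cyclic commutator subgroup of order `p²` is impossible. -/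
theorem false_of_cyclic_commutator {p : ℕ} [Fact p.Prime]
    (L : Subgroup P) [L.Normal] (hLZ : L ≤ Subgroup.center P) (hLp : ∀ l ∈ L, l ^ p = 1)
    (hcl : commutator P ≤ Subgroup.center P)
    (hpow : ∀ x y : P, ⁅x, y⁆ ^ p ∈ L)
    (hcyc : IsCyclic (Subgroup.center (P ⧸ L)))
    (x y : P) (hxy : ⁅x, y⁆ ^ p ≠ 1) : False := by
  have hp : p.Prime := Fact.out
  obtain ⟨w, hwL, hgen⟩ := exists_generator_lift L hcyc
  have hcomm : ∀ a b : P, ⁅a, b⁆ ∈ Subgroup.center P := by
    intro a b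
    apply hcl
    rw [commutator_def]
    exact Subgroup.commutator_mem_commutator (Subgroup.mem_top _) (Subgroup.mem_top _)
  have hxp : ∀ a h : P, ⁅a ^ p, h⁆ ∈ L := by
    intro a h
    rw [comm_pow_left (hcomm a h)]
    exact hpow a h
  obtain ⟨i, l₁, hl₁, hxi⟩ := hgen (x ^ p) (hxp x)
  obtain ⟨j, l₂, hl₂, hyj⟩ := hgen (y ^ p) (hxp y)
  have hA : ⁅w, y⁆ ^ i = ⁅x, y⁆ ^ p := by
    rw [← comm_pow_left (hcomm x y), hxi, comm_mul_central (hLZ hl₁),
      comm_pow_left (hcomm w y)]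
  have hB : ⁅w, x⁆ ^ i = 1 := by
    have h1 : ⁅x ^ p, x⁆ = 1 := by
      rw [comm_pow_left (hcomm x x), commutatorElement_self, one_pow]
    rw [hxi, comm_mul_central (hLZ hl₁), comm_pow_left (hcomm w x)] at h1
    exact h1
  have hC : ⁅w, x⁆ ^ j = (⁅x, y⁆ ^ p)⁻¹ := by
    have h1 : ⁅y ^ p, x⁆ = (⁅x, y⁆ ^ p)⁻¹ := by
      rw [comm_pow_left (hcomm y x), ← inv_pow, commutatorElement_inv]
    rw [hyj, comm_mul_central (hLZ hl₂), comm_pow_left (hcomm w x)] at h1
    exact h1
  have hi : ¬ p ∣ i := by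
    rintro ⟨k, rfl⟩
    apply hxy
    rw [← hA, pow_mul, hLp _ (hwL y), one_pow]
  have hwx : ⁅w, x⁆ = 1 := by
    have h1 : orderOf ⁅w, x⁆ ∣ i := orderOf_dvd_of_pow_eq_one hB
    have h2 : orderOf ⁅w, x⁆ ∣ p := orderOf_dvd_of_pow_eq_one (hLp _ (hwL x))
    rcases (Nat.dvd_prime hp).mp h2 with h3 | h3
    · exact orderOf_eq_one_iff.mp h3
    · rw [h3] at h1
      exact absurd h1 hi
  apply hxy
  rw [hwx, one_pow] at hC
  exact inv_eq_one.mp hC.symm

end CaseIa


section CaseIb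

variable {P : Type u} [Group P] [Finite P]

/-- If `Z(P ⧸ L)` is cyclic, `L` is central and commutators are central of order dividing `p`,
then the preimage of `Z(P ⧸ L)` has at most `p * |Z(P)|` elements. -/
theorem card_comap_center_le {p : ℕ} [Fact p.Prime]
    (L : Subgroup P) [L.Normal] (hLZ : L ≤ Subgroup.center P)
    (hcl : commutator P ≤ Subgroup.center P) (hexp : ∀ a b : P, ⁅a, b⁆ ^ p = 1)
    (hcyc : IsCyclic (Subgroup.center (P ⧸ L))) :
    Nat.card ((Subgroup.center (P ⧸ L)).comap (QuotientGroup.mk' L)) ≤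
      p * Nat.card (Subgroup.center P) := by
  have hp : p.Prime := Fact.out
  obtain ⟨w, hwL, hgen⟩ := exists_generator_lift L hcyc
  have hcomm : ∀ a b : P, ⁅a, b⁆ ∈ Subgroup.center P := by
    intro a b
    apply hcl
    rw [commutator_def]
    exact Subgroup.commutator_mem_commutator (Subgroup.mem_top _) (Subgroup.mem_top _)
  have hwp : w ^ p ∈ Subgroup.center P := by
    rw [Subgroup.mem_center_iff]
    intro h
    have h1 : ⁅w ^ p, h⁆ = 1 := by rw [comm_pow_left (hcomm w h), hexp]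
    rw [commutatorElement_def] at h1
    have h2 : w ^ p * h = (w ^ p * h * (w ^ p)⁻¹ * h⁻¹) * (h * w ^ p) := by group
    rw [h2, h1, one_mul]
  have hex : ∀ g : (Subgroup.center (P ⧸ L)).comap (QuotientGroup.mk' L),
      ∃ t : Fin p, (w ^ (t : ℕ))⁻¹ * (g : P) ∈ Subgroup.center P := by
    intro g
    have hg : ∀ h : P, ⁅(g : P), h⁆ ∈ L := by
      rw [← mk_mem_center_iff]
      exact g.2
    obtain ⟨i, l, hl, hi⟩ := hgen (g : P) hg
    refine ⟨⟨i % p, Nat.mod_lt _ hp.pos⟩, ?_⟩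
    have h1 : (w ^ (i % p))⁻¹ * (g : P) = (w ^ p) ^ (i / p) * l := by
      have hi2 : w ^ i = w ^ (i % p) * (w ^ p) ^ (i / p) := by
        rw [← pow_mul, ← pow_add, Nat.mod_add_div]
      rw [hi, hi2]
      group
    show (w ^ (i % p))⁻¹ * (g : P) ∈ Subgroup.center P
    rw [h1]
    exact Subgroup.mul_mem _ (Subgroup.pow_mem _ hwp _) (hLZ hl)
  choose tf htf using hex
  have hinj : Function.Injective
      (fun g : (Subgroup.center (P ⧸ L)).comap (QuotientGroup.mk' L) =>
        ((tf g, ⟨(w ^ (tf g : ℕ))⁻¹ * (g : P), htf g⟩) : Fin p × Subgroup.center P)) := by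
    intro g g' h
    have h1 : tf g = tf g' := congrArg Prod.fst h
    have h2 : (w ^ (tf g : ℕ))⁻¹ * (g : P) = (w ^ (tf g' : ℕ))⁻¹ * (g' : P) :=
      congrArg (fun x : Fin p × Subgroup.center P => (x.2 : P)) h
    rw [h1] at h2
    exact Subtype.ext (mul_left_cancel h2)
  have := Nat.card_le_card_of_injective _ hinj
  rwa [Nat.card_prod, Nat.card_fin] at this

end CaseIb

end Cfsg.Agent.Helper24.GalConjP
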