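import Mathlib
import Cfsg.Agent.Lib.Helper24.GalConjP4
import Cfsg.Agent.Lib.Helper24.CharIntegral

/-!
# Same-degree Galois conjugacy in `p`-groups: the inductive step and the central case
(helper24's library)
-/

set_option autoImplicit false
set_option linter.style.haveILetI false
set_option linter.unusedSectionVars false

namespace Cfsg.Agent.Helper24.GalConjP

open Cfsg Cfsg.Agent.Helper24 Cfsg.Agent.Helper24.Cd2 Cfsg.Agent.Helper24.CdP
  Cfsg.Agent.Helper5 Cfsg.Agent.Helper23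
open scoped commutatorElement

universe u


/-- A nonlinear character of `P` inflated from `P ⧸ L`, with its degree. -/
theorem exists_char_of_quotient {P : Type u} [Group P] [Finite P] {p : ℕ} [Fact p.Prime]
    (hP : IsPGroup p P) (L : Subgroup P) [L.Normal]
    (hq : Nat.card (commutator (P ⧸ L)) = p) :
    ∃ χ : IrrCharacter P, charDegree (χ : P → ℂ) ≠ 1 ∧
      (∀ l ∈ L, (χ : P → ℂ) l = (χ : P → ℂ) 1) ∧
      charDegree (χ : P → ℂ) ^ 2 *
        Nat.card ((Subgroup.center (P ⧸ L)).comap (QuotientGroup.mk' L)) = Nat.card P := by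
  have hp : p.Prime := Fact.out
  have hPQ : IsPGroup p (P ⧸ L) := hP.to_quotient L
  have hcne : commutator (P ⧸ L) ≠ ⊥ := by
    intro h
    rw [h, Subgroup.card_bot] at hq
    exact hp.one_lt.ne hq
  obtain ⟨ψ, hψ, hnl⟩ := exists_nonlinear (exists_not_comm_of_commutator_ne_bot hcne)
  obtain ⟨-, -, hdeg⟩ := central_type_of_card_commutator hPQ hq hψ hnl
  refine ⟨(inflateEquiv L ⟨ψ, hψ⟩).1, ?_, (inflateEquiv L ⟨ψ, hψ⟩).2, ?_⟩
  · rw [inflateEquiv_coe, charDegree_inflate]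
    exact hnl
  · rw [inflateEquiv_coe, charDegree_inflate]
    show charDegree ψ ^ 2 * _ = _
    rw [hdeg, ← Subgroup.index_comap_of_surjective (Subgroup.center (P ⧸ L))
      (QuotientGroup.mk'_surjective L), mul_comm]
    exact Subgroup.card_mul_index _


/-- Two distinct subgroups of order `p` of a group of order `p * p` generate it. -/
theorem sup_eq_of_card {G : Type u} [Group G] [Finite G] {p : ℕ} [Fact p.Prime]
    (K L₁ L₂ : Subgroup G) (hK : Nat.card K = p * p) (h1 : L₁ ≤ K) (h2 : L₂ ≤ K)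
    (hc1 : Nat.card L₁ = p) (hc2 : Nat.card L₂ = p) (hne : L₁ ≠ L₂) : L₁ ⊔ L₂ = K := by
  have hp : p.Prime := Fact.out
  have hle : L₁ ⊔ L₂ ≤ K := sup_le h1 h2
  have hd1 : p ∣ Nat.card (L₁ ⊔ L₂ : Subgroup G) := hc1 ▸ Subgroup.card_dvd_of_le le_sup_left
  have hd2 : Nat.card (L₁ ⊔ L₂ : Subgroup G) ∣ p * p := hK ▸ Subgroup.card_dvd_of_le hle
  have hnp : Nat.card (L₁ ⊔ L₂ : Subgroup G) ≠ p := by
    intro h
    have e1 : L₁ = L₁ ⊔ L₂ := Subgroup.eq_of_le_of_card_ge le_sup_left (by rw [h, hc1])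
    have e2 : L₂ ≤ L₁ := by rw [e1]; exact le_sup_right
    exact hne (Subgroup.eq_of_le_of_card_ge e2 (by rw [hc1, hc2])).symm
  obtain ⟨t, ht⟩ := hd1
  have ht2 : t ∣ p := by
    rw [ht] at hd2
    exact Nat.dvd_of_mul_dvd_mul_left hp.pos hd2
  rcases (Nat.dvd_prime hp).mp ht2 with h | h
  · rw [h, mul_one] at ht
    exact absurd ht hnp
  · apply Subgroup.eq_of_le_of_card_ge hle
    rw [hK, ht, h]

/-- **Case I-b**: two quotients with cyclic centres. -/
theorem false_of_two_quotients {P : Type u} [Group P] [Finite P] {p : ℕ} [Fact p.Prime]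
    (hP : IsPGroup p P) (hH : Hyp P)
    (hcl : commutator P ≤ Subgroup.center P) (hexp : ∀ c ∈ commutator P, c ^ p = 1)
    (hcard : Nat.card (commutator P) = p * p)
    (L₁ L₂ : Subgroup P) [L₁.Normal] [L₂.Normal] (h1 : L₁ ≤ commutator P)
    (h2 : L₂ ≤ commutator P) (hc1 : Nat.card L₁ = p) (hc2 : Nat.card L₂ = p) (hne : L₁ ≠ L₂)
    (hq1 : Nat.card (commutator (P ⧸ L₁)) = p) (hq2 : Nat.card (commutator (P ⧸ L₂)) = p)
    (hcyc1 : IsCyclic (Subgroup.center (P ⧸ L₁)))
    (hcyc2 : IsCyclic (Subgroup.center (P ⧸ L₂))) : False := by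
  classical
  letI : Fintype P := Fintype.ofFinite P
  have hp : p.Prime := Fact.out
  obtain ⟨χ₁, hnl1, hk1, hd1⟩ := exists_char_of_quotient hP L₁ hq1
  obtain ⟨χ₂, hnl2, hk2, hd2⟩ := exists_char_of_quotient hP L₂ hq2
  have hcomm : ∀ a b : P, ⁅a, b⁆ ^ p = 1 := by
    intro a b
    apply hexp
    rw [commutator_def]
    exact Subgroup.commutator_mem_commutator (Subgroup.mem_top _) (Subgroup.mem_top _)
  have hz1 := card_comap_center_le L₁ (h1.trans hcl) hcl hcomm hcyc1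
  have hz2 := card_comap_center_le L₂ (h2.trans hcl) hcl hcomm hcyc2
  have hsub : ∀ (L : Subgroup P) [L.Normal],
      Subgroup.center P ≤ (Subgroup.center (P ⧸ L)).comap (QuotientGroup.mk' L) := by
    intro L _ g hg
    rw [Subgroup.mem_comap]
    show (QuotientGroup.mk g : P ⧸ L) ∈ _
    rw [mk_mem_center_iff]
    intro h
    have : ⁅g, h⁆ = 1 := by
      rw [commutatorElement_def, ← Subgroup.mem_center_iff.mp hg h]; group
    rw [this]
    exact L.one_mem
  have hzc1 := Subgroup.card_le_of_le (hsub L₁)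
  have hzc2 := Subgroup.card_le_of_le (hsub L₂)
  set z₁ := Nat.card ((Subgroup.center (P ⧸ L₁)).comap (QuotientGroup.mk' L₁)) with hz₁
  set z₂ := Nat.card ((Subgroup.center (P ⧸ L₂)).comap (QuotientGroup.mk' L₂)) with hz₂
  set zc := Nat.card (Subgroup.center P) with hzc
  have hzc0 : 0 < zc := Nat.card_pos
  -- the degrees differ
  have hdiff : charDegree (χ₁ : P → ℂ) ≠ charDegree (χ₂ : P → ℂ) := by
    intro heq
    obtain ⟨k, hk, hkg⟩ := hH χ₁ χ₂ hnl1 heq
    have hL1 : ∀ l ∈ L₁, (χ₂ : P → ℂ) l = (χ₂ : P → ℂ) 1 := (ker_of_conj hk hkg L₁).mp hk1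
    have hχc := isCharacter_of_isIrrCharacter χ₂.2
    have hle : L₁ ⊔ L₂ ≤ charKer hχc := by
      apply sup_le
      · intro l hl; exact (mem_charKer hχc l).mpr (hL1 l hl)
      · intro l hl; exact (mem_charKer hχc l).mpr (hk2 l hl)
    rw [sup_eq_of_card (commutator P) L₁ L₂ hcard h1 h2 hc1 hc2 hne] at hle
    exact hnl2 (linear_of_commutator_le_ker χ₂.2 (fun x hx => (mem_charKer hχc x).mp (hle hx)))
  -- degrees are powers of `p`
  obtain ⟨s, hs⟩ := hP.exists_card_eq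
  obtain ⟨a₁, -, ha₁⟩ := (Nat.dvd_prime_pow hp).mp (hs ▸ charDegree_dvd_card χ₁.2)
  obtain ⟨a₂, -, ha₂⟩ := (Nat.dvd_prime_pow hp).mp (hs ▸ charDegree_dvd_card χ₂.2)
  rw [ha₁] at hd1
  rw [ha₂] at hd2
  rw [ha₁, ha₂] at hdiff
  have hp2 : 2 ≤ p := hp.two_le
  have key : ∀ (a b za zb : ℕ), a < b → (p ^ a) ^ 2 * za = Nat.card P →
      (p ^ b) ^ 2 * zb = Nat.card P → za ≤ p * zc → zc ≤ zb → False := by
    intro a b za zb hab hA hB hle1 hle2
    have h3 : (p ^ b) ^ 2 = (p ^ a) ^ 2 * (p ^ (b - a)) ^ 2 := by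
      rw [← mul_pow, ← pow_add, Nat.add_sub_cancel' hab.le]
    have h4 : p ^ 2 ≤ (p ^ (b - a)) ^ 2 := by
      apply Nat.pow_le_pow_left
      calc p = p ^ 1 := (pow_one p).symm
        _ ≤ p ^ (b - a) := Nat.pow_le_pow_right hp.pos (by omega)
    have h5 : (p ^ a) ^ 2 * za = (p ^ a) ^ 2 * ((p ^ (b - a)) ^ 2 * zb) := by
      rw [hA, ← hB, h3, mul_assoc]
    have h6 : za = (p ^ (b - a)) ^ 2 * zb :=
      Nat.eq_of_mul_eq_mul_left (by positivity) h5
    have h7 : p ^ 2 * zc ≤ p * zc := by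
      calc p ^ 2 * zc ≤ (p ^ (b - a)) ^ 2 * zb := Nat.mul_le_mul h4 hle2
        _ = za := h6.symm
        _ ≤ p * zc := hle1
    have h8 : p ^ 2 * zc = p * (p * zc) := by ring
    rw [h8] at h7
    have h9 : p * zc < p * (p * zc) := by
      apply Nat.mul_lt_mul_of_pos_left _ hp.pos
      calc zc = 1 * zc := (one_mul _).symm
        _ < p * zc := Nat.mul_lt_mul_of_pos_right hp.one_lt hzc0
    omega
  rcases Nat.lt_or_gt_of_ne (fun h : a₁ = a₂ => hdiff (by rw [h])) with hlt | hlt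
  · exact key a₁ a₂ z₁ z₂ hlt hd1 hd2 hz1 hzc2
  · exact key a₂ a₁ z₂ z₁ hlt hd2 hd1 hz2 hzc1

/-- The inductive step: passing to the quotient by a normal subgroup of order `p` inside the
commutator subgroup. -/
theorem quotient_step {P : Type u} [Group P] [Finite P] {p : ℕ} [Fact p.Prime]
    (hP : IsPGroup p P) (hH : Hyp P)
    (IH : ∀ (Q : Type u) [Group Q] [Finite Q], Nat.card Q < Nat.card P → IsPGroup p Q →
      (∃ a b : Q, a * b ≠ b * a) → Hyp Q → Nat.card (commutator Q) = p)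
    (hne : Nat.card (commutator P) ≠ p)
    (L : Subgroup P) [L.Normal] (hLc : L ≤ commutator P) (hL : Nat.card L = p) :
    Nat.card (commutator P) = p * p ∧ Nat.card (commutator (P ⧸ L)) = p ∧
      IsCyclic (Subgroup.center (P ⧸ L)) := by
  have hp : p.Prime := Fact.out
  have hmap := card_map_mk_mul L (commutator P) hLc
  rw [← commutator_quotient, hL] at hmap
  have hPQ : IsPGroup p (P ⧸ L) := hP.to_quotient L
  have hHQ : Hyp (P ⧸ L) := hH.quotient L
  have hlt : Nat.card (P ⧸ L) < Nat.card P := by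
    rw [Subgroup.card_eq_card_quotient_mul_card_subgroup L, hL]
    exact lt_mul_of_one_lt_right Nat.card_pos hp.one_lt
  have hcneQ : commutator (P ⧸ L) ≠ ⊥ := by
    intro h
    rw [h, Subgroup.card_bot, one_mul] at hmap
    exact hne hmap.symm
  have hc := IH (P ⧸ L) hlt hPQ (exists_not_comm_of_commutator_ne_bot hcneQ) hHQ
  exact ⟨by rw [← hmap, hc], hc, center_cyclic_of_card_commutator hPQ hc hHQ⟩

end Cfsg.Agent.Helper24.GalConjP
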