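import Mathlib
import Cfsg.Agent.Lib.Helper24.GalConjP5
import Cfsg.Agent.Lib.Helper24.CdPFinal
import Cfsg.Agent.Lib.Helper24.Cd2Nil
import Cfsg.Agent.Lib.Helper24.CharIntegral

/-!
# Same-degree Galois conjugacy in `p`-groups: the non-central case (helper24's library)
-/

set_option autoImplicit false
set_option linter.style.haveILetI false
set_option linter.unusedSectionVars false

namespace Cfsg.Agent.Helper24.GalConjP

open Cfsg Cfsg.Agent.Helper24 Cfsg.Agent.Helper24.Cd2 Cfsg.Agent.Helper24.CdP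
  Cfsg.Agent.Helper5 Cfsg.Agent.Helper23
open scoped commutatorElement

universe u

/-- **Case II, structure**: if the commutator subgroup (of order `p²`) is not central, the centre
of `P ⧸ L` is its commutator subgroup, and `P` has exponent dividing `p³`. -/
theorem noncentral_structure {P : Type u} [Group P] [Finite P] {p : ℕ} [Fact p.Prime]
    (hP : IsPGroup p P) (L : Subgroup P) [L.Normal]
    (hLZ : L ≤ Subgroup.center P) (hLc : L ≤ commutator P) (hL : Nat.card L = p)
    (hcard : Nat.card (commutator P) = p * p) (hq : Nat.card (commutator (P ⧸ L)) = p)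
    (hncl : ¬ commutator P ≤ Subgroup.center P)
    (hcyc : IsCyclic (Subgroup.center (P ⧸ L))) :
    Subgroup.center (P ⧸ L) = commutator (P ⧸ L) ∧ ∀ g : P, g ^ (p ^ 3) = 1 := by
  have hp : p.Prime := Fact.out
  have hPQ : IsPGroup p (P ⧸ L) := hP.to_quotient L
  have hqc : commutator (P ⧸ L) ≤ Subgroup.center (P ⧸ L) := le_center_of_card_prime hPQ _ hq
  have hLp : ∀ l ∈ L, l ^ p = 1 := by
    intro l hl
    have h1 : (⟨l, hl⟩ : L) ^ Nat.card L = 1 := pow_card_eq_one'
    rw [hL] at h1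
    have := congrArg Subtype.val h1
    simpa using this
  obtain ⟨w, hwL, hgen⟩ := exists_generator_lift L hcyc
  obtain ⟨c, hcc, hcZ⟩ := SetLike.not_le_iff_exists.mp hncl
  have hmkc : (QuotientGroup.mk c : P ⧸ L) ∈ commutator (P ⧸ L) := by
    rw [commutator_quotient]
    exact Subgroup.mem_map_of_mem _ hcc
  have hcL : ∀ h : P, ⁅c, h⁆ ∈ L := (mk_mem_center_iff L c).mp (hqc hmkc)
  obtain ⟨i, l, hl, hci⟩ := hgen c hcL
  have hwp : w ^ p ∈ Subgroup.center P := by
    rw [Subgroup.mem_center_iff]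
    intro h
    have h1 : ⁅w ^ p, h⁆ = 1 := by rw [comm_pow_left (hLZ (hwL h)), hLp _ (hwL h)]
    rw [commutatorElement_def] at h1
    have h2 : w ^ p * h = (w ^ p * h * (w ^ p)⁻¹ * h⁻¹) * (h * w ^ p) := by group
    rw [h2, h1, one_mul]
  have hi : ¬ p ∣ i := by
    rintro ⟨k, rfl⟩
    apply hcZ
    rw [hci, pow_mul]
    exact Subgroup.mul_mem _ (Subgroup.pow_mem _ hwp _) (hLZ hl)
  -- `mk w` lies in the commutator subgroup of the quotient
  have hmkw : (QuotientGroup.mk w : P ⧸ L) ∈ commutator (P ⧸ L) := by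
    obtain ⟨t, ht⟩ := IsPGroup.iff_orderOf.mp hPQ (QuotientGroup.mk w : P ⧸ L)
    have hco : Nat.Coprime i (orderOf (QuotientGroup.mk w : P ⧸ L)) := by
      rw [ht]
      apply Nat.Coprime.pow_right
      exact ((Nat.Prime.coprime_iff_not_dvd hp).mpr hi).symm
    obtain ⟨m, hm⟩ := exists_pow_eq_self_of_coprime hco
    have h1 : (QuotientGroup.mk c : P ⧸ L) = (QuotientGroup.mk w : P ⧸ L) ^ i := by
      rw [hci, QuotientGroup.mk_mul, QuotientGroup.mk_pow, (QuotientGroup.eq_one_iff l).mpr hl,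
        mul_one]
    rw [← hm, ← h1]
    exact Subgroup.pow_mem _ hmkc m
  have hcen : Subgroup.center (P ⧸ L) = commutator (P ⧸ L) := by
    apply le_antisymm _ hqc
    intro x hx
    obtain ⟨g, rfl⟩ := QuotientGroup.mk_surjective x
    obtain ⟨j, l', hl', hgj⟩ := hgen g ((mk_mem_center_iff L g).mp hx)
    rw [hgj, QuotientGroup.mk_mul, QuotientGroup.mk_pow, (QuotientGroup.eq_one_iff l').mpr hl',
      mul_one]
    exact Subgroup.pow_mem _ hmkw j
  refine ⟨hcen, ?_⟩
  intro g
  -- `g ^ p` lies in the commutator subgroup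
  have h1 : (QuotientGroup.mk (g ^ p) : P ⧸ L) ∈ Subgroup.center (P ⧸ L) := by
    rw [Subgroup.mem_center_iff]
    intro x
    have hcx : ⁅(QuotientGroup.mk g : P ⧸ L), x⁆ ∈ commutator (P ⧸ L) := by
      rw [commutator_def]
      exact Subgroup.commutator_mem_commutator (Subgroup.mem_top _) (Subgroup.mem_top _)
    have h2 : ⁅(QuotientGroup.mk g : P ⧸ L) ^ p, x⁆ = 1 := by
      rw [comm_pow_left (hqc hcx)]
      have h3 : (⟨_, hcx⟩ : commutator (P ⧸ L)) ^ Nat.card (commutator (P ⧸ L)) = 1 :=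
        pow_card_eq_one'
      rw [hq] at h3
      have := congrArg Subtype.val h3
      simpa using this
    rw [QuotientGroup.mk_pow]
    rw [commutatorElement_def] at h2
    set y := (QuotientGroup.mk g : P ⧸ L) ^ p with hy
    have h4 : x * y = (y * x * y⁻¹ * x⁻¹)⁻¹ * (y * x) := by group
    rw [h4, h2, inv_one, one_mul]
  rw [hcen, commutator_quotient] at h1
  obtain ⟨c', hc', hcc'⟩ := Subgroup.mem_map.mp h1
  have h5 : g ^ p ∈ commutator P := by
    have h6 : (c')⁻¹ * g ^ p ∈ L := by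
      rw [← QuotientGroup.eq]
      exact hcc'
    have h7 : g ^ p = c' * ((c')⁻¹ * g ^ p) := by group
    rw [h7]
    exact Subgroup.mul_mem _ hc' (hLc h6)
  have h8 : (⟨g ^ p, h5⟩ : commutator P) ^ Nat.card (commutator P) = 1 := pow_card_eq_one'
  rw [hcard] at h8
  have h9 := congrArg Subtype.val h8
  have h10 : (g ^ p) ^ (p * p) = 1 := by simpa using h9
  rw [← pow_mul] at h10
  have : p ^ 3 = p * (p * p) := by ring
  rw [this]
  exact h10


/-- A geometric sum bound. -/
theorem geom_bound (p r : ℕ) (hp : 2 ≤ p) :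
    p * ∑ j ∈ Finset.range r, p ^ (2 * j) < p ^ (2 * r) := by
  induction r with
  | zero => simp
  | succ r ih =>
    rw [Finset.sum_range_succ, mul_add]
    have h1 : p ^ (2 * (r + 1)) = p ^ (2 * r) * p ^ 2 := by rw [← pow_add]; ring_nf
    have h2 : p * p ^ (2 * r) + p ^ (2 * r) ≤ p ^ (2 * r) * p ^ 2 := by
      have h3 : p + 1 ≤ p ^ 2 := by nlinarith
      calc p * p ^ (2 * r) + p ^ (2 * r) = p ^ (2 * r) * (p + 1) := by ring
        _ ≤ p ^ (2 * r) * p ^ 2 := Nat.mul_le_mul_left _ h3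
    rw [h1]
    omega

/-- **Case II**: a non-central commutator subgroup of order `p²` is impossible. -/
theorem false_of_noncentral {P : Type u} [Group P] [Finite P] {p : ℕ} [Fact p.Prime]
    (hP : IsPGroup p P) (hH : Hyp P) (L : Subgroup P) [L.Normal]
    (hLZ : L ≤ Subgroup.center P) (hLc : L ≤ commutator P) (hL : Nat.card L = p)
    (hcard : Nat.card (commutator P) = p * p) (hq : Nat.card (commutator (P ⧸ L)) = p)
    (hncl : ¬ commutator P ≤ Subgroup.center P)
    (hcyc : IsCyclic (Subgroup.center (P ⧸ L))) : False := by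
  classical
  letI : Fintype P := Fintype.ofFinite P
  letI : Fintype (IrrCharacter P) := irrFintype
  have hp : p.Prime := Fact.out
  obtain ⟨hcen, hexp⟩ := noncentral_structure hP L hLZ hLc hL hcard hq hncl hcyc
  obtain ⟨χ₁, hnl1, hk1, hd1⟩ := exists_char_of_quotient hP L hq
  have hcc : Nat.card ((Subgroup.center (P ⧸ L)).comap (QuotientGroup.mk' L)) = p * p := by
    have h1 := card_map_mk_mul L ((Subgroup.center (P ⧸ L)).comap (QuotientGroup.mk' L)) (by
      intro l hl
      rw [Subgroup.mem_comap]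
      have : (QuotientGroup.mk' L) l = 1 := (QuotientGroup.eq_one_iff l).mpr hl
      rw [this]
      exact Subgroup.one_mem _)
    have h2 : Nat.card (Subgroup.center (P ⧸ L)) = p := by rw [hcen]; exact hq
    rw [Subgroup.map_comap_eq_self_of_surjective (QuotientGroup.mk'_surjective L), h2,
      hL] at h1
    exact h1.symm
  rw [hcc] at hd1
  obtain ⟨s, hs⟩ := hP.exists_card_eq
  obtain ⟨r, -, hr⟩ := (Nat.dvd_prime_pow hp).mp (hs ▸ charDegree_dvd_card χ₁.2)
  rw [hr] at hd1
  have hcardP : Nat.card P = p ^ (2 * r + 2) := by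
    rw [← hd1]; ring
  have hcardQ : Nat.card (P ⧸ L) = p ^ (2 * r + 1) := by
    have h1 := Subgroup.card_eq_card_quotient_mul_card_subgroup L
    rw [hL, hcardP] at h1
    have h2 : p ^ (2 * r + 2) = p ^ (2 * r + 1) * p := by ring
    rw [h2] at h1
    exact (Nat.eq_of_mul_eq_mul_right hp.pos h1).symm
  obtain ⟨q, hq1⟩ : ∃ q, p = q + 1 := ⟨p - 1, by have := hp.one_lt; omega⟩
  have hq0 : 1 ≤ q := by have := hp.one_lt; omega
  have hpQ : p ∣ Nat.card P := by rw [hcardP]; exact dvd_pow_self p (by omega)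
  -- the Galois bound
  have hbound : ∀ χ₀ : IrrCharacter P, charDegree (χ₀ : P → ℂ) ≠ 1 →
      (Finset.univ.filter (fun χ : IrrCharacter P =>
        charDegree (χ : P → ℂ) = charDegree (χ₀ : P → ℂ))).card ≤ p ^ 2 * q := by
    intro χ₀ hnl
    have h1 := card_degree_le_totient hH hpQ χ₀ hnl (m := 3) (fun g _ => hexp g)
    rw [Nat.totient_prime_pow hp (by norm_num)] at h1
    have h2 : p - 1 = q := by omega
    rw [h2] at h1
    exact h1
  -- characters not containing `L` in their kernel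
  set X : Finset (IrrCharacter P) := Finset.univ.filter
    (fun χ : IrrCharacter P => ¬ ∀ l ∈ L, (χ : P → ℂ) l = (χ : P → ℂ) 1) with hX
  have hXprop : ∀ χ ∈ X, charDegree (χ : P → ℂ) ≠ 1 ∧
      ∃ j, j < r ∧ charDegree (χ : P → ℂ) = p ^ j := by
    intro χ hχ
    rw [hX, Finset.mem_filter] at hχ
    have hnl : charDegree (χ : P → ℂ) ≠ 1 := by
      intro h1
      apply hχ.2
      intro l hl
      rw [linear_eq_one_on_commutator χ.2 h1 (hLc hl),
        linear_eq_one_on_commutator χ.2 h1 (Subgroup.one_mem _)]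
    refine ⟨hnl, ?_⟩
    obtain ⟨j, -, hj⟩ := (Nat.dvd_prime_pow hp).mp (hs ▸ charDegree_dvd_card χ.2)
    refine ⟨j, ?_, hj⟩
    have hjr : j ≠ r := by
      intro hjr
      apply hχ.2
      obtain ⟨k, hk, hkg⟩ := hH χ₁ χ hnl1 (by rw [hr, hj, hjr])
      exact (ker_of_conj hk hkg L).mp hk1
    have h1 := degree_sq_le_center_index χ.2
    have h2 : (Subgroup.center P).index ≤ L.index :=
      Nat.le_of_dvd (Nat.pos_of_ne_zero Subgroup.index_ne_zero_of_finite)
        (Subgroup.index_dvd_of_le hLZ)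
    rw [Subgroup.index_eq_card L, hcardQ] at h2
    rw [hj, ← pow_mul] at h1
    have h3 : j * 2 ≤ 2 * r + 1 := (Nat.pow_le_pow_iff_right hp.one_lt).mp (h1.trans h2)
    omega
  -- the sum over `X`
  have hsum := sum_charDegree_sq (G := P)
  rw [← Finset.sum_filter_add_sum_filter_not Finset.univ
    (fun χ : IrrCharacter P => ∀ l ∈ L, (χ : P → ℂ) l = (χ : P → ℂ) 1)] at hsum
  have hs1 : ∑ χ ∈ Finset.univ.filter
      (fun χ : IrrCharacter P => ∀ l ∈ L, (χ : P → ℂ) l = (χ : P → ℂ) 1),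
      charDegree (χ : P → ℂ) ^ 2 = Nat.card (P ⧸ L) := by
    rw [Finset.sum_subtype (Finset.univ.filter
      (fun χ : IrrCharacter P => ∀ l ∈ L, (χ : P → ℂ) l = (χ : P → ℂ) 1))
      (p := fun χ : IrrCharacter P => ∀ l ∈ L, (χ : P → ℂ) l = (χ : P → ℂ) 1)
      (fun x => by simp) (fun χ : IrrCharacter P => charDegree (χ : P → ℂ) ^ 2)]
    exact sum_charDegree_sq_of_le_ker L
  rw [hs1, hcardQ, hcardP] at hsum
  -- fiberwise decomposition
  have hmaps : ∀ χ ∈ X, Nat.log p (charDegree (χ : P → ℂ)) ∈ Finset.range r := by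
    intro χ hχ
    obtain ⟨-, j, hjr, hj⟩ := hXprop χ hχ
    rw [hj, Nat.log_pow hp.one_lt, Finset.mem_range]
    exact hjr
  have hfib := Finset.sum_fiberwise_of_maps_to hmaps
    (fun χ : IrrCharacter P => charDegree (χ : P → ℂ) ^ 2)
  have hle : ∑ χ ∈ X, charDegree (χ : P → ℂ) ^ 2 ≤
      ∑ j ∈ Finset.range r, p ^ 2 * q * p ^ (2 * j) := by
    rw [← hfib]
    apply Finset.sum_le_sum
    intro j hj
    have hdeg : ∀ χ ∈ X.filter (fun χ : IrrCharacter P => Nat.log p (charDegree (χ : P → ℂ)) = j),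
        charDegree (χ : P → ℂ) = p ^ j := by
      intro χ hχ
      rw [Finset.mem_filter] at hχ
      obtain ⟨-, j', -, hj'⟩ := hXprop χ hχ.1
      have := hχ.2
      rw [hj', Nat.log_pow hp.one_lt] at this
      rw [hj', this]
    have h1 : ∑ χ ∈ X.filter (fun χ : IrrCharacter P => Nat.log p (charDegree (χ : P → ℂ)) = j),
        charDegree (χ : P → ℂ) ^ 2 =
        (X.filter (fun χ : IrrCharacter P => Nat.log p (charDegree (χ : P → ℂ)) = j)).card * p ^ (2 * j) := by
      rw [Finset.card_eq_sum_ones, Finset.sum_mul]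
      apply Finset.sum_congr rfl
      intro χ hχ
      rw [hdeg χ hχ, one_mul, ← pow_mul, mul_comm]
    rw [h1]
    apply Nat.mul_le_mul_right
    rcases (X.filter (fun χ : IrrCharacter P => Nat.log p (charDegree (χ : P → ℂ)) = j)).eq_empty_or_nonempty
      with he | ⟨χ₀, hχ₀⟩
    · rw [he, Finset.card_empty]; exact Nat.zero_le _
    · have hnl0 := (hXprop χ₀ (Finset.mem_filter.mp hχ₀).1).1
      refine le_trans (Finset.card_le_card ?_) (hbound χ₀ hnl0)
      intro χ hχ
      rw [Finset.mem_filter]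
      exact ⟨Finset.mem_univ _, by rw [hdeg χ hχ, hdeg χ₀ hχ₀]⟩
  rw [← Finset.mul_sum] at hle
  have hg := geom_bound p r hp.two_le
  -- numerics
  have e1 : p ^ (2 * r + 2) = p ^ (2 * r + 1) + q * p * p ^ (2 * r) := by
    have : p ^ (2 * r + 2) = p * (p * p ^ (2 * r)) := by ring
    rw [this]
    have : p ^ (2 * r + 1) = p * p ^ (2 * r) := by ring
    rw [this]
    have hB : p * (p * p ^ (2 * r)) = (q + 1) * (p * p ^ (2 * r)) := by rw [← hq1]
    rw [hB]
    ring
  rw [e1] at hsum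
  have e2 : ∑ χ ∈ X, charDegree (χ : P → ℂ) ^ 2 = q * p * p ^ (2 * r) :=
    Nat.add_left_cancel hsum
  rw [e2] at hle
  have e3 : p ^ 2 * q * ∑ j ∈ Finset.range r, p ^ (2 * j) =
      q * p * (p * ∑ j ∈ Finset.range r, p ^ (2 * j)) := by ring
  rw [e3] at hle
  have e4 : q * p * (p * ∑ j ∈ Finset.range r, p ^ (2 * j)) < q * p * p ^ (2 * r) :=
    Nat.mul_lt_mul_of_pos_left hg (Nat.mul_pos hq0 hp.pos)
  omega

end Cfsg.Agent.Helper24.GalConjP
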