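import Mathlib
import Cfsg.Agent.Lib.Helper24.GalConjP6

/-!
# Same-degree Galois conjugacy in `p`-groups: the main induction (helper24's library)
-/

set_option autoImplicit false
set_option linter.style.haveILetI false
set_option linter.unusedSectionVars false

namespace Cfsg.Agent.Helper24.GalConjP

open Cfsg Cfsg.Agent.Helper24 Cfsg.Agent.Helper24.Cd2 Cfsg.Agent.Helper24.CdP
  Cfsg.Agent.Helper5 Cfsg.Agent.Helper23
open scoped commutatorElement

universe u

/-- A nontrivial subgroup of a `p`-group contains an element of order `p`. -/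
theorem exists_prime_order_mem {P : Type u} [Group P] [Finite P] {p : ℕ} [Fact p.Prime]
    (hP : IsPGroup p P) (K : Subgroup P) (hK : K ≠ ⊥) : ∃ z ∈ K, z ≠ 1 ∧ z ^ p = 1 := by
  have hp : p.Prime := Fact.out
  rcases Subgroup.bot_or_exists_ne_one K with h0 | ⟨z, hz, hz1⟩
  · exact absurd h0 hK
  obtain ⟨j, hj⟩ := IsPGroup.iff_orderOf.mp hP z
  have hj1 : 1 ≤ j := by
    by_contra h0
    have hj0 : j = 0 := by omega
    rw [hj0, pow_zero, orderOf_eq_one_iff] at hj
    exact hz1 hj
  refine ⟨z ^ (p ^ (j - 1)), K.pow_mem hz _, ?_, ?_⟩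
  · apply pow_ne_one_of_lt_orderOf (pow_ne_zero _ hp.ne_zero)
    rw [hj]
    exact Nat.pow_lt_pow_right hp.one_lt (by omega)
  · rw [← pow_mul, ← pow_succ, Nat.sub_add_cancel hj1, ← hj, pow_orderOf_eq_one]

/-- The cyclic subgroup generated by an element of order `p`. -/
theorem card_zpowers_of_pow_eq_one {P : Type u} [Group P] {p : ℕ} [Fact p.Prime] {z : P}
    (hz1 : z ≠ 1) (hzp : z ^ p = 1) : Nat.card (Subgroup.zpowers z) = p := by
  rw [Nat.card_zpowers, orderOf_eq_prime hzp hz1]

/-- A subgroup of the centre is normal. -/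
theorem normal_of_le_center {P : Type u} [Group P] (L : Subgroup P)
    (hL : L ≤ Subgroup.center P) : L.Normal := by
  constructor
  intro l hl g
  have := Subgroup.mem_center_iff.mp (hL hl) g
  rw [this, mul_inv_cancel_right]
  exact hl


/-- **Case I**: a central commutator subgroup of order `p²` is impossible. -/
theorem false_of_central {P : Type u} [Group P] [Finite P] {p : ℕ} [Fact p.Prime]
    (hP : IsPGroup p P) (hH : Hyp P)
    (IH : ∀ (Q : Type u) [Group Q] [Finite Q], Nat.card Q < Nat.card P → IsPGroup p Q →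
      (∃ a b : Q, a * b ≠ b * a) → Hyp Q → Nat.card (commutator Q) = p)
    (hne : Nat.card (commutator P) ≠ p) (hcard : Nat.card (commutator P) = p * p)
    (hcl : commutator P ≤ Subgroup.center P) : False := by
  have hp : p.Prime := Fact.out
  have hpc : ∀ c ∈ commutator P, c ^ (p * p) = 1 := by
    intro c hc
    have h1 : (⟨c, hc⟩ : commutator P) ^ Nat.card (commutator P) = 1 := pow_card_eq_one'
    rw [hcard] at h1
    have := congrArg Subtype.val h1
    simpa using this
  by_cases hex : ∃ c ∈ commutator P, c ^ p ≠ 1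
  · -- Case I-a
    obtain ⟨c, hc, hcp⟩ := hex
    set L : Subgroup P := Subgroup.zpowers (c ^ p) with hLdef
    have hcpc : c ^ p ∈ commutator P := Subgroup.pow_mem _ hc p
    have hLc : L ≤ commutator P := by
      rw [hLdef, Subgroup.zpowers_le]; exact hcpc
    have hLZ : L ≤ Subgroup.center P := hLc.trans hcl
    haveI : L.Normal := normal_of_le_center L hLZ
    have hcpp : (c ^ p) ^ p = 1 := by rw [← pow_mul]; exact hpc c hc
    have hL : Nat.card L = p := card_zpowers_of_pow_eq_one hcp hcpp
    obtain ⟨-, -, hcyc⟩ := quotient_step hP hH IH hne L hLc hL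
    have hLp : ∀ l ∈ L, l ^ p = 1 := by
      intro l hl
      obtain ⟨k, rfl⟩ := Subgroup.mem_zpowers_iff.mp hl
      rw [← zpow_natCast, ← zpow_mul, mul_comm, zpow_mul, zpow_natCast, hcpp, one_zpow]
    -- `c` generates the commutator subgroup
    have hord : orderOf c = p ^ 2 := by
      have h1 : orderOf c ∣ p ^ 2 := by
        apply orderOf_dvd_of_pow_eq_one
        rw [sq]; exact hpc c hc
      obtain ⟨k, hk, hkeq⟩ := (Nat.dvd_prime_pow hp).mp h1
      have hk2 : k = 2 := by
        by_contra hk2
        have hk1 : k ≤ 1 := by omega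
        apply hcp
        apply orderOf_dvd_iff_pow_eq_one.mp
        rw [hkeq]
        calc p ^ k ∣ p ^ 1 := pow_dvd_pow p hk1
          _ = p := pow_one p
      rw [hkeq, hk2]
    have hgenc : Subgroup.zpowers c = commutator P := by
      apply Subgroup.eq_of_le_of_card_ge
      · rw [Subgroup.zpowers_le]; exact hc
      · rw [Nat.card_zpowers, hord, hcard, sq]
    have hpow : ∀ x y : P, ⁅x, y⁆ ^ p ∈ L := by
      intro x y
      have h1 : ⁅x, y⁆ ∈ Subgroup.zpowers c := by
        rw [hgenc, commutator_def]
        exact Subgroup.commutator_mem_commutator (Subgroup.mem_top _) (Subgroup.mem_top _)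
      obtain ⟨k, hk⟩ := Subgroup.mem_zpowers_iff.mp h1
      rw [← hk, hLdef, Subgroup.mem_zpowers_iff]
      refine ⟨k, ?_⟩
      rw [← zpow_natCast, ← zpow_natCast, ← zpow_mul, ← zpow_mul, mul_comm]
    -- some commutator has nontrivial `p`-th power
    have hxy : ∃ x y : P, ⁅x, y⁆ ^ p ≠ 1 := by
      by_contra hcon
      push Not at hcon
      let Ω : Subgroup P :=
        { carrier := {z | z ∈ Subgroup.center P ∧ z ^ p = 1}
          mul_mem' := by
            rintro a b ⟨ha, hap⟩ ⟨hb, hbp⟩
            refine ⟨Subgroup.mul_mem _ ha hb, ?_⟩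
            have hcomm : Commute a b := Subgroup.mem_center_iff.mp hb a
            rw [hcomm.mul_pow, hap, hbp, one_mul]
          one_mem' := ⟨Subgroup.one_mem _, one_pow _⟩
          inv_mem' := by
            rintro a ⟨ha, hap⟩
            exact ⟨Subgroup.inv_mem _ ha, by rw [inv_pow, hap, inv_one]⟩ }
      have hle : commutator P ≤ Ω := by
        rw [commutator_def, Subgroup.commutator_le]
        intro g₁ _ g₂ _
        refine ⟨hcl ?_, hcon g₁ g₂⟩
        rw [commutator_def]
        exact Subgroup.commutator_mem_commutator (Subgroup.mem_top _) (Subgroup.mem_top _)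
      exact hcp (hle hc).2
    obtain ⟨x, y, hxy'⟩ := hxy
    exact false_of_cyclic_commutator L hLZ hLp hcl hpow hcyc x y hxy'
  · -- Case I-b
    push Not at hex
    have hcne : commutator P ≠ ⊥ := by
      intro h
      rw [h, Subgroup.card_bot] at hcard
      have := hp.one_lt
      nlinarith
    rcases Subgroup.bot_or_exists_ne_one (commutator P) with h0 | ⟨a, ha, ha1⟩
    · exact hcne h0
    set L₁ : Subgroup P := Subgroup.zpowers a with hL₁
    have h1 : L₁ ≤ commutator P := by rw [hL₁, Subgroup.zpowers_le]; exact ha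
    have hc1 : Nat.card L₁ = p := card_zpowers_of_pow_eq_one ha1 (hex a ha)
    obtain ⟨b, hb, hbL⟩ : ∃ b ∈ commutator P, b ∉ L₁ := by
      by_contra hcon
      push Not at hcon
      have hle : commutator P ≤ L₁ := fun x hx => hcon x hx
      have := Subgroup.card_le_of_le hle
      rw [hcard, hc1] at this
      have := hp.one_lt
      nlinarith
    have hb1 : b ≠ 1 := fun h => hbL (h ▸ Subgroup.one_mem _)
    set L₂ : Subgroup P := Subgroup.zpowers b with hL₂
    have h2 : L₂ ≤ commutator P := by rw [hL₂, Subgroup.zpowers_le]; exact hb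
    have hc2 : Nat.card L₂ = p := card_zpowers_of_pow_eq_one hb1 (hex b hb)
    have hne12 : L₁ ≠ L₂ := by
      intro h
      apply hbL
      rw [h, hL₂]
      exact Subgroup.mem_zpowers b
    haveI : L₁.Normal := normal_of_le_center L₁ (h1.trans hcl)
    haveI : L₂.Normal := normal_of_le_center L₂ (h2.trans hcl)
    obtain ⟨-, hq1, hcyc1⟩ := quotient_step hP hH IH hne L₁ h1 hc1
    obtain ⟨-, hq2, hcyc2⟩ := quotient_step hP hH IH hne L₂ h2 hc2
    exact false_of_two_quotients hP hH hcl hex hcard L₁ L₂ h1 h2 hc1 hc2 hne12 hq1 hq2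
      hcyc1 hcyc2

/-- **Main theorem**: a nonabelian `p`-group satisfying `Hyp` has commutator subgroup of order
`p`. -/
theorem card_commutator_of_hyp {p : ℕ} [Fact p.Prime] :
    ∀ (n : ℕ) (P : Type u) [Group P] [Finite P], Nat.card P = n → IsPGroup p P →
      (∃ a b : P, a * b ≠ b * a) → Hyp P → Nat.card (commutator P) = p := by
  intro n
  induction n using Nat.strong_induction_on with
  | _ n ih =>
    intro P _ _ hn hP hnab hH
    by_contra hne
    have IH : ∀ (Q : Type u) [Group Q] [Finite Q], Nat.card Q < Nat.card P → IsPGroup p Q →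
        (∃ a b : Q, a * b ≠ b * a) → Hyp Q → Nat.card (commutator Q) = p := by
      intro Q _ _ hlt hQ hQnab hQH
      exact ih (Nat.card Q) (hn ▸ hlt) Q rfl hQ hQnab hQH
    have hcne : commutator P ≠ ⊥ := by
      intro h
      obtain ⟨a, b, hab⟩ := hnab
      apply hab
      have h1 : ⁅a, b⁆ ∈ commutator P := by
        rw [commutator_def]
        exact Subgroup.commutator_mem_commutator (Subgroup.mem_top _) (Subgroup.mem_top _)
      rw [h, Subgroup.mem_bot, commutatorElement_def] at h1
      calc a * b = (a * b * a⁻¹ * b⁻¹) * (b * a) := by group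
        _ = b * a := by rw [h1, one_mul]
    have hne2 := Cfsg.Agent.Helper19.normal_inf_center_ne_bot hP (commutator P) hcne
    obtain ⟨z, hz, hz1, hzp⟩ := exists_prime_order_mem hP _ hne2
    set L : Subgroup P := Subgroup.zpowers z with hLdef
    have hLc : L ≤ commutator P := by
      rw [hLdef, Subgroup.zpowers_le]; exact (Subgroup.mem_inf.mp hz).1
    have hLZ : L ≤ Subgroup.center P := by
      rw [hLdef, Subgroup.zpowers_le]; exact (Subgroup.mem_inf.mp hz).2
    haveI : L.Normal := normal_of_le_center L hLZ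
    have hL : Nat.card L = p := card_zpowers_of_pow_eq_one hz1 hzp
    obtain ⟨hcard, hq, hcyc⟩ := quotient_step hP hH IH hne L hLc hL
    by_cases hcl : commutator P ≤ Subgroup.center P
    · exact false_of_central hP hH IH hne hcard hcl
    · exact false_of_noncentral hP hH L hLZ hLc hL hcard hq hcl hcyc

end Cfsg.Agent.Helper24.GalConjP
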