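import Mathlib
import Cfsg.Prelude.Def_Blocks
import Cfsg.Agent.Lib.Helper24.CharAlgebra
import Cfsg.Agent.Lib.Helper24.CharHom
import Cfsg.Agent.Lib.Helper24.CharLinear

/-!
# Sums of character values over the elements of maximal order (helper24's shared library)

For a finite commutative group `S` of order `n` and a character `ψ` of `S`, the sum of `ψ` over the
elements of order `n` is a rational integer (Möbius inversion over the subgroups `{t | t ^ m = 1}`).
Hence a character constant on the generators of a cyclic group is integer valued there.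
-/

set_option autoImplicit false
set_option linter.style.haveILetI false
set_option linter.unusedSectionVars false

namespace Cfsg.Agent.Helper24.GenSum

open Cfsg Cfsg.Agent.Helper24
open scoped ComplexConjugate ArithmeticFunction.Moebius ArithmeticFunction.zeta

universe u

theorem sum_moebius_divisors (m : ℕ) :
    (∑ d ∈ m.divisors, ArithmeticFunction.moebius d) = if m = 1 then 1 else 0 := by
  have h := congrArg (fun f : ArithmeticFunction ℤ => f m) ArithmeticFunction.moebius_mul_coe_zeta
  simp only [ArithmeticFunction.coe_mul_zeta_apply, ArithmeticFunction.one_apply] at h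
  exact h

section

variable {S : Type u} [Group S] [Fintype S] [DecidableEq S]

/-- The Möbius indicator of the elements of maximal order. -/
theorem sum_moebius_pow_eq (t : S) :
    (∑ d ∈ (Nat.card S).divisors,
        if t ^ (Nat.card S / d) = 1 then ArithmeticFunction.moebius d else 0) =
      if orderOf t = Nat.card S then 1 else 0 := by
  set n := Nat.card S with hn
  have hnpos : 0 < n := Nat.card_pos
  set o := orderOf t with ho
  have hon : o ∣ n := orderOf_dvd_natCard t
  have hopos : 0 < o := orderOf_pos t
  set m := n / o with hm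
  have hmn : m ∣ n := Nat.div_dvd_of_dvd hon
  have hmpos : 0 < m := Nat.div_pos (Nat.le_of_dvd hnpos hon) hopos
  have hiff : ∀ d ∈ n.divisors, (t ^ (n / d) = 1 ↔ d ∣ m) := by
    intro d hd
    have hdn : d ∣ n := (Nat.mem_divisors.mp hd).1
    rw [← orderOf_dvd_iff_pow_eq_one, ← ho, Nat.dvd_div_iff_mul_dvd hdn, hm,
      Nat.dvd_div_iff_mul_dvd hon, mul_comm]
  have h1 : (∑ d ∈ n.divisors, if t ^ (n / d) = 1 then ArithmeticFunction.moebius d else 0) =
      ∑ d ∈ n.divisors, if d ∣ m then ArithmeticFunction.moebius d else 0 := by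
    apply Finset.sum_congr rfl
    intro d hd
    simp only [hiff d hd]
  rw [h1, ← Finset.sum_filter]
  have h2 : n.divisors.filter (fun d => d ∣ m) = m.divisors := by
    ext d
    rw [Finset.mem_filter, Nat.mem_divisors, Nat.mem_divisors]
    constructor
    · rintro ⟨-, hdm⟩
      exact ⟨hdm, hmpos.ne'⟩
    · rintro ⟨hdm, -⟩
      exact ⟨⟨hdm.trans hmn, hnpos.ne'⟩, hdm⟩
  rw [h2, sum_moebius_divisors]
  have h3 : m = 1 ↔ o = n := by
    constructor
    · intro h
      have := Nat.div_mul_cancel hon
      rw [← hm, h, one_mul] at this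
      exact this
    · intro h
      rw [hm, h, Nat.div_self hnpos]
  simp only [h3]

end

section Comm

variable {S : Type u} [CommGroup S] [Fintype S]

/-- The sum of a character over the subgroup `{t | t ^ m = 1}` is an integer. -/
theorem sum_pow_eq_one_int [DecidableEq S] {ψ : S → ℂ} (hψ : IsCharacter S ψ) (m : ℕ) :
    ∃ z : ℤ, ∑ t : S, (if t ^ m = 1 then ψ t else 0) = z := by
  classical
  let T : Subgroup S := (powMonoidHom m : S →* S).ker
  letI : Fintype T := Fintype.ofFinite T
  letI := irrFintype (G := T)
  have hψT : IsCharacter T (fun t : T => ψ t) := isCharacter_restrict T hψ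
  obtain ⟨k, hk⟩ := classInner_char_nat hψT (isCharacter_of_isIrrCharacter
    (isIrrCharacter_one (G := T)))
  refine ⟨(Nat.card T : ℤ) * k, ?_⟩
  have h1 : ∑ t : S, (if t ^ m = 1 then ψ t else 0) = ∑ t : T, ψ t := by
    rw [← Finset.sum_filter]
    symm
    apply Finset.sum_bij (fun (t : T) _ => (t : S))
    · intro t _
      rw [Finset.mem_filter]
      exact ⟨Finset.mem_univ _, t.2⟩
    · intro a _ b _ hab
      exact Subtype.ext hab
    · intro b hb
      rw [Finset.mem_filter] at hb
      exact ⟨⟨b, hb.2⟩, Finset.mem_univ _, rfl⟩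
    · intro t _
      rfl
  rw [h1]
  unfold classInner at hk
  simp only [map_one, mul_one] at hk
  have hT0 : (Nat.card T : ℂ) ≠ 0 := by
    rw [Nat.cast_ne_zero]; exact Nat.card_pos.ne'
  have : ∑ t : T, ψ t = (Nat.card T : ℂ) * k := by
    rw [← hk, ← mul_assoc, mul_inv_cancel₀ hT0, one_mul]
  rw [this]
  push_cast
  ring

/-- The sum of a character over the elements of maximal order is an integer. -/
theorem sum_orderOf_eq_card_int [DecidableEq S] {ψ : S → ℂ} (hψ : IsCharacter S ψ) :
    ∃ z : ℤ, ∑ t : S, (if orderOf t = Nat.card S then ψ t else 0) = z := by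
  classical
  have h1 : ∀ t : S, (if orderOf t = Nat.card S then ψ t else 0) =
      ∑ d ∈ (Nat.card S).divisors, (ArithmeticFunction.moebius d : ℂ) *
        (if t ^ (Nat.card S / d) = 1 then ψ t else 0) := by
    intro t
    have h := sum_moebius_pow_eq t
    have h2 : (∑ d ∈ (Nat.card S).divisors, (ArithmeticFunction.moebius d : ℂ) *
        (if t ^ (Nat.card S / d) = 1 then ψ t else 0)) =
        ((∑ d ∈ (Nat.card S).divisors,
          if t ^ (Nat.card S / d) = 1 then ArithmeticFunction.moebius d else 0 : ℤ) : ℂ) * ψ t := by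
      push_cast
      rw [Finset.sum_mul]
      apply Finset.sum_congr rfl
      intro d _
      split_ifs <;> simp
    rw [h2, h]
    split_ifs <;> simp
  rw [Finset.sum_congr rfl (fun t _ => h1 t), Finset.sum_comm]
  choose z hz using fun d : ℕ => sum_pow_eq_one_int hψ (Nat.card S / d)
  refine ⟨∑ d ∈ (Nat.card S).divisors, ArithmeticFunction.moebius d * z d, ?_⟩
  push_cast
  apply Finset.sum_congr rfl
  intro d _
  rw [← Finset.mul_sum, hz d]

/-- A character which takes the constant value `v` on the elements of maximal order, of which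
there is at least one, has `v` a rational integer. -/
theorem int_of_const_on_generators {ψ : S → ℂ} (hψ : IsCharacter S ψ) (v : ℂ)
    (hv : ∀ t : S, orderOf t = Nat.card S → ψ t = v) (s : S) (hs : orderOf s = Nat.card S) :
    ∃ z : ℤ, v = z := by
  classical
  obtain ⟨z, hz⟩ := sum_orderOf_eq_card_int hψ
  set N := (Finset.univ.filter (fun t : S => orderOf t = Nat.card S)).card with hN
  have hNpos : 0 < N := Finset.card_pos.mpr ⟨s, by rw [Finset.mem_filter]; exact ⟨Finset.mem_univ _, hs⟩⟩
  have h1 : ∑ t : S, (if orderOf t = Nat.card S then ψ t else 0) = (N : ℂ) * v := by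
    rw [← Finset.sum_filter, Finset.sum_congr rfl (fun t ht => hv t (Finset.mem_filter.mp ht).2),
      Finset.sum_const, nsmul_eq_mul]
  rw [h1] at hz
  -- `v` is rational and integral
  have hvint : IsIntegral ℤ v := by
    rw [← hv s hs]
    exact isIntegral_of_isCharacter hψ s
  have hN0 : (N : ℂ) ≠ 0 := Nat.cast_ne_zero.mpr hNpos.ne'
  have hvq : v = ((z : ℚ) / (N : ℚ) : ℚ) := by
    push_cast
    field_simp
    rw [mul_comm]
    exact hz
  rw [hvq] at hvint ⊢
  have h2 : IsIntegral ℤ ((z : ℚ) / (N : ℚ)) := by
    have := (isIntegral_algebraMap_iff (algebraMap ℚ ℂ).injective (R := ℤ)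
      (x := (z : ℚ) / (N : ℚ))).mp
    apply this
    simpa using hvint
  obtain ⟨w, hw⟩ := IsIntegrallyClosed.isIntegral_iff.mp h2
  refine ⟨w, ?_⟩
  rw [← hw]
  simp

end Comm

/-- Version for a group with a commutativity hypothesis. -/
theorem int_of_const_on_generators' {S : Type u} [Group S] [Fintype S]
    (hcomm : ∀ a b : S, a * b = b * a) {ψ : S → ℂ} (hψ : IsCharacter S ψ) (v : ℂ)
    (hv : ∀ t : S, orderOf t = Nat.card S → ψ t = v) (s : S) (hs : orderOf s = Nat.card S) :
    ∃ z : ℤ, v = z := by
  letI : CommGroup S := { (inferInstance : Group S) with mul_comm := hcomm }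
  exact int_of_const_on_generators hψ v hv s hs

end Cfsg.Agent.Helper24.GenSum
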