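import Mathlib
import Cfsg.Prelude.Def_Blocks
import Cfsg.Agent.Lib.Helper24.GlaubPGroup
import Cfsg.Agent.Lib.Helper24.CharComplete
import Cfsg.Agent.Lib.Helper1.SolvableBasic

/-!
# Coprime action of a solvable group: reduction along a normal `p`-subgroup
(helper24's shared library)

For `φ : A →* MulAut G` and a normal subgroup `P` of `A`, the group `A` (and `A ⧸ P`) acts on the
fixed points `fixP φ P = C_G(P)`.  When `P` is a `p`-group and `p ∤ |G|` the Glauberman
correspondence for `P` is `A`-equivariant, which gives bijections between the `A`-invariant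
irreducible characters (resp. classes) of `G` and of `C_G(P)`.
-/

set_option autoImplicit false
set_option linter.style.haveILetI false
set_option linter.unusedSectionVars false

namespace Cfsg.Agent.Helper24.Glaub

open Cfsg Cfsg.Agent.Helper24

universe u v

section Restrict

variable {G : Type u} [Group G] {A : Type v} [Group A] (φ : A →* MulAut G) (P : Subgroup A)

/-- The fixed points of the subgroup `P`. -/
abbrev fixP : Subgroup G := fixedSub (φ.comp P.subtype)

theorem mem_fixP (g : G) : g ∈ fixP φ P ↔ ∀ x ∈ P, φ x g = g := by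
  rw [mem_fixedSub]
  constructor
  · intro h x hx
    exact h ⟨x, hx⟩
  · intro h x
    exact h x.1 x.2

variable [hP : P.Normal]

theorem map_mem_fixP (a : A) {c : G} (hc : c ∈ fixP φ P) : φ a c ∈ fixP φ P := by
  rw [mem_fixP] at hc ⊢
  intro x hx
  have h1 : a⁻¹ * x * a ∈ P := by
    have := hP.conj_mem x hx a⁻¹
    simpa using this
  have h2 := hc _ h1
  calc φ x (φ a c) = φ (x * a) c := by rw [map_mul, MulAut.mul_apply]
    _ = φ (a * (a⁻¹ * x * a)) c := by congr 2; group
    _ = φ a (φ (a⁻¹ * x * a) c) := by rw [map_mul, MulAut.mul_apply]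
    _ = φ a c := by rw [h2]

/-- The action of `A` on `C_G(P)`. -/
noncomputable def resFix : A →* MulAut (fixP φ P) where
  toFun a :=
    { toFun := fun c => ⟨φ a c, map_mem_fixP φ P a c.2⟩
      invFun := fun c => ⟨φ a⁻¹ c, map_mem_fixP φ P a⁻¹ c.2⟩
      left_inv := fun c => by
        apply Subtype.ext
        show φ a⁻¹ (φ a c) = c
        rw [← MulAut.mul_apply, ← map_mul, inv_mul_cancel, map_one, MulAut.one_apply]
      right_inv := fun c => by
        apply Subtype.ext
        show φ a (φ a⁻¹ c) = c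
        rw [← MulAut.mul_apply, ← map_mul, mul_inv_cancel, map_one, MulAut.one_apply]
      map_mul' := fun c d => by
        apply Subtype.ext
        show φ a ((c : G) * d) = φ a c * φ a d
        rw [map_mul] }
  map_one' := by
    apply MulEquiv.ext
    intro c
    apply Subtype.ext
    show φ 1 c = c
    rw [map_one, MulAut.one_apply]
  map_mul' a b := by
    apply MulEquiv.ext
    intro c
    apply Subtype.ext
    show φ (a * b) c = φ a (φ b c)
    rw [map_mul, MulAut.mul_apply]

theorem resFix_apply (a : A) (c : fixP φ P) : ((resFix φ P a c : fixP φ P) : G) = φ a c := rfl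

theorem resFix_of_mem {x : A} (hx : x ∈ P) : resFix φ P x = 1 := by
  apply MulEquiv.ext
  intro c
  apply Subtype.ext
  rw [resFix_apply, MulAut.one_apply]
  exact (mem_fixP φ P c).mp c.2 x hx

/-- The action of `A ⧸ P` on `C_G(P)`. -/
noncomputable def quotFix : A ⧸ P →* MulAut (fixP φ P) :=
  QuotientGroup.lift P (resFix φ P) (fun x hx => by
    rw [MonoidHom.mem_ker]
    exact resFix_of_mem φ P hx)

theorem quotFix_mk (a : A) : quotFix φ P (a : A ⧸ P) = resFix φ P a := rfl

theorem isInv_quotFix_iff (β : fixP φ P → ℂ) :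
    IsInv (quotFix φ P) β ↔ IsInv (resFix φ P) β := by
  constructor
  · intro h a c
    exact h (a : A ⧸ P) c
  · intro h a c
    induction a using QuotientGroup.induction_on with
    | H a => exact h a c

/-- Invariance of a conjugacy class. -/
def ClsInv (K : ConjClasses G) : Prop := ∀ (a : A) (g : G), ConjClasses.mk g = K →
  ConjClasses.mk (φ a g) = K

theorem clsInv_quotFix_iff (L : ConjClasses (fixP φ P)) :
    ClsInv (quotFix φ P) L ↔ ClsInv (resFix φ P) L := by
  constructor
  · intro h a c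
    exact h (a : A ⧸ P) c
  · intro h a c
    induction a using QuotientGroup.induction_on with
    | H a => exact h a c

theorem isInv_comp_of_normal {χ : G → ℂ} (hχ : IsInv (φ.comp P.subtype) χ) (a : A) :
    IsInv (φ.comp P.subtype) (χ ∘ φ a) := by
  intro x g
  show χ (φ a (φ x.1 g)) = χ (φ a g)
  have h1 : a * x.1 * a⁻¹ ∈ P := hP.conj_mem x.1 x.2 a
  have h2 := hχ ⟨a * x.1 * a⁻¹, h1⟩ (φ a g)
  have h3 : φ a (φ x.1 g) = φ (a * x.1 * a⁻¹) (φ a g) := by
    rw [← MulAut.mul_apply, ← MulAut.mul_apply, ← map_mul, ← map_mul]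
    congr 2
    group
  rw [h3]
  exact h2

end Restrict

section PStep

variable {G : Type u} [Group G] [Fintype G] {A : Type v} [Group A] (φ : A →* MulAut G)
  (P : Subgroup A) [hP : P.Normal] [Fintype (fixP φ P)] {p : ℕ}

theorem isGl_comp (a : A) {χ : G → ℂ} {β : fixP φ P → ℂ}
    (h : IsGl (φ.comp P.subtype) p χ β) :
    IsGl (φ.comp P.subtype) p (χ ∘ φ a) (β ∘ resFix φ P a) := by
  obtain ⟨m, hm, hpm⟩ := h
  refine ⟨m, ?_, hpm⟩
  rw [← hm]
  have : (fun c : fixP φ P => (χ ∘ φ a) c) = (fun c : fixP φ P => χ c) ∘ (resFix φ P a) := rfl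
  rw [this]
  exact Cfsg.Agent.Helper5.classInner_comp_equiv (resFix φ P a : fixP φ P ≃* fixP φ P) _ _

/-- The `A`-invariant irreducible characters of `G` and of `C_G(P)` are equinumerous. -/
theorem pstep_char (hpp : p.Prime) (hPp : IsPGroup p P) (hp : ¬ p ∣ Nat.card G) :
    Nat.card {χ : IrrCharacter G // IsInv φ (χ : G → ℂ)} =
      Nat.card {β : IrrCharacter (fixP φ P) // IsInv (resFix φ P) (β : fixP φ P → ℂ)} := by
  have hres : ∀ χ : G → ℂ, IsInv φ χ → IsInv (φ.comp P.subtype) χ := fun χ h x g => h x.1 g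
  have hex : ∀ χ : {χ : IrrCharacter G // IsInv φ (χ : G → ℂ)},
      ∃ β : {β : IrrCharacter (fixP φ P) // IsInv (resFix φ P) (β : fixP φ P → ℂ)},
        IsGl (φ.comp P.subtype) p (χ.1 : G → ℂ) (β.1 : fixP φ P → ℂ) := by
    intro χ
    obtain ⟨β, hβ, huniq⟩ := glauberman_existsUnique (φ.comp P.subtype) hpp hPp hp χ.1
      (hres _ χ.2)
    refine ⟨⟨β, ?_⟩, hβ⟩
    intro a c
    have h1 := isGl_comp φ P a hβ
    have h2 : (χ.1 : G → ℂ) ∘ φ a = (χ.1 : G → ℂ) := funext (fun g => χ.2 a g)
    rw [h2] at h1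
    have h3 := huniq ⟨(β : fixP φ P → ℂ) ∘ resFix φ P a,
      Cfsg.Agent.Helper5.isIrrCharacter_comp_equiv (resFix φ P a : fixP φ P ≃* fixP φ P) β.2⟩ h1
    exact congrFun (congrArg Subtype.val h3) c
  choose f hf using hex
  apply Nat.card_congr (Equiv.ofBijective f ⟨?_, ?_⟩)
  · intro χ χ' h
    apply Subtype.ext
    have h' := hf χ'
    rw [← h] at h'
    exact glauberman_inj (φ.comp P.subtype) hpp hPp hp χ.1 χ'.1 (hres _ χ.2) (hres _ χ'.2)
      (f χ).1 (hf χ) h'
  · intro β
    obtain ⟨χ, hχ, hgl⟩ := glauberman_surj (φ.comp P.subtype) hpp hPp hp β.1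
    have hχA : IsInv φ (χ : G → ℂ) := by
      intro a g
      have h1 := isGl_comp φ P a hgl
      have h2 : (β.1 : fixP φ P → ℂ) ∘ resFix φ P a = (β.1 : fixP φ P → ℂ) :=
        funext (fun c => β.2 a c)
      rw [h2] at h1
      have h3 := glauberman_inj (φ.comp P.subtype) hpp hPp hp
        ⟨(χ : G → ℂ) ∘ φ a, Cfsg.Agent.Helper5.isIrrCharacter_comp_equiv (φ a : G ≃* G) χ.2⟩ χ
        (isInv_comp_of_normal φ P hχ a) hχ β.1 h1 hgl
      exact congrFun (congrArg Subtype.val h3) g
    refine ⟨⟨χ, hχA⟩, ?_⟩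
    apply Subtype.ext
    obtain ⟨β₀, hβ₀, huniq⟩ := glauberman_existsUnique (φ.comp P.subtype) hpp hPp hp χ hχ
    rw [huniq _ (hf ⟨χ, hχA⟩), huniq _ hgl]

theorem isConj_map_aut (a : A) {g h : G} (hc : IsConj g h) : IsConj (φ a g) (φ a h) :=
  (φ a).toMonoidHom.map_isConj hc

/-- An invariant class of `G` meets the fixed points of a `p`-group of operators. -/
theorem exists_fixed_in_class [Fact p.Prime] (hPp : IsPGroup p P) (hp : ¬ p ∣ Nat.card G)
    (K : ConjClasses G) (hK : ClsInv (φ.comp P.subtype) K) :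
    ∃ c : fixP φ P, ConjClasses.mk (c : G) = K := by
  classical
  obtain ⟨g, rfl⟩ := ConjClasses.exists_rep K
  letI := actOn (φ.comp P.subtype)
  have hinv : ∀ (x : P) (h : G), IsConj g ((φ.comp P.subtype) x h) ↔ IsConj g h := by
    intro x h
    rw [← ConjClasses.mk_eq_mk_iff_isConj, ← ConjClasses.mk_eq_mk_iff_isConj]
    constructor
    · intro h1
      have h2 := hK x⁻¹ _ h1.symm
      rw [← MulAut.mul_apply, ← map_mul, inv_mul_cancel, map_one, MulAut.one_apply] at h2
      exact h2.symm
    · intro h1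
      exact (hK x h h1.symm).symm
  have hmod := card_filter_modEq_fixedPoints (A := P) (X := G) hPp (fun h => IsConj g h) hinv
  have hnd : ¬ p ∣ (Finset.univ.filter (fun h : G => IsConj g h)).card := by
    rw [card_filter_isConj]
    intro hd
    exact hp (hd.trans (Subgroup.index_dvd_card _))
  have hne : ((Finset.univ.filter (· ∈ MulAction.fixedPoints P G)).filter
      (fun h : G => IsConj g h)).card ≠ 0 := by
    intro h0
    apply hnd
    rw [h0] at hmod
    exact (Nat.modEq_zero_iff_dvd).mp hmod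
  obtain ⟨c, hc⟩ := Finset.card_pos.mp (Nat.pos_of_ne_zero hne)
  rw [Finset.mem_filter, Finset.mem_filter] at hc
  exact ⟨⟨c, hc.1.2⟩, (ConjClasses.mk_eq_mk_iff_isConj.mpr hc.2).symm⟩

theorem mk_fix_inj [Fact p.Prime] (hPp : IsPGroup p P) (hp : ¬ p ∣ Nat.card G)
    {c c' : fixP φ P} (h : ConjClasses.mk (c : G) = ConjClasses.mk (c' : G)) :
    ConjClasses.mk c = ConjClasses.mk c' := by
  rw [ConjClasses.mk_eq_mk_iff_isConj] at h ⊢
  obtain ⟨z, hz, hzc⟩ := fusion (φ.comp P.subtype) hPp hp c.2 c'.2 h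
  exact isConj_iff.2 ⟨⟨z, hz⟩, Subtype.ext hzc⟩

/-- The `A`-invariant classes of `G` and of `C_G(P)` are equinumerous. -/
theorem pstep_class (hpp : p.Prime) (hPp : IsPGroup p P) (hp : ¬ p ∣ Nat.card G) :
    Nat.card {K : ConjClasses G // ClsInv φ K} =
      Nat.card {L : ConjClasses (fixP φ P) // ClsInv (resFix φ P) L} := by
  haveI : Fact p.Prime := ⟨hpp⟩
  symm
  have hwd : ∀ L : {L : ConjClasses (fixP φ P) // ClsInv (resFix φ P) L},
      ClsInv φ (ConjClasses.map (fixP φ P).subtype L.1) := by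
    rintro ⟨L, hL⟩
    obtain ⟨c, rfl⟩ := ConjClasses.exists_rep L
    intro a g hg
    have h1 : IsConj g (c : G) := ConjClasses.mk_eq_mk_iff_isConj.mp hg
    have h2 : IsConj (φ a g) (φ a c) := isConj_map_aut φ a h1
    have h3 := hL a c rfl
    have h4 : ConjClasses.mk (φ a c) = ConjClasses.mk (c : G) := by
      have := congrArg (ConjClasses.map (fixP φ P).subtype) h3
      exact this
    rw [ConjClasses.mk_eq_mk_iff_isConj.mpr h2, h4]
    rfl
  apply Nat.card_congr (Equiv.ofBijective
    (fun L => (⟨ConjClasses.map (fixP φ P).subtype L.1, hwd L⟩ : {K : ConjClasses G // ClsInv φ K}))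
    ⟨?_, ?_⟩)
  · rintro ⟨L, hL⟩ ⟨L', hL'⟩ h
    obtain ⟨c, rfl⟩ := ConjClasses.exists_rep L
    obtain ⟨c', rfl⟩ := ConjClasses.exists_rep L'
    apply Subtype.ext
    have h1 := congrArg Subtype.val h
    exact mk_fix_inj φ P hPp hp h1
  · rintro ⟨K, hK⟩
    have hKP : ClsInv (φ.comp P.subtype) K := fun x g hg => hK x.1 g hg
    obtain ⟨c, hc⟩ := exists_fixed_in_class φ P hPp hp K hKP
    have hL : ClsInv (resFix φ P) (ConjClasses.mk c) := by
      intro a c₀ hc₀
      apply mk_fix_inj φ P hPp hp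
      have h1 : ConjClasses.mk (c₀ : G) = K := by
        rw [← hc]
        exact congrArg (ConjClasses.map (fixP φ P).subtype) hc₀
      have h2 := hK a _ h1
      rw [resFix_apply, h2, hc]
    refine ⟨⟨ConjClasses.mk c, hL⟩, ?_⟩
    apply Subtype.ext
    exact hc

end PStep

section Count

theorem not_dvd_card_of_coprime {A : Type v} [Group A] [Finite A] (P : Subgroup A) {p : ℕ}
    (hpp : p.Prime) (hPne : P ≠ ⊥) (hPp : IsPGroup p P) {n : ℕ}
    (hcop : (Nat.card A).Coprime n) : ¬ p ∣ n := by
  haveI : Fact p.Prime := ⟨hpp⟩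
  intro hd
  obtain ⟨k, hk⟩ := hPp.exists_card_eq
  have hk0 : k ≠ 0 := by
    rintro rfl
    apply hPne
    rw [pow_zero] at hk
    exact Subgroup.card_eq_one.mp hk
  have h1 : p ∣ Nat.card P := hk ▸ dvd_pow_self p hk0
  have h2 : p ∣ Nat.card A := h1.trans (Subgroup.card_subgroup_dvd_card P)
  have h3 := Nat.dvd_gcd h2 hd
  rw [Nat.Coprime.gcd_eq_one hcop] at h3
  exact hpp.one_lt.ne' (Nat.dvd_one.mp h3)

theorem card_quotient_lt {A : Type v} [Group A] [Finite A] (P : Subgroup A) [P.Normal]
    (hPne : P ≠ ⊥) : Nat.card (A ⧸ P) < Nat.card A := by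
  have h1 := Subgroup.card_eq_card_quotient_mul_card_subgroup P
  have h2 : 1 < Nat.card P := by
    have h3 : Nat.card P ≠ 1 := fun h => hPne (Subgroup.card_eq_one.mp h)
    have h4 : 0 < Nat.card P := Nat.card_pos
    omega
  have h5 : 0 < Nat.card (A ⧸ P) := Nat.card_pos
  rw [h1]
  nlinarith

/-- **Counting invariant characters and classes** under a coprime solvable group of operators. -/
theorem count_main : ∀ (n : ℕ) (A : Type v) [Group A] [Finite A] [Group.IsSolvable A],
    Nat.card A = n → ∀ (G : Type u) [Group G] [Finite G] (φ : A →* MulAut G),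
    (Nat.card A).Coprime (Nat.card G) →
    Nat.card {χ : IrrCharacter G // IsInv φ (χ : G → ℂ)} =
      Nat.card {K : ConjClasses G // ClsInv φ K} := by
  intro n
  induction n using Nat.strong_induction_on with
  | _ n ih =>
    intro A _ _ _ hn G _ _ φ hcop
    letI : Fintype G := Fintype.ofFinite G
    by_cases h1 : Nat.card A = 1
    · haveI : Subsingleton A := (Nat.card_eq_one_iff_unique.mp h1).1
      have hφ : ∀ a : A, φ a = 1 := by
        intro a
        rw [Subsingleton.elim a 1, map_one]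
      have hall : ∀ χ : IrrCharacter G, IsInv φ (χ : G → ℂ) := by
        intro χ a g
        rw [hφ a, MulAut.one_apply]
      have hall' : ∀ K : ConjClasses G, ClsInv φ K := by
        intro K a g hg
        rw [hφ a, MulAut.one_apply]
        exact hg
      rw [Nat.card_congr (Equiv.subtypeUnivEquiv hall), Nat.card_congr (Equiv.subtypeUnivEquiv hall')]
      letI := irrFintype (G := G)
      exact card_irr_eq_card_conjClasses
    · haveI : Nontrivial A := by
        rw [← Finite.one_lt_card_iff_nontrivial]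
        have : 0 < Nat.card A := Nat.card_pos
        omega
      obtain ⟨p, hpp, P, hPn, hPne, hPp⟩ :=
        Cfsg.Agent.Helper1.exists_normal_pSubgroup_of_solvable A
      haveI := hPn
      letI : Fintype (fixP φ P) := Fintype.ofFinite _
      have hp : ¬ p ∣ Nat.card G := not_dvd_card_of_coprime P hpp hPne hPp hcop
      rw [pstep_char φ P hpp hPp hp, pstep_class φ P hpp hPp hp]
      have hlt : Nat.card (A ⧸ P) < n := hn ▸ card_quotient_lt P hPne
      have hcop' : (Nat.card (A ⧸ P)).Coprime (Nat.card (fixP φ P)) := by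
        apply Nat.Coprime.coprime_dvd_left _
          (Nat.Coprime.coprime_dvd_right (Subgroup.card_subgroup_dvd_card _) hcop)
        rw [Subgroup.card_eq_card_quotient_mul_card_subgroup P]
        exact Dvd.intro _ rfl
      have h2 := ih (Nat.card (A ⧸ P)) hlt (A ⧸ P) rfl (fixP φ P) (quotFix φ P) hcop'
      rw [Nat.card_congr (Equiv.subtypeEquivRight
        (fun β : IrrCharacter (fixP φ P) => (isInv_quotFix_iff φ P (β : fixP φ P → ℂ)).symm)),
        Nat.card_congr (Equiv.subtypeEquivRight
        (fun L : ConjClasses (fixP φ P) => (clsInv_quotFix_iff φ P L).symm))]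
      exact h2

/-- The number of invariant irreducible characters equals the number of invariant classes. -/
theorem count_solvable {A : Type v} [Group A] [Finite A] [Group.IsSolvable A] {G : Type u}
    [Group G] [Finite G] (φ : A →* MulAut G) (hcop : (Nat.card A).Coprime (Nat.card G)) :
    Nat.card {χ : IrrCharacter G // IsInv φ (χ : G → ℂ)} =
      Nat.card {K : ConjClasses G // ClsInv φ K} :=
  count_main _ A rfl G φ hcop

end Count

end Cfsg.Agent.Helper24.Glaub
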