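import Mathlib
import Cfsg.Prelude.Def_Blocks
import Cfsg.Agent.Lib.Helper24.GlaubChain

/-!
# Counting invariant characters: `|Irr_A(G)| = |Irr(C_G(A))|` (helper24's shared library)
-/

set_option autoImplicit false
set_option linter.style.haveILetI false
set_option linter.unusedSectionVars false

namespace Cfsg.Agent.Helper24.Glaub

open Cfsg Cfsg.Agent.Helper24

universe u v

/-- Isomorphic groups have the same number of irreducible characters. -/
theorem card_irr_congr {H H' : Type u} [Group H] [Group H'] (e : H ≃* H') :
    Nat.card (IrrCharacter H) = Nat.card (IrrCharacter H') := by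
  apply Nat.card_congr
  refine ⟨fun β => ⟨(β : H → ℂ) ∘ e.symm, Cfsg.Agent.Helper5.isIrrCharacter_comp_equiv e.symm β.2⟩,
    fun β => ⟨(β : H' → ℂ) ∘ e, Cfsg.Agent.Helper5.isIrrCharacter_comp_equiv e β.2⟩, ?_, ?_⟩
  · intro β
    apply Subtype.ext
    funext h
    show (β : H → ℂ) (e.symm (e h)) = _
    rw [MulEquiv.symm_apply_apply]
  · intro β
    apply Subtype.ext
    funext h
    show (β : H' → ℂ) (e (e.symm h)) = _
    rw [MulEquiv.apply_symm_apply]

section

variable {G : Type u} [Group G] {A : Type v} [Group A] (φ : A →* MulAut G) (P : Subgroup A)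
  [hP : P.Normal]

/-- The fixed points of `A ⧸ P` on `C_G(P)` are the fixed points of `A` on `G`. -/
noncomputable def fixedQuotEquiv : fixedSub (quotFix φ P) ≃* fixedSub φ where
  toFun c := ⟨c.1.1, fun a => by
    have := congrArg Subtype.val (c.2 (a : A ⧸ P))
    rw [quotFix_mk, resFix_apply] at this
    exact this⟩
  invFun c := ⟨⟨c.1, (mem_fixP φ P c.1).mpr (fun x _ => c.2 x)⟩, fun a => by
    induction a using QuotientGroup.induction_on with
    | H a =>
      apply Subtype.ext
      rw [quotFix_mk, resFix_apply]
      exact c.2 a⟩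
  left_inv c := rfl
  right_inv c := rfl
  map_mul' a b := rfl

end

/-- **Counting**: under a coprime solvable group of operators, the number of invariant irreducible
characters is the number of irreducible characters of the fixed-point subgroup. -/
theorem count_fixed_main : ∀ (n : ℕ) (A : Type v) [Group A] [Finite A] [Group.IsSolvable A],
    Nat.card A = n → ∀ (G : Type u) [Group G] [Finite G] (φ : A →* MulAut G),
    (Nat.card A).Coprime (Nat.card G) →
    Nat.card {χ : IrrCharacter G // IsInv φ (χ : G → ℂ)} =
      Nat.card (IrrCharacter (fixedSub φ)) := by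
  intro n
  induction n using Nat.strong_induction_on with
  | _ n ih =>
    intro A _ _ _ hn G _ _ φ hcop
    letI : Fintype G := Fintype.ofFinite G
    by_cases h1 : Nat.card A = 1
    · haveI : Subsingleton A := (Nat.card_eq_one_iff_unique.mp h1).1
      have hφ : ∀ a : A, φ a = 1 := by
        intro a
        rw [Subsingleton.elim a 1, map_one]
      have hall : ∀ χ : IrrCharacter G, IsInv φ (χ : G → ℂ) := by
        intro χ a g
        rw [hφ a, MulAut.one_apply]
      rw [Nat.card_congr (Equiv.subtypeUnivEquiv hall)]
      have htop : fixedSub φ = ⊤ := by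
        rw [eq_top_iff]
        intro g _ a
        rw [hφ a, MulAut.one_apply]
      exact card_irr_congr ((MulEquiv.subgroupCongr htop).trans Subgroup.topEquiv).symm
    · haveI : Nontrivial A := by
        rw [← Finite.one_lt_card_iff_nontrivial]
        have : 0 < Nat.card A := Nat.card_pos
        omega
      obtain ⟨p, hpp, P, hPn, hPne, hPp⟩ :=
        Cfsg.Agent.Helper1.exists_normal_pSubgroup_of_solvable A
      haveI := hPn
      letI : Fintype (fixP φ P) := Fintype.ofFinite _
      have hp : ¬ p ∣ Nat.card G := not_dvd_card_of_coprime P hpp hPne hPp hcop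
      rw [pstep_char φ P hpp hPp hp]
      have hlt : Nat.card (A ⧸ P) < n := hn ▸ card_quotient_lt P hPne
      have hcop' : (Nat.card (A ⧸ P)).Coprime (Nat.card (fixP φ P)) := by
        apply Nat.Coprime.coprime_dvd_left _
          (Nat.Coprime.coprime_dvd_right (Subgroup.card_subgroup_dvd_card _) hcop)
        rw [Subgroup.card_eq_card_quotient_mul_card_subgroup P]
        exact Dvd.intro _ rfl
      have h2 := ih (Nat.card (A ⧸ P)) hlt (A ⧸ P) rfl (fixP φ P) (quotFix φ P) hcop'
      rw [Nat.card_congr (Equiv.subtypeEquivRight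
        (fun β : IrrCharacter (fixP φ P) => (isInv_quotFix_iff φ P (β : fixP φ P → ℂ)).symm)), h2]
      exact card_irr_congr (fixedQuotEquiv φ P)

theorem count_fixed {A : Type v} [Group A] [Finite A] [Group.IsSolvable A] {G : Type u}
    [Group G] [Finite G] (φ : A →* MulAut G) (hcop : (Nat.card A).Coprime (Nat.card G)) :
    Nat.card {χ : IrrCharacter G // IsInv φ (χ : G → ℂ)} =
      Nat.card (IrrCharacter (fixedSub φ)) :=
  count_fixed_main _ A rfl G φ hcop

end Cfsg.Agent.Helper24.Glaub
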