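import Mathlib
import Cfsg.Prelude.Def_Characters
import Cfsg.Agent.Lib.Helper1.Coprime

/-!
# The coset `G s` of a cyclic coprime complement (helper24's shared library)

`Γ = G S` with `G` normal, `S = ⟨s⟩` cyclic and `(|G|, |S|) = 1`, `C = C_G(S)`: every element of
`G s` is `G`-conjugate to an element of `C s`, and sums of class functions over `G s` reduce to
sums over `C s`.
-/

set_option autoImplicit false
set_option linter.style.haveILetI false
set_option linter.unusedSectionVars false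

namespace Cfsg.Agent.Helper24.GlaubCyc

open Cfsg
open scoped Pointwise

universe u

section

variable {Γ : Type u} [Group Γ] [Finite Γ] (G S : Subgroup Γ)

theorem inf_eq_bot (hcop : (Nat.card G).Coprime (Nat.card S)) : G ⊓ S = ⊥ :=
  disjoint_iff.mp (Subgroup.disjoint_of_coprime_natCard hcop)

theorem exists_crt (hcop : (Nat.card G).Coprime (Nat.card S)) :
    ∃ k : ℕ, k ≡ 1 [MOD Nat.card S] ∧ k ≡ 0 [MOD Nat.card G] := by
  have h := Nat.chineseRemainder hcop.symm 1 0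
  exact ⟨h.1, h.2.1, h.2.2⟩

theorem pow_eq_of_modEq_one {x : Γ} {H : Subgroup Γ} (hx : x ∈ H) {k : ℕ}
    (hk : k ≡ 1 [MOD Nat.card H]) : x ^ k = x := by
  have h1 : (⟨x, hx⟩ : H) ^ k = ⟨x, hx⟩ := by
    have h3 : k % Nat.card H = 1 % Nat.card H := hk
    rw [← pow_mod_natCard, h3, pow_mod_natCard, pow_one]
  have := congrArg Subtype.val h1
  simpa using this

theorem pow_eq_one_of_modEq_zero {x : Γ} {H : Subgroup Γ} (hx : x ∈ H) {k : ℕ}
    (hk : k ≡ 0 [MOD Nat.card H]) : x ^ k = 1 := by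
  have h1 : (⟨x, hx⟩ : H) ^ k = 1 := by
    have h3 : k % Nat.card H = 0 % Nat.card H := hk
    rw [← pow_mod_natCard, h3, pow_mod_natCard, pow_zero]
  have := congrArg Subtype.val h1
  simpa using this

theorem mul_pow_eq_right {c s : Γ} (hc : c ∈ G) (hs : s ∈ S) (hcs : Commute c s) {k : ℕ}
    (hk1 : k ≡ 1 [MOD Nat.card S]) (hk0 : k ≡ 0 [MOD Nat.card G]) : (c * s) ^ k = s := by
  rw [hcs.mul_pow, pow_eq_one_of_modEq_zero hc hk0, pow_eq_of_modEq_one hs hk1, one_mul]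

/-- Conjugacy of `c s` and `c' s` is conjugacy of the parts. -/
theorem conj_parts (hcop : (Nat.card G).Coprime (Nat.card S)) {g c c' s : Γ} (hc : c ∈ G)
    (hc' : c' ∈ G) (hs : s ∈ S) (hcs : Commute c s) (hcs' : Commute c' s)
    (h : g * (c * s) * g⁻¹ = c' * s) : g * s * g⁻¹ = s ∧ g * c * g⁻¹ = c' := by
  obtain ⟨k, hk1, hk0⟩ := exists_crt G S hcop
  have h1 : g * s * g⁻¹ = s := by
    have e1 : (g * (c * s) * g⁻¹) ^ k = (c' * s) ^ k := by rw [h]
    rw [conj_pow, mul_pow_eq_right G S hc hs hcs hk1 hk0,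
      mul_pow_eq_right G S hc' hs hcs' hk1 hk0] at e1
    exact e1
  refine ⟨h1, ?_⟩
  have e2 : g * c * g⁻¹ = (g * (c * s) * g⁻¹) * (g * s * g⁻¹)⁻¹ := by group
  rw [e2, h, h1]
  group

variable [hG : G.Normal]

theorem mem_of_mk_eq {x y : Γ} (h : (QuotientGroup.mk x : Γ ⧸ G) = QuotientGroup.mk y) :
    x * y⁻¹ ∈ G := by
  have : y⁻¹ * x ∈ G := QuotientGroup.eq.mp h.symm
  have h2 := hG.conj_mem _ this y
  have e : y * (y⁻¹ * x) * y⁻¹ = x * y⁻¹ := by group
  rwa [e] at h2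

/-- Every element of `G s` is `G`-conjugate to an element of `C s`. -/
theorem exists_conj_mem_coset_gen (hcop : (Nat.card G).Coprime (Nat.card S))
    {s : Γ} (hs : Subgroup.zpowers s = S) (g : Γ) (hg : g ∈ G) :
    ∃ h ∈ G, ∃ c ∈ G ⊓ Subgroup.centralizer (S : Set Γ), h * (g * s) * h⁻¹ = c * s := by
  have hsS : s ∈ S := hs ▸ Subgroup.mem_zpowers s
  obtain ⟨k, hk1, hk0⟩ := exists_crt G S hcop
  set n := Nat.card S with hn
  set x := g * s with hx
  set y := x ^ k with hy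
  let π : Γ →* Γ ⧸ G := QuotientGroup.mk' G
  have hπg : ∀ a ∈ G, π a = 1 := fun a ha => (QuotientGroup.eq_one_iff a).mpr ha
  have hπx : π x = π s := by rw [hx, map_mul, hπg g hg, one_mul]
  have hsk : s ^ k = s := pow_eq_of_modEq_one hsS hk1
  have hπy : π y = π s := by rw [hy, map_pow, hπx, ← map_pow, hsk]
  have hsn : s ^ n = 1 := by
    have h1 : (⟨s, hsS⟩ : S) ^ Nat.card S = 1 := pow_card_eq_one'
    have h2 := congrArg Subtype.val h1
    rw [Subgroup.coe_pow, Subgroup.coe_one] at h2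
    exact h2
  have hxnG : x ^ n ∈ G := by
    have : π (x ^ n) = 1 := by rw [map_pow, hπx, ← map_pow, hsn, map_one]
    exact (QuotientGroup.eq_one_iff _).mp this
  have hyn : y ^ n = 1 := by
    rw [hy, ← pow_mul, mul_comm, pow_mul]
    exact pow_eq_one_of_modEq_zero hxnG hk0
  -- the order of `s`
  have hos : orderOf s = n := by
    rw [hn, ← hs, Nat.card_zpowers]
  -- the order of `π s`
  have hoπs : orderOf (π s) = n := by
    apply Nat.dvd_antisymm
    · apply orderOf_dvd_of_pow_eq_one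
      rw [← map_pow, hsn, map_one]
    · rw [← hos]
      apply orderOf_dvd_of_pow_eq_one
      have h1 : s ^ orderOf (π s) ∈ G := by
        have : π (s ^ orderOf (π s)) = 1 := by rw [map_pow, pow_orderOf_eq_one]
        exact (QuotientGroup.eq_one_iff _).mp this
      have h2 : s ^ orderOf (π s) ∈ G ⊓ S := ⟨h1, S.pow_mem hsS _⟩
      rw [inf_eq_bot G S hcop, Subgroup.mem_bot] at h2
      exact h2
  have hoy : orderOf y = n := by
    apply Nat.dvd_antisymm
    · exact orderOf_dvd_of_pow_eq_one hyn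
    · rw [← hoπs, ← hπy]
      exact orderOf_map_dvd π y
  -- Schur–Zassenhaus conjugacy
  have hSN : S ≤ Subgroup.normalizer (G : Set Γ) := by
    rw [Subgroup.normalizer_eq_top]
    exact le_top
  haveI : IsCyclic S := by
    rw [← hs]
    infer_instance
  haveI : Group.IsSolvable S := by
    letI : CommGroup S := IsCyclic.commGroup
    infer_instance
  obtain ⟨h, hhG, hconj⟩ := Cfsg.Agent.Helper1.sz_internal G S (Subgroup.zpowers y) hSN hcop.symm
    (Or.inl inferInstance) (by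
      rw [Subgroup.zpowers_le, hy]
      apply Subgroup.pow_mem
      rw [hx]
      exact Subgroup.mul_mem _ (Subgroup.mem_sup_left hg) (Subgroup.mem_sup_right hsS))
    (by rw [Nat.card_zpowers, hoy])
  have hyS : h * y * h⁻¹ ∈ S := by
    rw [← hconj]
    exact Subgroup.smul_mem_pointwise_smul _ _ _ (Subgroup.mem_zpowers y)
  have hys : h * y * h⁻¹ = s := by
    have h1 : π (h * y * h⁻¹) = π s := by
      rw [map_mul, map_mul, map_inv, hπg h hhG, hπy]
      simp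
    have h2 : h * y * h⁻¹ * s⁻¹ ∈ G := mem_of_mk_eq G h1
    have h3 : h * y * h⁻¹ * s⁻¹ ∈ G ⊓ S := ⟨h2, S.mul_mem hyS (S.inv_mem hsS)⟩
    rw [inf_eq_bot G S hcop, Subgroup.mem_bot] at h3
    exact mul_inv_eq_one.mp h3
  -- the conjugate of `x`
  set x' := h * x * h⁻¹ with hx'
  have hx'k : x' ^ k = s := by rw [hx', conj_pow, ← hy, hys]
  have hcomm : Commute x' s := by
    rw [← hx'k]
    exact Commute.pow_right (Commute.refl x') k
  have hπx' : π x' = π s := by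
    rw [hx', map_mul, map_mul, map_inv, hπg h hhG, hπx]
    simp
  refine ⟨h, hhG, x' * s⁻¹, ⟨mem_of_mk_eq G hπx', ?_⟩, by rw [hx']; group⟩
  show x' * s⁻¹ ∈ Subgroup.centralizer (S : Set Γ)
  rw [Subgroup.mem_centralizer_iff]
  intro t ht
  rw [SetLike.mem_coe, ← hs, Subgroup.mem_zpowers_iff] at ht
  obtain ⟨j, rfl⟩ := ht
  have h1 : Commute (x' * s⁻¹) s := hcomm.mul_left (Commute.refl s).inv_left
  exact ((h1.zpow_right j).eq).symm

theorem exists_conj_mem_coset (hcop : (Nat.card G).Coprime (Nat.card S)) (htop : G ⊔ S = ⊤)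
    {s : Γ} (hs : Subgroup.zpowers s = S) (g : Γ) (hg : g ∈ G) :
    ∃ h ∈ G, ∃ c ∈ G ⊓ Subgroup.centralizer (S : Set Γ), h * (g * s) * h⁻¹ = c * s :=
  exists_conj_mem_coset_gen G S hcop hs g hg

/-- The number of pairs `(h, c) ∈ G × C` with `h (c s) h⁻¹ = g s` is `|C|`. -/
theorem card_fiber_gen [Fintype G] (C : Subgroup Γ) [Fintype C] [DecidableEq Γ]
    (hC : C = G ⊓ Subgroup.centralizer (S : Set Γ))
    (hcop : (Nat.card G).Coprime (Nat.card S))
    {s : Γ} (hs : Subgroup.zpowers s = S) (g : G) :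
    (Finset.univ.filter (fun p : G × C =>
      (p.1 : Γ) * ((p.2 : Γ) * s) * (p.1 : Γ)⁻¹ = (g : Γ) * s)).card = Fintype.card C := by
  have hsS : s ∈ S := hs ▸ Subgroup.mem_zpowers s
  have hCG : ∀ c : C, (c : Γ) ∈ G := fun c => by
    have : (c : Γ) ∈ G ⊓ Subgroup.centralizer (S : Set Γ) := hC ▸ c.2
    exact this.1
  have hCs : ∀ c : C, Commute (c : Γ) s := fun c => by
    have : (c : Γ) ∈ G ⊓ Subgroup.centralizer (S : Set Γ) := hC ▸ c.2
    exact ((Subgroup.mem_centralizer_iff.mp this.2) s hsS).symm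
  obtain ⟨h₀, hh₀, c₀, hc₀, hconj⟩ := exists_conj_mem_coset_gen G S hcop hs (g : Γ) g.2
  have hc₀C : c₀ ∈ C := hC ▸ hc₀
  have hc₀s : Commute c₀ s := ((Subgroup.mem_centralizer_iff.mp hc₀.2) s hsS).symm
  -- `h₀ (g s) h₀⁻¹ = c₀ s`, so `(h₀⁻¹, c₀)` lies in the fibre
  symm
  rw [← Finset.card_univ]
  apply Finset.card_bij (fun (z : C) _ => ((⟨h₀⁻¹ * (z : Γ)⁻¹, G.mul_mem (G.inv_mem hh₀)
      (G.inv_mem (hCG z))⟩ : G), (⟨(z : Γ) * c₀ * (z : Γ)⁻¹,
        C.mul_mem (C.mul_mem z.2 hc₀C) (C.inv_mem z.2)⟩ : C)))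
  · intro z _
    rw [Finset.mem_filter]
    refine ⟨Finset.mem_univ _, ?_⟩
    show h₀⁻¹ * (z : Γ)⁻¹ * ((z : Γ) * c₀ * (z : Γ)⁻¹ * s) * (h₀⁻¹ * (z : Γ)⁻¹)⁻¹ = (g : Γ) * s
    have e1 : (z : Γ)⁻¹ * s * (z : Γ) = s := by
      have := (hCs z).eq
      calc (z : Γ)⁻¹ * s * (z : Γ) = (z : Γ)⁻¹ * (s * (z : Γ)) := by group
        _ = (z : Γ)⁻¹ * ((z : Γ) * s) := by rw [this]
        _ = s := by group
    calc h₀⁻¹ * (z : Γ)⁻¹ * ((z : Γ) * c₀ * (z : Γ)⁻¹ * s) * (h₀⁻¹ * (z : Γ)⁻¹)⁻¹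
        = h₀⁻¹ * (c₀ * ((z : Γ)⁻¹ * s * (z : Γ))) * h₀ := by group
      _ = h₀⁻¹ * (c₀ * s) * h₀ := by rw [e1]
      _ = h₀⁻¹ * (h₀ * ((g : Γ) * s) * h₀⁻¹) * h₀ := by rw [hconj]
      _ = (g : Γ) * s := by group
  · intro z _ z' _ hzz'
    have h1 := congrArg (fun p : G × C => (p.1 : Γ)) hzz'
    simp only at h1
    have h2 : (z : Γ)⁻¹ = (z' : Γ)⁻¹ := mul_left_cancel h1
    exact Subtype.ext (inv_injective h2)
  · rintro ⟨h, c⟩ hp
    rw [Finset.mem_filter] at hp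
    have hp2 : (h : Γ) * ((c : Γ) * s) * (h : Γ)⁻¹ = (g : Γ) * s := hp.2
    -- `w = h₀ h` conjugates `c s` to `c₀ s`
    set w : Γ := h₀ * (h : Γ) with hw
    have hwconj : w * ((c : Γ) * s) * w⁻¹ = c₀ * s := by
      rw [← hconj, ← hp2, hw]
      group
    obtain ⟨hws, hwc⟩ := conj_parts G S hcop (hCG c) hc₀.1 hsS (hCs c) hc₀s hwconj
    have hwG : w ∈ G := G.mul_mem hh₀ h.2
    have hwC : w ∈ C := by
      rw [hC]
      refine ⟨hwG, ?_⟩
      show w ∈ Subgroup.centralizer (S : Set Γ)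
      rw [Subgroup.mem_centralizer_iff]
      intro t ht
      rw [SetLike.mem_coe, ← hs, Subgroup.mem_zpowers_iff] at ht
      obtain ⟨j, rfl⟩ := ht
      have h1 : Commute w s := by
        show w * s = s * w
        calc w * s = w * s * w⁻¹ * w := by group
          _ = s * w := by rw [hws]
      exact ((h1.zpow_right j).eq).symm
    refine ⟨⟨w⁻¹, C.inv_mem hwC⟩, Finset.mem_univ _, ?_⟩
    apply Prod.ext
    · apply Subtype.ext
      show h₀⁻¹ * (w⁻¹)⁻¹ = (h : Γ)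
      rw [hw]; group
    · apply Subtype.ext
      show w⁻¹ * c₀ * (w⁻¹)⁻¹ = (c : Γ)
      rw [← hwc]; group

/-- Sums of class functions over the coset `G s` reduce to sums over `C s`. -/
theorem coset_sum_eq_gen [Fintype G] (C : Subgroup Γ) [Fintype C]
    (hC : C = G ⊓ Subgroup.centralizer (S : Set Γ))
    (hcop : (Nat.card G).Coprime (Nat.card S))
    {s : Γ} (hs : Subgroup.zpowers s = S) (F : Γ → ℂ) (hF : IsClassFunction Γ F) :
    (Nat.card C : ℂ) * ∑ g : G, F ((g : Γ) * s) =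
      (Nat.card G : ℂ) * ∑ c : C, F ((c : Γ) * s) := by
  classical
  have hCG : ∀ c : C, (c : Γ) ∈ G := fun c => by
    have : (c : Γ) ∈ G ⊓ Subgroup.centralizer (S : Set Γ) := hC ▸ c.2
    exact this.1
  have h1 : ∀ g : G, (Nat.card C : ℂ) * F ((g : Γ) * s) =
      ∑ p : G × C, if (p.1 : Γ) * ((p.2 : Γ) * s) * (p.1 : Γ)⁻¹ = (g : Γ) * s
        then F ((p.2 : Γ) * s) else 0 := by
    intro g
    rw [← Finset.sum_filter]
    have h2 : ∀ p ∈ Finset.univ.filter (fun p : G × C =>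
        (p.1 : Γ) * ((p.2 : Γ) * s) * (p.1 : Γ)⁻¹ = (g : Γ) * s),
        F ((p.2 : Γ) * s) = F ((g : Γ) * s) := by
      intro p hp
      rw [Finset.mem_filter] at hp
      rw [← hp.2, hF]
    rw [Finset.sum_congr rfl h2, Finset.sum_const, card_fiber_gen G S C hC hcop hs g,
      Nat.card_eq_fintype_card, nsmul_eq_mul]
  rw [Finset.mul_sum, Finset.sum_congr rfl (fun g _ => h1 g), Finset.sum_comm]
  have h3 : ∀ p : G × C, (∑ g : G, if (p.1 : Γ) * ((p.2 : Γ) * s) * (p.1 : Γ)⁻¹ = (g : Γ) * s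
      then F ((p.2 : Γ) * s) else 0) = F ((p.2 : Γ) * s) := by
    rintro ⟨h, c⟩
    have hmem : (h : Γ) * (c : Γ) * (s * (h : Γ)⁻¹ * s⁻¹) ∈ G :=
      G.mul_mem (G.mul_mem h.2 (hCG c)) (hG.conj_mem _ (G.inv_mem h.2) s)
    rw [Finset.sum_eq_single (⟨(h : Γ) * (c : Γ) * (s * (h : Γ)⁻¹ * s⁻¹), hmem⟩ : G)]
    · rw [if_pos]
      show (h : Γ) * ((c : Γ) * s) * (h : Γ)⁻¹ = (h : Γ) * (c : Γ) * (s * (h : Γ)⁻¹ * s⁻¹) * s
      group
    · intro g _ hne
      rw [if_neg]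
      intro heq
      apply hne
      apply Subtype.ext
      show (g : Γ) = (h : Γ) * (c : Γ) * (s * (h : Γ)⁻¹ * s⁻¹)
      have : (g : Γ) = (h : Γ) * ((c : Γ) * s) * (h : Γ)⁻¹ * s⁻¹ := by
        rw [heq]; group
      rw [this]; group
    · intro h'
      exact absurd (Finset.mem_univ _) h'
  rw [Finset.sum_congr rfl (fun p _ => h3 p), Fintype.sum_prod_type]
  simp only [Finset.sum_const, Finset.card_univ, nsmul_eq_mul, Nat.card_eq_fintype_card]


theorem coset_sum_eq [Fintype G] (C : Subgroup Γ) [Fintype C]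
    (hC : C = G ⊓ Subgroup.centralizer (S : Set Γ))
    (hcop : (Nat.card G).Coprime (Nat.card S)) (htop : G ⊔ S = ⊤)
    {s : Γ} (hs : Subgroup.zpowers s = S) (F : Γ → ℂ) (hF : IsClassFunction Γ F) :
    (Nat.card C : ℂ) * ∑ g : G, F ((g : Γ) * s) =
      (Nat.card G : ℂ) * ∑ c : C, F ((c : Γ) * s) :=
  coset_sum_eq_gen G S C hC hcop hs F hF

end

end Cfsg.Agent.Helper24.GlaubCyc
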