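import Mathlib
import Cfsg.Prelude.Def_Blocks
import Cfsg.Agent.Lib.Helper24.CharAbelian
import Cfsg.Agent.Lib.Helper24.CharHom

/-!
# Partial inner products on a direct product (helper24's shared library)

For a character `θ` of `C × S` with `S` abelian and `β ∈ Irr(C)`, the function
`t ↦ ⟨θ(·, t), β⟩_C` is a character of `S`.
-/

set_option autoImplicit false
set_option linter.style.haveILetI false
set_option linter.unusedSectionVars false

namespace Cfsg.Agent.Helper24.PartInner

open Cfsg Cfsg.Agent.Helper24
open scoped ComplexConjugate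

universe u v

variable {C : Type u} {S : Type v} [Group C] [Group S] [Fintype C] [Fintype S]

/-- The partial inner product. -/
noncomputable def partInner (θ : C × S → ℂ) (β : C → ℂ) : S → ℂ :=
  fun t => classInner (fun c => θ (c, t)) β

theorem partInner_apply (θ : C × S → ℂ) (β : C → ℂ) (t : S) :
    partInner θ β t = classInner (fun c => θ (c, t)) β := rfl

theorem classInner_partInner (θ : C × S → ℂ) (β : C → ℂ) (lam : S → ℂ) :
    classInner (partInner θ β) lam = classInner θ (fun x => β x.1 * lam x.2) := by
  unfold classInner partInner classInner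
  rw [Nat.card_prod, Fintype.sum_prod_type, Finset.sum_comm]
  push_cast
  rw [mul_inv, mul_assoc, mul_comm ((Nat.card C : ℂ)⁻¹), mul_assoc]
  congr 1
  rw [Finset.sum_mul]
  apply Finset.sum_congr rfl
  intro t _
  rw [Finset.mul_sum, Finset.sum_mul, Finset.sum_mul]
  apply Finset.sum_congr rfl
  intro c _
  rw [map_mul]
  ring

/-- The partial inner product of a character with an irreducible character is a character. -/
theorem isCharacter_partInner (hcomm : ∀ a b : S, a * b = b * a) {θ : C × S → ℂ}
    (hθ : IsCharacter (C × S) θ) {β : C → ℂ} (hβ : IsIrrCharacter C β) :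
    IsCharacter S (partInner θ β) := by
  classical
  letI := irrFintype (G := S)
  letI := irrFintype (G := C × S)
  have hcf : IsClassFunction S (partInner θ β) := by
    intro g h
    have : h * g * h⁻¹ = g := by rw [hcomm h g, mul_assoc, mul_inv_cancel, mul_one]
    rw [this]
  rw [classFunction_expansion hcf]
  apply isCharacter_sum
  intro lam _
  have h1 : (lam : S → ℂ) 1 = 1 := by
    have h2 := charDegree_eq_one_of_comm hcomm lam.2
    have h3 := irr_one_eq_charDegree lam.2
    rw [h2] at h3
    simpa using h3
  have hirr : IsIrrCharacter (C × S) (fun x => β x.1 * (lam : S → ℂ) x.2) := by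
    have e1 : IsIrrCharacter (C × S) (β ∘ (MonoidHom.fst C S)) :=
      isIrrCharacter_comp_of_surjective (MonoidHom.fst C S) (fun c => ⟨(c, 1), rfl⟩) hβ
    have e2 : IsCharacter (C × S) ((lam : S → ℂ) ∘ (MonoidHom.snd C S)) :=
      isCharacter_comp (MonoidHom.snd C S) (isCharacter_of_isIrrCharacter lam.2)
    have e3 := isIrrCharacter_mul_linear e1 e2 (by
      show (lam : S → ℂ) (1 : C × S).2 = 1
      exact h1)
    exact e3
  obtain ⟨m, hm⟩ := classInner_char_nat hθ (isCharacter_of_isIrrCharacter hirr)
  rw [classInner_partInner, hm]
  exact isCharacter_natCast_smul m (isCharacter_of_isIrrCharacter lam.2)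

end Cfsg.Agent.Helper24.PartInner
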