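import Mathlib
import Cfsg.Prelude.Def_Blocks
import Cfsg.Prelude.Def_CharExt
import Cfsg.Agent.S0868
import Cfsg.Agent.Lib.Helper24.GlaubCycCoset
import Cfsg.Agent.Lib.Helper24.PartialInner
import Cfsg.Agent.Lib.Helper24.GeneratorSum
import Cfsg.Agent.Lib.Helper24.CanonicalExt
import Cfsg.Agent.Lib.Helper18.CliffordCorr
import Cfsg.Agent.Lib.Helper24.GlaubCount
import Cfsg.Agent.Lib.Helper24.GlaubTransfer

/-!
# The Glauberman correspondence, cyclic case (helper24's shared library)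
-/

set_option autoImplicit false
set_option linter.style.haveILetI false
set_option linter.unusedSectionVars false

namespace Cfsg.Agent.Helper24.GlaubCyc

open Cfsg Cfsg.Agent.Helper24 Cfsg.Agent.Helper24.PartInner
open scoped ComplexConjugate

universe u

section

variable {Γ : Type u} [Group Γ] [Fintype Γ] (G S : Subgroup Γ) [hG : G.Normal] [Fintype G]
  (C : Subgroup Γ) [Fintype C]

theorem index_eq_card (hcop : (Nat.card G).Coprime (Nat.card S)) (htop : G ⊔ S = ⊤) :
    G.index = Nat.card S := by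
  have hc : S.IsComplement' G := by
    apply Subgroup.isComplement'_of_disjoint_and_mul_eq_univ
    · rw [disjoint_comm, disjoint_iff]
      exact inf_eq_bot G S hcop
    · rw [← Subgroup.mul_normal, sup_comm, htop, Subgroup.coe_top]
  exact hc.index_eq_card

/-- The inner product over the coset `C s` of an extension with itself. -/
theorem coset_inner_self (hC : C = G ⊓ Subgroup.centralizer (S : Set Γ))
    (hcop : (Nat.card G).Coprime (Nat.card S)) (htop : G ⊔ S = ⊤)
    {s : Γ} (hs : Subgroup.zpowers s = S) {χh : Γ → ℂ} (hχh : IsIrrCharacter Γ χh)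
    (hres : IsIrrCharacter G (fun g : G => χh g)) :
    ∑ c : C, χh ((c : Γ) * s) * conj (χh ((c : Γ) * s)) = (Nat.card C : ℂ) := by
  have h := (Cfsg.Agent.S0868.result G χh hχh hres χh hχh _ rfl).2.2 rfl
  have h1 : (Nat.card G : ℂ)⁻¹ * ∑ g : G, χh ((g : Γ) * s) * conj (χh ((g : Γ) * s)) = 1 :=
    congrFun h s
  have hG0 : (Nat.card G : ℂ) ≠ 0 := by
    rw [Nat.cast_ne_zero]; exact Nat.card_pos.ne'
  have h2 : ∑ g : G, χh ((g : Γ) * s) * conj (χh ((g : Γ) * s)) = (Nat.card G : ℂ) := by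
    have : (Nat.card G : ℂ) * ((Nat.card G : ℂ)⁻¹ *
        ∑ g : G, χh ((g : Γ) * s) * conj (χh ((g : Γ) * s))) = (Nat.card G : ℂ) * 1 := by
      rw [h1]
    rw [← mul_assoc, mul_inv_cancel₀ hG0, one_mul, mul_one] at this
    exact this
  have hcf := isClassFunction_of_isIrrCharacter hχh
  have hF : IsClassFunction Γ (fun y => χh y * conj (χh y)) := by
    intro g h
    show χh (h * g * h⁻¹) * conj (χh (h * g * h⁻¹)) = _
    rw [hcf g h]
  have h3 : (Nat.card C : ℂ) * ∑ g : G, χh ((g : Γ) * s) * conj (χh ((g : Γ) * s)) =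
      (Nat.card G : ℂ) * ∑ c : C, χh ((c : Γ) * s) * conj (χh ((c : Γ) * s)) :=
    coset_sum_eq G S C hC hcop htop hs _ hF
  rw [h2] at h3
  have : (Nat.card G : ℂ) * ∑ c : C, χh ((c : Γ) * s) * conj (χh ((c : Γ) * s)) =
      (Nat.card G : ℂ) * (Nat.card C : ℂ) := by
    rw [← h3, mul_comm]
  exact mul_left_cancel₀ hG0 this

/-- The inner product over the coset `C s` of extensions of distinct characters vanishes. -/
theorem coset_inner_ne (hC : C = G ⊓ Subgroup.centralizer (S : Set Γ))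
    (hcop : (Nat.card G).Coprime (Nat.card S)) (htop : G ⊔ S = ⊤)
    {s : Γ} (hs : Subgroup.zpowers s = S) {χh χh' : Γ → ℂ} (hχh : IsIrrCharacter Γ χh)
    (hχh' : IsIrrCharacter Γ χh') (hres : IsIrrCharacter G (fun g : G => χh g))
    (hres' : IsIrrCharacter G (fun g : G => χh' g))
    (hne : (fun g : G => χh g) ≠ (fun g : G => χh' g)) :
    ∑ c : C, χh ((c : Γ) * s) * conj (χh' ((c : Γ) * s)) = 0 := by
  have horth : classInner (fun g : G => χh g) (fun g : G => χh' g) = 0 := by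
    rw [irr_orthogonality hres hres', if_neg hne]
  have h := (Cfsg.Agent.S0868.result G χh' hχh' hres' χh hχh _ rfl).2.1 horth
  have h1 : (Nat.card G : ℂ)⁻¹ * ∑ g : G, χh ((g : Γ) * s) * conj (χh' ((g : Γ) * s)) = 0 :=
    congrFun h s
  have hG0 : (Nat.card G : ℂ) ≠ 0 := by
    rw [Nat.cast_ne_zero]; exact Nat.card_pos.ne'
  have h2 : ∑ g : G, χh ((g : Γ) * s) * conj (χh' ((g : Γ) * s)) = 0 := by
    rcases mul_eq_zero.mp h1 with h | h
    · exact absurd (inv_eq_zero.mp h) hG0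
    · exact h
  have hcf := isClassFunction_of_isIrrCharacter hχh
  have hcf' := isClassFunction_of_isIrrCharacter hχh'
  have hF : IsClassFunction Γ (fun y => χh y * conj (χh' y)) := by
    intro g h
    show χh (h * g * h⁻¹) * conj (χh' (h * g * h⁻¹)) = _
    rw [hcf g h, hcf' g h]
  have h3 : (Nat.card C : ℂ) * ∑ g : G, χh ((g : Γ) * s) * conj (χh' ((g : Γ) * s)) =
      (Nat.card G : ℂ) * ∑ c : C, χh ((c : Γ) * s) * conj (χh' ((c : Γ) * s)) :=
    coset_sum_eq G S C hC hcop htop hs _ hF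
  rw [h2, mul_zero] at h3
  rcases mul_eq_zero.mp h3.symm with h | h
  · exact absurd h hG0
  · exact h

/-- **Constancy on generators** of the canonical extension. -/
theorem canonical_generator_indep (hC : C = G ⊓ Subgroup.centralizer (S : Set Γ))
    (hcop : (Nat.card G).Coprime (Nat.card S)) (htop : G ⊔ S = ⊤)
    {χh : Γ → ℂ} (hχh : IsIrrCharacter Γ χh)
    (hres : IsIrrCharacter G (fun g : G => χh g))
    (hdet : (detOrder χh).Coprime (Nat.card S))
    {s s' : Γ} (hs : Subgroup.zpowers s = S) (hs' : Subgroup.zpowers s' = S) (c : C) :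
    χh ((c : Γ) * s') = χh ((c : Γ) * s) := by
  have hsS : s ∈ S := hs ▸ Subgroup.mem_zpowers s
  have hcmem : (c : Γ) ∈ G ⊓ Subgroup.centralizer (S : Set Γ) := hC ▸ c.2
  have hcG : (c : Γ) ∈ G := hcmem.1
  have hcs : Commute (c : Γ) s := ((Subgroup.mem_centralizer_iff.mp hcmem.2) s hsS).symm
  set n := Nat.card S with hn
  have hidx : G.index = n := index_eq_card G S hcop htop
  -- `s' = s ^ j`
  have hmem : s' ∈ Subgroup.zpowers s := by rw [hs, ← hs']; exact Subgroup.mem_zpowers s'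
  rw [← mem_powers_iff_mem_zpowers] at hmem
  obtain ⟨j, hj⟩ := hmem
  have hj : s ^ j = s' := hj
  have hos : orderOf s = n := by rw [hn, ← hs, Nat.card_zpowers]
  have hos' : orderOf s' = n := by rw [hn, ← hs', Nat.card_zpowers]
  have hnpos : 0 < n := Nat.card_pos
  have hjcop : Nat.Coprime n j := by
    have h1 : orderOf (s ^ j) = orderOf s / Nat.gcd (orderOf s) j := orderOf_pow s
    rw [hj, hos', hos] at h1
    have h2 : n.gcd j ∣ n := Nat.gcd_dvd_left n j
    have h3 : n = n / n.gcd j := h1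
    have h4 : n.gcd j * (n / n.gcd j) = n := Nat.mul_div_cancel' h2
    rw [← h3] at h4
    have h5 : n.gcd j * n = 1 * n := by rw [h4, one_mul]
    exact Nat.eq_of_mul_eq_mul_right hnpos h5
  -- the exponent
  have hk := Nat.chineseRemainder hcop.symm j 1
  obtain ⟨k, hkn, hkG⟩ := hk
  have hkn' : k ≡ j [MOD n] := hkn
  have hkcop : (Nat.card Γ).Coprime k := by
    have hΓ : Nat.card Γ = Nat.card G * n := by
      rw [← hidx, mul_comm]
      exact (Subgroup.index_mul_card G).symm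
    rw [hΓ]
    apply Nat.Coprime.mul_left
    · have : Nat.gcd (Nat.card G) k = Nat.gcd (Nat.card G) 1 := by
        rw [Nat.gcd_comm, Nat.gcd_comm (Nat.card G) 1]
        exact Nat.ModEq.gcd_eq hkG
      rw [Nat.Coprime, this, Nat.gcd_one_right]
    · have : Nat.gcd n k = Nat.gcd n j := by
        rw [Nat.gcd_comm, Nat.gcd_comm n j]
        exact Nat.ModEq.gcd_eq hkn'
      rw [Nat.Coprime, this]
      exact hjcop
  have hpow : ((c : Γ) * s) ^ k = (c : Γ) * s' := by
    rw [hcs.mul_pow, pow_eq_of_modEq_one hcG hkG, ← hj]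
    congr 1
    have h1 : k % orderOf s = j % orderOf s := by rw [hos]; exact hkn'
    rw [← pow_mod_orderOf, h1, pow_mod_orderOf]
  rw [← hpow]
  exact CanonExt.comp_pow_eq_of_canonical G hχh hres (hidx ▸ hcop) (hidx ▸ hdet) hkcop hkG _

end

/-- A sum of integer squares equal to one has exactly one nonzero term, which is `±1`. -/
theorem exists_unique_of_sum_sq_eq_one {ι : Type*} [Fintype ι] (z : ι → ℤ)
    (h : ∑ i, z i ^ 2 = 1) :
    ∃ i₀, (z i₀ = 1 ∨ z i₀ = -1) ∧ ∀ i, i ≠ i₀ → z i = 0 := by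
  classical
  have hex : ∃ i₀, z i₀ ≠ 0 := by
    by_contra hcon
    push Not at hcon
    have : ∑ i, z i ^ 2 = 0 := Finset.sum_eq_zero (fun i _ => by rw [hcon i]; ring)
    rw [this] at h
    exact zero_ne_one h
  obtain ⟨i₀, hi₀⟩ := hex
  have hsplit : z i₀ ^ 2 + ∑ i ∈ Finset.univ.erase i₀, z i ^ 2 = ∑ i, z i ^ 2 :=
    Finset.add_sum_erase Finset.univ (fun i => z i ^ 2) (Finset.mem_univ i₀)
  rw [h] at hsplit
  have hnn : 0 ≤ ∑ i ∈ Finset.univ.erase i₀, z i ^ 2 := Finset.sum_nonneg (fun i _ => sq_nonneg _)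
  have h1 : 1 ≤ z i₀ ^ 2 := by
    have : 0 < z i₀ ^ 2 := by positivity
    omega
  have h2 : z i₀ ^ 2 = 1 := by omega
  have h3 : ∑ i ∈ Finset.univ.erase i₀, z i ^ 2 = 0 := by omega
  refine ⟨i₀, ?_, ?_⟩
  · have : (z i₀ - 1) * (z i₀ + 1) = 0 := by ring_nf; omega
    rcases mul_eq_zero.mp this with h | h
    · left; omega
    · right; omega
  · intro i hi
    have := (Finset.sum_eq_zero_iff_of_nonneg (fun i _ => sq_nonneg (z i))).mp h3 i
      (Finset.mem_erase.mpr ⟨hi, Finset.mem_univ i⟩)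
    exact pow_eq_zero_iff (two_ne_zero) |>.mp this

section

variable {Γ : Type u} [Group Γ] [Fintype Γ] (G S : Subgroup Γ) [hG : G.Normal] [Fintype G]
  (C : Subgroup Γ) [Fintype C]

/-- The multiplication map `C × S → Γ`. -/
noncomputable def mulHom (hC : C = G ⊓ Subgroup.centralizer (S : Set Γ)) : C × S →* Γ where
  toFun x := (x.1 : Γ) * (x.2 : Γ)
  map_one' := by simp
  map_mul' x y := by
    have hy : (y.1 : Γ) ∈ G ⊓ Subgroup.centralizer (S : Set Γ) := hC ▸ y.1.2
    have hcomm : (x.2 : Γ) * (y.1 : Γ) = (y.1 : Γ) * (x.2 : Γ) :=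
      (Subgroup.mem_centralizer_iff.mp hy.2) x.2 x.2.2
    show ((x.1 : Γ) * (y.1 : Γ)) * ((x.2 : Γ) * (y.2 : Γ)) =
      (x.1 : Γ) * (x.2 : Γ) * ((y.1 : Γ) * (y.2 : Γ))
    calc ((x.1 : Γ) * (y.1 : Γ)) * ((x.2 : Γ) * (y.2 : Γ))
        = (x.1 : Γ) * ((y.1 : Γ) * (x.2 : Γ)) * (y.2 : Γ) := by group
      _ = (x.1 : Γ) * ((x.2 : Γ) * (y.1 : Γ)) * (y.2 : Γ) := by rw [hcomm]
      _ = (x.1 : Γ) * (x.2 : Γ) * ((y.1 : Γ) * (y.2 : Γ)) := by group

theorem mulHom_apply (hC : C = G ⊓ Subgroup.centralizer (S : Set Γ)) (x : C × S) :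
    mulHom G S C hC x = (x.1 : Γ) * (x.2 : Γ) := rfl

omit [Fintype Γ] hG [Fintype G] in
theorem zpowers_coe_eq [Finite Γ] (t : S) (h : orderOf t = Nat.card S) :
    Subgroup.zpowers (t : Γ) = S := by
  have h1 : Subgroup.zpowers t = ⊤ := by
    apply Subgroup.eq_top_of_card_eq
    rw [Nat.card_zpowers, h]
  have h2 : (Subgroup.zpowers t).map S.subtype = Subgroup.zpowers (t : Γ) := by
    rw [MonoidHom.map_zpowers]
    rfl
  rw [← h2, h1, ← MonoidHom.range_eq_map, Subgroup.range_subtype]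

omit [Fintype Γ] hG [Fintype G] in
theorem orderOf_eq_card_of_zpowers [Finite Γ] (t : S) (h : Subgroup.zpowers (t : Γ) = S) :
    orderOf t = Nat.card S := by
  rw [← Subgroup.orderOf_coe, ← Nat.card_zpowers, h]

/-- **Existence** of the correspondent: the canonical extension is `± β` on `C s`. -/
theorem exists_correspondent (hC : C = G ⊓ Subgroup.centralizer (S : Set Γ))
    (hcop : (Nat.card G).Coprime (Nat.card S)) (htop : G ⊔ S = ⊤) (hcyc : IsCyclic S)
    {χh : Γ → ℂ} (hχh : IsIrrCharacter Γ χh)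
    (hres : IsIrrCharacter G (fun g : G => χh g))
    (hdet : (detOrder χh).Coprime (Nat.card S)) :
    ∃ (β : IrrCharacter C) (ε : ℤ), (ε = 1 ∨ ε = -1) ∧
      ∀ c : C, ∀ s : Γ, Subgroup.zpowers s = S →
        χh ((c : Γ) * s) = (ε : ℂ) * (β : C → ℂ) c := by
  classical
  letI : Fintype S := Fintype.ofFinite S
  letI := irrFintype (G := C)
  obtain ⟨s₀, hs₀⟩ := hcyc.exists_generator
  have hs₀top : Subgroup.zpowers s₀ = ⊤ := by
    rw [eq_top_iff]
    intro x _
    exact hs₀ x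
  have hs₀ord : orderOf s₀ = Nat.card S := by
    rw [← Nat.card_zpowers, hs₀top, Subgroup.card_top]
  have hs₀Γ : Subgroup.zpowers (s₀ : Γ) = S := zpowers_coe_eq S s₀ hs₀ord
  have hcomm : ∀ a b : S, a * b = b * a := by
    letI := IsCyclic.commGroup (α := S)
    exact fun a b => mul_comm a b
  -- the character of `C × S`
  set θ : C × S → ℂ := fun x => χh (mulHom G S C hC x) with hθdef
  have hθ : IsCharacter (C × S) θ :=
    isCharacter_comp (mulHom G S C hC) (isCharacter_of_isIrrCharacter hχh)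
  -- the coefficients are integers
  have hint : ∀ β : IrrCharacter C, ∃ z : ℤ, partInner θ (β : C → ℂ) s₀ = z := by
    intro β
    apply GenSum.int_of_const_on_generators' hcomm (isCharacter_partInner hcomm hθ β.2)
      (partInner θ (β : C → ℂ) s₀) _ s₀ hs₀ord
    intro t ht
    rw [partInner_apply, partInner_apply]
    congr 1
    funext c
    show χh ((c : Γ) * (t : Γ)) = χh ((c : Γ) * (s₀ : Γ))
    exact canonical_generator_indep G S C hC hcop htop hχh hres hdet hs₀Γ
      (zpowers_coe_eq S t ht) c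
  choose z hz using hint
  -- the class function on `C`
  set f : C → ℂ := fun c => χh ((c : Γ) * (s₀ : Γ)) with hfdef
  have hcf := isClassFunction_of_isIrrCharacter hχh
  have hfcf : IsClassFunction C f := by
    intro c h
    show χh (((h * c * h⁻¹ : C) : Γ) * (s₀ : Γ)) = χh ((c : Γ) * (s₀ : Γ))
    have hh : (h : Γ) ∈ G ⊓ Subgroup.centralizer (S : Set Γ) := hC ▸ h.2
    have hcm : (s₀ : Γ) * (h : Γ) = (h : Γ) * (s₀ : Γ) :=
      (Subgroup.mem_centralizer_iff.mp hh.2) s₀ s₀.2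
    rw [← hcf ((c : Γ) * (s₀ : Γ)) (h : Γ)]
    congr 1
    simp only [Subgroup.coe_mul, Subgroup.coe_inv]
    calc (h : Γ) * (c : Γ) * (h : Γ)⁻¹ * (s₀ : Γ)
        = (h : Γ) * (c : Γ) * ((h : Γ)⁻¹ * ((s₀ : Γ) * (h : Γ)) * (h : Γ)⁻¹) := by group
      _ = (h : Γ) * (c : Γ) * ((h : Γ)⁻¹ * ((h : Γ) * (s₀ : Γ)) * (h : Γ)⁻¹) := by rw [hcm]
      _ = (h : Γ) * ((c : Γ) * (s₀ : Γ)) * (h : Γ)⁻¹ := by group
  have hfβ : ∀ β : IrrCharacter C, classInner f (β : C → ℂ) = z β := by
    intro β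
    rw [← hz β, partInner_apply]
    rfl
  -- Parseval
  have hnorm : classInner f f = 1 := by
    unfold classInner
    have := coset_inner_self G S C hC hcop htop hs₀Γ hχh hres
    rw [hfdef]
    simp only
    rw [this]
    have hC0 : (Nat.card C : ℂ) ≠ 0 := by
      rw [Nat.cast_ne_zero]; exact Nat.card_pos.ne'
    exact inv_mul_cancel₀ hC0
  have hsum : ∑ β : IrrCharacter C, z β ^ 2 = 1 := by
    have h1 := classInner_eq_sum_mul hfcf f
    rw [hnorm] at h1
    have h2 : (∑ β : IrrCharacter C, classInner f (β : C → ℂ) *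
        conj (classInner f (β : C → ℂ))) = ((∑ β : IrrCharacter C, z β ^ 2 : ℤ) : ℂ) := by
      push_cast
      apply Finset.sum_congr rfl
      intro β _
      rw [hfβ β, map_intCast, sq]
    rw [h2] at h1
    exact_mod_cast h1.symm
  obtain ⟨β₀, hβ₀, hother⟩ := exists_unique_of_sum_sq_eq_one z hsum
  refine ⟨β₀, z β₀, hβ₀, ?_⟩
  intro c s hs
  rw [canonical_generator_indep G S C hC hcop htop hχh hres hdet hs₀Γ hs c]
  have hexp := classFunction_expansion hfcf
  have h3 := congrFun hexp c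
  rw [Finset.sum_apply, Finset.sum_eq_single β₀] at h3
  · rw [Pi.smul_apply, smul_eq_mul, hfβ β₀] at h3
    exact h3
  · intro β _ hne
    rw [hfβ β, hother β hne]
    simp
  · intro h
    exact absurd (Finset.mem_univ _) h

end

section

variable {Γ : Type u} [Group Γ] [Fintype Γ] (G S : Subgroup Γ) [hG : G.Normal] [Fintype G]
  (C : Subgroup Γ) [Fintype C]

omit [Fintype Γ] hG [Fintype G] in
/-- **Uniqueness** of the pair `(β, ε)`. -/
theorem correspondent_unique {F : C → ℂ} {β β' : IrrCharacter C} {ε ε' : ℤ}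
    (hε : ε = 1 ∨ ε = -1) (hε' : ε' = 1 ∨ ε' = -1)
    (h : ∀ c : C, F c = (ε : ℂ) * (β : C → ℂ) c)
    (h' : ∀ c : C, F c = (ε' : ℂ) * (β' : C → ℂ) c) : β = β' ∧ ε = ε' := by
  obtain ⟨d, hd, hd1⟩ := irr_one_eq β.2
  obtain ⟨d', hd', hd1'⟩ := irr_one_eq β'.2
  have h1 : (ε : ℂ) * d = (ε' : ℂ) * d' := by
    rw [← hd1, ← hd1', ← h 1, ← h' 1]
  have h2 : ε * d = ε' * d' := by exact_mod_cast h1
  have hεε' : ε = ε' := by
    rcases hε with rfl | rfl <;> rcases hε' with rfl | rfl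
    · rfl
    · exfalso; omega
    · exfalso; omega
    · rfl
  refine ⟨?_, hεε'⟩
  apply Subtype.ext
  funext c
  have h3 : (ε : ℂ) * (β : C → ℂ) c = (ε : ℂ) * (β' : C → ℂ) c := by
    rw [← h c, h' c, hεε']
  have hε0 : (ε : ℂ) ≠ 0 := by
    rcases hε with rfl | rfl <;> simp
  exact mul_left_cancel₀ hε0 h3

/-- The correspondent is a **constituent** of the restriction. -/
theorem correspondent_constituent (hC : C = G ⊓ Subgroup.centralizer (S : Set Γ))
    (hcyc : IsCyclic S) {χh : Γ → ℂ} (hχh : IsIrrCharacter Γ χh)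
    {β : IrrCharacter C} {ε : ℤ} (hε : ε = 1 ∨ ε = -1)
    (h : ∀ c : C, ∀ s : Γ, Subgroup.zpowers s = S →
      χh ((c : Γ) * s) = (ε : ℂ) * (β : C → ℂ) c) :
    classInner (fun c : C => χh c) (β : C → ℂ) ≠ 0 := by
  classical
  letI : Fintype S := Fintype.ofFinite S
  obtain ⟨s₀, hs₀⟩ := hcyc.exists_generator
  have hs₀top : Subgroup.zpowers s₀ = ⊤ := by
    rw [eq_top_iff]
    intro x _
    exact hs₀ x
  have hs₀ord : orderOf s₀ = Nat.card S := by
    rw [← Nat.card_zpowers, hs₀top, Subgroup.card_top]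
  have hs₀Γ : Subgroup.zpowers (s₀ : Γ) = S := zpowers_coe_eq S s₀ hs₀ord
  have hcomm : ∀ a b : S, a * b = b * a := by
    letI := IsCyclic.commGroup (α := S)
    exact fun a b => mul_comm a b
  set θ : C × S → ℂ := fun x => χh (mulHom G S C hC x) with hθdef
  have hθ : IsCharacter (C × S) θ :=
    isCharacter_comp (mulHom G S C hC) (isCharacter_of_isIrrCharacter hχh)
  have hchar := isCharacter_partInner hcomm hθ β.2
  have hval : partInner θ (β : C → ℂ) s₀ = ε := by
    rw [partInner_apply]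
    have e1 : (fun c : C => θ (c, s₀)) = (ε : ℂ) • (β : C → ℂ) := by
      funext c
      show χh ((c : Γ) * (s₀ : Γ)) = (ε : ℂ) * (β : C → ℂ) c
      exact h c _ hs₀Γ
    rw [e1, classInner_smul_left, irr_orthogonality β.2 β.2, if_pos rfl, mul_one]
  have hne : partInner θ (β : C → ℂ) ≠ 0 := by
    intro h0
    have := congrFun h0 s₀
    rw [hval, Pi.zero_apply] at this
    rcases hε with rfl | rfl <;> simp at this
  have h1 : partInner θ (β : C → ℂ) 1 ≠ 0 := fun h0 =>
    hne (Cfsg.Agent.Helper18.char_eq_zero_of_one_eq_zero hchar h0)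
  rw [partInner_apply] at h1
  convert h1 using 2
  funext c
  show χh (c : Γ) = χh ((c : Γ) * ((1 : S) : Γ))
  rw [Subgroup.coe_one, mul_one]

/-- **Injectivity**: extensions of distinct characters have distinct correspondents. -/
theorem correspondent_injective (hC : C = G ⊓ Subgroup.centralizer (S : Set Γ))
    (hcop : (Nat.card G).Coprime (Nat.card S)) (htop : G ⊔ S = ⊤) (hcyc : IsCyclic S)
    {χh χh' : Γ → ℂ} (hχh : IsIrrCharacter Γ χh) (hχh' : IsIrrCharacter Γ χh')
    (hres : IsIrrCharacter G (fun g : G => χh g))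
    (hres' : IsIrrCharacter G (fun g : G => χh' g))
    {β : IrrCharacter C} {ε ε' : ℤ} (hε : ε = 1 ∨ ε = -1) (hε' : ε' = 1 ∨ ε' = -1)
    (h : ∀ c : C, ∀ s : Γ, Subgroup.zpowers s = S →
      χh ((c : Γ) * s) = (ε : ℂ) * (β : C → ℂ) c)
    (h' : ∀ c : C, ∀ s : Γ, Subgroup.zpowers s = S →
      χh' ((c : Γ) * s) = (ε' : ℂ) * (β : C → ℂ) c) :
    (fun g : G => χh g) = (fun g : G => χh' g) := by
  classical
  by_contra hne
  obtain ⟨s₀, hs₀⟩ := hcyc.exists_generator
  have hs₀top : Subgroup.zpowers s₀ = ⊤ := by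
    rw [eq_top_iff]
    intro x _
    exact hs₀ x
  have hs₀ord : orderOf s₀ = Nat.card S := by
    rw [← Nat.card_zpowers, hs₀top, Subgroup.card_top]
  have hs₀Γ : Subgroup.zpowers (s₀ : Γ) = S := zpowers_coe_eq S s₀ hs₀ord
  have h0 := coset_inner_ne G S C hC hcop htop hs₀Γ hχh hχh' hres hres' hne
  have h1 : ∑ c : C, χh ((c : Γ) * (s₀ : Γ)) * conj (χh' ((c : Γ) * (s₀ : Γ))) =
      ((ε * ε' : ℤ) : ℂ) * ∑ c : C, (β : C → ℂ) c * conj ((β : C → ℂ) c) := by
    rw [Finset.mul_sum]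
    apply Finset.sum_congr rfl
    intro c _
    rw [h c _ hs₀Γ, h' c _ hs₀Γ, map_mul, map_intCast]
    push_cast
    ring
  have h2 := irr_orthogonality β.2 β.2
  rw [if_pos rfl] at h2
  unfold classInner at h2
  have hC0 : (Nat.card C : ℂ) ≠ 0 := by
    rw [Nat.cast_ne_zero]; exact Nat.card_pos.ne'
  have h3 : ∑ c : C, (β : C → ℂ) c * conj ((β : C → ℂ) c) = (Nat.card C : ℂ) := by
    have : (Nat.card C : ℂ) * ((Nat.card C : ℂ)⁻¹ *
        ∑ c : C, (β : C → ℂ) c * conj ((β : C → ℂ) c)) = (Nat.card C : ℂ) * 1 := by rw [h2]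
    rw [← mul_assoc, mul_inv_cancel₀ hC0, one_mul, mul_one] at this
    exact this
  rw [h1, h3] at h0
  rcases mul_eq_zero.mp h0 with h4 | h4
  · have : ε * ε' = 0 := by exact_mod_cast h4
    rcases hε with rfl | rfl <;> rcases hε' with rfl | rfl <;> omega
  · exact hC0 h4

end

section Surj

variable {Γ : Type u} [Group Γ] [Fintype Γ] (G S : Subgroup Γ) [hG : G.Normal] [Fintype G]
  (C : Subgroup Γ) [Fintype C]

/-- `S`-invariance in the form used by the statements. -/
def SInv (χ : G → ℂ) : Prop :=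
  ∀ s ∈ S, ∀ g g' : G, (g' : Γ) = s * g * s⁻¹ → χ g' = χ g

omit [Fintype Γ] [Fintype G] in
theorem inv_of_sInv [Finite Γ] (htop : G ⊔ S = ⊤) {χ : G → ℂ} (hχ : IsClassFunction G χ)
    (hinv : SInv G S χ) : CopDeg.Inv G χ := by
  intro g n
  have hg : g ∈ (↑(G ⊔ S) : Set Γ) := by rw [htop]; trivial
  rw [Subgroup.normal_mul] at hg
  obtain ⟨k, hk, t, ht, rfl⟩ := Set.mem_mul.mp hg
  have h1 := hinv t ht n ⟨t * n * t⁻¹, hG.conj_mem _ n.2 t⟩ rfl
  rw [← h1, ← hχ ⟨t * n * t⁻¹, hG.conj_mem _ n.2 t⟩ ⟨k, hk⟩]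
  apply congrArg
  apply Subtype.ext
  show k * t * n * (k * t)⁻¹ = k * (t * n * t⁻¹) * k⁻¹
  group

/-- Existence of the canonical extension. -/
theorem exists_canonical (hcop : (Nat.card G).Coprime (Nat.card S)) (htop : G ⊔ S = ⊤)
    (χ : IrrCharacter G) (hinv : SInv G S (χ : G → ℂ)) :
    ∃ χh : IrrCharacter Γ, (∀ g : G, (χh : Γ → ℂ) g = (χ : G → ℂ) g) ∧
      (detOrder (χh : Γ → ℂ)).Coprime (Nat.card S) := by
  have hidx : G.index = Nat.card S := index_eq_card G S hcop htop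
  have hχc := isCharacter_of_isIrrCharacter χ.2
  have hinvΓ := inv_of_sInv G S htop (isClassFunction_of_isIrrCharacter χ.2) hinv
  have hcop' : Nat.Coprime G.index (detOrder (χ : G → ℂ) * charDegree (χ : G → ℂ)) := by
    rw [hidx]
    apply Nat.Coprime.mul_right
    · exact (Nat.Coprime.coprime_dvd_left (CopDeg.detOrder_dvd_card' hχc) hcop).symm
    · exact (Nat.Coprime.coprime_dvd_left (charDegree_dvd_card χ.2) hcop).symm
  obtain ⟨χh, ⟨hχh, hext, hdo⟩, -⟩ := Cfsg.Agent.S0867.result G (χ : G → ℂ) χ.2 hinvΓ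
    (charDegree (χ : G → ℂ)) (irr_one_eq_charDegree χ.2) hcop'
  refine ⟨⟨χh, hχh⟩, hext, ?_⟩
  show (detOrder χh).Coprime (Nat.card S)
  rw [hdo]
  exact Nat.Coprime.coprime_dvd_left (CopDeg.detOrder_dvd_card' hχc) hcop

/-- **Surjectivity** of the correspondence. -/
theorem correspondent_surjective (hC : C = G ⊓ Subgroup.centralizer (S : Set Γ))
    (hcop : (Nat.card G).Coprime (Nat.card S)) (htop : G ⊔ S = ⊤) (hcyc : IsCyclic S)
    (β : IrrCharacter C) :
    ∃ (χ : IrrCharacter G) (χh : IrrCharacter Γ) (ε : ℤ), SInv G S (χ : G → ℂ) ∧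
      (∀ g : G, (χh : Γ → ℂ) g = (χ : G → ℂ) g) ∧
      (detOrder (χh : Γ → ℂ)).Coprime (Nat.card S) ∧ (ε = 1 ∨ ε = -1) ∧
      ∀ c : C, ∀ s : Γ, Subgroup.zpowers s = S →
        (χh : Γ → ℂ) ((c : Γ) * s) = (ε : ℂ) * (β : C → ℂ) c := by
  classical
  have hSG : S ≤ Subgroup.normalizer (G : Set Γ) := by
    rw [Subgroup.normalizer_eq_top]
    exact le_top
  haveI : Group.IsSolvable S := by
    letI : CommGroup S := IsCyclic.commGroup
    infer_instance
  -- the data attached to an invariant character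
  have hdata : ∀ χ : {χ : IrrCharacter G // SInv G S (χ : G → ℂ)},
      ∃ (χh : IrrCharacter Γ) (β' : IrrCharacter C) (ε : ℤ),
        (∀ g : G, (χh : Γ → ℂ) g = (χ.1 : G → ℂ) g) ∧
        (detOrder (χh : Γ → ℂ)).Coprime (Nat.card S) ∧ (ε = 1 ∨ ε = -1) ∧
        ∀ c : C, ∀ s : Γ, Subgroup.zpowers s = S →
          (χh : Γ → ℂ) ((c : Γ) * s) = (ε : ℂ) * (β' : C → ℂ) c := by
    intro χ
    obtain ⟨χh, hext, hdet⟩ := exists_canonical G S hcop htop χ.1 χ.2
    have hres : IsIrrCharacter G (fun g : G => (χh : Γ → ℂ) g) := by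
      have : (fun g : G => (χh : Γ → ℂ) g) = (χ.1 : G → ℂ) := funext hext
      rw [this]
      exact χ.1.2
    obtain ⟨β', ε, hε, h⟩ := exists_correspondent G S C hC hcop htop hcyc χh.2 hres hdet
    exact ⟨χh, β', ε, hext, hdet, hε, h⟩
  choose Χh B E hext hdet hE hval using hdata
  have hinj : Function.Injective B := by
    intro χ χ' hB
    have hres : ∀ χ : {χ : IrrCharacter G // SInv G S (χ : G → ℂ)},
        IsIrrCharacter G (fun g : G => (Χh χ : Γ → ℂ) g) := by
      intro χ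
      have : (fun g : G => (Χh χ : Γ → ℂ) g) = (χ.1 : G → ℂ) := funext (hext χ)
      rw [this]
      exact χ.1.2
    have h1 := correspondent_injective G S C hC hcop htop hcyc (Χh χ).2 (Χh χ').2 (hres χ) (hres χ')
      (hE χ) (hE χ') (hval χ) (by rw [hB]; exact hval χ')
    apply Subtype.ext
    apply Subtype.ext
    funext g
    rw [← hext χ g, ← hext χ' g]
    exact congrFun h1 g
  have hcard : Nat.card {χ : IrrCharacter G // SInv G S (χ : G → ℂ)} =
      Nat.card (IrrCharacter C) := by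
    have e1 : Nat.card {χ : IrrCharacter G // SInv G S (χ : G → ℂ)} =
        Nat.card {χ : IrrCharacter G // Glaub.IsInv (Glaub.conjHom G S hSG) (χ : G → ℂ)} :=
      Nat.card_congr (Equiv.subtypeEquivRight (fun χ : IrrCharacter G =>
        (Glaub.isInv_conjHom_iff G S hSG (χ : G → ℂ)).symm))
    rw [e1, Glaub.count_fixed (Glaub.conjHom G S hSG) hcop.symm]
    exact Glaub.card_irr_congr (Glaub.fixedEquiv G S hSG C hC)
  haveI : Finite (IrrCharacter C) := irr_finite
  haveI : Finite (IrrCharacter G) := irr_finite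
  have hbij := Function.Injective.bijective_of_nat_card_le hinj hcard.ge
  obtain ⟨χ, hχ⟩ := hbij.2 β
  refine ⟨χ.1, Χh χ, E χ, χ.2, hext χ, hdet χ, hE χ, ?_⟩
  rw [← hχ]
  exact hval χ

end Surj

end Cfsg.Agent.Helper24.GlaubCyc
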