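import Mathlib
import Cfsg.Agent.Lib.Helper24.GlaubCycMain
import Cfsg.Agent.Lib.Helper24.AbelianSpread

/-!
# The Glauberman correspondence, cyclic fixed-point-free-like case (helper24's shared library)

`Γ = G S`, `S` cyclic of order coprime to `|G|`, and every non-identity element of `S` has the
same centraliser `C` in `G`.  Then the canonical extension `χ̂` of an `S`-invariant `χ ∈ Irr(G)`
satisfies `χ̂(c x) = ε β(c) μ(x)` for `x ≠ 1`, and `χ_C = |S| ϑ + ε β`.
-/

set_option autoImplicit false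
set_option linter.style.haveILetI false
set_option linter.unusedSectionVars false

namespace Cfsg.Agent.Helper24.GlaubFpf

open Cfsg Cfsg.Agent.Helper24 Cfsg.Agent.Helper24.PartInner Cfsg.Agent.Helper24.GlaubCyc
open scoped ComplexConjugate

universe u

section

variable {Γ : Type u} [Group Γ] [Fintype Γ] (G S : Subgroup Γ) [hG : G.Normal] [Fintype G]
  (C : Subgroup Γ) [Fintype C]

/-- The inner product over the coset `C s` of an extension with itself (no `G S = Γ` needed). -/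
theorem coset_inner_self_gen (hC : C = G ⊓ Subgroup.centralizer (S : Set Γ))
    (hcop : (Nat.card G).Coprime (Nat.card S))
    {s : Γ} (hs : Subgroup.zpowers s = S) {χh : Γ → ℂ} (hχh : IsIrrCharacter Γ χh)
    (hres : IsIrrCharacter G (fun g : G => χh g)) :
    ∑ c : C, χh ((c : Γ) * s) * conj (χh ((c : Γ) * s)) = (Nat.card C : ℂ) := by
  have h := (Cfsg.Agent.S0868.result G χh hχh hres χh hχh _ rfl).2.2 rfl
  have h1 : (Nat.card G : ℂ)⁻¹ * ∑ g : G, χh ((g : Γ) * s) * conj (χh ((g : Γ) * s)) = 1 :=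
    congrFun h s
  have hG0 : (Nat.card G : ℂ) ≠ 0 := by
    rw [Nat.cast_ne_zero]; exact Nat.card_pos.ne'
  have h2 : ∑ g : G, χh ((g : Γ) * s) * conj (χh ((g : Γ) * s)) = (Nat.card G : ℂ) := by
    have : (Nat.card G : ℂ) * ((Nat.card G : ℂ)⁻¹ *
        ∑ g : G, χh ((g : Γ) * s) * conj (χh ((g : Γ) * s))) = (Nat.card G : ℂ) * 1 := by
      rw [h1]
    rw [← mul_assoc, mul_inv_cancel₀ hG0, one_mul, mul_one] at this
    exact this
  have hcf := isClassFunction_of_isIrrCharacter hχh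
  have hF : IsClassFunction Γ (fun y => χh y * conj (χh y)) := by
    intro g h
    show χh (h * g * h⁻¹) * conj (χh (h * g * h⁻¹)) = _
    rw [hcf g h]
  have h3 : (Nat.card C : ℂ) * ∑ g : G, χh ((g : Γ) * s) * conj (χh ((g : Γ) * s)) =
      (Nat.card G : ℂ) * ∑ c : C, χh ((c : Γ) * s) * conj (χh ((c : Γ) * s)) :=
    coset_sum_eq_gen G S C hC hcop hs _ hF
  rw [h2] at h3
  have : (Nat.card G : ℂ) * ∑ c : C, χh ((c : Γ) * s) * conj (χh ((c : Γ) * s)) =
      (Nat.card G : ℂ) * (Nat.card C : ℂ) := by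
    rw [← h3, mul_comm]
  exact mul_left_cancel₀ hG0 this

/-- The canonical extension is invariant under coprime powers of the `S`-part. -/
theorem canonical_pow_indep (hC : C = G ⊓ Subgroup.centralizer (S : Set Γ))
    (hcop : (Nat.card G).Coprime (Nat.card S)) (htop : G ⊔ S = ⊤)
    {χh : Γ → ℂ} (hχh : IsIrrCharacter Γ χh)
    (hres : IsIrrCharacter G (fun g : G => χh g))
    (hdet : (detOrder χh).Coprime (Nat.card S))
    {x : Γ} (hx : x ∈ S) {j : ℕ} (hj : (Nat.card S).Coprime j) (c : C) :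
    χh ((c : Γ) * x ^ j) = χh ((c : Γ) * x) := by
  have hcmem : (c : Γ) ∈ G ⊓ Subgroup.centralizer (S : Set Γ) := hC ▸ c.2
  have hcG : (c : Γ) ∈ G := hcmem.1
  have hcs : Commute (c : Γ) x := ((Subgroup.mem_centralizer_iff.mp hcmem.2) x hx).symm
  set n := Nat.card S with hn
  have hidx : G.index = n := index_eq_card G S hcop htop
  have hk := Nat.chineseRemainder hcop.symm j 1
  obtain ⟨k, hkn, hkG⟩ := hk
  have hkn' : k ≡ j [MOD n] := hkn
  have hkcop : (Nat.card Γ).Coprime k := by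
    have hΓ : Nat.card Γ = Nat.card G * n := by
      rw [← hidx, mul_comm]
      exact (Subgroup.index_mul_card G).symm
    rw [hΓ]
    apply Nat.Coprime.mul_left
    · have : Nat.gcd (Nat.card G) k = Nat.gcd (Nat.card G) 1 := by
        rw [Nat.gcd_comm, Nat.gcd_comm (Nat.card G) 1]
        exact Nat.ModEq.gcd_eq hkG
      rw [Nat.Coprime, this, Nat.gcd_one_right]
    · have : Nat.gcd n k = Nat.gcd n j := by
        rw [Nat.gcd_comm, Nat.gcd_comm n j]
        exact Nat.ModEq.gcd_eq hkn'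
      rw [Nat.Coprime, this]
      exact hj
  have hpow : ((c : Γ) * x) ^ k = (c : Γ) * x ^ j := by
    rw [hcs.mul_pow, pow_eq_of_modEq_one hcG hkG]
    congr 1
    rw [pow_eq_pow_iff_modEq]
    exact hkn'.of_dvd (Subgroup.orderOf_dvd_natCard S hx)
  rw [← hpow]
  exact CanonExt.comp_pow_eq_of_canonical G hχh hres (hidx ▸ hcop) (hidx ▸ hdet) hkcop hkG _

/-- The canonical extension is invariant under inversion of the `S`-part. -/
theorem canonical_inv_indep (hC : C = G ⊓ Subgroup.centralizer (S : Set Γ))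
    (hcop : (Nat.card G).Coprime (Nat.card S)) (htop : G ⊔ S = ⊤)
    {χh : Γ → ℂ} (hχh : IsIrrCharacter Γ χh)
    (hres : IsIrrCharacter G (fun g : G => χh g))
    (hdet : (detOrder χh).Coprime (Nat.card S))
    {x : Γ} (hx : x ∈ S) (c : C) :
    χh ((c : Γ) * x⁻¹) = χh ((c : Γ) * x) := by
  have hnpos : 0 < Nat.card S := Nat.card_pos
  have hj : (Nat.card S).Coprime (Nat.card S - 1) := by
    have h1 : Nat.card S - 1 + 1 = Nat.card S := Nat.sub_add_cancel hnpos
    have h2 : (Nat.card S - 1 + 1).Coprime (Nat.card S - 1) := by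
      rw [Nat.Coprime, Nat.gcd_comm, Nat.gcd_self_add_right, Nat.gcd_one_right]
    rwa [h1] at h2
  have hxn : x ^ Nat.card S = 1 := by
    exact pow_eq_one_of_modEq_zero hx (Nat.modEq_zero_iff_dvd.mpr (dvd_refl _))
  have hinv : x ^ (Nat.card S - 1) = x⁻¹ := by
    have h1 : x ^ (Nat.card S - 1) * x = 1 := by
      rw [← pow_succ, Nat.sub_add_cancel hnpos, hxn]
    exact eq_inv_of_mul_eq_one_left h1
  rw [← hinv]
  exact canonical_pow_indep G S C hC hcop htop hχh hres hdet hx hj c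

omit [Fintype Γ] in
theorem centralizer_zpowers (x : Γ) :
    Subgroup.centralizer ((Subgroup.zpowers x : Subgroup Γ) : Set Γ) =
      Subgroup.centralizer ({x} : Set Γ) := by
  apply le_antisymm
  · apply Subgroup.centralizer_le
    intro y hy
    rw [Set.mem_singleton_iff] at hy
    rw [hy]
    exact Subgroup.mem_zpowers x
  · intro y hy
    rw [Subgroup.mem_centralizer_iff] at hy ⊢
    intro t ht
    rw [SetLike.mem_coe, Subgroup.mem_zpowers_iff] at ht
    obtain ⟨j, rfl⟩ := ht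
    have h1 : Commute x y := hy x rfl
    exact (h1.zpow_left j).eq

/-- **Main theorem** of the fixed-point-free-like cyclic case. -/
theorem fpf_main [Fintype (IrrCharacter C)] (hC : C = G ⊓ Subgroup.centralizer (S : Set Γ))
    (hcop : (Nat.card G).Coprime (Nat.card S)) (htop : G ⊔ S = ⊤) (hcyc : IsCyclic S)
    (hfpf : ∀ x ∈ S, x ≠ 1 → G ⊓ Subgroup.centralizer ({x} : Set Γ) = C)
    {χh : Γ → ℂ} (hχh : IsIrrCharacter Γ χh)
    (hres : IsIrrCharacter G (fun g : G => χh g))
    (hdet : (detOrder χh).Coprime (Nat.card S)) (β : IrrCharacter C) (ε₀ : ℤ)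
    (hε₀ : ε₀ = 1 ∨ ε₀ = -1)
    (hβ : ∀ c : C, ∀ s : Γ, Subgroup.zpowers s = S →
      χh ((c : Γ) * s) = (ε₀ : ℂ) * (β : C → ℂ) c)
    (hn2 : 2 ≤ Nat.card S) :
    ∃ (ε : ℤ) (μ : S → ℂ) (M : IrrCharacter C → ℕ), (ε = 1 ∨ ε = -1) ∧ IsIrrCharacter S μ ∧
      μ 1 = 1 ∧ (∀ x : S, μ x * μ x = 1) ∧
      (∀ c : C, ∀ x : S, x ≠ 1 → χh ((c : Γ) * x) = (ε : ℂ) * (β : C → ℂ) c * μ x) ∧
      (∀ c : C, χh (c : Γ) =
        (Nat.card S : ℂ) * (∑ β' : IrrCharacter C, (M β' : ℂ) * (β' : C → ℂ) c) +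
          (ε : ℂ) * (β : C → ℂ) c) := by
  classical
  letI : Fintype S := Fintype.ofFinite S
  obtain ⟨s₀, hs₀⟩ := hcyc.exists_generator
  have hs₀top : Subgroup.zpowers s₀ = ⊤ := by
    rw [eq_top_iff]
    intro x _
    exact hs₀ x
  have hs₀ord : orderOf s₀ = Nat.card S := by
    rw [← Nat.card_zpowers, hs₀top, Subgroup.card_top]
  have hs₀Γ : Subgroup.zpowers (s₀ : Γ) = S := zpowers_coe_eq S s₀ hs₀ord
  have hcomm : ∀ a b : S, a * b = b * a := by
    letI := IsCyclic.commGroup (α := S)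
    exact fun a b => mul_comm a b
  have hcardS : Fintype.card S = Nat.card S := Nat.card_eq_fintype_card.symm
  have hs₀ne : s₀ ≠ 1 := by
    intro h
    rw [h, orderOf_one] at hs₀ord
    omega
  set θ : C × S → ℂ := fun x => χh (mulHom G S C hC x) with hθdef
  have hθ : IsCharacter (C × S) θ :=
    isCharacter_comp (mulHom G S C hC) (isCharacter_of_isIrrCharacter hχh)
  have hψ : ∀ β' : IrrCharacter C, IsCharacter S (partInner θ (β' : C → ℂ)) :=
    fun β' => isCharacter_partInner hcomm hθ β'.2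
  have hcf := isClassFunction_of_isIrrCharacter hχh
  have hfcf : ∀ x : S, IsClassFunction C (fun c => θ (c, x)) := by
    intro x c h
    show χh (((h * c * h⁻¹ : C) : Γ) * (x : Γ)) = χh ((c : Γ) * (x : Γ))
    have hh : (h : Γ) ∈ G ⊓ Subgroup.centralizer (S : Set Γ) := hC ▸ h.2
    have hcm : (x : Γ) * (h : Γ) = (h : Γ) * (x : Γ) :=
      (Subgroup.mem_centralizer_iff.mp hh.2) x x.2
    rw [← hcf ((c : Γ) * (x : Γ)) (h : Γ)]
    congr 1
    simp only [Subgroup.coe_mul, Subgroup.coe_inv]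
    calc (h : Γ) * (c : Γ) * (h : Γ)⁻¹ * (x : Γ)
        = (h : Γ) * (c : Γ) * ((h : Γ)⁻¹ * ((x : Γ) * (h : Γ)) * (h : Γ)⁻¹) := by group
      _ = (h : Γ) * (c : Γ) * ((h : Γ)⁻¹ * ((h : Γ) * (x : Γ)) * (h : Γ)⁻¹) := by rw [hcm]
      _ = (h : Γ) * ((c : Γ) * (x : Γ)) * (h : Γ)⁻¹ := by group
  -- expansion
  have hexp : ∀ (x : S) (c : C), χh ((c : Γ) * (x : Γ)) =
      ∑ β' : IrrCharacter C, partInner θ (β' : C → ℂ) x * (β' : C → ℂ) c := by
    intro x c
    have h1 := congrFun (classFunction_expansion (hfcf x)) c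
    rw [Finset.sum_apply] at h1
    exact h1
  -- (F1)
  have hC0 : (Nat.card C : ℂ) ≠ 0 := by
    rw [Nat.cast_ne_zero]; exact Nat.card_pos.ne'
  have hF1 : ∀ x : S, x ≠ 1 → ∑ β' : IrrCharacter C,
      partInner θ (β' : C → ℂ) x * conj (partInner θ (β' : C → ℂ) x) = 1 := by
    intro x hx
    have h1 := classInner_eq_sum_mul (hfcf x) (fun c => θ (c, x))
    have h2 : ∑ β' : IrrCharacter C,
        partInner θ (β' : C → ℂ) x * conj (partInner θ (β' : C → ℂ) x) =
        classInner (fun c => θ (c, x)) (fun c => θ (c, x)) := h1.symm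
    rw [h2]
    have hxΓ : (x : Γ) ≠ 1 := by
      intro h
      apply hx
      exact Subtype.ext h
    have hCx : C = G ⊓ Subgroup.centralizer
        ((Subgroup.zpowers (x : Γ) : Subgroup Γ) : Set Γ) := by
      rw [centralizer_zpowers, hfpf (x : Γ) x.2 hxΓ]
    have hle : Subgroup.zpowers (x : Γ) ≤ S := by
      rw [Subgroup.zpowers_le]; exact x.2
    have hcopx : (Nat.card G).Coprime (Nat.card (Subgroup.zpowers (x : Γ))) :=
      Nat.Coprime.coprime_dvd_right (Subgroup.card_dvd_of_le hle) hcop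
    have h3 := coset_inner_self_gen G (Subgroup.zpowers (x : Γ)) C hCx hcopx rfl hχh hres
    unfold classInner
    have h4 : ∑ c : C, θ (c, x) * conj (θ (c, x)) = (Nat.card C : ℂ) := h3
    rw [h4]
    exact inv_mul_cancel₀ hC0
  -- (F2)
  have hε₀ne : (ε₀ : ℂ) ≠ 0 := by
    rcases hε₀ with h | h <;> rw [h] <;> norm_num
  have hF2 : partInner θ (β : C → ℂ) s₀ = (ε₀ : ℂ) := by
    rw [partInner_apply]
    have h1 : (fun c : C => θ (c, s₀)) = (ε₀ : ℂ) • (β : C → ℂ) := by
      funext c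
      show χh ((c : Γ) * (s₀ : Γ)) = _
      rw [hβ c _ hs₀Γ]
      rfl
    rw [h1, classInner_smul_left, irr_orthogonality β.2 β.2, if_pos rfl, mul_one]
  -- analysis of each `ψ_β'`
  have han := fun β' : IrrCharacter C =>
    AbSpread.analysis hcomm (by rw [hcardS]; exact hn2) (hψ β')
  choose D hDsum hD0 hDne hDn using han
  rw [hcardS] at hDne hDn
  have hnpos : 0 < Nat.card S := by omega
  have htotal : ∑ β' : IrrCharacter C, D β' = (Nat.card S : ℤ) - 1 := by
    have h1 : ((∑ β' : IrrCharacter C, D β' : ℤ) : ℂ) = ((Nat.card S : ℤ) - 1 : ℤ) := by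
      push_cast
      rw [Finset.sum_congr rfl (fun β' _ => (hDsum β').symm), Finset.sum_comm]
      rw [Finset.sum_congr rfl (fun x hx => hF1 x (Finset.ne_of_mem_erase hx)), Finset.sum_const,
        Finset.card_erase_of_mem (Finset.mem_univ _), Finset.card_univ, hcardS, nsmul_eq_mul,
        mul_one, Nat.cast_sub hnpos]
      simp
    exact_mod_cast h1
  have hDβne : D β ≠ 0 := by
    intro h
    have := (hD0 β h).2 s₀ hs₀ne
    rw [hF2] at this
    exact hε₀ne this
  have hDβge : (Nat.card S : ℤ) - 1 ≤ D β := hDne β hDβne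
  have hDnn : ∀ β' : IrrCharacter C, 0 ≤ D β' := by
    intro β'
    by_cases h : D β' = 0
    · rw [h]
    · have := hDne β' h
      omega
  have hsplit : D β + ∑ β' ∈ Finset.univ.erase β, D β' = ∑ β' : IrrCharacter C, D β' :=
    Finset.add_sum_erase Finset.univ D (Finset.mem_univ β)
  have hrest_nn : 0 ≤ ∑ β' ∈ Finset.univ.erase β, D β' :=
    Finset.sum_nonneg (fun β' _ => hDnn β')
  have hDβ : D β = (Nat.card S : ℤ) - 1 := by omega
  have hrest : ∑ β' ∈ Finset.univ.erase β, D β' = 0 := by omega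
  have hzero : ∀ β' : IrrCharacter C, β' ≠ β → D β' = 0 := by
    intro β' hne
    exact (Finset.sum_eq_zero_iff_of_nonneg (fun β' _ => hDnn β')).mp hrest β'
      (Finset.mem_erase.mpr ⟨hne, Finset.mem_univ _⟩)
  obtain ⟨m, ε, μ, hε, hμ, hψ1, hψx⟩ := hDn β hDβ
  have hεne : (ε : ℂ) ≠ 0 := by
    rcases hε with h | h <;> rw [h] <;> norm_num
  have hμ1 : μ 1 = 1 := by
    letI := irrFintype (G := S)
    exact AbSpread.irr_one_of_comm hcomm ⟨μ, hμ⟩
  have hM : ∀ β' : IrrCharacter C, ∃ k : ℕ, partInner θ (β' : C → ℂ) 1 =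
      (Nat.card S : ℂ) * k + (if β' = β then (ε : ℂ) else 0) := by
    intro β'
    by_cases hb : β' = β
    · rw [hb, if_pos rfl]
      exact ⟨m, hψ1⟩
    · obtain ⟨k, hk⟩ := (hD0 β' (hzero β' hb)).1
      rw [hcardS] at hk
      exact ⟨k, by rw [if_neg hb, add_zero, hk]⟩
  choose M hM using hM
  refine ⟨ε, μ, M, hε, hμ, hμ1, ?_, ?_, ?_⟩
  · intro x
    by_cases hx : x = 1
    · rw [hx, hμ1, mul_one]
    · have hx' : x⁻¹ ≠ 1 := by
        intro h
        apply hx
        rw [← inv_inv x, h, inv_one]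
      have h1 : partInner θ (β : C → ℂ) x⁻¹ = partInner θ (β : C → ℂ) x := by
        rw [partInner_apply, partInner_apply]
        congr 1
        funext c
        show χh ((c : Γ) * ((x⁻¹ : S) : Γ)) = χh ((c : Γ) * (x : Γ))
        rw [Subgroup.coe_inv]
        exact canonical_inv_indep G S C hC hcop htop hχh hres hdet x.2 c
      rw [hψx x hx, hψx x⁻¹ hx'] at h1
      have h2 : μ x⁻¹ = μ x := mul_left_cancel₀ hεne h1
      have h3 := char_mul_of_degree_one (isCharacter_of_isIrrCharacter hμ) hμ1 x x⁻¹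
      rw [mul_inv_cancel, hμ1, h2] at h3
      exact h3.symm
  · intro c x hx
    rw [hexp x c, Finset.sum_eq_single β]
    · rw [hψx x hx]
      ring
    · intro β' _ hne
      rw [(hD0 β' (hzero β' hne)).2 x hx, zero_mul]
    · intro h
      exact absurd (Finset.mem_univ _) h
  · intro c
    have h1 := hexp 1 c
    rw [Subgroup.coe_one, mul_one] at h1
    rw [h1, Finset.mul_sum]
    have e : ∀ β' : IrrCharacter C, partInner θ (β' : C → ℂ) 1 * (β' : C → ℂ) c =
        (Nat.card S : ℂ) * ((M β' : ℂ) * (β' : C → ℂ) c) +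
          (if β' = β then (ε : ℂ) * (β' : C → ℂ) c else 0) := by
      intro β'
      rw [hM β']
      split_ifs <;> ring
    rw [Finset.sum_congr rfl (fun β' _ => e β'), Finset.sum_add_distrib,
      Finset.sum_ite_eq' Finset.univ β, if_pos (Finset.mem_univ _)]

end

end Cfsg.Agent.Helper24.GlaubFpf
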