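import Mathlib
import Cfsg.Prelude.Def_Blocks
import Cfsg.Agent.Lib.Helper24.GlaubChain
import Cfsg.Agent.Lib.Helper24.CoprimeOver
import Cfsg.Agent.Lib.Helper18.CliffordCorr

/-!
# Coprime solvable action: invariant characters over invariant characters
(helper24's shared library)

Setting: a solvable group `A` acts coprimely on `G` and compatibly on `N`, where
`ι : N →* G` is injective with normal range.  Every `A`-invariant `θ ∈ Irr(N)` lies under an
`A`-invariant `χ ∈ Irr(G)` (`over_solvable`).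
-/

set_option autoImplicit false
set_option linter.style.haveILetI false
set_option linter.unusedSectionVars false

namespace Cfsg.Agent.Helper24.Glaub

open Cfsg Cfsg.Agent.Helper23.Blk Cfsg.Agent.Helper24
open scoped ComplexConjugate

universe u v

section Hom

variable {N G : Type u} [Group N] [Group G] [Fintype N] [Fintype G] (ι : N →* G)
  (hι : Function.Injective ι)

include hι

theorem classInner_comp_hom_eq (χ : G → ℂ) (θ : N → ℂ) [Fintype ι.range] :
    classInner (χ ∘ ι) θ =
      classInner (fun r : ι.range => χ r) (θ ∘ (MonoidHom.ofInjective hι).symm) := by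
  have h1 : χ ∘ ι = (fun r : ι.range => χ r) ∘ (MonoidHom.ofInjective hι) := by
    funext n
    simp [MonoidHom.ofInjective_apply]
  have h2 : θ = (θ ∘ (MonoidHom.ofInjective hι).symm) ∘ (MonoidHom.ofInjective hι) := by
    funext n
    simp
  conv_lhs => rw [h1, h2]
  exact Cfsg.Agent.Helper5.classInner_comp_equiv _ _ _

/-- Every irreducible character of `N` lies under an irreducible character of `G`. -/
theorem exists_over_hom {θ : N → ℂ} (hθ : IsIrrCharacter N θ) :
    ∃ χ : G → ℂ, IsIrrCharacter G χ ∧ classInner (χ ∘ ι) θ ≠ 0 := by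
  letI : Fintype ι.range := Fintype.ofFinite _
  have hθ' : IsIrrCharacter ι.range (θ ∘ (MonoidHom.ofInjective hι).symm) :=
    Cfsg.Agent.Helper5.isIrrCharacter_comp_equiv _ hθ
  obtain ⟨χ, hχ, hc⟩ := exists_irr_over ι.range hθ'
  refine ⟨χ, hχ, ?_⟩
  rw [classInner_comp_hom_eq ι hι]
  exact hc

/-- The multiplicity of a constituent of the restriction to a normal subgroup divides the
degree. -/
theorem mult_dvd_degree_hom [hn : ι.range.Normal] {β : G → ℂ} (hβ : IsIrrCharacter G β)
    {θ : N → ℂ} (hθ : IsIrrCharacter N θ) (m : ℕ) (hm : classInner (β ∘ ι) θ = m)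
    (hm0 : m ≠ 0) : m ∣ charDegree β := by
  letI : Fintype ι.range := Fintype.ofFinite _
  have hθ' : IsIrrCharacter ι.range (θ ∘ (MonoidHom.ofInjective hι).symm) :=
    Cfsg.Agent.Helper5.isIrrCharacter_comp_equiv _ hθ
  rw [classInner_comp_hom_eq ι hι] at hm
  have hcon : classInner (fun r : ι.range => β r) (θ ∘ (MonoidHom.ofInjective hι).symm) ≠ 0 := by
    rw [hm]
    exact_mod_cast hm0
  have h := Cfsg.Agent.Helper18.degree_eq_of_constituent ι.range hβ hθ' hcon
  rw [hm, irr_one_eq_charDegree hβ, irr_one_eq_charDegree hθ'] at h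
  have h' : charDegree β = m *
      (Cfsg.Agent.Helper18.inertia ι.range (θ ∘ (MonoidHom.ofInjective hι).symm)).index *
      charDegree (θ ∘ (MonoidHom.ofInjective hι).symm) := by exact_mod_cast h
  rw [h', mul_assoc]
  exact Dvd.intro _ rfl

end Hom

section FixHom

variable {N G : Type u} [Group N] [Group G] {A : Type v} [Group A]
  (φN : A →* MulAut N) (φG : A →* MulAut G) (ι : N →* G)
  (compat : ∀ (a : A) (n : N), ι (φN a n) = φG a (ι n))

/-- The homomorphism induced on fixed points. -/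
def fixHom : fixedSub φN →* fixedSub φG where
  toFun n := ⟨ι n, fun a => by rw [← compat a n, n.2 a]⟩
  map_one' := by
    apply Subtype.ext
    show ι ((1 : fixedSub φN) : N) = 1
    rw [Subgroup.coe_one, map_one]
  map_mul' a b := by
    apply Subtype.ext
    show ι ((a * b : fixedSub φN) : N) = ι a * ι b
    rw [Subgroup.coe_mul, map_mul]

theorem fixHom_apply (n : fixedSub φN) : ((fixHom φN φG ι compat n : fixedSub φG) : G) = ι n := rfl

theorem fixHom_injective (hι : Function.Injective ι) :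
    Function.Injective (fixHom φN φG ι compat) := by
  intro a b h
  apply Subtype.ext
  apply hι
  exact congrArg Subtype.val h

theorem fixHom_range_normal (hι : Function.Injective ι) [hn : ι.range.Normal] :
    (fixHom φN φG ι compat).range.Normal := by
  constructor
  rintro _ ⟨n, rfl⟩ c
  have h1 : (c : G) * ι n * (c : G)⁻¹ ∈ ι.range := hn.conj_mem _ ⟨n, rfl⟩ _
  obtain ⟨n', hn'⟩ := h1
  have hfix : n' ∈ fixedSub φN := by
    intro a
    apply hι
    rw [compat, hn', map_mul, map_mul, map_inv, c.2 a, ← compat, n.2 a]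
  refine ⟨⟨n', hfix⟩, ?_⟩
  apply Subtype.ext
  rw [fixHom_apply]
  exact hn'

end FixHom

section Key

variable {N G : Type u} [Group N] [Group G] [Fintype N] [Fintype G] {A : Type v} [Group A]
  (φN : A →* MulAut N) (φG : A →* MulAut G) (ι : N →* G)
  (compat : ∀ (a : A) (n : N), ι (φN a n) = φG a (ι n))
  [Fintype (fixedSub φN)] [Fintype (fixedSub φG)] {p : ℕ}

/-- If the correspondents `β, θ*` of `χ, θ` satisfy `p ∤ [β_{C_N}, θ*]`, then `χ` lies over
`θ`. -/
theorem over_of_isGl (hpp : p.Prime) (hA : IsPGroup p A) (hpG : ¬ p ∣ Nat.card G)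
    (hι : Function.Injective ι) {χ : IrrCharacter G} (hχ : IsInv φG (χ : G → ℂ))
    {θ : IrrCharacter N} (hθ : IsInv φN (θ : N → ℂ))
    {β : IrrCharacter (fixedSub φG)} {θs : IrrCharacter (fixedSub φN)}
    (hχβ : IsGl φG p (χ : G → ℂ) (β : fixedSub φG → ℂ))
    (hθθs : IsGl φN p (θ : N → ℂ) (θs : fixedSub φN → ℂ)) (m' : ℕ)
    (hm' : classInner ((β : fixedSub φG → ℂ) ∘ fixHom φN φG ι compat)
      (θs : fixedSub φN → ℂ) = m') (hpm' : ¬ p ∣ m') :
    classInner ((χ : G → ℂ) ∘ ι) (θ : N → ℂ) ≠ 0 := by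
  obtain ⟨M, hM⟩ := exists_isPModular hpp
  haveI := isPrime_of_isPModular hM
  have hpN : ¬ p ∣ Nat.card N := fun h => hpG (h.trans (Subgroup.card_dvd_of_injective ι hι))
  have hc1 := (isGl_iff_corr φG hM hA hpG hχ β).mp hχβ
  have hc2 := (isGl_iff_corr φN hM hA hpN hθ θs).mp hθθs
  intro h0
  -- the sum over `N`
  have hsum0 : ∑ n : N, (χ : G → ℂ) (ι n) * conj ((θ : N → ℂ) n) = 0 := by
    unfold classInner at h0
    rcases mul_eq_zero.mp h0 with h1 | h1
    · exact absurd (inv_eq_zero.mp h1) card_ne_zero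
    · exact h1
  have h1 := memLocalIdeal_sum_sub_sum_fixedSub φN hM hA
    (fun n => (χ : G → ℂ) (ι n) * conj ((θ : N → ℂ) n))
    (by
      intro a n
      show (χ : G → ℂ) (ι (φN a n)) * conj ((θ : N → ℂ) (φN a n)) = _
      rw [compat, hχ a, hθ a])
    (fun n => memLocalRing_mul (memLocalRing_irr χ _) (memLocalRing_conj_irr θ n))
  rw [hsum0, zero_sub] at h1
  set u := (χ : G → ℂ) 1 / (β : fixedSub φG → ℂ) 1 with hu
  set w := (θ : N → ℂ) 1 / (θs : fixedSub φN → ℂ) 1 with hw
  have huR : MemLocalRing M u := memLocalRing_ratio φG hM hpG χ β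
  have hwR : MemLocalRing M w := memLocalRing_ratio φN hM hpN θ θs
  have h2 : MemLocalIdeal M (∑ n : fixedSub φN, (χ : G → ℂ) (ι n) * conj ((θ : N → ℂ) n) -
      u * w * ∑ n : fixedSub φN, (β : fixedSub φG → ℂ) (fixHom φN φG ι compat n) *
        conj ((θs : fixedSub φN → ℂ) n)) := by
    rw [Finset.mul_sum, ← Finset.sum_sub_distrib]
    apply memLocalIdeal_sum
    intro n _
    have e1 := corr_sub_mem φG hM hc1 (fixHom φN φG ι compat n)
    have e2 := corr_sub_mem φN hM hc2 n⁻¹
    have e3 : conj ((θ : N → ℂ) n) = (θ : N → ℂ) ((n⁻¹ : fixedSub φN) : N) := by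
      rw [Subgroup.coe_inv, irr_inv (isCharacter_of_isIrrCharacter θ.2)]
    have e4 : conj ((θs : fixedSub φN → ℂ) n) = (θs : fixedSub φN → ℂ) n⁻¹ := by
      rw [irr_inv (isCharacter_of_isIrrCharacter θs.2)]
    rw [e3, e4]
    have e5 : u * w * ((β : fixedSub φG → ℂ) (fixHom φN φG ι compat n) *
        (θs : fixedSub φN → ℂ) n⁻¹) =
        (u * (β : fixedSub φG → ℂ) (fixHom φN φG ι compat n)) *
          (w * (θs : fixedSub φN → ℂ) n⁻¹) := by ring
    rw [e5]
    have e6 : (χ : G → ℂ) (ι n) = (χ : G → ℂ) ((fixHom φN φG ι compat n : fixedSub φG) : G) :=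
      rfl
    rw [e6]
    exact cong_mul e1 e2 (memLocalRing_mul huR (memLocalRing_irr β _)) (memLocalRing_irr θ _)
  have hsum : ∑ n : fixedSub φN, (β : fixedSub φG → ℂ) (fixHom φN φG ι compat n) *
      conj ((θs : fixedSub φN → ℂ) n) = (Nat.card (fixedSub φN) : ℂ) * (m' : ℂ) := by
    rw [← hm']
    unfold classInner
    rw [← mul_assoc, mul_inv_cancel₀ card_ne_zero, one_mul]
    rfl
  rw [hsum] at h2
  have h3 := memLocalIdeal_add h1 h2
  have e7 : ∀ x y : ℂ, -x + (x - y) = -y := fun x y => by ring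
  rw [e7] at h3
  have h4 := memLocalIdeal_neg h3
  rw [neg_neg] at h4
  have hCN : ¬ p ∣ Nat.card (fixedSub φN) := not_dvd_card_fixedSub φN hpN
  exact not_memLocalIdeal_mul
    (memLocalRing_mul huR hwR)
    (memLocalRing_mul (memLocalRing_natCast _) (memLocalRing_natCast _))
    (not_memLocalIdeal_mul huR hwR (not_memLocalIdeal_ratio φG hM hpG χ β)
      (not_memLocalIdeal_ratio φN hM hpN θ θs))
    (not_memLocalIdeal_mul (memLocalRing_natCast _) (memLocalRing_natCast _)
      (not_memLocalIdeal_natCast hM hCN) (not_memLocalIdeal_natCast hM hpm')) h4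

end Key

section Equivariance

variable {G : Type u} [Group G] [Fintype G] {A : Type v} [Group A] (φ : A →* MulAut G)
  (P : Subgroup A) [hP : P.Normal] [Fintype (fixP φ P)] {p : ℕ}

theorem isInv_resFix_of_isGl (hpp : p.Prime) (hPp : IsPGroup p P) (hp : ¬ p ∣ Nat.card G)
    {χ : IrrCharacter G} (hχ : IsInv φ (χ : G → ℂ)) {β : IrrCharacter (fixP φ P)}
    (h : IsGl (φ.comp P.subtype) p (χ : G → ℂ) (β : fixP φ P → ℂ)) :
    IsInv (resFix φ P) (β : fixP φ P → ℂ) := by
  obtain ⟨β₀, hβ₀, huniq⟩ := glauberman_existsUnique (φ.comp P.subtype) hpp hPp hp χ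
    (fun x g => hχ x.1 g)
  intro a c
  have h1 := isGl_comp φ P a h
  have h2 : (χ : G → ℂ) ∘ φ a = (χ : G → ℂ) := funext (fun g => hχ a g)
  rw [h2] at h1
  have h3 := huniq ⟨(β : fixP φ P → ℂ) ∘ resFix φ P a,
    Cfsg.Agent.Helper5.isIrrCharacter_comp_equiv (resFix φ P a : fixP φ P ≃* fixP φ P) β.2⟩ h1
  have h4 := huniq β h
  have h5 : (⟨(β : fixP φ P → ℂ) ∘ resFix φ P a,
    Cfsg.Agent.Helper5.isIrrCharacter_comp_equiv (resFix φ P a : fixP φ P ≃* fixP φ P) β.2⟩ :
      IrrCharacter (fixP φ P)) = β := by rw [h3, h4]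
  exact congrFun (congrArg Subtype.val h5) c

theorem isInv_of_isGl_resFix (hpp : p.Prime) (hPp : IsPGroup p P) (hp : ¬ p ∣ Nat.card G)
    {χ : IrrCharacter G} (hχP : IsInv (φ.comp P.subtype) (χ : G → ℂ))
    {β : IrrCharacter (fixP φ P)} (hβ : IsInv (resFix φ P) (β : fixP φ P → ℂ))
    (h : IsGl (φ.comp P.subtype) p (χ : G → ℂ) (β : fixP φ P → ℂ)) :
    IsInv φ (χ : G → ℂ) := by
  intro a g
  have h1 := isGl_comp φ P a h
  have h2 : (β : fixP φ P → ℂ) ∘ resFix φ P a = (β : fixP φ P → ℂ) :=
    funext (fun c => hβ a c)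
  rw [h2] at h1
  have h3 := glauberman_inj (φ.comp P.subtype) hpp hPp hp
    ⟨(χ : G → ℂ) ∘ φ a, Cfsg.Agent.Helper5.isIrrCharacter_comp_equiv (φ a : G ≃* G) χ.2⟩ χ
    (isInv_comp_of_normal φ P hχP a) hχP β h1 h
  exact congrFun (congrArg Subtype.val h3) g

end Equivariance

section Main

/-- **Invariant characters over invariant characters**, coprime solvable action. -/
theorem over_main : ∀ (n : ℕ) (A : Type v) [Group A] [Finite A] [Group.IsSolvable A],
    Nat.card A = n → ∀ (N G : Type u) [Group N] [Group G] [Fintype N] [Fintype G]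
    (φN : A →* MulAut N) (φG : A →* MulAut G) (ι : N →* G), Function.Injective ι →
    (∀ (a : A) (n : N), ι (φN a n) = φG a (ι n)) → ι.range.Normal →
    (Nat.card A).Coprime (Nat.card G) → ∀ θ : IrrCharacter N, IsInv φN (θ : N → ℂ) →
    ∃ χ : IrrCharacter G, IsInv φG (χ : G → ℂ) ∧
      classInner ((χ : G → ℂ) ∘ ι) (θ : N → ℂ) ≠ 0 := by
  intro n
  induction n using Nat.strong_induction_on with
  | _ n ih =>
    intro A _ _ _ hn N G _ _ _ _ φN φG ι hι compat hnorm hcop θ hθ
    by_cases h1 : Nat.card A = 1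
    · haveI : Subsingleton A := (Nat.card_eq_one_iff_unique.mp h1).1
      obtain ⟨χ, hχ, hc⟩ := exists_over_hom ι hι θ.2
      refine ⟨⟨χ, hχ⟩, ?_, hc⟩
      intro a g
      rw [Subsingleton.elim a 1, map_one, MulAut.one_apply]
    · haveI : Nontrivial A := by
        rw [← Finite.one_lt_card_iff_nontrivial]
        have : 0 < Nat.card A := Nat.card_pos
        omega
      obtain ⟨p, hpp, P, hPn, hPne, hPp⟩ :=
        Cfsg.Agent.Helper1.exists_normal_pSubgroup_of_solvable A
      haveI := hPn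
      haveI := hnorm
      letI : Fintype (fixP φN P) := Fintype.ofFinite _
      letI : Fintype (fixP φG P) := Fintype.ofFinite _
      have hpG : ¬ p ∣ Nat.card G := not_dvd_card_of_coprime P hpp hPne hPp hcop
      have hpN : ¬ p ∣ Nat.card N :=
        fun h => hpG (h.trans (Subgroup.card_dvd_of_injective ι hι))
      have compatP : ∀ (x : P) (n : N),
          ι ((φN.comp P.subtype) x n) = (φG.comp P.subtype) x (ι n) := fun x n => compat x.1 n
      set ι' := fixHom (φN.comp P.subtype) (φG.comp P.subtype) ι compatP with hι'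
      have hinj' : Function.Injective ι' := fixHom_injective _ _ ι compatP hι
      haveI hnorm' : ι'.range.Normal := fixHom_range_normal _ _ ι compatP hι
      have hθP : IsInv (φN.comp P.subtype) (θ : N → ℂ) := fun x g => hθ x.1 g
      obtain ⟨θs, hθs, -⟩ := glauberman_existsUnique (φN.comp P.subtype) hpp hPp hpN θ hθP
      have hθsinv : IsInv (resFix φN P) (θs : fixP φN P → ℂ) :=
        isInv_resFix_of_isGl φN P hpp hPp hpN hθ hθs
      have hlt : Nat.card (A ⧸ P) < n := hn ▸ card_quotient_lt P hPne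
      have hcop' : (Nat.card (A ⧸ P)).Coprime (Nat.card (fixP φG P)) := by
        apply Nat.Coprime.coprime_dvd_left _
          (Nat.Coprime.coprime_dvd_right (Subgroup.card_subgroup_dvd_card _) hcop)
        rw [Subgroup.card_eq_card_quotient_mul_card_subgroup P]
        exact Dvd.intro _ rfl
      have compat' : ∀ (a : A ⧸ P) (n : fixP φN P),
          ι' (quotFix φN P a n) = quotFix φG P a (ι' n) := by
        intro a n
        induction a using QuotientGroup.induction_on with
        | H a =>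
          apply Subtype.ext
          rw [quotFix_mk, quotFix_mk, resFix_apply, hι', fixHom_apply, fixHom_apply, resFix_apply]
          exact compat a n
      obtain ⟨β, hβinv, hβover⟩ := ih (Nat.card (A ⧸ P)) hlt (A ⧸ P) rfl (fixP φN P) (fixP φG P)
        (quotFix φN P) (quotFix φG P) ι' hinj' compat' hnorm' hcop' θs
        ((isInv_quotFix_iff φN P _).mpr hθsinv)
      obtain ⟨χ, hχP, hgl⟩ := glauberman_surj (φG.comp P.subtype) hpp hPp hpG β
      have hχA : IsInv φG (χ : G → ℂ) :=
        isInv_of_isGl_resFix φG P hpp hPp hpG hχP ((isInv_quotFix_iff φG P _).mp hβinv) hgl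
      refine ⟨χ, hχA, ?_⟩
      letI := irrFintype (G := fixP φN P)
      obtain ⟨m', hm'⟩ := classInner_char_nat
        (isCharacter_comp ι' (isCharacter_of_isIrrCharacter β.2))
        (isCharacter_of_isIrrCharacter θs.2)
      have hm'0 : m' ≠ 0 := by
        rintro rfl
        apply hβover
        rw [hm']
        simp
      have hdvd : m' ∣ charDegree (β : fixP φG P → ℂ) :=
        mult_dvd_degree_hom ι' hinj' β.2 θs.2 m' hm' hm'0
      have hpm' : ¬ p ∣ m' := by
        intro hd
        apply hpG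
        exact ((hd.trans hdvd).trans (charDegree_dvd_card β.2)).trans
          (Subgroup.card_subgroup_dvd_card _)
      exact over_of_isGl (φN.comp P.subtype) (φG.comp P.subtype) ι compatP hpp hPp hpG hι hχP hθP
        hgl hθs m' hm' hpm'

/-- Coprime solvable action: every invariant `θ ∈ Irr(N)` lies under an invariant
`χ ∈ Irr(G)`. -/
theorem over_solvable {A : Type v} [Group A] [Finite A] [Group.IsSolvable A] {N G : Type u}
    [Group N] [Group G] [Fintype N] [Fintype G] (φN : A →* MulAut N) (φG : A →* MulAut G)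
    (ι : N →* G) (hι : Function.Injective ι)
    (compat : ∀ (a : A) (n : N), ι (φN a n) = φG a (ι n)) (hnorm : ι.range.Normal)
    (hcop : (Nat.card A).Coprime (Nat.card G)) (θ : IrrCharacter N)
    (hθ : IsInv φN (θ : N → ℂ)) :
    ∃ χ : IrrCharacter G, IsInv φG (χ : G → ℂ) ∧
      classInner ((χ : G → ℂ) ∘ ι) (θ : N → ℂ) ≠ 0 :=
  over_main _ A rfl N G φN φG ι hι compat hnorm hcop θ hθ

end Main

end Cfsg.Agent.Helper24.Glaub
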