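import Mathlib
import Cfsg.Prelude.Def_Blocks
import Cfsg.Agent.Lib.Helper24.GlaubChain
import Cfsg.Agent.Lib.Helper24.CharBrauerPerm

/-!
# Real characters and real classes under a coprime `p`-group action (helper24's shared library)
-/

set_option autoImplicit false
set_option linter.style.haveILetI false
set_option linter.unusedSectionVars false

namespace Cfsg.Agent.Helper24.Glaub

open Cfsg Cfsg.Agent.Helper24
open scoped ComplexConjugate

universe u v

/-- A real-valued function. -/
def IsRealFun {H : Type*} (θ : H → ℂ) : Prop := ∀ h, (θ h).im = 0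

/-- A real conjugacy class. -/
def IsRealCls {H : Type*} [Group H] (c : ConjClasses H) : Prop :=
  ∀ k : H, ConjClasses.mk k = c → IsConj k k⁻¹

section Brauer

variable {H : Type u} [Group H] [Fintype H]

/-- Complex conjugation on the irreducible characters. -/
noncomputable def conjIrrChar (β : IrrCharacter H) : IrrCharacter H :=
  ⟨fun h => conj ((β : H → ℂ) h), by
    classical
    letI := irrFintype (G := H)
    exact isIrrCharacter_conj β.2⟩

theorem conjIrrChar_apply (β : IrrCharacter H) (h : H) :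
    (conjIrrChar β : H → ℂ) h = conj ((β : H → ℂ) h) := rfl

theorem conjIrrChar_eq_iff (β : IrrCharacter H) : conjIrrChar β = β ↔ IsRealFun (β : H → ℂ) := by
  constructor
  · intro h x
    have := congrArg (fun γ : IrrCharacter H => (γ : H → ℂ) x) h
    simp only [conjIrrChar_apply] at this
    exact Complex.conj_eq_iff_im.mp this
  · intro h
    apply Subtype.ext
    funext x
    rw [conjIrrChar_apply]
    exact Complex.conj_eq_iff_im.mpr (h x)

theorem conjIrrChar_conjIrrChar (β : IrrCharacter H) : conjIrrChar (conjIrrChar β) = β := by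
  apply Subtype.ext
  funext x
  rw [conjIrrChar_apply, conjIrrChar_apply, Complex.conj_conj]

/-- **Brauer**: the numbers of real irreducible characters and of real classes agree. -/
theorem card_real_irr_eq_card_real_cls :
    Nat.card {β : IrrCharacter H // IsRealFun (β : H → ℂ)} =
      Nat.card {c : ConjClasses H // IsRealCls c} := by
  classical
  letI := irrFintype (G := H)
  have h := brauer_permutation (G := H) conjIrrChar (Equiv.inv H)
    (by
      intro a b hab
      obtain ⟨g, hg⟩ := isConj_iff.mp hab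
      apply isConj_iff.mpr
      refine ⟨g, ?_⟩
      show g * a⁻¹ * g⁻¹ = b⁻¹
      rw [← hg]; group)
    (by
      intro χ g
      show conj ((χ : H → ℂ) g⁻¹) = (χ : H → ℂ) g
      rw [irr_inv (isCharacter_of_isIrrCharacter χ.2), Complex.conj_conj])
  rw [Nat.card_congr (Equiv.subtypeEquivRight (fun β => (conjIrrChar_eq_iff β).symm)), h]
  apply Nat.card_congr
  apply Equiv.subtypeEquivRight
  intro c
  constructor
  · intro hc k hk
    have := hc k hk
    rw [← hk] at this
    exact (ConjClasses.mk_eq_mk_iff_isConj.mp this).symm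
  · intro hc k hk
    rw [← hk]
    exact (ConjClasses.mk_eq_mk_iff_isConj.mpr (hc k hk)).symm

end Brauer

section

variable {G : Type u} [Group G] [Fintype G] {A : Type v} [Group A] (φ : A →* MulAut G)
  [Fintype (fixedSub φ)] {p : ℕ}

theorem classInner_conj_conj {H : Type*} [Group H] [Fintype H] (f g : H → ℂ) :
    classInner (fun h => conj (f h)) (fun h => conj (g h)) = conj (classInner f g) := by
  simp only [classInner, map_mul, map_inv₀, map_natCast, map_sum]

theorem isGl_conj {χ : G → ℂ} {β : fixedSub φ → ℂ} (h : IsGl φ p χ β) :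
    IsGl φ p (fun g => conj (χ g)) (fun c => conj (β c)) := by
  obtain ⟨m, hm, hpm⟩ := h
  refine ⟨m, ?_, hpm⟩
  have := classInner_conj_conj (fun c : fixedSub φ => χ c) β
  rw [hm, Complex.conj_natCast] at this
  convert this

theorem isInv_conj {χ : G → ℂ} (h : IsInv φ χ) : IsInv φ (fun g => conj (χ g)) := by
  intro a g
  show conj (χ (φ a g)) = conj (χ g)
  rw [h a g]

/-- The real invariant irreducible characters correspond to the real irreducible characters of
the fixed points. -/
theorem card_real_inv (hpp : p.Prime) (hA : IsPGroup p A) (hp : ¬ p ∣ Nat.card G) :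
    Nat.card {θ : IrrCharacter G // IsRealFun (θ : G → ℂ) ∧ IsInv φ (θ : G → ℂ)} =
      Nat.card {β : IrrCharacter (fixedSub φ) // IsRealFun (β : fixedSub φ → ℂ)} := by
  have hex : ∀ θ : {θ : IrrCharacter G // IsRealFun (θ : G → ℂ) ∧ IsInv φ (θ : G → ℂ)},
      ∃ β : {β : IrrCharacter (fixedSub φ) // IsRealFun (β : fixedSub φ → ℂ)},
        IsGl φ p (θ.1 : G → ℂ) (β.1 : fixedSub φ → ℂ) := by
    intro θ
    obtain ⟨β, hβ, huniq⟩ := glauberman_existsUnique φ hpp hA hp θ.1 θ.2.2
    refine ⟨⟨β, ?_⟩, hβ⟩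
    rw [← conjIrrChar_eq_iff]
    apply huniq
    have h1 := isGl_conj φ hβ
    have h2 : (fun g => conj ((θ.1 : G → ℂ) g)) = (θ.1 : G → ℂ) := by
      funext g
      exact Complex.conj_eq_iff_im.mpr (θ.2.1 g)
    rw [h2] at h1
    exact h1
  choose f hf using hex
  apply Nat.card_eq_of_bijective f
  constructor
  · intro θ θ' h
    apply Subtype.ext
    apply glauberman_inj φ hpp hA hp θ.1 θ'.1 θ.2.2 θ'.2.2 (f θ).1 (hf θ)
    rw [h]
    exact hf θ'
  · intro β
    obtain ⟨χ, hχ, hgl⟩ := glauberman_surj φ hpp hA hp β.1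
    have hreal : IsRealFun (χ : G → ℂ) := by
      rw [← conjIrrChar_eq_iff]
      apply glauberman_inj φ hpp hA hp _ _ (isInv_conj φ hχ) hχ β.1 _ hgl
      have h1 := isGl_conj φ hgl
      have h2 : (fun c => conj ((β.1 : fixedSub φ → ℂ) c)) = (β.1 : fixedSub φ → ℂ) := by
        funext c
        exact Complex.conj_eq_iff_im.mpr (β.2 c)
      rw [h2] at h1
      exact h1
    refine ⟨⟨χ, hreal, hχ⟩, ?_⟩
    apply Subtype.ext
    obtain ⟨β₀, -, huniq⟩ := glauberman_existsUnique φ hpp hA hp χ hχ
    rw [huniq _ (hf ⟨χ, hreal, hχ⟩), huniq _ hgl]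

/-- An invariant class meets the fixed points. -/
theorem exists_fixedSub_in_class [Fact p.Prime] (hA : IsPGroup p A) (hp : ¬ p ∣ Nat.card G)
    (K : ConjClasses G) (hK : ClsInv φ K) : ∃ c : fixedSub φ, ConjClasses.mk (c : G) = K := by
  haveI : (⊤ : Subgroup A).Normal := inferInstance
  have hK' : ClsInv (φ.comp (⊤ : Subgroup A).subtype) K := fun a g hg => hK a.1 g hg
  letI : Fintype (fixP φ ⊤) := Fintype.ofFinite _
  obtain ⟨c, hc⟩ := exists_fixed_in_class φ (⊤ : Subgroup A) (hA.to_subgroup _) hp K hK'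
  refine ⟨⟨c.1, ?_⟩, hc⟩
  intro a
  exact (mem_fixP φ ⊤ c.1).mp c.2 a (Subgroup.mem_top a)

theorem mk_fixedSub_inj [Fact p.Prime] (hA : IsPGroup p A) (hp : ¬ p ∣ Nat.card G)
    {c c' : fixedSub φ} (h : ConjClasses.mk (c : G) = ConjClasses.mk (c' : G)) :
    ConjClasses.mk c = ConjClasses.mk c' := by
  rw [ConjClasses.mk_eq_mk_iff_isConj] at h ⊢
  obtain ⟨z, hz, hzc⟩ := fusion φ hA hp c.2 c'.2 h
  exact isConj_iff.2 ⟨⟨z, hz⟩, Subtype.ext hzc⟩

/-- The real invariant classes correspond to the real classes of the fixed points. -/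
theorem card_real_cls_inv [Fact p.Prime] (hA : IsPGroup p A) (hp : ¬ p ∣ Nat.card G) :
    Nat.card {c : ConjClasses G // IsRealCls c ∧ ClsInv φ c} =
      Nat.card {d : ConjClasses (fixedSub φ) // IsRealCls d} := by
  symm
  have hwd : ∀ d : {d : ConjClasses (fixedSub φ) // IsRealCls d},
      IsRealCls (ConjClasses.map (fixedSub φ).subtype d.1) ∧
        ClsInv φ (ConjClasses.map (fixedSub φ).subtype d.1) := by
    rintro ⟨d, hd⟩
    obtain ⟨c, rfl⟩ := ConjClasses.exists_rep d
    constructor
    · intro k hk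
      have h1 : IsConj k (c : G) := ConjClasses.mk_eq_mk_iff_isConj.mp hk
      have h2 : IsConj c c⁻¹ := hd c rfl
      have h3 : IsConj (c : G) ((c : G)⁻¹) := by
        have := (fixedSub φ).subtype.map_isConj h2
        simpa using this
      have h4 : IsConj ((c : G)⁻¹) k⁻¹ := by
        obtain ⟨g, hg⟩ := isConj_iff.mp h1.symm
        apply isConj_iff.mpr
        refine ⟨g, ?_⟩
        rw [← hg]; group
      exact (h1.trans h3).trans h4
    · intro a g hg
      have h1 : IsConj g (c : G) := ConjClasses.mk_eq_mk_iff_isConj.mp hg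
      have h2 : IsConj (φ a g) (φ a c) := (φ a).toMonoidHom.map_isConj h1
      rw [c.2 a] at h2
      exact ConjClasses.mk_eq_mk_iff_isConj.mpr h2
  apply Nat.card_eq_of_bijective (fun d => ⟨ConjClasses.map (fixedSub φ).subtype d.1, hwd d⟩)
  constructor
  · rintro ⟨d, hd⟩ ⟨d', hd'⟩ h
    apply Subtype.ext
    obtain ⟨c, rfl⟩ := ConjClasses.exists_rep d
    obtain ⟨c', rfl⟩ := ConjClasses.exists_rep d'
    have h1 := congrArg Subtype.val h
    exact mk_fixedSub_inj φ hA hp h1
  · rintro ⟨K, hKr, hKi⟩
    obtain ⟨c, hc⟩ := exists_fixedSub_in_class φ hA hp K hKi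
    refine ⟨⟨ConjClasses.mk c, ?_⟩, ?_⟩
    · intro k hk
      have h1 : ConjClasses.mk (k : G) = K := by
        rw [← hc]
        have := congrArg (ConjClasses.map (fixedSub φ).subtype) hk
        exact this
      have h2 : IsConj (k : G) ((k : G)⁻¹) := hKr k h1
      have h3 : ConjClasses.mk ((k : G)) = ConjClasses.mk (((k⁻¹ : fixedSub φ) : G)) := by
        rw [ConjClasses.mk_eq_mk_iff_isConj]
        exact h2
      exact ConjClasses.mk_eq_mk_iff_isConj.mp (mk_fixedSub_inj φ hA hp h3)
    · apply Subtype.ext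
      exact hc

/-- **Main count**: real invariant characters and real invariant classes. -/
theorem card_real_inv_eq [Fact p.Prime] (hA : IsPGroup p A) (hp : ¬ p ∣ Nat.card G) :
    Nat.card {θ : IrrCharacter G // IsRealFun (θ : G → ℂ) ∧ IsInv φ (θ : G → ℂ)} =
      Nat.card {c : ConjClasses G // IsRealCls c ∧ ClsInv φ c} := by
  rw [card_real_inv φ (Fact.out : p.Prime) hA hp, card_real_cls_inv φ hA hp]
  exact card_real_irr_eq_card_real_cls

/-- If all real irreducible characters are invariant, every real class is invariant. -/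
theorem clsInv_of_real [Fact p.Prime] (hA : IsPGroup p A) (hp : ¬ p ∣ Nat.card G)
    (hall : ∀ θ : IrrCharacter G, IsRealFun (θ : G → ℂ) → IsInv φ (θ : G → ℂ))
    (c : ConjClasses G) (hc : IsRealCls c) : ClsInv φ c := by
  have h1 : Nat.card {θ : IrrCharacter G // IsRealFun (θ : G → ℂ) ∧ IsInv φ (θ : G → ℂ)} =
      Nat.card {θ : IrrCharacter G // IsRealFun (θ : G → ℂ)} :=
    Nat.card_congr (Equiv.subtypeEquivRight (fun θ => ⟨fun h => h.1, fun h => ⟨h, hall θ h⟩⟩))
  have h2 : Nat.card {c : ConjClasses G // IsRealCls c ∧ ClsInv φ c} =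
      Nat.card {c : ConjClasses G // IsRealCls c} := by
    rw [← card_real_inv_eq φ hA hp, h1]
    exact card_real_irr_eq_card_real_cls
  let ι : {c : ConjClasses G // IsRealCls c ∧ ClsInv φ c} → {c : ConjClasses G // IsRealCls c} :=
    fun c => ⟨c.1, c.2.1⟩
  have hinj : Function.Injective ι := by
    intro a b hab
    apply Subtype.ext
    exact congrArg (fun c : {c : ConjClasses G // IsRealCls c} => c.1) hab
  have hbij := Function.Injective.bijective_of_nat_card_le hinj h2.ge
  obtain ⟨d, hd⟩ := hbij.2 ⟨c, hc⟩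
  have : d.1 = c := congrArg Subtype.val hd
  rw [← this]
  exact d.2.2

end

end Cfsg.Agent.Helper24.Glaub
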