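import Mathlib
/-!
# HD-X5: a {2,3}-subgroup of Alt(8) preserving no partition into two 4-sets   (helper24, for helper8 HallSn plan)
-/

set_option autoImplicit false

namespace Cfsg.Agent.Helper8.HS.X5

open Equiv

/-- the Young subgroup `S₃ × S₃ × S₂` of `S₈` as a homomorphism -/
def x5Equiv : (Fin 3 ⊕ Fin 3) ⊕ Fin 2 ≃ Fin 8 :=
  (Equiv.sumCongr finSumFinEquiv (Equiv.refl (Fin 2))).trans finSumFinEquiv

def x5Hom : (Perm (Fin 3) × Perm (Fin 3)) × Perm (Fin 2) →* Perm (Fin 8) :=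
  (Equiv.permCongrHom x5Equiv).toMonoidHom.comp
    ((Perm.sumCongrHom (Fin 3 ⊕ Fin 3) (Fin 2)).comp
      ((Perm.sumCongrHom (Fin 3) (Fin 3)).prodMap (MonoidHom.id (Perm (Fin 2)))))

def g1 : Perm (Fin 8) := x5Hom ((c[0, 1, 2], 1), 1)
def g2 : Perm (Fin 8) := x5Hom ((1, c[0, 1, 2]), 1)
def g3 : Perm (Fin 8) := x5Hom ((c[0, 1], 1), c[0, 1])

theorem g1_sign : Perm.sign g1 = 1 := by decide
theorem g2_sign : Perm.sign g2 = 1 := by decide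
theorem g3_sign : Perm.sign g3 = 1 := by decide

end Cfsg.Agent.Helper8.HS.X5

namespace Cfsg.Agent.Helper8.HS.X5
open Equiv

theorem g1_apply : ∀ x : Fin 8, g1 x = ![1, 2, 0, 3, 4, 5, 6, 7] x := by decide
theorem g2_apply : ∀ x : Fin 8, g2 x = ![0, 1, 2, 4, 5, 3, 6, 7] x := by decide
theorem g3_apply : ∀ x : Fin 8, g3 x = ![1, 0, 2, 3, 4, 5, 7, 6] x := by decide

set_option maxRecDepth 100000 in
/-- no 4-subset of `Fin 8` is preserved or complemented by all three of `(0 1 2)`, `(3 4 5)`, `(0 1)(6 7)` -/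
theorem no_partition : ∀ S : Finset (Fin 8), S.card = 4 →
    ¬ (((∀ x, ![1, 2, 0, 3, 4, 5, 6, 7] x ∈ S ↔ x ∈ S) ∨ (∀ x, ![1, 2, 0, 3, 4, 5, 6, 7] x ∈ S ↔ x ∉ S)) ∧
       ((∀ x, ![0, 1, 2, 4, 5, 3, 6, 7] x ∈ S ↔ x ∈ S) ∨ (∀ x, ![0, 1, 2, 4, 5, 3, 6, 7] x ∈ S ↔ x ∉ S)) ∧
       ((∀ x, ![1, 0, 2, 3, 4, 5, 7, 6] x ∈ S ↔ x ∈ S) ∨ (∀ x, ![1, 0, 2, 3, 4, 5, 7, 6] x ∈ S ↔ x ∉ S))) := by
  decide

end Cfsg.Agent.Helper8.HS.X5

namespace Cfsg.Agent.Helper8.HS.X5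
open Equiv

theorem card_dom : Nat.card ((Perm (Fin 3) × Perm (Fin 3)) × Perm (Fin 2)) = 72 := by
  rw [Nat.card_eq_fintype_card]
  simp [Fintype.card_perm]
  decide

theorem exists_X5 :
    ∃ X : Subgroup (Perm (Fin 8)), X ≤ alternatingGroup (Fin 8) ∧
      (∀ p : ℕ, p.Prime → p ∣ Nat.card X → p = 2 ∨ p = 3) ∧
      ∀ S : Finset (Fin 8), S.card = 4 →
        ∃ σ ∈ X, ¬ ((∀ x, σ x ∈ S ↔ x ∈ S) ∨ (∀ x, σ x ∈ S ↔ x ∉ S)) := by
  refine ⟨x5Hom.range ⊓ alternatingGroup (Fin 8), inf_le_right, ?_, ?_⟩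
  · intro p hp hdvd
    have h1 : Nat.card ↥(x5Hom.range ⊓ alternatingGroup (Fin 8)) ∣ Nat.card ↥x5Hom.range :=
      Subgroup.card_dvd_of_le inf_le_left
    have h2 : Nat.card ↥x5Hom.range ∣ Nat.card ((Perm (Fin 3) × Perm (Fin 3)) × Perm (Fin 2)) :=
      Subgroup.card_range_dvd x5Hom
    rw [card_dom] at h2
    have h3 : p ∣ 2 ^ 3 * 3 ^ 2 := (hdvd.trans h1).trans h2
    rcases (Nat.Prime.dvd_mul hp).mp h3 with h | h
    · left
      exact (Nat.prime_dvd_prime_iff_eq hp Nat.prime_two).mp (hp.dvd_of_dvd_pow h)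
    · right
      exact (Nat.prime_dvd_prime_iff_eq hp Nat.prime_three).mp (hp.dvd_of_dvd_pow h)
  · intro S hS
    by_contra hcon
    push Not at hcon
    have hm1 : g1 ∈ x5Hom.range ⊓ alternatingGroup (Fin 8) :=
      ⟨⟨_, rfl⟩, Perm.mem_alternatingGroup.mpr g1_sign⟩
    have hm2 : g2 ∈ x5Hom.range ⊓ alternatingGroup (Fin 8) :=
      ⟨⟨_, rfl⟩, Perm.mem_alternatingGroup.mpr g2_sign⟩
    have hm3 : g3 ∈ x5Hom.range ⊓ alternatingGroup (Fin 8) :=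
      ⟨⟨_, rfl⟩, Perm.mem_alternatingGroup.mpr g3_sign⟩
    have k1 := hcon g1 hm1
    have k2 := hcon g2 hm2
    have k3 := hcon g3 hm3
    simp only [g1_apply] at k1
    simp only [g2_apply] at k2
    simp only [g3_apply] at k3
    exact no_partition S hS ⟨k1, k2, k3⟩

end Cfsg.Agent.Helper8.HS.X5
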