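import Mathlib
import Cfsg.Agent.Lib.Helper8.HJDefs

/-!
# S3313 piece RT (helper24): `rr z t t = 195`

`t ∈ ⟨a b⟩` forces `a, b ∈ D = C_G(t) = V × B`; `a ~ z` lies in `B`, `b ~ t` lies outside `B`; writing
`b = v₀ b₀` one gets `v₀ = t` and `a b₀` of odd order.  So `(a, b) ↦ (a, t b)` is a bijection onto the
set of pairs of `B ≅ A5` counted in `hcnt`.
-/

set_option autoImplicit false
set_option linter.unusedSectionVars false

namespace Cfsg.Agent.Helper8.HJ

theorem rt_inv_comm {G : Type*} [Group G] {a x w : G} (hax : a * x * a⁻¹ = x⁻¹) (hw : w * w = 1)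
    (h : w ∈ Subgroup.zpowers x) : a * w = w * a := by
  obtain ⟨k, rfl⟩ := h
  have h1 : a * x ^ k * a⁻¹ = (x ^ k)⁻¹ := by
    rw [← conj_zpow, hax, inv_zpow]
  have h2 : (x ^ k)⁻¹ = x ^ k := inv_eq_of_mul_eq_one_left hw
  rw [h2] at h1
  calc a * x ^ k = a * x ^ k * a⁻¹ * a := by group
    _ = x ^ k * a := by rw [h1]

theorem rt_sq_of_order {G : Type*} [Group G] {a : G} (h : orderOf a = 2) : a * a = 1 := by
  have := pow_orderOf_eq_one a
  rw [h, sq] at this
  exact this

theorem rt_ne_one_of_order {G : Type*} [Group G] {a : G} (h : orderOf a = 2) : a ≠ 1 := by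
  rintro rfl
  rw [orderOf_one] at h
  omega

theorem rt_order_of_conj {G : Type*} [Group G] {a b : G} (h : IsConj a b) : orderOf a = orderOf b := by
  obtain ⟨c, hc⟩ := h
  exact hc.orderOf_eq

/-- Both `a` and `b` commute with `w` when `w = w⁻¹ ∈ ⟨a b⟩` and `a, b` are involutions. -/
theorem rt_comm {G : Type*} [Group G] {a b w : G} (ha : a * a = 1) (hb : b * b = 1) (hw : w * w = 1)
    (h : w ∈ Subgroup.zpowers (a * b)) : a * w = w * a ∧ b * w = w * b := by
  have hai : a⁻¹ = a := inv_eq_of_mul_eq_one_left ha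
  have hbi : b⁻¹ = b := inv_eq_of_mul_eq_one_left hb
  constructor
  · refine rt_inv_comm ?_ hw h
    rw [mul_inv_rev, hai, hbi, ← mul_assoc, ha, one_mul]
  · refine rt_inv_comm ?_ hw h
    rw [mul_inv_rev, hai, hbi, mul_assoc, mul_assoc, hb, mul_one]

/-- Elementwise commuting subgroups: every element of the join is a product. -/
theorem rt_mem_sup {G : Type*} [Group G] {V B : Subgroup G}
    (hc : ∀ a ∈ V, ∀ b ∈ B, a * b = b * a) {x : G} (hx : x ∈ V ⊔ B) :
    ∃ v ∈ V, ∃ b ∈ B, x = v * b := by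
  let H : Subgroup G :=
    { carrier := {x | ∃ v ∈ V, ∃ b ∈ B, x = v * b}
      one_mem' := ⟨1, V.one_mem, 1, B.one_mem, (mul_one 1).symm⟩
      mul_mem' := by
        rintro _ _ ⟨v, hv, b, hb, rfl⟩ ⟨v', hv', b', hb', rfl⟩
        refine ⟨v * v', V.mul_mem hv hv', b * b', B.mul_mem hb hb', ?_⟩
        calc v * b * (v' * b') = v * (b * v') * b' := by group
          _ = v * (v' * b) * b' := by rw [hc v' hv' b hb]
          _ = v * v' * (b * b') := by group
      inv_mem' := by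
        rintro _ ⟨v, hv, b, hb, rfl⟩
        refine ⟨v⁻¹, V.inv_mem hv, b⁻¹, B.inv_mem hb, ?_⟩
        rw [mul_inv_rev, hc v⁻¹ (V.inv_mem hv) b⁻¹ (B.inv_mem hb)] }
  have hle : V ⊔ B ≤ H := by
    refine sup_le ?_ ?_
    · intro v hv
      exact ⟨v, hv, 1, B.one_mem, (mul_one v).symm⟩
    · intro b hb
      exact ⟨1, V.one_mem, b, hb, (one_mul b).symm⟩
  exact hle hx

theorem rt_fwd {G : Type*} [Group G] {z t : G} {Q V B : Subgroup G} (hz : orderOf z = 2)
    (d : TCfg z t Q V B)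
    (hord : ∀ x : B, orderOf x = 1 ∨ orderOf x = 2 ∨ orderOf x = 3 ∨ orderOf x = 5)
    {a b : G} (ha : IsConj z a) (hb : IsConj t b) (h : t ∈ Subgroup.zpowers (a * b)) :
    a ∈ B ∧ orderOf a = 2 ∧ t * b ∈ B ∧ (t * b) * (t * b) = 1 ∧ (a * (t * b)) ^ 15 = 1 := by
  obtain ⟨hVD, hBD, hc, hinf, hsup⟩ := d.hVB
  have hoa : orderOf a = 2 := by rw [← rt_order_of_conj ha]; exact hz
  have hob : orderOf b = 2 := by rw [← rt_order_of_conj hb]; exact d.ht
  have htt : t * t = 1 := rt_sq_of_order d.ht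
  have ht1 : t ≠ 1 := rt_ne_one_of_order d.ht
  have hbb : b * b = 1 := rt_sq_of_order hob
  obtain ⟨h1, h2⟩ := rt_comm (rt_sq_of_order hoa) hbb htt h
  have haD : a ∈ Subgroup.centralizer ({t} : Set G) := Subgroup.mem_centralizer_singleton_iff.2 h1
  have hbD : b ∈ Subgroup.centralizer ({t} : Set G) := Subgroup.mem_centralizer_singleton_iff.2 h2
  have haB : a ∈ B := by
    by_contra haB
    exact d.hzt (ha.trans (d.hCt a haD hoa haB))
  rw [← hsup] at hbD
  obtain ⟨v, hv, b₀, hb₀, rfl⟩ := rt_mem_sup hc hbD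
  -- `a * (v * b₀) = v * (a * b₀)`
  have hab : a * (v * b₀) = v * (a * b₀) := by
    rw [← mul_assoc, ← hc v hv a haB, mul_assoc]
  have hcomm : Commute v (a * b₀) := hc v hv (a * b₀) (B.mul_mem haB hb₀)
  obtain ⟨k, hk⟩ := h
  have hk' : v ^ k * (a * b₀) ^ k = t := by
    have := hk
    simp only at this
    rw [hab, hcomm.mul_zpow] at this
    exact this
  have hyB : (a * b₀) ^ k ∈ B := B.zpow_mem (B.mul_mem haB hb₀) k
  have hyV : (a * b₀) ^ k ∈ V := by
    have : (a * b₀) ^ k = (v ^ k)⁻¹ * t := by rw [← hk']; group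
    rw [this]
    exact V.mul_mem (V.inv_mem (V.zpow_mem hv k)) d.htV
  have hy1 : (a * b₀) ^ k = 1 := by
    have : (a * b₀) ^ k ∈ V ⊓ B := ⟨hyV, hyB⟩
    rw [hinf] at this
    exact Subgroup.mem_bot.1 this
  rw [hy1, mul_one] at hk'
  have hv2 : v ^ (2 : ℤ) = 1 := by
    have := d.hV2 v hv
    rw [← zpow_natCast] at this
    exact_mod_cast this
  have hkd : k = 2 * (k / 2) + k % 2 := (Int.mul_ediv_add_emod k 2).symm
  have hvk : v ^ k = v ^ (k % 2) := by
    conv_lhs => rw [hkd]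
    rw [zpow_add, zpow_mul, hv2, one_zpow, one_mul]
  have hkodd : k % 2 = 1 := by
    rcases Int.emod_two_eq_zero_or_one k with h0 | h1
    · exfalso
      rw [hvk, h0, zpow_zero] at hk'
      exact ht1 hk'.symm
    · exact h1
  have hvt : v = t := by
    rw [hvk, hkodd, zpow_one] at hk'
    exact hk'
  subst hvt
  have htb : v * (v * b₀) = b₀ := by rw [← mul_assoc, htt, one_mul]
  have hb₀2 : b₀ * b₀ = 1 := by
    have := hbb
    rw [show v * b₀ * (v * b₀) = v * (b₀ * v) * b₀ by group, ← hc v hv b₀ hb₀,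
      show v * (v * b₀) * b₀ = (v * v) * (b₀ * b₀) by group, htt, one_mul] at this
    exact this
  refine ⟨haB, hoa, ?_, ?_, ?_⟩
  · rw [htb]; exact hb₀
  · rw [htb]; exact hb₀2
  · rw [htb]
    have ho := hord ⟨a * b₀, B.mul_mem haB hb₀⟩
    rw [Subgroup.orderOf_mk] at ho
    have hdvd : (orderOf (a * b₀) : ℤ) ∣ k := orderOf_dvd_iff_zpow_eq_one.2 hy1
    have h15 : orderOf (a * b₀) ∣ 15 := by
      rcases ho with ho | ho | ho | ho
      · rw [ho]; norm_num
      · exfalso
        rw [ho] at hdvd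
        omega
      · rw [ho]; norm_num
      · rw [ho]; norm_num
    exact orderOf_dvd_iff_pow_eq_one.1 h15

theorem rt_bwd {G : Type*} [Group G] {z t : G} {Q V B : Subgroup G}
    (d : TCfg z t Q V B) {a c : G} (haB : a ∈ B) (hoa : orderOf a = 2) (hcB : c ∈ B)
    (hcc : c * c = 1) (h15 : (a * c) ^ 15 = 1) :
    IsConj z a ∧ IsConj t (t * c) ∧ t ∈ Subgroup.zpowers (a * (t * c)) := by
  obtain ⟨hVD, hBD, hc, hinf, hsup⟩ := d.hVB
  have htt : t * t = 1 := rt_sq_of_order d.ht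
  have ht1 : t ≠ 1 := rt_ne_one_of_order d.ht
  have htV := d.htV
  have htnB : t ∉ B := by
    intro htB
    have : t ∈ V ⊓ B := ⟨htV, htB⟩
    rw [hinf] at this
    exact ht1 (Subgroup.mem_bot.1 this)
  have htcD : t * c ∈ Subgroup.centralizer ({t} : Set G) :=
    (Subgroup.centralizer ({t} : Set G)).mul_mem (hVD htV) (hBD hcB)
  have htc2 : (t * c) ^ 2 = 1 := by
    rw [sq, show t * c * (t * c) = t * (c * t) * c by group, ← hc t htV c hcB,
      show t * (t * c) * c = (t * t) * (c * c) by group, htt, hcc, one_mul]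
  have htcnB : t * c ∉ B := by
    intro hB
    apply htnB
    have : t = (t * c) * c⁻¹ := by group
    rw [this]
    exact B.mul_mem hB (B.inv_mem hcB)
  have htc1 : t * c ≠ 1 := by
    intro h1
    apply htcnB
    rw [h1]
    exact B.one_mem
  have hotc : orderOf (t * c) = 2 := by
    have : Fact (Nat.Prime 2) := ⟨Nat.prime_two⟩
    exact orderOf_eq_prime htc2 htc1
  refine ⟨(d.hBz a haB hoa).symm, (d.hCt (t * c) htcD hotc htcnB).symm, ?_⟩
  have hab : a * (t * c) = t * (a * c) := by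
    rw [← mul_assoc, ← hc t htV a haB, mul_assoc]
  have hcomm : Commute t (a * c) := hc t htV (a * c) (B.mul_mem haB hcB)
  have ht15 : t ^ 15 = t := by
    have : t ^ 2 = 1 := by rw [sq]; exact htt
    calc t ^ 15 = (t ^ 2) ^ 7 * t := by rw [← pow_mul, ← pow_succ]
      _ = t := by rw [this, one_pow, one_mul]
  have : (a * (t * c)) ^ 15 = t := by
    rw [hab, hcomm.mul_pow, h15, mul_one, ht15]
  have hm := Subgroup.npow_mem_zpowers (a * (t * c)) 15
  rw [this] at hm
  exact hm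

theorem r_t {G : Type*} [Group G] [Finite G] {z t : G} {Q V B : Subgroup G} (hz : orderOf z = 2)
    (d : TCfg z t Q V B)
    (hord : ∀ x : B, orderOf x = 1 ∨ orderOf x = 2 ∨ orderOf x = 3 ∨ orderOf x = 5)
    (hcnt : Nat.card {p : B × B // orderOf p.1 = 2 ∧ p.2 * p.2 = 1 ∧ (p.1 * p.2) ^ 15 = 1} = 195) :
    rr z t t = 195 := by
  have htt : t * t = 1 := rt_sq_of_order d.ht
  let e : {q : G × G // IsConj z q.1 ∧ IsConj t q.2 ∧ t ∈ Subgroup.zpowers (q.1 * q.2)} ≃
      {p : B × B // orderOf p.1 = 2 ∧ p.2 * p.2 = 1 ∧ (p.1 * p.2) ^ 15 = 1} :=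
    { toFun := fun q =>
        ⟨(⟨q.1.1, (rt_fwd hz d hord q.2.1 q.2.2.1 q.2.2.2).1⟩,
          ⟨t * q.1.2, (rt_fwd hz d hord q.2.1 q.2.2.1 q.2.2.2).2.2.1⟩),
          by
            rw [Subgroup.orderOf_mk]
            exact (rt_fwd hz d hord q.2.1 q.2.2.1 q.2.2.2).2.1,
          Subtype.ext (rt_fwd hz d hord q.2.1 q.2.2.1 q.2.2.2).2.2.2.1,
          Subtype.ext (rt_fwd hz d hord q.2.1 q.2.2.1 q.2.2.2).2.2.2.2⟩
      invFun := fun p =>
        ⟨((p.1.1 : G), t * (p.1.2 : G)),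
          rt_bwd d p.1.1.2 (by rw [Subgroup.orderOf_coe]; exact p.2.1) p.1.2.2
            (by have := congrArg Subtype.val p.2.2.1; simpa using this)
            (by have := congrArg Subtype.val p.2.2.2; simpa using this)⟩
      left_inv := fun q => by
        apply Subtype.ext
        apply Prod.ext
        · rfl
        · show t * (t * q.1.2) = q.1.2
          rw [← mul_assoc, htt, one_mul]
      right_inv := fun p => by
        apply Subtype.ext
        apply Prod.ext
        · rfl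
        · apply Subtype.ext
          show t * (t * (p.1.2 : G)) = p.1.2
          rw [← mul_assoc, htt, one_mul] }
  unfold rr
  rw [Nat.card_congr e, hcnt]

end Cfsg.Agent.Helper8.HJ
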