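import Mathlib
import Cfsg.Agent.Lib.Helper8.HJDefs

/-!
# S3313 piece RZ (helper24): `rr z t z = 960`

`z ∈ ⟨a b⟩` forces `a, b ∈ C_G(z)`; `a ~ z` lies in `Q`, `b ~ t` lies outside `Q`; so the counted set is
the sigma type over the involutions `v` of `C ∖ Q` of the `a`'s with `z ∈ ⟨a v⟩`.
-/

set_option autoImplicit false
set_option linter.unusedSectionVars false

namespace Cfsg.Agent.Helper8.HJ

theorem rz_inv_comm {G : Type*} [Group G] {a x w : G} (hax : a * x * a⁻¹ = x⁻¹) (hw : w * w = 1)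
    (h : w ∈ Subgroup.zpowers x) : a * w = w * a := by
  obtain ⟨k, rfl⟩ := h
  have h1 : a * x ^ k * a⁻¹ = (x ^ k)⁻¹ := by
    rw [← conj_zpow, hax, inv_zpow]
  have h2 : (x ^ k)⁻¹ = x ^ k := inv_eq_of_mul_eq_one_left hw
  rw [h2] at h1
  calc a * x ^ k = a * x ^ k * a⁻¹ * a := by group
    _ = x ^ k * a := by rw [h1]

theorem rz_sq_of_order {G : Type*} [Group G] {a : G} (h : orderOf a = 2) : a * a = 1 := by
  have := pow_orderOf_eq_one a
  rw [h, sq] at this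
  exact this

theorem rz_order_of_conj {G : Type*} [Group G] {a b : G} (h : IsConj a b) : orderOf a = orderOf b := by
  obtain ⟨c, hc⟩ := h
  exact hc.orderOf_eq

/-- Both `a` and `b` commute with `w` when `w = w⁻¹ ∈ ⟨a b⟩` and `a, b` are involutions. -/
theorem rz_comm {G : Type*} [Group G] {a b w : G} (ha : a * a = 1) (hb : b * b = 1) (hw : w * w = 1)
    (h : w ∈ Subgroup.zpowers (a * b)) : a * w = w * a ∧ b * w = w * b := by
  have hai : a⁻¹ = a := inv_eq_of_mul_eq_one_left ha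
  have hbi : b⁻¹ = b := inv_eq_of_mul_eq_one_left hb
  constructor
  · refine rz_inv_comm ?_ hw h
    rw [mul_inv_rev, hai, hbi, ← mul_assoc, ha, one_mul]
  · refine rz_inv_comm ?_ hw h
    rw [mul_inv_rev, hai, hbi, mul_assoc, mul_assoc, hb, mul_one]

theorem rz_fwd {G : Type*} [Group G] {z t : G} {Q K V B : Subgroup G} (c : ZCfg z Q K)
    (d : TCfg z t Q V B) {a b : G} (ha : IsConj z a) (hb : IsConj t b)
    (h : z ∈ Subgroup.zpowers (a * b)) :
    (b ∈ Subgroup.centralizer ({z} : Set G) ∧ b ∉ Q ∧ orderOf b = 2) ∧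
      (a ∈ Q ∧ orderOf a = 2) := by
  have hoa : orderOf a = 2 := by rw [← rz_order_of_conj ha]; exact c.hz
  have hob : orderOf b = 2 := by rw [← rz_order_of_conj hb]; exact d.ht
  have hzz : z * z = 1 := rz_sq_of_order c.hz
  obtain ⟨h1, h2⟩ := rz_comm (rz_sq_of_order hoa) (rz_sq_of_order hob) hzz h
  have haC : a ∈ Subgroup.centralizer ({z} : Set G) := Subgroup.mem_centralizer_singleton_iff.2 h1
  have hbC : b ∈ Subgroup.centralizer ({z} : Set G) := Subgroup.mem_centralizer_singleton_iff.2 h2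
  refine ⟨⟨hbC, ?_, hob⟩, ?_, hoa⟩
  · intro hbQ
    exact d.hzt ((d.hQz b hbQ hob).symm.trans hb.symm)
  · by_contra haQ
    exact d.hzt (ha.trans (d.hCz a haC hoa haQ))

theorem r_z {G : Type*} [Group G] [Finite G] {z t : G} {Q K V B : Subgroup G} (c : ZCfg z Q K)
    (d : TCfg z t Q V B)
    (hJ : Nat.card {v : G // v ∈ Subgroup.centralizer ({z} : Set G) ∧ v ∉ Q ∧ orderOf v = 2} = 120)
    (hN : ∀ v : G, v ∈ Subgroup.centralizer ({z} : Set G) → v ∉ Q → orderOf v = 2 →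
      Nat.card {a : G // a ∈ Q ∧ orderOf a = 2 ∧ z ∈ Subgroup.zpowers (a * v)} = 8) :
    rr z t z = 960 := by
  classical
  let e : {q : G × G // IsConj z q.1 ∧ IsConj t q.2 ∧ z ∈ Subgroup.zpowers (q.1 * q.2)} ≃
      Sigma (fun v : {v : G // v ∈ Subgroup.centralizer ({z} : Set G) ∧ v ∉ Q ∧ orderOf v = 2} =>
        {a : G // a ∈ Q ∧ orderOf a = 2 ∧ z ∈ Subgroup.zpowers (a * v.1)}) :=
    { toFun := fun q =>
        ⟨⟨q.1.2, (rz_fwd c d q.2.1 q.2.2.1 q.2.2.2).1⟩,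
          ⟨q.1.1, (rz_fwd c d q.2.1 q.2.2.1 q.2.2.2).2.1, (rz_fwd c d q.2.1 q.2.2.1 q.2.2.2).2.2,
            q.2.2.2⟩⟩
      invFun := fun s =>
        ⟨(s.2.1, s.1.1), (d.hQz s.2.1 s.2.2.1 s.2.2.2.1).symm,
          (d.hCz s.1.1 s.1.2.1 s.1.2.2.2 s.1.2.2.1).symm, s.2.2.2.2⟩
      left_inv := fun q => by rfl
      right_inv := fun s => by rfl }
  unfold rr
  rw [Nat.card_congr e]
  let _ : Fintype {v : G // v ∈ Subgroup.centralizer ({z} : Set G) ∧ v ∉ Q ∧ orderOf v = 2} :=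
    Fintype.ofFinite _
  rw [Nat.card_sigma]
  rw [Finset.sum_congr rfl (fun v _ => hN v.1 v.2.1 v.2.2.1 v.2.2.2)]
  rw [Finset.sum_const, Finset.card_univ, ← Nat.card_eq_fintype_card, hJ]
  rfl

end Cfsg.Agent.Helper8.HJ
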