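import Mathlib
import Cfsg.Agent.Lib.Helper23.HKKGrp

/-! # S3779 piece GCL, core form (helper24): the class of `G` from the class of the Lie ring `AL G`.
The one fact needed from the pieces GHB/GLC (`brHom_of_of` + `hbr_cmk`) is taken as the hypothesis `hkey`. -/

set_option autoImplicit false

namespace Cfsg.Agent.Helper23.HKK

open scoped DirectSum commutatorElement

variable (G : Type*) [Group G]

theorem gcl_cmk_surj (w : ℕ) (x : Comp G w) : ∃ (a : G) (ha : a ∈ Gam G w), x = cmk G w a ha := by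
  have : ∀ z : CompM G w, ∃ (a : G) (ha : a ∈ Gam G w), Additive.ofMul z = cmk G w a ha := by
    intro z
    induction z using QuotientGroup.induction_on with
    | H a => exact ⟨a.1, a.2, rfl⟩
  exact this (Additive.toMul x)

theorem gcl_cmk_one (w : ℕ) (h : (1 : G) ∈ Gam G w) : cmk G w 1 h = 0 := by
  unfold cmk
  have : (⟨1, h⟩ : Gam G w) = 1 := rfl
  rw [this, QuotientGroup.mk_one]
  rfl

theorem gcl_cmk_mul (w : ℕ) (a b : G) (ha : a ∈ Gam G w) (hb : b ∈ Gam G w) (hab : a * b ∈ Gam G w) :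
    cmk G w (a * b) hab = cmk G w a ha + cmk G w b hb := by
  unfold cmk
  have : (⟨a * b, hab⟩ : Gam G w) = ⟨a, ha⟩ * ⟨b, hb⟩ := rfl
  rw [this, QuotientGroup.mk_mul]
  rfl

theorem gcl_cmk_inv (w : ℕ) (a : G) (ha : a ∈ Gam G w) (hi : a⁻¹ ∈ Gam G w) :
    cmk G w a⁻¹ hi = - cmk G w a ha := by
  unfold cmk
  have : (⟨a⁻¹, hi⟩ : Gam G w) = (⟨a, ha⟩ : Gam G w)⁻¹ := rfl
  rw [this, QuotientGroup.mk_inv]
  rfl

theorem gcl_mem_of_cmk_eq_zero (w : ℕ) (a : G) (ha : a ∈ Gam G w) (h : cmk G w a ha = 0) :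
    a ∈ Gam G (w + 1) := by
  unfold cmk at h
  have h1 : (QuotientGroup.mk (⟨a, ha⟩ : Gam G w) : CompM G w) = 1 := by
    have := congrArg Additive.toMul h
    simpa using this
  rw [QuotientGroup.eq_one_iff] at h1
  exact h1

/-- GCL (first part), core form -/
theorem gcl_comp_le_core
    (hkey : ∀ (i : ℕ) (a g : G) (ha : a ∈ Gam G i) (hg : g ∈ Gam G 1) (h : ⁅a, g⁆ ∈ Gam G (i + 1)),
      brHom G (DirectSum.of (Comp G) i (cmk G i a ha)) (DirectSum.of (Comp G) 1 (cmk G 1 g hg)) =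
        DirectSum.of (Comp G) (i + 1) (cmk G (i + 1) ⁅a, g⁆ h)) :
    ∀ (w : ℕ) (x : Comp G (w + 1)), DirectSum.of (Comp G) (w + 1) x ∈ lcsAL G w := by
  intro w
  induction w with
  | zero =>
    intro x
    show _ ∈ (⊤ : AddSubgroup (AL G))
    exact AddSubgroup.mem_top _
  | succ w ih =>
    intro x
    obtain ⟨a, ha, rfl⟩ := gcl_cmk_surj G (w + 1 + 1) x
    have ha' : a ∈ Subgroup.closure {x | ∃ p ∈ (⊤ : Subgroup G).lowerCentralSeries w,
        ∃ q ∈ (⊤ : Subgroup G), ⁅p, q⁆ = x} := ha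
    have key : ∀ a : G, a ∈ Subgroup.closure {x | ∃ p ∈ (⊤ : Subgroup G).lowerCentralSeries w,
        ∃ q ∈ (⊤ : Subgroup G), ⁅p, q⁆ = x} → ∃ h : a ∈ Gam G (w + 1 + 1),
        DirectSum.of (Comp G) (w + 1 + 1) (cmk G (w + 1 + 1) a h) ∈ lcsAL G (w + 1) := by
      intro a ha'
      induction ha' using Subgroup.closure_induction with
      | mem y hy =>
        obtain ⟨b, hb, g, -, rfl⟩ := hy
        have hb' : b ∈ Gam G (w + 1) := hb
        have hg' : g ∈ Gam G 1 := Subgroup.mem_top g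
        have hbg : ⁅b, g⁆ ∈ Gam G (w + 1 + 1) :=
          Subgroup.subset_closure ⟨b, hb, g, Subgroup.mem_top g, rfl⟩
        refine ⟨hbg, ?_⟩
        rw [← hkey (w + 1) b g hb' hg' hbg]
        exact AddSubgroup.subset_closure ⟨_, ih _, _, rfl⟩
      | one =>
        refine ⟨one_mem _, ?_⟩
        rw [gcl_cmk_one, map_zero]
        exact zero_mem _
      | mul y z _ _ hy hz =>
        obtain ⟨h1, h1'⟩ := hy
        obtain ⟨h2, h2'⟩ := hz
        refine ⟨mul_mem h1 h2, ?_⟩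
        rw [gcl_cmk_mul G _ y z h1 h2, map_add]
        exact add_mem h1' h2'
      | inv y _ hy =>
        obtain ⟨h1, h1'⟩ := hy
        refine ⟨inv_mem h1, ?_⟩
        rw [gcl_cmk_inv G _ y h1, map_neg]
        exact neg_mem h1'
    obtain ⟨h, hh⟩ := key a ha'
    exact hh

/-- GCL (second part), core form -/
theorem gcl_class_core
    (hcomp : ∀ (w : ℕ) (x : Comp G (w + 1)), DirectSum.of (Comp G) (w + 1) x ∈ lcsAL G w)
    (hnil : Group.IsNilpotent G) (h : ℕ) (hL : lcsAL G h = ⊥) :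
    (⊤ : Subgroup G).lowerCentralSeries h = ⊥ := by
  classical
  -- lcs h ≤ lcs (h+1)
  have hle : (⊤ : Subgroup G).lowerCentralSeries h ≤ (⊤ : Subgroup G).lowerCentralSeries (h + 1) := by
    intro a ha
    have ha' : a ∈ Gam G (h + 1) := ha
    have h0 := hcomp h (cmk G (h + 1) a ha')
    rw [hL, AddSubgroup.mem_bot] at h0
    have h1 : cmk G (h + 1) a ha' = 0 := by
      have hinj := DirectSum.of_injective (β := Comp G) (h + 1)
      apply hinj
      rw [h0, map_zero]
    exact gcl_mem_of_cmk_eq_zero G (h + 1) a ha' h1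
  have heq : (⊤ : Subgroup G).lowerCentralSeries (h + 1) = (⊤ : Subgroup G).lowerCentralSeries h :=
    le_antisymm (Subgroup.lowerCentralSeries_antitone _ (Nat.le_succ h)) hle
  have hall : ∀ k : ℕ, (⊤ : Subgroup G).lowerCentralSeries (h + k) =
      (⊤ : Subgroup G).lowerCentralSeries h := by
    intro k
    induction k with
    | zero => rfl
    | succ k ih =>
      have : (⊤ : Subgroup G).lowerCentralSeries (h + (k + 1)) =
          ⁅(⊤ : Subgroup G).lowerCentralSeries (h + k), (⊤ : Subgroup G)⁆ := rfl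
      rw [this, ih]
      exact heq
  obtain ⟨n, hn⟩ := Subgroup.nilpotent_iff_lowerCentralSeries.mp hnil
  by_cases hnh : n ≤ h
  · have := Subgroup.lowerCentralSeries_antitone (⊤ : Subgroup G) hnh
    rw [hn] at this
    exact le_bot_iff.mp this
  · obtain ⟨k, rfl⟩ : ∃ k, n = h + k := ⟨n - h, by omega⟩
    rw [← hall k, hn]

end Cfsg.Agent.Helper23.HKK
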