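import Mathlib
import Cfsg.Agent.Lib.Helper23.HKKGrp
import Cfsg.Agent.Lib.Helper11.HKKGLC
import Cfsg.Agent.Lib.Helper7.HKKGHB
import Cfsg.Agent.Lib.Helper24.HKKGCLCore

/-! # S3779 piece GCL (helper24): exact skeleton signatures, wrapping `HKKGCLCore` with the landed
pieces GLC (helper11) and GHB (helper7). -/

set_option autoImplicit false

namespace Cfsg.Agent.Helper23.HKK

open scoped DirectSum commutatorElement

variable (G : Type*) [Group G]

/-- piece GCL, first part -/
theorem comp_le_lcsAL (w : ℕ) (x : Comp G (w + 1)) : DirectSum.of (Comp G) (w + 1) x ∈ lcsAL G w :=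
  gcl_comp_le_core G (fun i a g ha hg h => by rw [brHom_of_of, hbr_cmk]) w x

/-- piece GCL, second part -/
theorem class_of_lcsAL (hnil : Group.IsNilpotent G) (h : ℕ) (hL : lcsAL G h = ⊥) :
    (⊤ : Subgroup G).lowerCentralSeries h = ⊥ :=
  gcl_class_core G (comp_le_lcsAL G) hnil h hL

end Cfsg.Agent.Helper23.HKK
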