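import Mathlib
import Cfsg.Agent.Lib.Helper23.HKKGrp

/-! # S3779 piece GDV (helper24): `p`-divisibility of the associated Lie ring `AL G` when
`gcd(|G|, p) = 1`. -/

set_option autoImplicit false

namespace Cfsg.Agent.Helper23.HKK

open scoped DirectSum commutatorElement

variable (G : Type*) [Group G]

/-- `|G|` kills every homogeneous component -/
theorem gdv_card_nsmul_comp [Finite G] (w : ℕ) (x : Comp G w) : (Nat.card G) • x = 0 := by
  have h : ∀ z : CompM G w, z ^ (Nat.card G) = 1 := by
    intro z
    induction z using QuotientGroup.induction_on with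
    | H a =>
      rw [← QuotientGroup.mk_pow]
      have ha : a ^ (Nat.card G) = 1 := by
        apply Subtype.ext
        rw [Subgroup.coe_pow, Subgroup.coe_one]
        exact pow_card_eq_one'
      rw [ha, QuotientGroup.mk_one]
  have := h (Additive.toMul x)
  have h2 : Additive.ofMul ((Additive.toMul x) ^ (Nat.card G)) = (Nat.card G) • x := by
    rw [ofMul_pow]; rfl
  rw [← h2, this]
  rfl

/-- `|G|` kills `AL G` -/
theorem gdv_card_nsmul [Finite G] (x : AL G) : (Nat.card G) • x = 0 := by
  induction x using DirectSum.induction_on with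
  | zero => simp
  | of i x =>
    rw [← map_nsmul, gdv_card_nsmul_comp, map_zero]
  | add x y hx hy => rw [nsmul_add, hx, hy, add_zero]

/-- piece GDV -/
theorem AL_div [Finite G] (p : ℕ) (hcop : (Nat.card G).Coprime p) (x : AL G) : ∃ y : AL G, p • y = x := by
  have hN := gdv_card_nsmul G x
  have hpos : 0 < Nat.card G := Nat.card_pos
  by_cases h1 : Nat.card G = 1
  · refine ⟨0, ?_⟩
    rw [h1, one_nsmul] at hN
    rw [hN, nsmul_zero]
  · have hgt : 1 < Nat.card G := by omega
    obtain ⟨m, -, hm⟩ := Nat.exists_mul_mod_eq_one_of_coprime (n := p) hcop.symm hgt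
    refine ⟨m • x, ?_⟩
    rw [← mul_nsmul']
    have hdiv := Nat.div_add_mod (p * m) (Nat.card G)
    rw [hm] at hdiv
    rw [← hdiv, add_nsmul, one_nsmul, mul_nsmul, hN, nsmul_zero, zero_add]

end Cfsg.Agent.Helper23.HKK
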