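import Mathlib
import Cfsg.Agent.Lib.Helper24.IPDefs
import Cfsg.Agent.Lib.Helper24.CdPCenter

/-!
# Isaacs–Passman, piece CT: central type (helper24)
-/

set_option autoImplicit false
set_option linter.style.haveILetI false
set_option linter.unusedSectionVars false

namespace Cfsg.Agent.Helper24.IP

open Cfsg Cfsg.Agent.Helper24 Cfsg.Agent.Helper24.Cd2 Cfsg.Agent.Helper5 Cfsg.Agent.Helper23
  Cfsg.Agent.Helper24.CdP
open scoped commutatorElement ComplexConjugate

universe u

/-- If the commutator subgroup of `Q` is central and lies in every nontrivial normal subgroup, a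
nonlinear irreducible character vanishes off the centre, and its degree squared is the index of
the centre. -/
theorem central_type_of_mono {Q : Type u} [Group Q] [Finite Q] (hQ : Mono Q)
    (hle : commutator Q ≤ Subgroup.center Q) {ψ : Q → ℂ} (hψ : IsIrrCharacter Q ψ)
    (hnl : charDegree ψ ≠ 1) :
    (∀ g, g ∉ Subgroup.center Q → ψ g = 0) ∧
      charDegree ψ ^ 2 = (Subgroup.center Q).index := by
  classical
  letI : Fintype Q := Fintype.ofFinite Q
  have hψc := isCharacter_of_isIrrCharacter hψ
  -- `ψ` is faithful on the commutator subgroup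
  have hfaith : ∀ z ∈ commutator Q, ψ z = ψ 1 → z = 1 := by
    intro z hz hz1
    by_contra hne
    haveI := charKer_normal hψc
    have hker : charKer hψc ≠ ⊥ := by
      intro hbot
      have : z ∈ charKer hψc := hz1
      rw [hbot, Subgroup.mem_bot] at this
      exact hne this
    have h2 := hQ.min _ (charKer_normal hψc) hker
    apply hnl
    apply linear_of_commutator_le_ker hψ
    intro x hx
    exact h2 hx
  have hvan : ∀ g, g ∉ Subgroup.center Q → ψ g = 0 := by
    intro g hg
    rw [Subgroup.mem_center_iff] at hg
    push Not at hg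
    obtain ⟨x, hx⟩ := hg
    set z : Q := g⁻¹ * x⁻¹ * g * x with hz
    have hzc : z ∈ commutator Q := by
      have : z = ⁅g⁻¹, x⁻¹⁆ := by rw [commutatorElement_def, hz]; group
      rw [this, commutator_def]
      exact Subgroup.commutator_mem_commutator (Subgroup.mem_top _) (Subgroup.mem_top _)
    have hz1 : z ≠ 1 := by
      intro h
      apply hx
      have : x * g = g * x * z⁻¹ := by rw [hz]; group
      rw [this, h, inv_one, mul_one]
    have hzne : ψ z ≠ ψ 1 := fun h => hz1 (hfaith z hzc h)
    have h1 : ψ (x⁻¹ * g * x⁻¹⁻¹) = ψ g := isClassFunction_of_isIrrCharacter hψ g x⁻¹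
    have h2 : x⁻¹ * g * x⁻¹⁻¹ = z * g := by
      have hcomm := Subgroup.mem_center_iff.mp (hle hzc) g
      rw [← hcomm, hz]
      group
    rw [h2, irr_central_mul ψ hψ z (hle hzc) g] at h1
    have h0 := irr_one_ne_zero ψ hψ
    by_contra hg0
    apply hzne
    have h3 : ψ z / ψ 1 = 1 := by
      have := mul_right_cancel₀ hg0 (h1.trans (one_mul _).symm)
      exact this
    field_simp at h3
    exact h3
  refine ⟨hvan, ?_⟩
  letI : Fintype (Subgroup.center Q) := Fintype.ofFinite _
  exact sq_degree_of_vanish_off_central (Subgroup.center Q) le_rfl hψ hvan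

end Cfsg.Agent.Helper24.IP
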