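import Mathlib
import Cfsg.Agent.Lib.Helper24.IPDefs
import Cfsg.Agent.Lib.Helper24.IPCen
import Cfsg.Agent.Lib.Helper24.Cd3Trick

/-!
# Isaacs–Passman, piece VB (helper24)

An irreducible character supported on a subgroup bounds the index of that subgroup.
-/

set_option autoImplicit false
set_option linter.style.haveILetI false

namespace Cfsg.Agent.Helper24.IP

open Cfsg Cfsg.Agent.Helper24 Cfsg.Agent.Helper5 Cfsg.Agent.Helper18
open scoped ComplexConjugate

universe u

/-- The squared absolute values of an irreducible character add up to the group order. -/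
theorem sum_normSq_irr {A : Type u} [Group A] [Fintype A] {η : A → ℂ}
    (hη : IsIrrCharacter A η) : ∑ a : A, Complex.normSq (η a) = Nat.card A := by
  have h1 := classInner_self_eq_real η
  rw [irr_orthogonality hη hη, if_pos rfl] at h1
  have h2 : (1 : ℝ) = (Nat.card A : ℝ)⁻¹ * ∑ a : A, Complex.normSq (η a) := by exact_mod_cast h1
  have hpos : (0 : ℝ) < Nat.card A := by exact_mod_cast Nat.card_pos
  field_simp at h2
  linarith

variable {G : Type u} [Group G] [Finite G]

theorem card_filter_mem_eq (H K : Subgroup G) (hKH : K ≤ H) [Fintype H]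
    [DecidablePred fun h : H => (h : G) ∈ K] :
    (Finset.univ.filter (fun h : H => (h : G) ∈ K)).card = Nat.card K := by
  have h1 : Nat.card (K.subgroupOf H) = Nat.card K :=
    Nat.card_congr (Subgroup.subgroupOfEquivOfLe hKH).toEquiv
  have h2 : Nat.card (K.subgroupOf H) = Nat.card {h : H // (h : G) ∈ K} := rfl
  rw [← h1, h2, Nat.card_eq_fintype_card, Fintype.card_subtype]

theorem card_le_of_support (H K : Subgroup G) (hKH : K ≤ H) {η : H → ℂ}
    (hη : IsIrrCharacter H η) (hsupp : ∀ h : H, η h ≠ 0 → (h : G) ∈ K) :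
    Nat.card H ≤ charDegree η ^ 2 * Nat.card K := by
  classical
  letI : Fintype H := Fintype.ofFinite H
  have hsum := sum_normSq_irr hη
  have hηc := isCharacter_of_isIrrCharacter hη
  have hbound : ∑ h : H, Complex.normSq (η h) ≤
      ∑ h : H, (if (h : G) ∈ K then (charDegree η : ℝ) ^ 2 else 0) := by
    apply Finset.sum_le_sum
    intro h _
    split_ifs with hk
    · rw [Complex.normSq_eq_norm_sq]
      exact pow_le_pow_left₀ (norm_nonneg _) (norm_le_charDegree hηc h) 2
    · have : η h = 0 := by
        by_contra hne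
        exact hk (hsupp h hne)
      rw [this, map_zero]
  rw [hsum, Finset.sum_ite, Finset.sum_const_zero, add_zero, Finset.sum_const, nsmul_eq_mul,
    card_filter_mem_eq H K hKH] at hbound
  have : (Nat.card H : ℝ) ≤ ((charDegree η ^ 2 * Nat.card K : ℕ) : ℝ) := by
    push_cast
    linarith
  exact_mod_cast this

/-- Sum of squared absolute values over a subgroup containing the support. -/
theorem sum_normSq_eq_sum_subgroup {A : Type u} [Group A] [Fintype A] (B : Subgroup A)
    [Fintype B] (f : A → ℂ) (hvan : ∀ a, a ∉ B → f a = 0) :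
    ∑ a : A, Complex.normSq (f a) = ∑ b : B, Complex.normSq (f (b : A)) := by
  have h1 : ∀ x ∉ B, ((Complex.normSq (f x) : ℝ) : ℂ) = 0 := by
    intro x hx
    rw [hvan x hx, map_zero, Complex.ofReal_zero]
  have h2 := sum_eq_sum_subgroup B (fun g => ((Complex.normSq (f g) : ℝ) : ℂ)) h1
  have h3 : ((∑ a : A, Complex.normSq (f a) : ℝ) : ℂ) =
      ((∑ b : B, Complex.normSq (f (b : A)) : ℝ) : ℂ) := by
    push_cast
    exact h2
  exact_mod_cast h3

/-- An irreducible character of degree two supported on the subgroup `B` forces the index of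
`B` to be different from three. -/
theorem index_ne_three_of_support {A : Type u} [Group A] [Finite A] (B : Subgroup A)
    {ψ : A → ℂ} (hψ : IsIrrCharacter A ψ) (hsupp : ∀ a, ψ a ≠ 0 → a ∈ B)
    (h2 : charDegree ψ = 2) : B.index ≠ 3 := by
  classical
  letI : Fintype A := Fintype.ofFinite A
  letI : Fintype B := Fintype.ofFinite B
  letI := irrFintype (G := B)
  intro h3
  have hφ : IsCharacter B (fun b : B => ψ b) :=
    isCharacter_restrict B (isCharacter_of_isIrrCharacter hψ)
  have hvan : ∀ a, a ∉ B → ψ a = 0 := by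
    intro a ha
    by_contra hne
    exact ha (hsupp a hne)
  -- the norm of the restriction is the index
  have hnorm : classInner (fun b : B => ψ b) (fun b : B => ψ b) = 3 := by
    rw [classInner_self_eq_real]
    have hs := sum_normSq_eq_sum_subgroup B ψ hvan
    rw [sum_normSq_irr hψ] at hs
    rw [← hs]
    have hcard := Subgroup.card_mul_index B
    rw [h3] at hcard
    have hBpos : (0 : ℝ) < Nat.card B := by exact_mod_cast Nat.card_pos
    have hc : (Nat.card A : ℝ) = Nat.card B * 3 := by exact_mod_cast hcard.symm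
    have : (Nat.card B : ℝ)⁻¹ * (Nat.card A : ℝ) = 3 := by
      rw [hc]
      field_simp
    rw [this]
    norm_num
  obtain ⟨h1, -⟩ := isCharacter_decomp hφ
  choose m hm using h1
  have hdeg := Cd3.degree_decomp hφ m hm
  have hdφ : charDegree (fun b : B => ψ b) = 2 := by
    have h1 : ((charDegree (fun b : B => ψ b) : ℕ) : ℂ) = ((2 : ℕ) : ℂ) := by
      rw [← char_one_eq_charDegree hφ, ← h2, ← irr_one_eq_charDegree hψ]
      rfl
    exact_mod_cast h1
  rw [hdφ] at hdeg
  rw [classInner_eq_sum_mul (isClassFunction_of_isCharacter hφ)] at hnorm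
  have hsq : ∑ χ : IrrCharacter B, m χ * m χ = 3 := by
    have : ((∑ χ : IrrCharacter B, m χ * m χ : ℕ) : ℂ) = ((3 : ℕ) : ℂ) := by
      rw [Nat.cast_ofNat, ← hnorm]
      push_cast
      refine Finset.sum_congr rfl fun χ _ => ?_
      rw [hm, Complex.conj_natCast]
    exact_mod_cast this
  have hle : ∀ χ : IrrCharacter B, m χ ≤ m χ * charDegree (χ : B → ℂ) := by
    intro χ
    have := charDegree_pos χ.2
    exact Nat.le_mul_of_pos_right _ this
  have hsum : ∑ χ : IrrCharacter B, m χ ≤ 2 := by
    rw [hdeg]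
    exact Finset.sum_le_sum fun χ _ => hle χ
  by_cases hex : ∃ χ : IrrCharacter B, 2 ≤ m χ
  · obtain ⟨χ, hχ⟩ := hex
    have h4 : m χ * m χ ≤ ∑ χ : IrrCharacter B, m χ * m χ :=
      Finset.single_le_sum (f := fun χ : IrrCharacter B => m χ * m χ)
        (fun _ _ => Nat.zero_le _) (Finset.mem_univ χ)
    have h5 : 2 * 2 ≤ m χ * m χ := Nat.mul_le_mul hχ hχ
    omega
  · push Not at hex
    have h4 : ∑ χ : IrrCharacter B, m χ * m χ ≤ ∑ χ : IrrCharacter B, m χ := by
      apply Finset.sum_le_sum
      intro χ _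
      have := hex χ
      have h5 : m χ ≤ 1 := by omega
      calc m χ * m χ ≤ m χ * 1 := Nat.mul_le_mul_left _ h5
        _ = m χ := mul_one _
    omega


theorem relIndex_ne_three (K N : Subgroup G) (_hKN : K ≤ N) {ψ : N → ℂ}
    (hψ : IsIrrCharacter N ψ) (hsupp : ∀ n : N, ψ n ≠ 0 → (n : G) ∈ K)
    (h2 : charDegree ψ = 2) : K.relIndex N ≠ 3 := by
  have := index_ne_three_of_support (K.subgroupOf N) hψ
    (fun n hn => Subgroup.mem_subgroupOf.mpr (hsupp n hn)) h2
  exact this

end Cfsg.Agent.Helper24.IP
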