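import Mathlib

/-!
# Primitive linear groups of degree two, part A: pole counting (helper24)

The arithmetic `1/e₁ + 1/e₂ + 1/e₃ = 1 + 2/N` and the abstract Burnside count.
-/

set_option autoImplicit false
set_option linter.style.haveILetI false
set_option linter.unusedVariables false

namespace Cfsg.Agent.Helper24.Prim2

/-- Arithmetic core, ordered version. -/
theorem arith_sorted (N a b c : ℕ) (ha : a ∣ N) (hb : b ∣ N) (hc : c ∣ N)
    (hb3 : 3 ≤ b) (hc3 : 3 ≤ c) (ha2 : 2 * a ≤ N) (hb2 : 2 * b ≤ N) (hc2 : 2 * c ≤ N)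
    (hsum : a + b + c = N + 2) (h3a : N < 3 * a) (h4b : N < 4 * b) :
    N = 12 ∨ N = 24 ∨ N = 60 := by
  obtain ⟨x, hx⟩ := ha
  obtain ⟨y, hy⟩ := hb
  obtain ⟨z, hz⟩ := hc
  have ha0 : 0 < a := by omega
  have hx2 : x = 2 := by
    have h1 : x < 3 := by
      by_contra h
      push Not at h
      have : a * 3 ≤ a * x := Nat.mul_le_mul_left a h
      omega
    have h2 : 2 ≤ x := by
      by_contra h
      push Not at h
      have : a * x ≤ a * 1 := Nat.mul_le_mul_left a (by omega)
      omega
    omega
  subst hx2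
  have hy23 : y = 2 ∨ y = 3 := by
    have h1 : y < 4 := by
      by_contra h
      push Not at h
      have : b * 4 ≤ b * y := Nat.mul_le_mul_left b h
      omega
    have h2 : 2 ≤ y := by
      by_contra h
      push Not at h
      have : b * y ≤ b * 1 := Nat.mul_le_mul_left b (by omega)
      omega
    omega
  rcases hy23 with rfl | rfl
  · omega
  · have hz6 : z < 6 := by
      by_contra h
      push Not at h
      have : c * 6 ≤ c * z := Nat.mul_le_mul_left c h
      omega
    have hz2 : 2 ≤ z := by
      by_contra h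
      push Not at h
      have : c * z ≤ c * 1 := Nat.mul_le_mul_left c (by omega)
      omega
    interval_cases z <;> omega

/-- Arithmetic core. -/
theorem arith3 (N a b c : ℕ) (ha : a ∣ N) (hb : b ∣ N) (hc : c ∣ N)
    (ha3 : 3 ≤ a) (hb3 : 3 ≤ b) (hc3 : 3 ≤ c) (ha2 : 2 * a ≤ N) (hb2 : 2 * b ≤ N)
    (hc2 : 2 * c ≤ N) (hsum : a + b + c = N + 2) : N = 12 ∨ N = 24 ∨ N = 60 := by
  by_cases h3a : N < 3 * a
  · by_cases h4b : N < 4 * b
    · exact arith_sorted N a b c ha hb hc hb3 hc3 ha2 hb2 hc2 hsum h3a h4b
    · have h4c : N < 4 * c := by omega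
      exact arith_sorted N a c b ha hc hb hc3 hb3 ha2 hc2 hb2 (by omega) h3a h4c
  · by_cases h3b : N < 3 * b
    · by_cases h4a : N < 4 * a
      · exact arith_sorted N b a c hb ha hc ha3 hc3 hb2 ha2 hc2 (by omega) h3b h4a
      · have h4c : N < 4 * c := by omega
        exact arith_sorted N b c a hb hc ha hc3 ha3 hb2 hc2 ha2 (by omega) h3b h4c
    · have h3c : N < 3 * c := by omega
      by_cases h4a : N < 4 * a
      · exact arith_sorted N c a b hc ha hb ha3 hb3 hc2 ha2 hb2 (by omega) h3c h4a
      · have h4b : N < 4 * b := by omega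
        exact arith_sorted N c b a hc hb ha hb3 ha3 hc2 hb2 ha2 (by omega) h3c h4b

open MulAction in
/-- **Pole counting**: a finite group acting on a finite set such that a subgroup `Z` acts
trivially, every element outside `Z` has exactly two fixed points and every point is fixed by
some element outside `Z`. Then some stabiliser has index at most `2`, or `[G : Z]` is `12`, `24`
or `60`. -/
theorem pole_count {G X : Type*} [Group G] [Finite G] [MulAction G X] [Finite X]
    (Z : Subgroup G) (hZfix : ∀ z ∈ Z, ∀ x : X, z • x = x)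
    (hfix2 : ∀ g : G, g ∉ Z → Nat.card (fixedBy X g) = 2)
    (hstab : ∀ x : X, ∃ g : G, g ∉ Z ∧ g • x = x) (hZ : Z ≠ ⊤) :
    (∃ x : X, (stabilizer G x).index ≤ 2) ∨ Z.index = 12 ∨ Z.index = 24 ∨ Z.index = 60 := by
  classical
  by_contra hcon
  push Not at hcon
  obtain ⟨hidx, hN⟩ := hcon
  letI : Fintype G := Fintype.ofFinite G
  letI : Fintype X := Fintype.ofFinite X
  letI : Fintype (Quotient (orbitRel G X)) := Fintype.ofFinite _
  letI : ∀ g : G, Fintype (fixedBy X g) := fun g => Fintype.ofFinite _
  have hburn := sum_card_fixedBy_eq_card_orbits_mul_card_group G X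
  obtain ⟨N, hNdef⟩ : ∃ N, N = Z.index := ⟨_, rfl⟩
  obtain ⟨r, hr⟩ : ∃ r, r = Fintype.card (Quotient (orbitRel G X)) := ⟨_, rfl⟩
  have hGcard : Fintype.card G = Nat.card Z * N := by
    rw [hNdef, Subgroup.card_mul_index, Nat.card_eq_fintype_card]
  have hzpos : 0 < Nat.card Z := Nat.card_pos
  -- data at each point
  have hpt : ∀ x : X, (stabilizer G x).index ∣ N ∧ 2 * (stabilizer G x).index ≤ N := by
    intro x
    have hle : Z ≤ stabilizer G x := fun z hz => hZfix z hz x
    have h1 : Z.relIndex (stabilizer G x) * (stabilizer G x).index = Z.index :=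
      Subgroup.relIndex_mul_index hle
    rw [← hNdef] at h1
    have h2 : Z.relIndex (stabilizer G x) ≠ 1 := by
      intro h
      rw [Subgroup.relIndex_eq_one] at h
      obtain ⟨g, hg, hgx⟩ := hstab x
      exact hg (h hgx)
    have h3 : Z.relIndex (stabilizer G x) ≠ 0 := by
      intro h
      rw [h, zero_mul] at h1
      have : Z.index ≠ 0 := Subgroup.index_ne_zero_of_finite
      rw [← hNdef] at this
      exact this h1.symm
    refine ⟨⟨_, by rw [← h1, mul_comm]⟩, ?_⟩
    have h4 : 2 ≤ Z.relIndex (stabilizer G x) := by omega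
    calc 2 * (stabilizer G x).index ≤ Z.relIndex (stabilizer G x) * (stabilizer G x).index :=
          Nat.mul_le_mul_right _ h4
      _ = N := h1
  -- the cardinality of `X`
  have hX : Fintype.card X =
      ∑ ω : Quotient (orbitRel G X), (stabilizer G ω.out).index := by
    rw [Fintype.card_congr (selfEquivSigmaOrbitsQuotientStabilizer G X), Fintype.card_sigma]
    refine Finset.sum_congr rfl fun ω _ => ?_
    rw [Subgroup.index, Nat.card_eq_fintype_card]
  -- the fixed point sum
  have hfixsum : ∑ g : G, Fintype.card (fixedBy X g) =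
      Nat.card Z * Fintype.card X + 2 * (Fintype.card G - Nat.card Z) := by
    have h1 : ∀ g : G, Fintype.card (fixedBy X g) = if g ∈ Z then Fintype.card X else 2 := by
      intro g
      split_ifs with hg
      · exact Fintype.card_congr (Equiv.subtypeUnivEquiv (fun x => hZfix g hg x))
      · rw [← Nat.card_eq_fintype_card, hfix2 g hg]
    simp_rw [h1]
    rw [Finset.sum_ite, Finset.sum_const, Finset.sum_const, smul_eq_mul, smul_eq_mul]
    have hcZ : (Finset.univ.filter (fun g : G => g ∈ Z)).card = Nat.card Z := by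
      rw [Nat.card_eq_fintype_card, Fintype.card_subtype]
    have hsum := Finset.card_filter_add_card_filter_not (s := (Finset.univ : Finset G))
      (fun g : G => g ∈ Z)
    rw [Finset.card_univ] at hsum
    rw [hcZ] at hsum ⊢
    have : (Finset.univ.filter (fun g : G => ¬ g ∈ Z)).card = Fintype.card G - Nat.card Z := by
      omega
    rw [this, mul_comm (Fintype.card G - Nat.card Z) 2]
  rw [hfixsum, ← hr, hGcard, hX] at hburn
  -- bounds on the sum
  obtain ⟨S, hS⟩ : ∃ S, S = ∑ ω : Quotient (orbitRel G X), (stabilizer G ω.out).index := ⟨_, rfl⟩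
  rw [← hS] at hburn
  have hS3 : 3 * r ≤ S := by
    have := Finset.card_nsmul_le_sum (Finset.univ : Finset (Quotient (orbitRel G X)))
      (fun ω => (stabilizer G ω.out).index) 3 (fun ω _ => hidx ω.out)
    rw [Finset.card_univ, ← hr, ← hS, smul_eq_mul] at this
    omega
  have hS2 : 2 * S ≤ r * N := by
    have := Finset.sum_le_card_nsmul (Finset.univ : Finset (Quotient (orbitRel G X)))
      (fun ω => 2 * (stabilizer G ω.out).index) N (fun ω _ => (hpt ω.out).2)
    rw [Finset.card_univ, ← hr, ← Finset.mul_sum, ← hS, smul_eq_mul] at this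
    exact this
  -- simplify Burnside's identity
  have hN1 : 1 ≤ N := by
    rw [hNdef]
    exact Nat.one_le_iff_ne_zero.mpr Subgroup.index_ne_zero_of_finite
  have hN2 : N ≠ 1 := by
    rw [hNdef]
    intro h
    exact hZ (Subgroup.index_eq_one.mp h)
  have hmain : S + 2 * N = r * N + 2 := by
    have h1 : Nat.card Z * N - Nat.card Z = Nat.card Z * (N - 1) := by
      rw [Nat.mul_sub, mul_one]
    rw [h1] at hburn
    have h2 : Nat.card Z * (S + 2 * (N - 1)) = Nat.card Z * (r * N) := by
      have : Nat.card Z * (r * N) = r * (Nat.card Z * N) := by ring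
      rw [this, ← hburn]
      ring
    have h3 := Nat.eq_of_mul_eq_mul_left hzpos h2
    omega
  -- the number of orbits is three
  have hr4 : r < 4 := by
    by_contra h
    push Not at h
    have : 4 * N ≤ r * N := Nat.mul_le_mul_right N h
    omega
  have hr3 : r = 3 := by
    interval_cases r <;> omega
  -- three orbits
  rw [hr3] at hr
  obtain ⟨e⟩ : Nonempty (Fin 3 ≃ Quotient (orbitRel G X)) := by
    have : Fintype.card (Fin 3) = Fintype.card (Quotient (orbitRel G X)) := by
      rw [← hr]; simp
    exact ⟨Fintype.equivOfCardEq this⟩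
  have hS' : S = (stabilizer G (e 0).out).index + (stabilizer G (e 1).out).index +
      (stabilizer G (e 2).out).index := by
    rw [hS, ← Equiv.sum_comp e, Fin.sum_univ_three]
  rw [hr3] at hmain
  have := arith3 N _ _ _ (hpt (e 0).out).1 (hpt (e 1).out).1 (hpt (e 2).out).1
    (hidx (e 0).out) (hidx (e 1).out) (hidx (e 2).out) (hpt (e 0).out).2 (hpt (e 1).out).2
    (hpt (e 2).out).2 (by omega)
  rw [hNdef] at this
  rcases this with h | h | h
  · exact hN.1 h
  · exact hN.2.1 h
  · exact hN.2.2 h

end Cfsg.Agent.Helper24.Prim2
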