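import Mathlib
import Cfsg.Prelude.Def_Blocks
import Cfsg.Agent.Lib.Helper24.CharComplete
import Cfsg.Agent.Lib.Helper24.Prim2A

/-!
# Primitive linear groups of degree two, part B: lines and poles (helper24)

A non-scalar element of finite order of `GL₂(ℂ)` fixes exactly two lines.  The poles (lines fixed
by some non-central element) form a finite `G`-set to which the pole count applies.
-/

set_option autoImplicit false
set_option linter.style.haveILetI false
set_option linter.unusedSectionVars false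

namespace Cfsg.Agent.Helper24.Prim2

open Cfsg Cfsg.Agent.Helper24 Module

universe u

section Lines

variable {G : Type u} [Group G] (ρ : Representation ℂ G (Fin 2 → ℂ))

/-- The image of a subspace under a group element. -/
def act (g : G) (L : Submodule ℂ (Fin 2 → ℂ)) : Submodule ℂ (Fin 2 → ℂ) := L.map (ρ g)

theorem act_one (L : Submodule ℂ (Fin 2 → ℂ)) : act ρ 1 L = L := by
  unfold act
  rw [map_one]
  exact Submodule.map_id L

theorem act_mul (g h : G) (L : Submodule ℂ (Fin 2 → ℂ)) :
    act ρ (g * h) L = act ρ g (act ρ h L) := by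
  unfold act
  rw [map_mul, ← Submodule.map_comp]
  rfl

/-- `ρ g` as a linear equivalence. -/
def repEquiv (g : G) : (Fin 2 → ℂ) ≃ₗ[ℂ] (Fin 2 → ℂ) :=
  LinearEquiv.ofLinearMap (ρ g) (ρ g⁻¹)
    (by rw [← Module.End.mul_eq_comp, ← map_mul, mul_inv_cancel, map_one]; rfl)
    (by rw [← Module.End.mul_eq_comp, ← map_mul, inv_mul_cancel, map_one]; rfl)

theorem finrank_act (g : G) (L : Submodule ℂ (Fin 2 → ℂ)) :
    finrank ℂ (act ρ g L) = finrank ℂ L :=
  LinearEquiv.finrank_map_eq (repEquiv ρ g) L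

theorem act_of_scalar {g : G} {c : ℂ} (hc : c ≠ 0)
    (h : ρ g = c • (1 : Module.End ℂ (Fin 2 → ℂ))) (L : Submodule ℂ (Fin 2 → ℂ)) :
    act ρ g L = L := by
  unfold act
  rw [h, Submodule.map_smul _ _ _ hc]
  exact Submodule.map_id L

end Lines

section Fixed

variable {G : Type u} [Group G] [Finite G] (ρ : Representation ℂ G (Fin 2 → ℂ))

/-- A non-scalar element fixes exactly two lines. -/
theorem fixed_lines {g : G} (hg : ∀ c : ℂ, ρ g ≠ c • (1 : Module.End ℂ (Fin 2 → ℂ))) :
    ∃ L₁ L₂ : Submodule ℂ (Fin 2 → ℂ), L₁ ≠ L₂ ∧ finrank ℂ L₁ = 1 ∧ finrank ℂ L₂ = 1 ∧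
      ∀ L : Submodule ℂ (Fin 2 → ℂ), finrank ℂ L = 1 → (act ρ g L = L ↔ L = L₁ ∨ L = L₂) := by
  obtain ⟨n, b, μ, hμ, hb⟩ := exists_eigenbasis ρ g
  have hn : 2 = n := by
    have := finrank_eq_of_basis b
    rw [Module.finrank_fin_fun] at this
    exact this
  subst hn
  have hμne : μ 0 ≠ μ 1 := by
    intro h
    apply hg (μ 0)
    apply b.ext
    intro i
    rw [hb i, LinearMap.smul_apply, Module.End.one_apply]
    fin_cases i
    · rfl
    · simp [h]
  have hμ0 : ∀ i, μ i ≠ 0 := by
    intro i h0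
    have := hμ i
    rw [h0, zero_pow Nat.card_pos.ne'] at this
    exact zero_ne_one this
  have hrepr : ∀ v : Fin 2 → ℂ, ∀ i, b.repr (ρ g v) i = μ i * b.repr v i := by
    intro v i
    have h1 : ρ g v = ∑ j, (b.repr v j * μ j) • b j := by
      conv_lhs => rw [← b.sum_repr v]
      rw [map_sum]
      refine Finset.sum_congr rfl fun j _ => ?_
      rw [map_smul, hb j, smul_smul]
    rw [h1, b.repr_sum_self, mul_comm]
  have hfix : ∀ i, act ρ g (ℂ ∙ b i) = ℂ ∙ b i := by
    intro i
    unfold act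
    rw [Submodule.map_span, Set.image_singleton, hb i]
    exact Submodule.span_singleton_smul_eq (IsUnit.mk0 _ (hμ0 i)) _
  refine ⟨ℂ ∙ b 0, ℂ ∙ b 1, ?_, finrank_span_singleton (b.ne_zero 0),
    finrank_span_singleton (b.ne_zero 1), ?_⟩
  · intro h
    have h1 : b 0 ∈ ℂ ∙ b 1 := h ▸ Submodule.mem_span_singleton_self (b 0)
    obtain ⟨c, hc⟩ := Submodule.mem_span_singleton.mp h1
    have h2 := congrArg (fun v => b.repr v 0) hc
    simp at h2
  · intro L hL
    constructor
    · intro hfixL
      obtain ⟨v, hv0, hv⟩ := finrank_eq_one_iff'.mp hL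
      have hLspan : L = ℂ ∙ (v : Fin 2 → ℂ) := by
        apply le_antisymm
        · intro w hw
          obtain ⟨c, hc⟩ := hv ⟨w, hw⟩
          rw [Submodule.mem_span_singleton]
          exact ⟨c, by simpa using congrArg Subtype.val hc⟩
        · rw [Submodule.span_singleton_le_iff_mem]
          exact v.2
      have hv0' : (v : Fin 2 → ℂ) ≠ 0 := fun h => hv0 (Subtype.ext h)
      have hmem : ρ g (v : Fin 2 → ℂ) ∈ L := by
        have h1 : ρ g (v : Fin 2 → ℂ) ∈ act ρ g L := Submodule.mem_map_of_mem v.2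
        rwa [hfixL] at h1
      obtain ⟨c, hc⟩ := hv ⟨_, hmem⟩
      have hc' : c • (v : Fin 2 → ℂ) = ρ g (v : Fin 2 → ℂ) := by
        simpa using congrArg Subtype.val hc
      have hcoord : ∀ i, μ i * b.repr (v : Fin 2 → ℂ) i = c * b.repr (v : Fin 2 → ℂ) i := by
        intro i
        rw [← hrepr, ← hc']
        simp
      have hv_sum : (v : Fin 2 → ℂ) = b.repr (v : Fin 2 → ℂ) 0 • b 0 +
          b.repr (v : Fin 2 → ℂ) 1 • b 1 := by
        conv_lhs => rw [← b.sum_repr (v : Fin 2 → ℂ)]
        rw [Fin.sum_univ_two]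
      by_cases h0 : b.repr (v : Fin 2 → ℂ) 0 = 0
      · right
        rw [hLspan, hv_sum, h0, zero_smul, zero_add]
        have h1 : b.repr (v : Fin 2 → ℂ) 1 ≠ 0 := by
          intro h1
          apply hv0'
          rw [hv_sum, h0, h1, zero_smul, zero_smul, add_zero]
        exact Submodule.span_singleton_smul_eq (IsUnit.mk0 _ h1) _
      · left
        have h1 : b.repr (v : Fin 2 → ℂ) 1 = 0 := by
          by_contra h1
          have e0 := mul_right_cancel₀ h0 (hcoord 0)
          have e1 := mul_right_cancel₀ h1 (hcoord 1)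
          exact hμne (e0.trans e1.symm)
        rw [hLspan, hv_sum, h1, zero_smul, add_zero]
        exact Submodule.span_singleton_smul_eq (IsUnit.mk0 _ h0) _
    · rintro (rfl | rfl)
      · exact hfix 0
      · exact hfix 1

end Fixed


section Pole

variable {G : Type u} [Group G] [Finite G] (ρ : Representation ℂ G (Fin 2 → ℂ))

/-- In a faithful irreducible representation the centre consists of the scalar elements. -/
theorem mem_center_iff_scalar (hirr : ρ.IsIrreducible) (hinj : Function.Injective ρ) (g : G) :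
    g ∈ Subgroup.center G ↔ ∃ c : ℂ, ρ g = c • (1 : Module.End ℂ (Fin 2 → ℂ)) := by
  letI := Fintype.ofFinite G
  constructor
  · intro hg
    apply exists_scalar_of_comm ρ hirr (ρ g)
    intro h
    have := Subgroup.mem_center_iff.mp hg h
    rw [← Module.End.mul_eq_comp, ← Module.End.mul_eq_comp, ← map_mul, ← map_mul, this]
  · rintro ⟨c, hc⟩
    rw [Subgroup.mem_center_iff]
    intro h
    apply hinj
    rw [map_mul, map_mul, hc]
    simp

theorem scalar_ne_zero {g : G} {c : ℂ} (h : ρ g = c • (1 : Module.End ℂ (Fin 2 → ℂ))) : c ≠ 0 := by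
  rintro rfl
  have h1 : ρ g⁻¹ * ρ g = 1 := by rw [← map_mul, inv_mul_cancel, map_one]
  rw [h, zero_smul, mul_zero] at h1
  have := congrArg (fun f : Module.End ℂ (Fin 2 → ℂ) => f (fun _ => 1) 0) h1
  simp at this

/-- The set of poles: lines fixed by some non-central element. -/
def poleSet : Set (Submodule ℂ (Fin 2 → ℂ)) :=
  {L | finrank ℂ L = 1 ∧ ∃ g : G, g ∉ Subgroup.center G ∧ act ρ g L = L}

/-- The poles as a type. -/
def Pole : Type := ↥(poleSet ρ)

instance : MulAction G (Pole ρ) where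
  smul g L := ⟨act ρ g L.1, by rw [finrank_act]; exact L.2.1, by
    obtain ⟨h, hh, hL⟩ := L.2.2
    refine ⟨g * h * g⁻¹, ?_, ?_⟩
    · intro hc
      apply hh
      have := (inferInstance : (Subgroup.center G).Normal).conj_mem _ hc g⁻¹
      simpa [mul_assoc] using this
    · rw [act_mul, act_mul, ← act_mul ρ g⁻¹ g, inv_mul_cancel, act_one, hL]⟩
  one_smul L := Subtype.ext (act_one ρ L.1)
  mul_smul g h L := Subtype.ext (act_mul ρ g h L.1)

theorem pole_smul_val (g : G) (L : Pole ρ) : (g • L).1 = act ρ g L.1 := rfl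

theorem poleSet_finite (hirr : ρ.IsIrreducible) (hinj : Function.Injective ρ) :
    (poleSet ρ).Finite := by
  have h1 : poleSet ρ ⊆ ⋃ g ∈ {g : G | g ∉ Subgroup.center G},
      {L : Submodule ℂ (Fin 2 → ℂ) | finrank ℂ L = 1 ∧ act ρ g L = L} := by
    rintro L ⟨hL, g, hg, hgL⟩
    simp only [Set.mem_iUnion]
    exact ⟨g, hg, hL, hgL⟩
  refine Set.Finite.subset (Set.Finite.biUnion (Set.toFinite _) ?_) h1
  intro g hg
  have hns : ∀ c : ℂ, ρ g ≠ c • (1 : Module.End ℂ (Fin 2 → ℂ)) := by
    intro c hc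
    exact hg ((mem_center_iff_scalar ρ hirr hinj g).mpr ⟨c, hc⟩)
  obtain ⟨L₁, L₂, -, -, -, hall⟩ := fixed_lines ρ hns
  refine Set.Finite.subset (Set.toFinite {L₁, L₂}) ?_
  rintro L ⟨hL, hgL⟩
  rcases (hall L hL).mp hgL with h | h
  · left; exact h
  · right; exact h

theorem pole_finite (hirr : ρ.IsIrreducible) (hinj : Function.Injective ρ) :
    Finite (Pole ρ) :=
  Set.finite_coe_iff.mpr (poleSet_finite ρ hirr hinj)

/-- A non-central element fixes exactly two poles. -/
theorem card_fixedBy_pole (hirr : ρ.IsIrreducible) (hinj : Function.Injective ρ) {g : G}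
    (hg : g ∉ Subgroup.center G) : Nat.card (MulAction.fixedBy (Pole ρ) g) = 2 := by
  have hns : ∀ c : ℂ, ρ g ≠ c • (1 : Module.End ℂ (Fin 2 → ℂ)) := by
    intro c hc
    exact hg ((mem_center_iff_scalar ρ hirr hinj g).mpr ⟨c, hc⟩)
  obtain ⟨L₁, L₂, hne, h1, h2, hall⟩ := fixed_lines ρ hns
  have hf1 : act ρ g L₁ = L₁ := (hall L₁ h1).mpr (Or.inl rfl)
  have hf2 : act ρ g L₂ = L₂ := (hall L₂ h2).mpr (Or.inr rfl)
  let x₁ : Pole ρ := ⟨L₁, h1, g, hg, hf1⟩
  let x₂ : Pole ρ := ⟨L₂, h2, g, hg, hf2⟩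
  have hx₁ : x₁ ∈ MulAction.fixedBy (Pole ρ) g := Subtype.ext hf1
  have hx₂ : x₂ ∈ MulAction.fixedBy (Pole ρ) g := Subtype.ext hf2
  rw [Nat.card_eq_two_iff]
  refine ⟨⟨x₁, hx₁⟩, ⟨x₂, hx₂⟩, ?_, ?_⟩
  · intro h
    apply hne
    have := congrArg (fun y : MulAction.fixedBy (Pole ρ) g => (y : Pole ρ).1) h
    exact this
  · rw [Set.eq_univ_iff_forall]
    rintro ⟨y, hy⟩
    have hy' : act ρ g y.1 = y.1 := congrArg Subtype.val hy
    rcases (hall y.1 y.2.1).mp hy' with h | h
    · left
      exact Subtype.ext (Subtype.ext h)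
    · right
      exact Subtype.ext (Subtype.ext h)

/-- An irreducible representation of degree two has no invariant line. -/
theorem no_invariant_line (hirr : ρ.IsIrreducible) (L : Submodule ℂ (Fin 2 → ℂ))
    (hL : finrank ℂ L = 1) (hinv : ∀ g : G, act ρ g L = L) : False := by
  rw [isIrreducible_iff] at hirr
  have h := hirr.2 L (fun g v hv => by
    have h1 : ρ g v ∈ act ρ g L := Submodule.mem_map_of_mem hv
    rwa [hinv g] at h1)
  rcases h with h | h
  · rw [h, finrank_bot] at hL
    exact zero_ne_one hL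
  · rw [h, finrank_top, Module.finrank_fin_fun] at hL
    omega

/-- The centre of a group with a faithful irreducible representation of degree two is proper. -/
theorem center_ne_top (hirr : ρ.IsIrreducible) (hinj : Function.Injective ρ) :
    Subgroup.center G ≠ ⊤ := by
  intro htop
  apply no_invariant_line ρ hirr (ℂ ∙ (fun _ => (1 : ℂ)))
    (finrank_span_singleton (by
      intro h
      have := congrFun h 0
      simp at this))
  intro g
  have hg : g ∈ Subgroup.center G := htop ▸ Subgroup.mem_top g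
  obtain ⟨c, hc⟩ := (mem_center_iff_scalar ρ hirr hinj g).mp hg
  exact act_of_scalar ρ (scalar_ne_zero ρ hc) hc _

/-- **The dichotomy**: either some line has a stabiliser of index at most two, or the index of
the centre is `12`, `24` or `60`. -/
theorem exists_stabilizer_or_index (hirr : ρ.IsIrreducible) (hinj : Function.Injective ρ) :
    (∃ (L : Submodule ℂ (Fin 2 → ℂ)) (H : Subgroup G), finrank ℂ L = 1 ∧ H.index ≤ 2 ∧
      ∀ h ∈ H, act ρ h L = L) ∨
    (Subgroup.center G).index = 12 ∨ (Subgroup.center G).index = 24 ∨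
      (Subgroup.center G).index = 60 := by
  haveI := pole_finite ρ hirr hinj
  have := pole_count (G := G) (X := Pole ρ) (Subgroup.center G)
    (fun z hz x => by
      obtain ⟨c, hc⟩ := (mem_center_iff_scalar ρ hirr hinj z).mp hz
      exact Subtype.ext (act_of_scalar ρ (scalar_ne_zero ρ hc) hc _))
    (fun g hg => card_fixedBy_pole ρ hirr hinj hg)
    (fun x => by
      obtain ⟨g, hg, hgx⟩ := x.2.2
      exact ⟨g, hg, Subtype.ext hgx⟩)
    (center_ne_top ρ hirr hinj)
  rcases this with ⟨x, hx⟩ | h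
  · left
    refine ⟨x.1, MulAction.stabilizer G (x : Pole ρ), x.2.1, hx, ?_⟩
    intro h hh
    have h1 : h • (x : Pole ρ) = x := MulAction.mem_stabilizer_iff.mp hh
    exact congrArg Subtype.val h1
  · right
    exact h

end Pole

end Cfsg.Agent.Helper24.Prim2
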