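import Mathlib
import Cfsg.Prelude.Def_Blocks
import Cfsg.Agent.Lib.Helper24.CharInduced
import Cfsg.Agent.Lib.Helper24.CharLinear
import Cfsg.Agent.Lib.Helper5.Clifford
import Cfsg.Agent.Lib.Helper24.Prim2B

/-!
# Primitive linear groups of degree two, part C (helper24)

If a subgroup of index two stabilises a line, the character is induced from it.  Consequently a
primitive linear group of degree two has `[G : Z(G)] ∈ {12, 24, 60}`.
-/

set_option autoImplicit false
set_option linter.style.haveILetI false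
set_option linter.unusedSectionVars false

namespace Cfsg.Agent.Helper24.Prim2

open Cfsg Cfsg.Agent.Helper24 Cfsg.Agent.Helper5 Module
open scoped ComplexConjugate

universe u

/-- Cayley–Hamilton for `2 × 2` matrices. -/
theorem cayley_hamilton_two (M : Matrix (Fin 2) (Fin 2) ℂ) :
    M * M - M.trace • M + M.det • (1 : Matrix (Fin 2) (Fin 2) ℂ) = 0 := by
  ext i j
  fin_cases i <;> fin_cases j <;>
    simp [Matrix.mul_apply, Fin.sum_univ_two, Matrix.det_fin_two, Matrix.trace_fin_two] <;> ring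

/-- An eigenvalue `t` of an endomorphism `A` of `ℂ²` satisfies `t² - tr(A) t + det(A) = 0`. -/
theorem eigen_quadratic (A : Module.End ℂ (Fin 2 → ℂ)) {v : Fin 2 → ℂ} (hv : v ≠ 0) {t : ℂ}
    (ht : A v = t • v) : t * t - LinearMap.trace ℂ _ A * t + LinearMap.det A = 0 := by
  have h1 := cayley_hamilton_two (LinearMap.toMatrix' A)
  have h2 : (LinearMap.toMatrix' A).mulVec v = t • v := by
    rw [LinearMap.toMatrix'_mulVec, ht]
  have h3 := congrArg (fun M : Matrix (Fin 2) (Fin 2) ℂ => M.mulVec v) h1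
  simp only [Matrix.add_mulVec, Matrix.sub_mulVec, Matrix.smul_mulVec, Matrix.one_mulVec,
    Matrix.zero_mulVec, ← Matrix.mulVec_mulVec, h2, Matrix.mulVec_smul] at h3
  have htr : (LinearMap.toMatrix' A).trace = LinearMap.trace ℂ _ A := by
    rw [LinearMap.trace_eq_matrix_trace ℂ (Pi.basisFun ℂ (Fin 2)), LinearMap.toMatrix_eq_toMatrix']
  have hdet : (LinearMap.toMatrix' A).det = LinearMap.det A := LinearMap.det_toMatrix' A
  rw [htr, hdet] at h3
  have h4 : (t * t - LinearMap.trace ℂ _ A * t + LinearMap.det A) • v = 0 := by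
    rw [← h3]
    simp only [add_smul, sub_smul, smul_smul]
  rcases smul_eq_zero.mp h4 with h | h
  · exact h
  · exact absurd h hv

section Imprim

variable {G : Type u} [Group G] [Fintype G] (ρ : Representation ℂ G (Fin 2 → ℂ))

/-- The determinant as a homomorphism to `ℂˣ`. -/
noncomputable def detHom : G →* ℂˣ :=
  MonoidHom.toHomUnits ((LinearMap.det : Module.End ℂ (Fin 2 → ℂ) →* ℂ).comp ρ)

theorem detHom_apply (g : G) : ((detHom ρ g : ℂˣ) : ℂ) = LinearMap.det (ρ g) := rfl

/-- If a subgroup of index two stabilises a line, the character is induced from a linear character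
of this subgroup. -/
theorem induced_of_stabilizer (hirr : ρ.IsIrreducible) (L : Submodule ℂ (Fin 2 → ℂ))
    (hL : finrank ℂ L = 1) (H : Subgroup G) (hH2 : H.index = 2)
    (hHL : ∀ h ∈ H, act ρ h L = L) :
    ∃ θ : H → ℂ, IsCharacter H θ ∧ ρ.character = indFun H θ := by
  classical
  letI : Fintype H := Fintype.ofFinite H
  letI : Fintype (IrrCharacter H) := irrFintype
  letI : Fintype (IrrCharacter G) := irrFintype
  -- a spanning vector
  obtain ⟨v, hv0, hv⟩ := finrank_eq_one_iff'.mp hL
  have hv0' : (v : Fin 2 → ℂ) ≠ 0 := fun h => hv0 (Subtype.ext h)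
  have hex : ∀ h : H, ∃ c : ℂ, ρ (h : G) (v : Fin 2 → ℂ) = c • (v : Fin 2 → ℂ) := by
    intro h
    have hmem : ρ (h : G) (v : Fin 2 → ℂ) ∈ L := by
      have h1 : ρ (h : G) (v : Fin 2 → ℂ) ∈ act ρ (h : G) L := Submodule.mem_map_of_mem v.2
      rwa [hHL h h.2] at h1
    obtain ⟨c, hc⟩ := hv ⟨_, hmem⟩
    exact ⟨c, by simpa using (congrArg Subtype.val hc).symm⟩
  choose θ₀ hθ₀ using hex
  have hinj : Function.Injective (fun c : ℂ => c • (v : Fin 2 → ℂ)) :=
    smul_left_injective ℂ hv0'
  have hone : θ₀ 1 = 1 := by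
    apply hinj
    show θ₀ 1 • (v : Fin 2 → ℂ) = (1 : ℂ) • (v : Fin 2 → ℂ)
    rw [← hθ₀ 1, one_smul]
    simp
  have hmul : ∀ a b : H, θ₀ (a * b) = θ₀ a * θ₀ b := by
    intro a b
    apply hinj
    show θ₀ (a * b) • (v : Fin 2 → ℂ) = (θ₀ a * θ₀ b) • (v : Fin 2 → ℂ)
    rw [← hθ₀ (a * b), Subgroup.coe_mul, map_mul, Module.End.mul_apply, hθ₀ b, map_smul, hθ₀ a,
      smul_smul, mul_comm]
  let lam : H →* ℂˣ := MonoidHom.toHomUnits
    { toFun := θ₀
      map_one' := hone
      map_mul' := hmul }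
  have hlam : ∀ h : H, ((lam h : ℂˣ) : ℂ) = θ₀ h := fun h => rfl
  let lam₂ : H →* ℂˣ := ((detHom ρ).comp H.subtype) * lam⁻¹
  have hlam₂ : ∀ h : H, ((lam₂ h : ℂˣ) : ℂ) = LinearMap.det (ρ (h : G)) * (θ₀ h)⁻¹ := by
    intro h
    show ((detHom ρ (h : G) * (lam h)⁻¹ : ℂˣ) : ℂ) = _
    rw [Units.val_mul, Units.val_inv_eq_inv_val, detHom_apply, hlam]
  have hθne : ∀ h : H, θ₀ h ≠ 0 := fun h => by
    rw [← hlam h]
    exact Units.ne_zero _
  -- the restriction of the character
  have hres : (fun h : H => ρ.character (h : G)) =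
      (fun h : H => ((lam h : ℂˣ) : ℂ)) + (fun h : H => ((lam₂ h : ℂˣ) : ℂ)) := by
    funext h
    rw [Pi.add_apply, hlam, hlam₂]
    have hq := eigen_quadratic (ρ (h : G)) hv0' (hθ₀ h)
    have : ρ.character (h : G) = LinearMap.trace ℂ _ (ρ (h : G)) := rfl
    rw [this]
    have hne := hθne h
    field_simp
    linear_combination -hq
  have hirr1 := isIrrCharacter_of_monoidHom lam
  have hirr2 := isIrrCharacter_of_monoidHom lam₂
  have hinner : classInner (fun h : H => ρ.character (h : G))
      (fun h : H => ((lam h : ℂˣ) : ℂ)) ≠ 0 := by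
    rw [hres, classInner_add_left, irr_orthogonality hirr1 hirr1, if_pos rfl,
      irr_orthogonality hirr2 hirr1]
    split_ifs <;> norm_num
  have hχirr : IsIrrCharacter G ρ.character := ⟨2, ρ, hirr, rfl⟩
  have hχc := isCharacter_of_isIrrCharacter hχirr
  have hθc : IsCharacter H (fun h : H => ((lam h : ℂˣ) : ℂ)) := isCharacter_of_isIrrCharacter hirr1
  have hφc := isCharacter_indFun H hθc
  have hfrob := frobenius_reciprocity H (fun h : H => ((lam h : ℂˣ) : ℂ))
    (isClassFunction_of_isCharacter hχc)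
  have hcons : classInner (indFun H (fun h : H => ((lam h : ℂˣ) : ℂ))) ρ.character ≠ 0 := by
    rw [hfrob, ← classInner_conj_symm]
    intro h0
    apply hinner
    have := congrArg conj h0
    simpa using this
  obtain ⟨η, hη, hdec⟩ := exists_add_of_constituent hφc hχirr hcons
  refine ⟨fun h : H => ((lam h : ℂˣ) : ℂ), hθc, ?_⟩
  -- degrees
  have h1 := congrFun hdec 1
  rw [indFun_one, Pi.add_apply, hH2, map_one, Representation.char_one, Module.finrank_fin_fun] at h1
  have hη1 : η 1 = 0 := by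
    have : ((2 : ℕ) : ℂ) * ((1 : ℂˣ) : ℂ) = ((2 : ℕ) : ℂ) + η 1 := h1
    simpa using this
  have hηdeg : charDegree η = 0 := charDegree_natCast 0 (by simpa using hη1)
  have hη0 : η = 0 := by
    funext g
    have := norm_le_charDegree hη g
    rw [hηdeg] at this
    simpa using this
  rw [hdec, hη0, add_zero]

end Imprim

section Main

variable {G : Type u} [Group G] [Fintype G]

/-- **Primitive linear groups of degree two.** -/
theorem index_center_of_primitive (χ : IrrCharacter G)
    (hfaith : ∀ g : G, (χ : G → ℂ) g = (χ : G → ℂ) 1 → g = 1)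
    (h2 : charDegree (χ : G → ℂ) = 2)
    (hprim : ∀ H : Subgroup G, H ≠ ⊤ → ∀ θ : H → ℂ, IsCharacter H θ →
      (χ : G → ℂ) ≠ indFun H θ) :
    (Subgroup.center G).index = 12 ∨ (Subgroup.center G).index = 24 ∨
      (Subgroup.center G).index = 60 := by
  obtain ⟨n, ρ, hirr, hρχ⟩ := χ.2
  have hn : n = 2 := by
    have h1 : (χ : G → ℂ) 1 = n := by
      rw [← hρχ, Representation.char_one, Module.finrank_fin_fun]
    have := charDegree_natCast n h1
    omega
  subst hn
  have hinj : Function.Injective ρ := by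
    rw [injective_iff_map_eq_one]
    intro g hg
    apply hfaith
    rw [← hρχ]
    show LinearMap.trace ℂ _ (ρ g) = LinearMap.trace ℂ _ (ρ 1)
    rw [hg, (map_one ρ : ρ 1 = 1)]
  rcases exists_stabilizer_or_index ρ hirr hinj with ⟨L, H, hL, hH, hHL⟩ | h
  · exfalso
    have hHpos : H.index ≠ 0 := Subgroup.index_ne_zero_of_finite
    have hcases : H.index = 1 ∨ H.index = 2 := by omega
    rcases hcases with h1 | h2'
    · rw [Subgroup.index_eq_one] at h1
      exact no_invariant_line ρ hirr L hL (fun g => hHL g (h1 ▸ Subgroup.mem_top g))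
    · obtain ⟨θ, hθ, hind⟩ := induced_of_stabilizer ρ hirr L hL H h2' hHL
      have hHtop : H ≠ ⊤ := by
        intro h
        rw [h, Subgroup.index_top] at h2'
        omega
      exact hprim H hHtop θ hθ (hρχ ▸ hind)
  · exact h

end Main

end Cfsg.Agent.Helper24.Prim2
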