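import Mathlib
import Cfsg.Agent.Lib.Helper24.IPDefs
import Cfsg.Agent.Lib.Helper24.IPCen
import Cfsg.Agent.Lib.Helper24.IPCt
import Cfsg.Agent.Lib.Helper24.IPVb
import Cfsg.Agent.Lib.Helper23.IPArith
import Cfsg.Agent.Lib.Helper23.IPCnt
import Cfsg.Agent.Lib.Helper16.IPGroup
import Cfsg.Agent.Lib.Helper27.IPKmaxSmall
import Cfsg.Agent.Lib.Helper27.IPFle
import Cfsg.Agent.Lib.Helper11.IPSupp
import Cfsg.Agent.Lib.Helper18.IPV
import Cfsg.Agent.Lib.Helper25.IPB5

/-!
# Isaacs–Passman: the induction (helper24)
-/

set_option autoImplicit false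
set_option linter.style.haveILetI false

namespace Cfsg.Agent.Helper24.IP

open Cfsg Cfsg.Agent.Helper24
open Cfsg.Agent.Helper23.IPArith Cfsg.Agent.Helper23.IPCnt Cfsg.Agent.Helper16.IPGroup
open Cfsg.Agent.Helper27.IPKS Cfsg.Agent.Helper27.IPFle Cfsg.Agent.Helper11.IPSupp
open Cfsg.Agent.Helper18.IPV Cfsg.Agent.Helper25.IPB5
open scoped Nat

universe u

variable {G : Type u} [Group G] [Finite G]

theorem card_lt_of_ne_top' {H : Subgroup G} (hH : H ≠ ⊤) : Nat.card H < Nat.card G := by
  have h1 : H.index ≠ 1 := fun h => hH (Subgroup.index_eq_one.mp h)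
  have h2 : H.index ≠ 0 := Subgroup.index_ne_zero_of_finite
  have h3 := Subgroup.card_mul_index H
  have h4 : 0 < Nat.card H := Nat.card_pos
  have h5 : 2 ≤ H.index := by omega
  nlinarith

theorem two_le_of_nonabelian {b : ℕ} (hb : Bdd G b) (hna : ∃ x y : G, x * y ≠ y * x) : 2 ≤ b := by
  obtain ⟨χ, hχ, hnl⟩ := Cd2.exists_nonlinear hna
  have h1 := charDegree_pos hχ
  have h2 := hb χ hχ
  omega

/-- The inductive step. -/
theorem step {b : ℕ} (hb : Bdd G b) (hna : ∃ x y : G, x * y ≠ y * x) :
    ∃ (H : Subgroup G) (c : ℕ), H ≠ ⊤ ∧ Bdd H c ∧ H.index * (c !) ^ 2 ≤ (b !) ^ 2 := by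
  classical
  obtain ⟨K, hK⟩ := exists_maxNA hna
  haveI := hK.normal
  have hQ : Mono (G ⧸ K) := mono_of_maxNA K hK
  have hbQ : Bdd (G ⧸ K) b := hb.quotient K
  have hb1 := hb.one_le
  have hb2 := two_le_of_nonabelian hb hna
  have hπs : Function.Surjective (QuotientGroup.mk' K) := QuotientGroup.mk'_surjective K
  have hKtop : K ≠ ⊤ := by
    intro h
    apply hK.nab
    rw [h]
    exact le_top
  have hQna : ∃ x y : G ⧸ K, x * y ≠ y * x := by
    by_contra hcon
    push Not at hcon
    apply hQ.nab
    rw [eq_bot_iff]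
    intro z hz
    rw [Subgroup.mem_bot]
    have : commutator (G ⧸ K) = ⊥ := by
      rw [commutator_def, Subgroup.commutator_eq_bot_iff_le_centralizer]
      intro a _
      rw [Subgroup.mem_centralizer_iff]
      intro c _
      exact hcon c a
    rw [this, Subgroup.mem_bot] at hz
    exact hz
  by_cases hc1 : commutator (G ⧸ K) ≤ Subgroup.center (G ⧸ K)
  · -- case (i): the commutator subgroup of `G ⧸ K` is central
    obtain ⟨ψ, hψ, hnl⟩ := Cd2.exists_nonlinear hQna
    obtain ⟨hvan, hidx⟩ := central_type_of_mono hQ hc1 hψ hnl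
    have hβ : IsIrrCharacter G (ψ ∘ (QuotientGroup.mk' K)) :=
      isIrrCharacter_comp_of_surjective (QuotientGroup.mk' K) hπs hψ
    have hβd : charDegree (ψ ∘ (QuotientGroup.mk' K)) = charDegree ψ :=
      Cd2.charDegree_comp (QuotientGroup.mk' K) ψ
    have hHidx : ((Subgroup.center (G ⧸ K)).comap (QuotientGroup.mk' K)).index =
        charDegree (ψ ∘ (QuotientGroup.mk' K)) ^ 2 := by
      rw [hβd, hidx]
      exact Subgroup.index_comap_of_surjective _ hπs
    have hβvan : ∀ g, g ∉ (Subgroup.center (G ⧸ K)).comap (QuotientGroup.mk' K) →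
        (ψ ∘ (QuotientGroup.mk' K)) g = 0 := fun g hg => hvan _ (fun h => hg (Subgroup.mem_comap.mpr h))
    have hlt : ∀ η : ((Subgroup.center (G ⧸ K)).comap (QuotientGroup.mk' K)) → ℂ,
        IsIrrCharacter _ η → charDegree η < b :=
      fun η hη => lt_of_vanish_off hb hβ (by rw [hβd]; exact hnl) _ hβvan hHidx hη
    have hdpos := charDegree_pos hψ
    refine ⟨(Subgroup.center (G ⧸ K)).comap (QuotientGroup.mk' K), b - 1, ?_, ?_, ?_⟩
    · intro htop
      rw [htop, Subgroup.index_top, hβd] at hHidx
      have : charDegree ψ = 1 := by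
        have h1 : charDegree ψ ^ 2 = 1 := hHidx.symm
        rcases Nat.pow_eq_one.mp h1 with h | h
        · exact h
        · omega
      exact hnl this
    · intro η hη
      have := hlt η hη
      omega
    · rw [hHidx]
      have hβb : charDegree (ψ ∘ (QuotientGroup.mk' K)) ≤ b := hb _ hβ
      calc charDegree (ψ ∘ (QuotientGroup.mk' K)) ^ 2 * ((b - 1)!) ^ 2
          ≤ b ^ 2 * ((b - 1)!) ^ 2 := Nat.mul_le_mul_right _ (Nat.pow_le_pow_left hβb 2)
        _ = (b !) ^ 2 := arith_a b hb1
  · have hcenter : Subgroup.center (G ⧸ K) = ⊥ := by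
      by_contra hne
      exact hc1 (hQ.min _ inferInstance hne)
    by_cases hc2 : ∀ a ∈ commutator (G ⧸ K), ∀ c ∈ commutator (G ⧸ K), a * c = c * a
    · -- case (ii): the commutator subgroup of `G ⧸ K` is abelian, not central
      have hcent := centralizer_commutator_le hQ hc2 hc1
      have hf : (commutator (G ⧸ K)).index ≤ b := index_commutator_le hbQ hQ hc2 hcent
      have hNidx : ((commutator (G ⧸ K)).comap (QuotientGroup.mk' K)).index =
          (commutator (G ⧸ K)).index := Subgroup.index_comap_of_surjective _ hπs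
      haveI hNn : ((commutator (G ⧸ K)).comap (QuotientGroup.mk' K)).Normal :=
        Subgroup.Normal.comap inferInstance _
      have hKN : K ≤ (commutator (G ⧸ K)).comap (QuotientGroup.mk' K) := by
        intro k hk
        rw [Subgroup.mem_comap, QuotientGroup.mk'_apply, (QuotientGroup.eq_one_iff k).mpr hk]
        exact Subgroup.one_mem _
      have hNtop : (commutator (G ⧸ K)).comap (QuotientGroup.mk' K) ≠ ⊤ := by
        intro htop
        have h1 : commutator (G ⧸ K) = ⊤ := by
          have := Subgroup.map_comap_eq_self_of_surjective hπs (commutator (G ⧸ K))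
          rw [htop, Subgroup.map_top_of_surjective _ hπs] at this
          exact this.symm
        obtain ⟨x, y, hxy⟩ := hQna
        apply hxy
        exact hc2 x (h1 ▸ Subgroup.mem_top x) y (h1 ▸ Subgroup.mem_top y)
      by_cases hB : ∀ η : ((commutator (G ⧸ K)).comap (QuotientGroup.mk' K)) → ℂ,
          IsIrrCharacter _ η → charDegree η < b
      · refine ⟨(commutator (G ⧸ K)).comap (QuotientGroup.mk' K), b - 1, hNtop, ?_, ?_⟩
        · intro η hη
          have := hB η hη
          omega
        · rw [hNidx]
          exact arith_b b _ hb1 hf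
      · push Not at hB
        obtain ⟨ψ, hψ, hψb⟩ := hB
        have hdeg : charDegree ψ = b := le_antisymm ((hb.subgroup _) ψ hψ) hψb
        have hab' : ∀ x ∈ (commutator (G ⧸ K)).comap (QuotientGroup.mk' K),
            ∀ y ∈ (commutator (G ⧸ K)).comap (QuotientGroup.mk' K), x * y * x⁻¹ * y⁻¹ ∈ K := by
          intro x hx y hy
          rw [← QuotientGroup.eq_one_iff]
          have h1 := hc2 _ (Subgroup.mem_comap.mp hx) _ (Subgroup.mem_comap.mp hy)
          simp only [QuotientGroup.mk'_apply] at h1
          rw [QuotientGroup.mk_mul, QuotientGroup.mk_mul, QuotientGroup.mk_mul, h1,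
            QuotientGroup.mk_inv, QuotientGroup.mk_inv]
          group
        have hcen' : ∀ n ∈ (commutator (G ⧸ K)).comap (QuotientGroup.mk' K),
            (∀ g : G, g * n * g⁻¹ * n⁻¹ ∈ K) → n ∈ K := by
          intro n _ hn
          rw [← QuotientGroup.eq_one_iff]
          have h1 : (QuotientGroup.mk n : G ⧸ K) ∈ Subgroup.center (G ⧸ K) := by
            rw [Subgroup.mem_center_iff]
            intro q
            obtain ⟨g, rfl⟩ := QuotientGroup.mk_surjective q
            have h2 := (QuotientGroup.eq_one_iff (N := K) _).mpr (hn g)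
            rw [QuotientGroup.mk_mul, QuotientGroup.mk_mul, QuotientGroup.mk_mul,
              QuotientGroup.mk_inv, QuotientGroup.mk_inv] at h2
            calc (QuotientGroup.mk g : G ⧸ K) * QuotientGroup.mk n
                = (QuotientGroup.mk g * QuotientGroup.mk n * (QuotientGroup.mk g)⁻¹ *
                    (QuotientGroup.mk n)⁻¹) * (QuotientGroup.mk n * QuotientGroup.mk g) := by group
              _ = QuotientGroup.mk n * QuotientGroup.mk g := by rw [h2, one_mul]
          rw [hcenter, Subgroup.mem_bot] at h1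
          exact h1
        have hsupp := support_le_of_degree_eq hb K _ hKN hab' hcen' hψ hdeg
        have hcardN := card_le_of_support _ K hKN hψ hsupp
        rw [hdeg] at hcardN
        -- `|N : K| ≤ b²`
        have hrel : Nat.card K * K.relIndex ((commutator (G ⧸ K)).comap (QuotientGroup.mk' K)) =
            Nat.card ((commutator (G ⧸ K)).comap (QuotientGroup.mk' K)) := by
          have := Subgroup.relIndex_mul_relIndex (⊥ : Subgroup G) K _ bot_le hKN
          rwa [Subgroup.relIndex_bot_left, Subgroup.relIndex_bot_left] at this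
        have hKpos : 0 < Nat.card K := Nat.card_pos
        have hrelle : K.relIndex ((commutator (G ⧸ K)).comap (QuotientGroup.mk' K)) ≤ b ^ 2 := by
          rw [← hrel, mul_comm] at hcardN
          exact Nat.le_of_mul_le_mul_right hcardN hKpos
        have hrelM : K.relIndex ((commutator (G ⧸ K)).comap (QuotientGroup.mk' K)) =
            Nat.card (commutator (G ⧸ K)) := by
          have h1 := Subgroup.relIndex_ker (QuotientGroup.mk' K)
            (K := (commutator (G ⧸ K)).comap (QuotientGroup.mk' K))
          rw [QuotientGroup.ker_mk', Subgroup.map_comap_eq_self_of_surjective hπs] at h1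
          exact h1
        have hKidx : K.index ≤ b ^ 3 := by
          rw [← Subgroup.relIndex_mul_index hKN, hNidx]
          calc K.relIndex _ * (commutator (G ⧸ K)).index ≤ b ^ 2 * b := Nat.mul_le_mul hrelle hf
            _ = b ^ 3 := by ring
        have hb3 : 3 ≤ b := by
          by_contra hlt
          have hb2' : b = 2 := by omega
          have h3 := relIndex_ne_three K _ hKN hψ hsupp (by rw [hdeg, hb2'])
          apply false_of_small hQ hc1 (by rw [← hb2']; exact hf)
          · rw [← hrelM]; rw [hb2'] at hrelle; exact hrelle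
          · rw [← hrelM]; exact h3
        refine ⟨K, b / 2, hKtop, bdd_half hb K hK.nab, arith_c b _ hb3 hKidx⟩
    · -- case (iii): the commutator subgroup of `G ⧸ K` is nonabelian
      push Not at hc2
      have hnab : ∃ a ∈ commutator (G ⧸ K), ∃ c ∈ commutator (G ⧸ K), a * c ≠ c * a := hc2
      have h5 : 5 ≤ b := five_le_of_nonabelian hbQ hQ hnab
      haveI : Nontrivial (G ⧸ K) := by
        obtain ⟨x, y, hxy⟩ := hQna
        refine ⟨⟨x * y, y * x, hxy⟩⟩
      obtain ⟨x, hx1, hxidx⟩ := exists_small_class hbQ
      have hHidx : ((Subgroup.centralizer ({x} : Set (G ⧸ K))).comap (QuotientGroup.mk' K)).index =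
          (Subgroup.centralizer ({x} : Set (G ⧸ K))).index :=
        Subgroup.index_comap_of_surjective _ hπs
      have hKH : K ≤ (Subgroup.centralizer ({x} : Set (G ⧸ K))).comap (QuotientGroup.mk' K) := by
        intro k hk
        rw [Subgroup.mem_comap, QuotientGroup.mk'_apply, (QuotientGroup.eq_one_iff k).mpr hk]
        exact Subgroup.one_mem _
      have hHtop : (Subgroup.centralizer ({x} : Set (G ⧸ K))).comap (QuotientGroup.mk' K) ≠ ⊤ := by
        intro htop
        have h1 : Subgroup.centralizer ({x} : Set (G ⧸ K)) = ⊤ := by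
          have := Subgroup.map_comap_eq_self_of_surjective hπs
            (Subgroup.centralizer ({x} : Set (G ⧸ K)))
          rw [htop, Subgroup.map_top_of_surjective _ hπs] at this
          exact this.symm
        exact hx1 (eq_one_of_conj_mem_centralizer hQ hnab hx1 x
          (fun g => h1 ▸ Subgroup.mem_top _))
      by_cases hB : ∀ η : ((Subgroup.centralizer ({x} : Set (G ⧸ K))).comap
          (QuotientGroup.mk' K)) → ℂ, IsIrrCharacter _ η → charDegree η < b
      · refine ⟨_, b - 1, hHtop, ?_, ?_⟩
        · intro η hη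
          have := hB η hη
          omega
        · rw [hHidx]
          calc (Subgroup.centralizer ({x} : Set (G ⧸ K))).index * ((b - 1)!) ^ 2
              ≤ b ^ 2 * ((b - 1)!) ^ 2 := Nat.mul_le_mul_right _ hxidx
            _ = (b !) ^ 2 := arith_a b hb1
      · push Not at hB
        obtain ⟨η, hη, hηb⟩ := hB
        have hdeg : charDegree η = b := le_antisymm ((hb.subgroup _) η hη) hηb
        have hsupp : ∀ h : ((Subgroup.centralizer ({x} : Set (G ⧸ K))).comap
            (QuotientGroup.mk' K)), η h ≠ 0 → (h : G) ∈ K := by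
          intro h hne
          rw [← QuotientGroup.eq_one_iff]
          apply eq_one_of_conj_mem_centralizer hQ hnab hx1
          intro q
          obtain ⟨g, rfl⟩ := QuotientGroup.mk_surjective q
          have h1 := conj_mem_of_ne_zero hb _ hη hdeg h hne g
          rw [Subgroup.mem_comap] at h1
          simpa using h1
        have hcardH := card_le_of_support _ K hKH hη hsupp
        rw [hdeg] at hcardH
        have hrel : Nat.card K * K.relIndex ((Subgroup.centralizer ({x} : Set (G ⧸ K))).comap
            (QuotientGroup.mk' K)) =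
            Nat.card ((Subgroup.centralizer ({x} : Set (G ⧸ K))).comap (QuotientGroup.mk' K)) := by
          have := Subgroup.relIndex_mul_relIndex (⊥ : Subgroup G) K _ bot_le hKH
          rwa [Subgroup.relIndex_bot_left, Subgroup.relIndex_bot_left] at this
        have hKpos : 0 < Nat.card K := Nat.card_pos
        have hrelle : K.relIndex ((Subgroup.centralizer ({x} : Set (G ⧸ K))).comap
            (QuotientGroup.mk' K)) ≤ b ^ 2 := by
          rw [← hrel, mul_comm] at hcardH
          exact Nat.le_of_mul_le_mul_right hcardH hKpos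
        have hKidx : K.index ≤ b ^ 4 := by
          rw [← Subgroup.relIndex_mul_index hKH, hHidx]
          calc K.relIndex _ * (Subgroup.centralizer ({x} : Set (G ⧸ K))).index
              ≤ b ^ 2 * b ^ 2 := Nat.mul_le_mul hrelle hxidx
            _ = b ^ 4 := by ring
        exact ⟨K, b / 2, hKtop, bdd_half hb K hK.nab, arith_d b _ h5 hKidx⟩

/-- **Isaacs–Passman**: if all irreducible character degrees are at most `b`, there is an abelian
subgroup of index at most `(b!)²`. -/
theorem main (n : ℕ) : ∀ (G : Type u) [Group G] [Finite G], Nat.card G = n →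
    ∀ b : ℕ, Bdd G b → HasAb G ((b !) ^ 2) := by
  induction n using Nat.strong_induction_on with
  | _ n ih =>
  intro G _ _ hn b hb
  classical
  by_cases hab : ∀ x y : G, x * y = y * x
  · refine ⟨⊤, fun x _ y _ => hab x y, ?_⟩
    rw [Subgroup.index_top]
    exact Nat.one_le_iff_ne_zero.mpr (pow_ne_zero _ (Nat.factorial_ne_zero b))
  · push Not at hab
    set P : ℕ → Prop := fun d => ∃ χ : G → ℂ, IsIrrCharacter G χ ∧ charDegree χ = d with hP
    have hb0 : Bdd G (Nat.findGreatest P b) := by
      intro χ hχ
      exact Nat.le_findGreatest (hb χ hχ) ⟨χ, hχ, rfl⟩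
    have hle : Nat.findGreatest P b ≤ b := Nat.findGreatest_le b
    obtain ⟨H, c, hH, hc, hidx⟩ := step hb0 hab
    obtain ⟨A, hA, hAidx⟩ := ih (Nat.card H) (hn ▸ card_lt_of_ne_top' hH) H rfl c hc
    refine ⟨A.map H.subtype, ?_, ?_⟩
    · rintro _ ⟨a, ha, rfl⟩ _ ⟨a', ha', rfl⟩
      exact congrArg Subtype.val (hA a ha a' ha')
    · rw [Subgroup.index_map_subtype]
      calc A.index * H.index ≤ (c !) ^ 2 * H.index := Nat.mul_le_mul_right _ hAidx
        _ = H.index * (c !) ^ 2 := mul_comm _ _
        _ ≤ ((Nat.findGreatest P b)!) ^ 2 := hidx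
        _ ≤ (b !) ^ 2 := Nat.pow_le_pow_left (Nat.factorial_le hle) 2

end Cfsg.Agent.Helper24.IP
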