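import Mathlib
import Cfsg.Agent.Lib.Helper13.InvNDefs

/-!
# INVN piece MIRROR (helper24): the second representation of an involution `t = v h n_w`
-/

set_option autoImplicit false
set_option linter.unusedSectionVars false
set_option linter.unusedVariables false

namespace Cfsg.Agent.Helper24.InvNDup

open Cfsg Cfsg.Lie Cfsg.Agent.Lead.Chev Cfsg.Agent.Helper6.ChevL Cfsg.Agent.Helper13.InvN

/-- the abstract computation behind `good_mirror` -/
theorem mirror_core {G : Type*} [Group G] (U H : Subgroup G)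
    (hHU : ∀ k ∈ H, ∀ u ∈ U, k * u * k⁻¹ ∈ U) (n t v h : G) (htt : t * t = 1)
    (ht : t = v * h * n) (hv : v ∈ U) (hh : h ∈ H) (hvn : n⁻¹ * v * n ∈ U) (hm : n * n ∈ H)
    (hconj : ∀ k ∈ H, n⁻¹ * k * n ∈ H) :
    ∃ k ∈ H, ∃ h', t = (k * (n⁻¹ * v⁻¹ * n) * k⁻¹) * h' * n ∧ (k * (n⁻¹ * v⁻¹ * n) * k⁻¹) ∈ U ∧ h' ∈ H ∧
      n⁻¹ * (k * (n⁻¹ * v⁻¹ * n) * k⁻¹) * n ∈ U := by
  have hk : n⁻¹ * h⁻¹ * n ∈ H := hconj h⁻¹ (inv_mem hh)
  have hvstar : n⁻¹ * v⁻¹ * n ∈ U := by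
    have : n⁻¹ * v⁻¹ * n = (n⁻¹ * v * n)⁻¹ := by group
    rw [this]
    exact inv_mem hvn
  have htinv : t⁻¹ = t := inv_eq_of_mul_eq_one_left htt
  refine ⟨n⁻¹ * h⁻¹ * n, hk, (n⁻¹ * h⁻¹ * n) * (n * n)⁻¹, ?_, ?_, ?_, ?_⟩
  · have e1 : t = n⁻¹ * h⁻¹ * v⁻¹ := by
      rw [← htinv, ht]; group
    rw [e1]
    group
  · exact hHU _ hk _ hvstar
  · exact mul_mem hk (inv_mem hm)
  · have hk' : n⁻¹ * (n⁻¹ * h⁻¹ * n) * n ∈ H := hconj _ hk
    have h2 : (n * n)⁻¹ * v⁻¹ * ((n * n)⁻¹)⁻¹ ∈ U := hHU _ (inv_mem hm) _ (inv_mem hv)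
    have h3 := hHU _ hk' _ h2
    have e : n⁻¹ * ((n⁻¹ * h⁻¹ * n) * (n⁻¹ * v⁻¹ * n) * (n⁻¹ * h⁻¹ * n)⁻¹) * n =
        (n⁻¹ * (n⁻¹ * h⁻¹ * n) * n) * ((n * n)⁻¹ * v⁻¹ * ((n * n)⁻¹)⁻¹) *
          (n⁻¹ * (n⁻¹ * h⁻¹ * n) * n)⁻¹ := by
      simp only [mul_inv_rev, inv_inv, mul_assoc, mul_inv_cancel_left]
    rw [e]
    exact h3

variable {F : Type*} [Field F] {D : ChevalleyDatum} (hF : ChevFacts D F) (hS : CorSize D) (hI : CorInj D)
include hF hS hI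

/-- `n_w * n_w ∈ H` when `w` acts as an involution -/
theorem mirror_sq_mem (w : List ℕ) (hw : WOK D w) (hinv : Invol D w) :
    nWordGL D hF.xadd w * nWordGL D hF.xadd w ∈ D.diagonalSubgroup F := by
  have hww : ∀ i ∈ w ++ w, i < D.rank := hw.append hw
  have h := hF.nWordGL_inv_mul_mem_diagonal [] (w ++ w) (fun i hi => absurd hi List.not_mem_nil) hww
    (by
      intro r hr
      rw [reflWord_append, hinv r hr]
      simp [reflWord])
  rw [nWordGL_nil, inv_one, one_mul, nWordGL_append] at h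
  exact h

/-- conjugation by `n_w⁻¹` maps `H` into `H` when `w` acts as an involution -/
theorem mirror_inv_conj_mem (w : List ℕ) (hw : WOK D w) (hinv : Invol D w) (k : GL D.Idx F)
    (hk : k ∈ D.diagonalSubgroup F) :
    (nWordGL D hF.xadd w)⁻¹ * k * nWordGL D hF.xadd w ∈ D.diagonalSubgroup F := by
  have hm := mirror_sq_mem hF hS hI w hw hinv
  have h1 := nWordGL_conj_mem_diagonal D hF.xadd (etaOf D) hF.nsimple w hw k hk
  have e : (nWordGL D hF.xadd w)⁻¹ * k * nWordGL D hF.xadd w =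
      (nWordGL D hF.xadd w * nWordGL D hF.xadd w)⁻¹ *
        (nWordGL D hF.xadd w * k * (nWordGL D hF.xadd w)⁻¹) *
        (nWordGL D hF.xadd w * nWordGL D hF.xadd w) := by group
  rw [e]
  exact mul_mem (mul_mem (inv_mem hm) h1) hm

/-- `H` normalises `U` -/
theorem mirror_diag_conj (k : GL D.Idx F) (hk : k ∈ D.diagonalSubgroup F) (u : GL D.Idx F)
    (hu : u ∈ D.posUnipotent F) : k * u * k⁻¹ ∈ D.posUnipotent F := by
  have hle := diagonalSubgroup_le_normalizer D hF.hall hF.hconj hk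
  rw [Subgroup.mem_normalizer_iff] at hle
  exact (hle u).1 hu

/-- PIECE MIRROR: the second representation of an involution -/
theorem good_mirror (t : GL D.Idx F) (htt : t * t = 1) (w : List ℕ) (hw : WOK D w) (hinv : Invol D w)
    (v h : GL D.Idx F) (hG : Good hF t w v h) :
    ∃ k ∈ D.diagonalSubgroup F, ∃ h',
      Good hF t w (k * ((nWordGL D hF.xadd w)⁻¹ * v⁻¹ * nWordGL D hF.xadd w) * k⁻¹) h' := by
  obtain ⟨ht, hv, hh, hvn⟩ := hG
  obtain ⟨k, hk, h', h1, h2, h3, h4⟩ := mirror_core (D.posUnipotent F) (D.diagonalSubgroup F)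
    (fun k hk u hu => mirror_diag_conj hF hS hI k hk u hu) (nWordGL D hF.xadd w) t v h htt ht hv hh hvn
    (mirror_sq_mem hF hS hI w hw hinv)
    (fun k hk => mirror_inv_conj_mem hF hS hI w hw hinv k hk)
  exact ⟨k, hk, h', h1, h2, h3, h4⟩

end Cfsg.Agent.Helper24.InvNDup
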