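import Mathlib
import Cfsg.Agent.Lib.Helper13.InvNDefs

/-!
# INVN piece STEP3 (helper24): conjugation by `n_i` (with `w α_i = α_i`) keeps the form `t = v h n_w`
-/

set_option autoImplicit false
set_option linter.unusedSectionVars false
set_option linter.unusedVariables false

namespace Cfsg.Agent.Helper24.InvNDup

open Cfsg Cfsg.Lie Cfsg.Agent.Lead.Chev Cfsg.Agent.Helper6.ChevL Cfsg.Agent.Helper13.InvN

/-- the abstract computation behind `good_conj` -/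
theorem step3_core {G : Type*} [Group G] (U H : Subgroup G)
    (hHU : ∀ k ∈ H, ∀ u ∈ U, k * u * k⁻¹ ∈ U) (n ni t v h k k₅ : G)
    (ht : t = v * h * n) (ek : n * ni * n⁻¹ = k * ni) (ek₅ : n⁻¹ * ni * n = k₅ * ni)
    (hk : k ∈ H) (hk₅ : k₅ ∈ H) (hhc : ni * h * ni⁻¹ ∈ H) (h1 : ni * v * ni⁻¹ ∈ U)
    (h2 : ni * (n⁻¹ * v * n) * ni⁻¹ ∈ U) :
    ∃ h', ni * t * ni⁻¹ = (ni * v * ni⁻¹) * h' * n ∧ ni * v * ni⁻¹ ∈ U ∧ h' ∈ H ∧
      n⁻¹ * (ni * v * ni⁻¹) * n ∈ U := by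
  refine ⟨ni * h * ni⁻¹ * k⁻¹, ?_, h1, mul_mem hhc (inv_mem hk), ?_⟩
  · have e1 : k⁻¹ = ni * n * ni⁻¹ * n⁻¹ := by
      have : k = n * ni * n⁻¹ * ni⁻¹ := by rw [ek]; group
      rw [this]; group
    rw [ht, e1]
    group
  · have h3 := hHU k₅ hk₅ _ h2
    have e : n⁻¹ * (ni * v * ni⁻¹) * n = k₅ * (ni * (n⁻¹ * v * n) * ni⁻¹) * k₅⁻¹ := by
      have e3 : n⁻¹ * (ni * v * ni⁻¹) * n = (n⁻¹ * ni * n) * (n⁻¹ * v * n) * (n⁻¹ * ni * n)⁻¹ := by group
      rw [e3, ek₅]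
      group
    rw [e]
    exact h3

variable {F : Type*} [Field F] {D : ChevalleyDatum} (hF : ChevFacts D F) (hS : CorSize D) (hI : CorInj D)
include hF hS hI

/-- `n_w n_i n_w⁻¹ = k n_i` with `k ∈ H` when `w α_i = α_i` -/
theorem step3_conj_simple (w : List ℕ) (hw : WOK D w) (i : ℕ) (hi : i < D.rank)
    (hfix : reflWord D w (D.simple i) = D.simple i) :
    ∃ k ∈ D.diagonalSubgroup F,
      nWordGL D hF.xadd w * nGL D hF.xadd (D.simple i) * (nWordGL D hF.xadd w)⁻¹ =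
        k * nGL D hF.xadd (D.simple i) := by
  have hlt : D.simple i < D.nroots := hF.simple_lt i hi
  have h1 := nWordGL_conj_nGLt D hF.xadd (etaOf D) hF.nsimple w hw (D.simple i) hlt (1 : F)
  rw [hfix, mul_one] at h1
  have hsq := signWord_sq D (etaOf D) w (fun j hj s => (hF.nsimple j (hw j hj)).sign s) (D.simple i)
  have hne : ((signWord D (etaOf D) w (D.simple i) : ℤ) : F) ≠ 0 := by
    rcases hsq with h2 | h2 <;> rw [h2] <;> simp
  refine ⟨hGLt D hF.xadd (D.simple i) ((signWord D (etaOf D) w (D.simple i) : ℤ) : F),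
    hGLt_mem_diagonal D hF.xadd (D.simple i) hlt _ hne, ?_⟩
  rw [nGL_eq_nGLt, h1, nGLt_eq_hGLt_mul]

/-- `H` normalises `U` -/
theorem step3_diag_conj (k : GL D.Idx F) (hk : k ∈ D.diagonalSubgroup F) (u : GL D.Idx F)
    (hu : u ∈ D.posUnipotent F) : k * u * k⁻¹ ∈ D.posUnipotent F := by
  have hle := diagonalSubgroup_le_normalizer D hF.hall hF.hconj hk
  rw [Subgroup.mem_normalizer_iff] at hle
  exact (hle u).1 hu

/-- `n_w⁻¹ n_i n_w = k n_i` with `k ∈ H` when `w α_i = α_i` -/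
theorem step3_inv_conj_simple (w : List ℕ) (hw : WOK D w) (i : ℕ) (hi : i < D.rank)
    (hfix : reflWord D w (D.simple i) = D.simple i) :
    ∃ k ∈ D.diagonalSubgroup F,
      (nWordGL D hF.xadd w)⁻¹ * nGL D hF.xadd (D.simple i) * nWordGL D hF.xadd w =
        k * nGL D hF.xadd (D.simple i) := by
  have hlt : D.simple i < D.nroots := hF.simple_lt i hi
  have hfix' : reflWord D w.reverse (D.simple i) = D.simple i := by
    have := reflWord_reverse_cancel' D (etaOf D) hF.facts w hw (D.simple i) hlt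
    rw [hfix] at this
    exact this
  obtain ⟨k', hk', e'⟩ := step3_conj_simple hF hS hI w.reverse hw.reverse i hi hfix'
  obtain ⟨k₀, hk₀, e₀⟩ := nWordGL_inv D hF.xadd (etaOf D) hF.nsimple hF.simple_lt w hw
  have hc : nGL D hF.xadd (D.simple i) * k₀⁻¹ * (nGL D hF.xadd (D.simple i))⁻¹ ∈ D.diagonalSubgroup F :=
    nGL_conj_mem_diagonal D hF.xadd i (etaOf D i) (hF.nsimple i hi) _ (inv_mem hk₀)
  refine ⟨k₀ * k' * (nGL D hF.xadd (D.simple i) * k₀⁻¹ * (nGL D hF.xadd (D.simple i))⁻¹),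
    mul_mem (mul_mem hk₀ hk') hc, ?_⟩
  have e1 : nWordGL D hF.xadd w = (k₀ * nWordGL D hF.xadd w.reverse)⁻¹ := by
    rw [← e₀, inv_inv]
  have e2 : (nWordGL D hF.xadd w)⁻¹ * nGL D hF.xadd (D.simple i) * nWordGL D hF.xadd w =
      k₀ * (nWordGL D hF.xadd w.reverse * nGL D hF.xadd (D.simple i) *
        (nWordGL D hF.xadd w.reverse)⁻¹) * k₀⁻¹ := by
    conv_lhs => rw [e₀]
    conv_lhs => rw [e1]
    group
  rw [e2, e']
  group

/-- PIECE STEP3: conjugation by `n_i` keeps the form -/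
theorem good_conj (t : GL D.Idx F) (w : List ℕ) (hw : WOK D w) (v h : GL D.Idx F) (hG : Good hF t w v h)
    (i : ℕ) (hi : i < D.rank) (hfix : reflWord D w (D.simple i) = D.simple i)
    (hv : v ∈ posExcept D F (D.simple i))
    (hv' : (nWordGL D hF.xadd w)⁻¹ * v * nWordGL D hF.xadd w ∈ posExcept D F (D.simple i)) :
    ∃ h', Good hF (nGL D hF.xadd (D.simple i) * t * (nGL D hF.xadd (D.simple i))⁻¹) w
      (nGL D hF.xadd (D.simple i) * v * (nGL D hF.xadd (D.simple i))⁻¹) h' := by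
  obtain ⟨ht, hvU, hh, hvn⟩ := hG
  obtain ⟨k, hk, ek⟩ := step3_conj_simple hF hS hI w hw i hi hfix
  obtain ⟨k₅, hk₅, ek₅⟩ := step3_inv_conj_simple hF hS hI w hw i hi hfix
  have hhc : nGL D hF.xadd (D.simple i) * h * (nGL D hF.xadd (D.simple i))⁻¹ ∈ D.diagonalSubgroup F :=
    nGL_conj_mem_diagonal D hF.xadd i (etaOf D i) (hF.nsimple i hi) h hh
  obtain ⟨h', e1, e2, e3, e4⟩ := step3_core (D.posUnipotent F) (D.diagonalSubgroup F)
    (fun k hk u hu => step3_diag_conj hF hS hI k hk u hu) (nWordGL D hF.xadd w)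
    (nGL D hF.xadd (D.simple i)) t v h k k₅ ht ek ek₅ hk hk₅ hhc
    (hF.posExcept_le_posUnipotent i hi (hF.nGL_conj_posExcept i hi v hv))
    (hF.posExcept_le_posUnipotent i hi (hF.nGL_conj_posExcept i hi _ hv'))
  exact ⟨h', e1, e2, e3, e4⟩

end Cfsg.Agent.Helper24.InvNDup
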