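import Mathlib
import Cfsg.Agent.Lib.Helper3.J1ArithDefs

/-!
# S0448 piece FANOBOX (helper24): the box for the FANO system.
-/

set_option autoImplicit false
set_option linter.unusedSectionVars false
set_option linter.unusedVariables false

namespace Cfsg.Agent.Helper3.J1A

/-- negative denominators: `Y ≤ -n` gives `-(w/n) ≤ w/Y < 0` -/
theorem fanobox_neg (w : ℚ) (hw : 0 < w) (n : ℤ) (hn : 0 < n) (Y : ℤ) (hY : Y ≤ -n) :
    -(w / n) ≤ w / (Y : ℚ) ∧ w / (Y : ℚ) < 0 := by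
  have hYq : (Y : ℚ) ≤ -(n : ℚ) := by exact_mod_cast hY
  have hnq : (0 : ℚ) < n := by exact_mod_cast hn
  have h1 : w / (-(Y : ℚ)) ≤ w / n := div_le_div_of_nonneg_left hw.le hnq (by linarith)
  have h2 : 0 < w / (-(Y : ℚ)) := div_pos hw (by linarith)
  rw [div_neg] at h1 h2
  constructor <;> linarith

/-- positive denominators: `0 < Y` gives `0 < w/Y` -/
theorem fanobox_pos (w : ℚ) (hw : 0 < w) (Y : ℤ) (hY : 0 < Y) : 0 < w / (Y : ℚ) := by
  have hYq : (0 : ℚ) < Y := by exact_mod_cast hY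
  exact div_pos hw hYq

/-- inverse estimate: `Y < 0` and `w / Y ≤ -c` give `-(w/c) ≤ Y` -/
theorem fanobox_inv (w c : ℚ) (hw : 0 < w) (hc : 0 < c) (Y : ℤ) (hY : Y < 0)
    (h : w / (Y : ℚ) ≤ -c) : -(w / c) ≤ (Y : ℚ) := by
  have hYq : (Y : ℚ) < 0 := by exact_mod_cast hY
  rw [div_le_iff_of_neg hYq] at h
  rw [← neg_div, div_le_iff₀ hc]
  linarith

theorem fanobox_adm6 {Y : ℤ} (h : Adm 6 Y) : 14 ≤ Y ∨ Y ≤ -42 := by
  rcases h.2 with ⟨_, h2, _⟩ | ⟨_, _, h3⟩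
  · left; linarith
  · right; linarith

theorem fanobox_adm2 {Y : ℤ} (h : Adm (-2) Y) : 14 ≤ Y ∨ Y ≤ -10 := by
  rcases h.2 with ⟨_, _, h3⟩ | ⟨_, h2, _⟩
  · left; linarith
  · right; linarith

theorem fanobox_adm3 {Y : ℤ} (h : Adm 3 Y) : 11 ≤ Y ∨ Y ≤ -21 := by
  rcases h.2 with ⟨_, h2, _⟩ | ⟨_, _, h3⟩
  · left; linarith
  · right; linarith

/-- lower bound `-(w/n) ≤ w / Y` when `0 < Y ∨ Y ≤ -n` -/
theorem fanobox_lb (w : ℚ) (hw : 0 < w) (n : ℤ) (hn : 0 < n) (Y : ℤ) (h : 0 < Y ∨ Y ≤ -n) :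
    -(w / n) ≤ w / (Y : ℚ) := by
  rcases h with h | h
  · have := fanobox_pos w hw Y h
    have hnq : (0 : ℚ) < n := by exact_mod_cast hn
    have : 0 < w / n := div_pos hw hnq
    linarith
  · exact (fanobox_neg w hw n hn Y h).1

/-- integer lower bound from a rational one -/
theorem fanobox_int (Y : ℤ) (m : ℤ) (q : ℚ) (hq : -q ≤ (Y : ℚ)) (hm : q < (m : ℚ) + 1) : -m ≤ Y := by
  by_contra hc
  push Not at hc
  have : Y ≤ -m - 1 := by linarith
  have : (Y : ℚ) ≤ -(m : ℚ) - 1 := by exact_mod_cast this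
  linarith

/-- the `a`-system (and the `b`-system) for large `g` -/
theorem fanobox_pair (k : ℚ) (hk : k ≤ 1 / 10) (Y0 Y1 Y3 : ℤ) (h0 : Adm 6 Y0) (h1 : Adm (-2) Y1)
    (h3 : Adm 3 Y3) (hs : 1 + Y0 + Y1 + Y3 = 0)
    (he : (1 : ℚ) + 36 / Y0 + 4 / Y1 + 9 / Y3 = k) :
    (-76 ≤ Y0 ∧ Y0 ≤ -42) ∧ (-93 ≤ Y1 ∧ Y1 ≤ 285) ∧ (-210 ≤ Y3 ∧ Y3 ≤ 168) := by
  have l0 : -(6 / 7 : ℚ) ≤ 36 / (Y0 : ℚ) := by
    have := fanobox_lb 36 (by norm_num) 42 (by norm_num) Y0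
      (by rcases fanobox_adm6 h0 with h | h
          · left; linarith
          · right; exact h)
    norm_num at this ⊢
    linarith
  have l1 : -(2 / 5 : ℚ) ≤ 4 / (Y1 : ℚ) := by
    have := fanobox_lb 4 (by norm_num) 10 (by norm_num) Y1
      (by rcases fanobox_adm2 h1 with h | h
          · left; linarith
          · right; exact h)
    norm_num at this ⊢
    linarith
  have l3 : -(3 / 7 : ℚ) ≤ 9 / (Y3 : ℚ) := by
    have := fanobox_lb 9 (by norm_num) 21 (by norm_num) Y3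
      (by rcases fanobox_adm3 h3 with h | h
          · left; linarith
          · right; exact h)
    norm_num at this ⊢
    linarith
  have hsum : 36 / (Y0 : ℚ) + 4 / (Y1 : ℚ) + 9 / (Y3 : ℚ) ≤ -(9 / 10) := by linarith
  -- `Y0` is negative
  have n0 : Y0 ≤ -42 := by
    rcases fanobox_adm6 h0 with h | h
    · exfalso
      have := fanobox_pos 36 (by norm_num) Y0 (by linarith)
      linarith
    · exact h
  -- `Y1`, `Y3` are not both negative
  rcases fanobox_adm2 h1 with p1 | m1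
  · -- `Y1 > 0`
    have pp1 := fanobox_pos 4 (by norm_num) Y1 (by linarith)
    have u0 : 36 / (Y0 : ℚ) ≤ -(33 / 70) := by linarith
    have i0 := fanobox_inv 36 (33 / 70) (by norm_num) (by norm_num) Y0 (by linarith) u0
    have b0 : -76 ≤ Y0 := fanobox_int Y0 76 _ i0 (by norm_num)
    have hs43 : 4 / (Y1 : ℚ) + 9 / (Y3 : ℚ) ≤ -(3 / 70) := by linarith
    -- `Y3 < 0`
    have n3 : Y3 ≤ -21 := by
      rcases fanobox_adm3 h3 with h | h
      · exfalso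
        have := fanobox_pos 9 (by norm_num) Y3 (by linarith)
        linarith
      · exact h
    have u3 : 9 / (Y3 : ℚ) ≤ -(3 / 70) := by linarith
    have i3 := fanobox_inv 9 (3 / 70) (by norm_num) (by norm_num) Y3 (by linarith) u3
    have b3 : -210 ≤ Y3 := fanobox_int Y3 210 _ i3 (by norm_num)
    refine ⟨⟨b0, n0⟩, ⟨by linarith, by linarith⟩, ⟨b3, by linarith⟩⟩
  · -- `Y1 < 0`, so `Y3 > 0`
    have p3 : 11 ≤ Y3 := by
      rcases fanobox_adm3 h3 with h | h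
      · exact h
      · exfalso; linarith
    have pp3 := fanobox_pos 9 (by norm_num) Y3 (by linarith)
    have u0 : 36 / (Y0 : ℚ) ≤ -(1 / 2) := by linarith
    have i0 := fanobox_inv 36 (1 / 2) (by norm_num) (by norm_num) Y0 (by linarith) u0
    have b0 : -76 ≤ Y0 := fanobox_int Y0 76 _ i0 (by norm_num)
    have hs43 : 4 / (Y1 : ℚ) + 9 / (Y3 : ℚ) ≤ -(3 / 70) := by linarith
    have u1 : 4 / (Y1 : ℚ) ≤ -(3 / 70) := by linarith
    have i1 := fanobox_inv 4 (3 / 70) (by norm_num) (by norm_num) Y1 (by linarith) u1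
    have b1 : -93 ≤ Y1 := fanobox_int Y1 93 _ i1 (by norm_num)
    refine ⟨⟨b0, n0⟩, ⟨b1, by linarith⟩, ⟨by linarith, by linarith⟩⟩

theorem fano_box {g : ℕ} {Y : Fin 6 → ℤ} (h : FanoSol g Y) :
    |Y 0| ≤ 1200 ∧ |Y 1| ≤ 1200 ∧ |Y 2| ≤ 1200 ∧ |Y 3| ≤ 1200 ∧ |Y 4| ≤ 1200 ∧ |Y 5| ≤ 1200 := by
  by_cases hg : g < 1440000
  · have hb := h.bound
    have hsum : ∀ i, Y i ^ 2 ≤ ∑ j, Y j ^ 2 := fun i =>
      Finset.single_le_sum (f := fun j => Y j ^ 2) (fun j _ => sq_nonneg (Y j)) (Finset.mem_univ i)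
    have hgz : (g : ℤ) ≤ 1439999 := by exact_mod_cast (by omega : g ≤ 1439999)
    have key : ∀ i, |Y i| ≤ 1200 := by
      intro i
      have h1 := hsum i
      have h2 : Y i ^ 2 ≤ 1439998 := by linarith
      rw [abs_le]
      constructor
      · by_contra hc
        push Not at hc
        nlinarith
      · by_contra hc
        push Not at hc
        nlinarith
    exact ⟨key 0, key 1, key 2, key 3, key 4, key 5⟩
  · push Not at hg
    have hgq : (1440000 : ℚ) ≤ g := by exact_mod_cast hg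
    have hgpos : (0 : ℚ) < g := by linarith
    have hk1 : (144000 : ℚ) / g ≤ 1 / 10 := by
      rw [div_le_iff₀ hgpos]; linarith
    obtain ⟨sa1, sa2⟩ := h.sa
    obtain ⟨sb1, sb2⟩ := h.sb
    obtain ⟨sc1, sc2⟩ := h.sc
    obtain ⟨⟨a1, a2⟩, ⟨a3, a4⟩, ⟨a5, a6⟩⟩ :=
      fanobox_pair _ hk1 (Y 0) (Y 1) (Y 3) h.a0 h.a1 h.a3 sa1 sa2
    obtain ⟨⟨b1, b2⟩, ⟨b3, b4⟩, ⟨b5, b6⟩⟩ :=
      fanobox_pair _ hk1 (Y 0) (Y 2) (Y 4) h.a0 h.a2 h.a4 sb1 sb2
    refine ⟨?_, ?_, ?_, ?_, ?_, ?_⟩ <;> rw [abs_le] <;> constructor <;> linarith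

end Cfsg.Agent.Helper3.J1A
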