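import Mathlib
import Cfsg.Agent.Lib.Helper24.CharComplete
import Cfsg.Agent.Lib.Helper24.CharLinear
import Cfsg.Agent.Lib.Helper24.CharHom
import Cfsg.Agent.Lib.Helper24.CharOrtho

/-!
# S0448 piece KER (helper24): in a simple group a nonprincipal irreducible character is faithful.
-/

set_option autoImplicit false
set_option linter.unusedSectionVars false
set_option linter.unusedVariables false

namespace Cfsg.Agent.Helper3.J1

open Cfsg Cfsg.Agent.Helper24
open scoped ComplexConjugate

universe u

section Chr

variable {G : Type u} [Group G] [Finite G]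

/-- PIECE KER: in a simple group a nonprincipal irreducible character has trivial kernel -/
theorem ker_trivial [IsSimpleGroup G] {χ : G → ℂ} (hχ : IsIrrCharacter G χ) {t : G} (ht : t ≠ 1)
    (h : χ t = χ 1) : χ = fun _ => (1 : ℂ) := by
  classical
  let _ : Fintype G := Fintype.ofFinite G
  have hχc := isCharacter_of_isIrrCharacter hχ
  have hK : charKer hχc = ⊤ := by
    rcases Subgroup.Normal.eq_bot_or_eq_top (charKer_normal hχc) with hb | ht'
    · exfalso
      apply ht
      have hmem : t ∈ charKer hχc := (mem_charKer hχc t).mpr h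
      rw [hb] at hmem
      exact Subgroup.mem_bot.mp hmem
    · exact ht'
  have hconst : ∀ g, χ g = χ 1 := fun g =>
    (mem_charKer hχc g).mp (hK ▸ Subgroup.mem_top g)
  obtain ⟨n, hn, h1⟩ := irr_one_eq hχ
  have horth := irr_orthogonality hχ (isIrrCharacter_one (G := G))
  by_contra hne
  rw [if_neg hne] at horth
  have hcard : (Nat.card G : ℂ) ≠ 0 := by exact_mod_cast (Nat.card_pos (α := G)).ne'
  have hval : classInner χ (fun _ => (1 : ℂ)) = n := by
    unfold classInner
    have : ∀ g : G, χ g * conj ((fun _ => (1 : ℂ)) g) = (n : ℂ) := by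
      intro g
      rw [hconst g, h1]
      simp
    rw [Finset.sum_congr rfl (fun g _ => this g)]
    rw [Finset.sum_const, Finset.card_univ, nsmul_eq_mul, ← Nat.card_eq_fintype_card]
    field_simp
  rw [hval] at horth
  have : (n : ℂ) ≠ 0 := by exact_mod_cast hn.ne'
  exact this horth

end Chr

end Cfsg.Agent.Helper3.J1
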