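import Mathlib
import Cfsg.Agent.Lib.Helper24.CharComplete
import Cfsg.Agent.Lib.Helper24.CharLinear
import Cfsg.Agent.Lib.Helper24.CharHom
import Cfsg.Agent.Lib.Helper24.CharOrtho

/-!
# S0448 piece MONO (helper24): the multiplicity of a linear character does not decrease under restriction.
-/

set_option autoImplicit false
set_option linter.unusedSectionVars false
set_option linter.unusedVariables false

namespace Cfsg.Agent.Helper3.J1

open Cfsg Cfsg.Agent.Helper24
open scoped ComplexConjugate

universe u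

/-- the multiplicity of an irreducible character in a character is a natural number -/
theorem mono_nat {H : Type u} [Group H] [Fintype H] {φ θ : H → ℂ} (hφ : IsCharacter H φ)
    (hθ : IsIrrCharacter H θ) : ∃ m : ℕ, classInner φ θ = (m : ℂ) := by
  classical
  let _ : Fintype (IrrCharacter H) := irrFintype
  exact (isCharacter_decomp hφ).1 ⟨θ, hθ⟩

/-- PIECE MONO (generic): the multiplicity of a linear character does not go down under restriction -/
theorem res_mono {H : Type u} [Group H] [Fintype H] (K : Subgroup H) [Fintype K] {χ : H → ℂ}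
    (hχ : IsCharacter H χ) (lam : H →* ℂˣ) :
    ∃ m n : ℕ, classInner χ (fun h => ((lam h : ℂˣ) : ℂ)) = (m : ℂ) ∧
      classInner (fun k : K => χ k) (fun k : K => ((lam k : ℂˣ) : ℂ)) = (n : ℂ) ∧ m ≤ n := by
  classical
  let _ : Fintype (IrrCharacter H) := irrFintype
  have hθ : IsIrrCharacter H (fun h => ((lam h : ℂˣ) : ℂ)) := isIrrCharacter_of_monoidHom lam
  have hθK : IsIrrCharacter K (fun k : K => ((lam k : ℂˣ) : ℂ)) :=
    isIrrCharacter_of_monoidHom (lam.comp K.subtype)
  obtain ⟨hm, hexp⟩ := isCharacter_decomp hχ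
  choose mult hmult using hm
  -- multiplicities of `θK` in the restrictions of the irreducible characters
  have hres : ∀ ψ : IrrCharacter H, ∃ a : ℕ,
      classInner (fun k : K => (ψ : H → ℂ) k) (fun k : K => ((lam k : ℂˣ) : ℂ)) = (a : ℂ) :=
    fun ψ => mono_nat (isCharacter_restrict K (isCharacter_of_isIrrCharacter ψ.2)) hθK
  choose a ha using hres
  -- the restriction of `χ`
  have hχK : (fun k : K => χ k) =
      ∑ ψ : IrrCharacter H, (mult ψ : ℂ) • (fun k : K => (ψ : H → ℂ) k) := by
    funext k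
    have := congrFun hexp (k : H)
    rw [this]
    simp only [Finset.sum_apply, Pi.smul_apply, smul_eq_mul, hmult]
  have hn : classInner (fun k : K => χ k) (fun k : K => ((lam k : ℂˣ) : ℂ)) =
      ((∑ ψ : IrrCharacter H, mult ψ * a ψ : ℕ) : ℂ) := by
    rw [hχK, classInner_sum_left]
    push_cast
    refine Finset.sum_congr rfl fun ψ _ => ?_
    rw [classInner_smul_left, ha]
  refine ⟨mult ⟨_, hθ⟩, ∑ ψ : IrrCharacter H, mult ψ * a ψ, hmult ⟨_, hθ⟩, hn, ?_⟩
  have h1 : a ⟨_, hθ⟩ = 1 := by
    have := ha ⟨_, hθ⟩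
    have h2 := irr_orthogonality hθK hθK
    rw [if_pos rfl] at h2
    have h3 : ((a ⟨_, hθ⟩ : ℕ) : ℂ) = 1 := by
      rw [← this]
      exact h2
    exact_mod_cast h3
  calc mult ⟨_, hθ⟩ = mult ⟨_, hθ⟩ * a ⟨_, hθ⟩ := by rw [h1, mul_one]
    _ ≤ ∑ ψ : IrrCharacter H, mult ψ * a ψ :=
        Finset.single_le_sum (f := fun ψ => mult ψ * a ψ) (fun ψ _ => Nat.zero_le _)
          (Finset.mem_univ _)

end Cfsg.Agent.Helper3.J1
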