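import Mathlib
import Cfsg.Agent.Lib.Helper3.J1ArithDefs

/-!
# S0448 piece NATBOX (helper24): the box for the NATURAL system.
-/

set_option autoImplicit false
set_option linter.unusedSectionVars false
set_option linter.unusedVariables false

namespace Cfsg.Agent.Helper3.J1A

/-- negative denominators: `Y ≤ -n` gives `-(w/n) ≤ w/Y < 0` -/
theorem natbox_neg (w : ℚ) (hw : 0 < w) (n : ℤ) (hn : 0 < n) (Y : ℤ) (hY : Y ≤ -n) :
    -(w / n) ≤ w / (Y : ℚ) ∧ w / (Y : ℚ) < 0 := by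
  have hYq : (Y : ℚ) ≤ -(n : ℚ) := by exact_mod_cast hY
  have hnq : (0 : ℚ) < n := by exact_mod_cast hn
  have h1 : w / (-(Y : ℚ)) ≤ w / n := div_le_div_of_nonneg_left hw.le hnq (by linarith)
  have h2 : 0 < w / (-(Y : ℚ)) := div_pos hw (by linarith)
  rw [div_neg] at h1 h2
  constructor <;> linarith

/-- positive denominators: `0 < Y` gives `0 < w/Y` -/
theorem natbox_pos (w : ℚ) (hw : 0 < w) (Y : ℤ) (hY : 0 < Y) : 0 < w / (Y : ℚ) := by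
  have hYq : (0 : ℚ) < Y := by exact_mod_cast hY
  exact div_pos hw hYq

/-- inverse estimate: `Y < 0` and `w / Y ≤ -c` give `-(w/c) ≤ Y` -/
theorem natbox_inv (w c : ℚ) (hw : 0 < w) (hc : 0 < c) (Y : ℤ) (hY : Y < 0)
    (h : w / (Y : ℚ) ≤ -c) : -(w / c) ≤ (Y : ℚ) := by
  have hYq : (Y : ℚ) < 0 := by exact_mod_cast hY
  rw [div_le_iff_of_neg hYq] at h
  rw [← neg_div, div_le_iff₀ hc]
  linarith

theorem natbox_adm1 {Y : ℤ} (h : Adm 1 Y) : 9 ≤ Y ∨ Y ≤ -7 := by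
  rcases h.2 with ⟨_, h2, _⟩ | ⟨_, h2, _⟩
  · left; linarith
  · right; linarith

theorem natbox_adm3 {Y : ℤ} (h : Adm 3 Y) : 11 ≤ Y ∨ Y ≤ -21 := by
  rcases h.2 with ⟨_, h2, _⟩ | ⟨_, _, h3⟩
  · left; linarith
  · right; linarith

theorem natbox_adm5 {Y : ℤ} (h : Adm (-5) Y) : 35 ≤ Y ∨ Y ≤ -13 := by
  rcases h.2 with ⟨_, _, h3⟩ | ⟨_, h2, _⟩
  · left; linarith
  · right; linarith

/-- the `a`-system (and the `b`-system) for large `g` -/
theorem natbox_pair (k : ℚ) (hk : k ≤ 1 / 4) (Y0 Y1 Y2 : ℤ) (h0 : Adm 1 Y0) (h1 : Adm 3 Y1)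
    (h2 : Adm 3 Y2) (he : (1 : ℚ) + 1 / Y0 + 9 / Y1 + 9 / Y2 = k) :
    (-50 ≤ Y1 ∧ Y1 ≤ -21) ∧ (-50 ≤ Y2 ∧ Y2 ≤ -21) := by
  -- bound for `-1 / Y0`
  have b0 : -(1 / 7 : ℚ) ≤ 1 / (Y0 : ℚ) := by
    rcases natbox_adm1 h0 with h | h
    · have := natbox_pos 1 one_pos Y0 (by linarith)
      linarith
    · have := (natbox_neg 1 one_pos 7 (by norm_num) Y0 (by linarith)).1
      norm_num at this ⊢
      linarith
  have hsum : 9 / (Y1 : ℚ) + 9 / (Y2 : ℚ) ≤ -(17 / 28) := by linarith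
  -- lower bounds for each term
  have lb : ∀ Y : ℤ, Adm 3 Y → -(3 / 7 : ℚ) ≤ 9 / (Y : ℚ) := by
    intro Y hY
    rcases natbox_adm3 hY with h | h
    · have := natbox_pos 9 (by norm_num) Y (by linarith)
      linarith
    · have := (natbox_neg 9 (by norm_num) 21 (by norm_num) Y (by linarith)).1
      norm_num at this ⊢
      linarith
  have l1 := lb Y1 h1
  have l2 := lb Y2 h2
  have n1 : Y1 ≤ -21 := by
    rcases natbox_adm3 h1 with h | h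
    · have := natbox_pos 9 (by norm_num) Y1 (by linarith)
      linarith
    · exact h
  have n2 : Y2 ≤ -21 := by
    rcases natbox_adm3 h2 with h | h
    · have := natbox_pos 9 (by norm_num) Y2 (by linarith)
      linarith
    · exact h
  have u1 : 9 / (Y1 : ℚ) ≤ -(5 / 28) := by linarith
  have u2 : 9 / (Y2 : ℚ) ≤ -(5 / 28) := by linarith
  have i1 := natbox_inv 9 (5 / 28) (by norm_num) (by norm_num) Y1 (by linarith) u1
  have i2 := natbox_inv 9 (5 / 28) (by norm_num) (by norm_num) Y2 (by linarith) u2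
  refine ⟨⟨?_, n1⟩, ⟨?_, n2⟩⟩
  · by_contra hc
    push Not at hc
    have : (Y1 : ℚ) ≤ -51 := by exact_mod_cast (by linarith : Y1 ≤ -51)
    norm_num at i1
    linarith
  · by_contra hc
    push Not at hc
    have : (Y2 : ℚ) ≤ -51 := by exact_mod_cast (by linarith : Y2 ≤ -51)
    norm_num at i2
    linarith

/-- the `c`-system for large `g` -/
theorem natbox_c (k : ℚ) (hk : k ≤ 3 / 20) (Y0 Y5 Y6 : ℤ) (hY0 : 41 ≤ Y0 ∧ Y0 ≤ 99)
    (h5 : Adm (-5) Y5) (h6 : Adm (-5) Y6) (hs : 1 + Y0 + Y5 + Y6 = 0)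
    (he : (1 : ℚ) + 1 / Y0 + 25 / Y5 + 25 / Y6 = k) :
    (-87 ≤ Y5 ∧ Y5 ≤ -13) ∧ (-87 ≤ Y6 ∧ Y6 ≤ -13) := by
  have p0 := natbox_pos 1 one_pos Y0 (by linarith [hY0.1])
  have hsum : 25 / (Y5 : ℚ) + 25 / (Y6 : ℚ) ≤ -(17 / 20) := by linarith
  -- a positive one forces the other to be `≤ -77`
  have key : ∀ Ya Yb : ℤ, Adm (-5) Ya → Adm (-5) Yb → 1 + Y0 + Ya + Yb = 0 →
      25 / (Ya : ℚ) + 25 / (Yb : ℚ) ≤ -(17 / 20) → Ya ≤ -13 := by
    intro Ya Yb ha hb hsab hle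
    rcases natbox_adm5 ha with h | h
    · exfalso
      have pa := natbox_pos 25 (by norm_num) Ya (by linarith)
      have hb77 : Yb ≤ -77 := by linarith [hY0.1]
      have := (natbox_neg 25 (by norm_num) 77 (by norm_num) Yb (by linarith)).1
      norm_num at this
      linarith
    · exact h
  have n5 := key Y5 Y6 h5 h6 hs hsum
  have n6 := key Y6 Y5 h6 h5 (by linarith) (by linarith)
  refine ⟨⟨?_, n5⟩, ⟨?_, n6⟩⟩
  · linarith [hY0.2]
  · linarith [hY0.2]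

theorem nat_box {g : ℕ} {Y : Fin 9 → ℤ} (h : NatSol g Y) :
    |Y 0| ≤ 758 ∧ |Y 1| ≤ 758 ∧ |Y 2| ≤ 758 ∧ |Y 3| ≤ 758 ∧ |Y 4| ≤ 758 ∧ |Y 5| ≤ 758 ∧ |Y 6| ≤ 758 := by
  by_cases hg : g < 576000
  · have hb := h.bound
    have hsum : ∀ i, Y i ^ 2 ≤ ∑ j, Y j ^ 2 := fun i =>
      Finset.single_le_sum (f := fun j => Y j ^ 2) (fun j _ => sq_nonneg (Y j)) (Finset.mem_univ i)
    have hgz : (g : ℤ) ≤ 575999 := by exact_mod_cast (by omega : g ≤ 575999)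
    have key : ∀ i, |Y i| ≤ 758 := by
      intro i
      have h1 := hsum i
      have h2 : Y i ^ 2 ≤ 575998 := by linarith
      rw [abs_le]
      constructor
      · by_contra hc
        push Not at hc
        nlinarith
      · by_contra hc
        push Not at hc
        nlinarith
    exact ⟨key 0, key 1, key 2, key 3, key 4, key 5, key 6⟩
  · push Not at hg
    have hgq : (576000 : ℚ) ≤ g := by exact_mod_cast hg
    have hgpos : (0 : ℚ) < g := by linarith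
    have hk1 : (144000 : ℚ) / g ≤ 1 / 4 := by
      rw [div_le_iff₀ hgpos]; linarith
    have hk2 : (86400 : ℚ) / g ≤ 3 / 20 := by
      rw [div_le_iff₀ hgpos]; linarith
    obtain ⟨sa1, sa2⟩ := h.sa
    obtain ⟨sb1, sb2⟩ := h.sb
    obtain ⟨sc1, sc2⟩ := h.sc
    obtain ⟨⟨a1, a2⟩, ⟨a3, a4⟩⟩ := natbox_pair _ hk1 (Y 0) (Y 1) (Y 2) h.a0 h.a1 h.a2 sa2
    obtain ⟨⟨b1, b2⟩, ⟨b3, b4⟩⟩ := natbox_pair _ hk1 (Y 0) (Y 3) (Y 4) h.a0 h.a3 h.a4 sb2
    have hY0 : 41 ≤ Y 0 ∧ Y 0 ≤ 99 := by constructor <;> linarith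
    obtain ⟨⟨c1, c2⟩, ⟨c3, c4⟩⟩ := natbox_c _ hk2 (Y 0) (Y 5) (Y 6) hY0 h.a5 h.a6 sc1 sc2
    refine ⟨?_, ?_, ?_, ?_, ?_, ?_, ?_⟩ <;> rw [abs_le] <;> constructor <;> linarith [hY0.1, hY0.2]

end Cfsg.Agent.Helper3.J1A
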