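import Mathlib

/-!
# S4274 (order 175560), piece RED (helper24): reduction to the non-existence of simple groups of order `19 d`
-/

set_option autoImplicit false
set_option linter.unusedSectionVars false
set_option linter.unusedVariables false
set_option linter.unnecessarySeqFocus false
set_option linter.style.haveILetI false

universe u

namespace Cfsg.Agent.Helper10.J1Ord

namespace RED

open scoped Pointwise

/-- a prime power dividing `9240` is less than `19` -/
theorem primePow_lt {r n : ℕ} (hr : r.Prime) (h : r ^ n ∣ 9240) : r ^ n < 19 := by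
  rcases Nat.eq_zero_or_pos n with rfl | hn
  · norm_num
  have hr9240 : r ∣ 9240 := dvd_trans (dvd_pow_self r hn.ne') h
  have h9240 : (9240 : ℕ) = 2 ^ 3 * 3 * 5 * 7 * 11 := by norm_num
  have hcases : r = 2 ∨ r = 3 ∨ r = 5 ∨ r = 7 ∨ r = 11 := by
    rw [h9240] at hr9240
    rcases (Nat.Prime.dvd_mul hr).1 hr9240 with h1 | h1
    · rcases (Nat.Prime.dvd_mul hr).1 h1 with h2 | h2
      · rcases (Nat.Prime.dvd_mul hr).1 h2 with h3 | h3
        · rcases (Nat.Prime.dvd_mul hr).1 h3 with h4 | h4
          · left
            exact (Nat.prime_dvd_prime_iff_eq hr Nat.prime_two).1 (hr.dvd_of_dvd_pow h4)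
          · right; left
            exact (Nat.prime_dvd_prime_iff_eq hr Nat.prime_three).1 h4
        · right; right; left
          exact (Nat.prime_dvd_prime_iff_eq hr Nat.prime_five).1 h3
      · right; right; right; left
        exact (Nat.prime_dvd_prime_iff_eq hr (by norm_num)).1 h2
    · right; right; right; right
      exact (Nat.prime_dvd_prime_iff_eq hr (by norm_num)).1 h1
  rcases hcases with rfl | rfl | rfl | rfl | rfl
  · have hn3 : n ≤ 3 := by
      by_contra hc
      push Not at hc
      have : 2 ^ 4 ∣ 9240 := dvd_trans (pow_dvd_pow 2 hc) h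
      norm_num at this
    interval_cases n <;> norm_num
  · have hn1 : n ≤ 1 := by
      by_contra hc
      push Not at hc
      have : 3 ^ 2 ∣ 9240 := dvd_trans (pow_dvd_pow 3 hc) h
      norm_num at this
    interval_cases n <;> norm_num
  · have hn1 : n ≤ 1 := by
      by_contra hc
      push Not at hc
      have : 5 ^ 2 ∣ 9240 := dvd_trans (pow_dvd_pow 5 hc) h
      norm_num at this
    interval_cases n <;> norm_num
  · have hn1 : n ≤ 1 := by
      by_contra hc
      push Not at hc
      have : 7 ^ 2 ∣ 9240 := dvd_trans (pow_dvd_pow 7 hc) h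
      norm_num at this
    interval_cases n <;> norm_num
  · have hn1 : n ≤ 1 := by
      by_contra hc
      push Not at hc
      have : 11 ^ 2 ∣ 9240 := dvd_trans (pow_dvd_pow 11 hc) h
      norm_num at this
    interval_cases n <;> norm_num

/-- a subgroup containing a Sylow `p`-subgroup for every prime `p` is everything -/
theorem eq_top_of_sylow_le {F : Type*} [Group F] [Finite F] (C : Subgroup F)
    (h : ∀ (p : ℕ) [Fact p.Prime], ∃ P : Sylow p F, (P : Subgroup F) ≤ C) : C = ⊤ := by
  have hdvd : Nat.card F ∣ Nat.card C := by
    rw [← Nat.factorization_prime_le_iff_dvd Nat.card_pos.ne' Nat.card_pos.ne']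
    intro p hp
    haveI : Fact p.Prime := ⟨hp⟩
    obtain ⟨P, hP⟩ := h p
    have h1 : Nat.card P ∣ Nat.card C := Subgroup.card_dvd_of_le hP
    rw [P.card_eq_multiplicity] at h1
    exact (hp.pow_dvd_iff_le_factorization Nat.card_pos.ne').1 h1
  exact Subgroup.eq_top_of_card_eq C (Nat.dvd_antisymm (Subgroup.card_subgroup_dvd_card C) hdvd)

/-- (R1): a `19`-subgroup centralizes every normal subgroup of order dividing `9240`. -/
theorem le_centralizer {X : Type*} [Group X] [Finite X] (K : Subgroup X) [hKn : K.Normal]
    (hK : Nat.card K ∣ 9240) (P : Subgroup X) (hP : IsPGroup 19 P) :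
    K ≤ Subgroup.centralizer (P : Set X) := by
  haveI : Fact (Nat.Prime 19) := ⟨by norm_num⟩
  let f : P →* MulAut K := (MulAut.conjNormal (H := K)).comp P.subtype
  letI : MulDistribMulAction P K := MulDistribMulAction.compHom K f
  have hsmul : ∀ (g : P) (k : K), ((g • k : K) : X) = (g : X) * (k : X) * (g : X)⁻¹ := by
    intro g k
    rfl
  have h19K : ¬ 19 ∣ Nat.card K := by
    intro h
    have := dvd_trans h hK
    norm_num at this
  have key : (Subgroup.centralizer (P : Set X)).subgroupOf K = ⊤ := by
    apply eq_top_of_sylow_le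
    intro r hr
    have hcard : ¬ 19 ∣ Nat.card (Sylow r K) := by
      intro h
      obtain ⟨R0⟩ : Nonempty (Sylow r K) := inferInstance
      exact h19K (dvd_trans h (dvd_trans (Sylow.card_dvd_index R0) (Subgroup.index_dvd_card _)))
    obtain ⟨R, hR⟩ := hP.nonempty_fixed_point_of_prime_not_dvd_card (Sylow r K) hcard
    refine ⟨R, ?_⟩
    have hRfix : ∀ (g : P) (k : K), k ∈ (R : Subgroup K) → g • k ∈ (R : Subgroup K) := by
      intro g k hk
      have h1 : g • R = R := hR g
      have h2 : g • k ∈ g • (R : Subgroup K) := Subgroup.smul_mem_pointwise_smul k g _ hk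
      rw [← Sylow.pointwise_smul_def, h1] at h2
      exact h2
    have hRlt : Nat.card (R : Subgroup K) < 19 := by
      rw [R.card_eq_multiplicity]
      apply primePow_lt hr.out
      exact dvd_trans (Nat.ordProj_dvd _ _) hK
    intro k hk
    rw [Subgroup.mem_subgroupOf, Subgroup.mem_centralizer_iff]
    intro g hg
    -- the orbit of `k` under `P`
    have hsub : MulAction.orbit P k ⊆ ((R : Subgroup K) : Set K) := by
      rintro y ⟨g', rfl⟩
      exact hRfix g' k hk
    have hle : Nat.card (MulAction.orbit P k) ≤ Nat.card (R : Subgroup K) :=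
      Nat.card_mono (Set.toFinite _) hsub
    obtain ⟨n, hn⟩ := hP.card_orbit k
    have hn0 : n = 0 := by
      by_contra hc
      have : 19 ^ 1 ≤ 19 ^ n := Nat.pow_le_pow_right (by norm_num) (Nat.one_le_iff_ne_zero.2 hc)
      omega
    rw [hn0, pow_zero] at hn
    have hss : Subsingleton (MulAction.orbit P k) := (Nat.card_eq_one_iff_unique.1 hn).1
    have heq := Subtype.ext_iff.1 (Subsingleton.elim
      (⟨(⟨g, hg⟩ : P) • k, MulAction.mem_orbit _ _⟩ : MulAction.orbit P k)
      ⟨k, MulAction.mem_orbit_self _⟩)
    have h3 := congrArg (fun t : K => (t : X)) heq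
    simp only [hsmul] at h3
    -- g * k * g⁻¹ = k
    calc g * (k : X) = g * (k : X) * g⁻¹ * g := by group
      _ = (k : X) * g := by rw [h3]
  intro k hk
  have : (⟨k, hk⟩ : K) ∈ (Subgroup.centralizer (P : Set X)).subgroupOf K := by
    rw [key]; exact Subgroup.mem_top _
  exact this


/-- a non-simple nontrivial group has a proper nontrivial normal subgroup -/
theorem exists_normal_of_not_simple {X : Type*} [Group X] [Nontrivial X] (h : ¬ IsSimpleGroup X) :
    ∃ K : Subgroup X, K.Normal ∧ K ≠ ⊥ ∧ K ≠ ⊤ := by
  by_contra hc
  push Not at hc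
  exact h
    { exists_pair_ne := exists_pair_ne X
      eq_bot_or_eq_top_of_normal := fun K hK => by
        by_contra h2
        push Not at h2
        exact h2.2 (hc K hK h2.1) }

/-- the induction: groups of order dividing `175560` (not simple if of order `175560`) have normal
Sylow `19`-subgroups, provided no nonabelian simple group has order `19 d`, `d` a proper divisor of `9240`. -/
theorem claim
    (hns : ∀ d : ℕ, d ∣ 9240 → d ≠ 9240 → ∀ (X : Type u) [Group X] [Finite X] [IsSimpleGroup X],
      (∃ x y : X, x * y ≠ y * x) → Nat.card X ≠ 19 * d) :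
    ∀ n : ℕ, ∀ (X : Type u) [Group X] [Finite X], Nat.card X = n → n ∣ 175560 →
      (n = 175560 → ¬ IsSimpleGroup X) → ∀ P : Sylow 19 X, (P : Subgroup X).Normal := by
  intro n
  induction n using Nat.strong_induction_on with
  | _ n ih =>
  intro X _ _ hcard hdvd hsimp P
  haveI : Fact (Nat.Prime 19) := ⟨by norm_num⟩
  have p19 : Nat.Prime 19 := by norm_num
  have hnle : n ≤ 175560 := Nat.le_of_dvd (by norm_num) hdvd
  have hX0 : Nat.card X ≠ 0 := Nat.card_pos.ne'
  by_cases hs : IsSimpleGroup X
  · -- simple
    have hne : n ≠ 175560 := fun h => hsimp h hs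
    by_cases hcomm : ∀ x y : X, x * y = y * x
    · exact ⟨fun a ha g => by rw [hcomm g a, mul_inv_cancel_right]; exact ha⟩
    · push Not at hcomm
      by_cases h19 : 19 ∣ n
      · obtain ⟨d, rfl⟩ := h19
        exfalso
        have hd : d ∣ 9240 := by
          have h1 : 19 * d ∣ 19 * 9240 := by
            have : (19 * 9240 : ℕ) = 175560 := by norm_num
            rw [this]; exact hdvd
          exact (Nat.mul_dvd_mul_iff_left (by norm_num)).1 h1
        have hd' : d ≠ 9240 := fun h => hne (by rw [h])
        exact hns d hd hd' X hcomm hcard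
      · have h1 : Nat.card (P : Subgroup X) = 1 := by
          rw [P.card_eq_multiplicity, hcard, Nat.factorization_eq_zero_of_not_dvd h19, pow_zero]
        rw [Subgroup.card_eq_one] at h1
        rw [h1]
        infer_instance
  · -- not simple
    by_cases hnt : Nontrivial X
    · obtain ⟨K, hKn, hKbot, hKtop⟩ := exists_normal_of_not_simple hs
      haveI := hKn
      have hK0 : Nat.card K ≠ 0 := Nat.card_pos.ne'
      have hKX : Nat.card K ∣ Nat.card X := Subgroup.card_subgroup_dvd_card K
      have hKcard : Nat.card K ∣ n := hcard ▸ hKX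
      have hnpos : 0 < n := by rw [← hcard]; exact Nat.card_pos
      have hKlt : Nat.card K < n := by
        rcases (Nat.le_of_dvd hnpos hKcard).lt_or_eq with h | h
        · exact h
        · exact absurd ((Subgroup.card_eq_iff_eq_top K).1 (h.trans hcard.symm)) hKtop
      have hidx : Nat.card K * K.index = n := hcard ▸ Subgroup.card_mul_index K
      have hK1 : 1 < Nat.card K := (Subgroup.one_lt_card_iff_ne_bot K).2 hKbot
      have hQcard : Nat.card (X ⧸ K) = K.index := (Subgroup.index_eq_card K).symm
      have hQdvd : K.index ∣ n := Dvd.intro_left _ hidx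
      have hQlt : K.index < n := by
        rw [← hidx]
        exact lt_mul_of_one_lt_left (Nat.pos_of_ne_zero Subgroup.index_ne_zero_of_finite) hK1
      have ihK := ih (Nat.card K) hKlt K rfl (dvd_trans hKcard hdvd)
        (fun h => absurd h (by omega))
      have ihQ := ih K.index hQlt (X ⧸ K) hQcard (dvd_trans hQdvd hdvd)
        (fun h => absurd h (by omega))
      by_cases h19K : 19 ∣ Nat.card K
      · -- the Sylow 19 of `K` is characteristic in `K`
        obtain ⟨Q⟩ : Nonempty (Sylow 19 K) := inferInstance
        have hQn : (Q : Subgroup K).Normal := ihK Q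
        haveI hQc : (Q : Subgroup K).Characteristic := Q.characteristic_of_normal hQn
        have hQ0n : ((Q : Subgroup K).map K.subtype).Normal := inferInstance
        have h1 : 1 ≤ (Nat.card K).factorization 19 :=
          (p19.pow_dvd_iff_le_factorization hK0).1 (by simpa using h19K)
        have h2 : (Nat.card K).factorization 19 ≤ (Nat.card X).factorization 19 :=
          (Nat.factorization_le_iff_dvd hK0 hX0).2 hKX 19
        have h3 : (Nat.card X).factorization 19 ≤ 1 := by
          by_contra hc
          push Not at hc
          have h4 : 19 ^ 2 ∣ Nat.card X := (p19.pow_dvd_iff_le_factorization hX0).2 hc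
          have h5 : 19 ^ 2 ∣ 175560 := dvd_trans h4 (hcard ▸ hdvd)
          norm_num at h5
        have hv : (Nat.card K).factorization 19 = (Nat.card X).factorization 19 := by omega
        have hcardQ0 : Nat.card ((Q : Subgroup K).map K.subtype) =
            19 ^ (Nat.card X).factorization 19 := by
          rw [Subgroup.card_map_of_injective K.subtype_injective, Q.card_eq_multiplicity, hv]
        let S : Sylow 19 X := Sylow.ofCard _ hcardQ0
        have hSn : (S : Subgroup X).Normal := by
          rw [Sylow.coe_ofCard]; exact hQ0n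
        haveI := Sylow.unique_of_normal S hSn
        rw [Subsingleton.elim P S]
        exact hSn
      · -- `19` does not divide `|K|`
        have hK9240 : Nat.card K ∣ 9240 := by
          have h1 : Nat.card K ∣ 19 * 9240 := by
            have : (19 * 9240 : ℕ) = 175560 := by norm_num
            rw [this]; exact dvd_trans hKcard hdvd
          exact Nat.Coprime.dvd_of_dvd_mul_left
            ((Nat.Prime.coprime_iff_not_dvd p19).2 h19K).symm h1
        have hcent : K ≤ Subgroup.centralizer ((P : Subgroup X) : Set X) :=
          le_centralizer K hK9240 (P : Subgroup X) P.isPGroup'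
        let P' : Sylow 19 (X ⧸ K) := P.mapSurjective (QuotientGroup.mk'_surjective K)
        have hP'n : (P' : Subgroup (X ⧸ K)).Normal := ihQ P'
        have hLn : (K ⊔ (P : Subgroup X)).Normal := by
          rw [← QuotientGroup.comap_map_mk' K (P : Subgroup X)]
          have h1 : ((P : Subgroup X).map (QuotientGroup.mk' K)).Normal := hP'n
          exact Subgroup.Normal.comap h1 _
        haveI := hLn
        have hPL : (P : Subgroup X) ≤ K ⊔ (P : Subgroup X) := le_sup_right
        have hfr : Subgroup.normalizer ((P : Subgroup X) : Set X) ⊔ (K ⊔ (P : Subgroup X)) = ⊤ :=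
          Sylow.normalizer_sup_eq_top' P hPL
        have hLN : K ⊔ (P : Subgroup X) ≤ Subgroup.normalizer ((P : Subgroup X) : Set X) :=
          sup_le (le_trans hcent (Subgroup.centralizer_le_normalizer _)) Subgroup.le_normalizer
        rw [sup_eq_left.2 hLN] at hfr
        exact Subgroup.normalizer_eq_top_iff.1 hfr
    · have hss : Subsingleton X := not_nontrivial_iff_subsingleton.1 hnt
      exact ⟨fun a ha g => by
        have : g * a * g⁻¹ = a := Subsingleton.elim _ _
        rw [this]; exact ha⟩

end RED

/-- piece RED: the reduction of S4274 to the non-existence of simple groups of order `19 * d`. -/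
theorem normal_sylow19_of_no_simple
    (hns : ∀ d : ℕ, d ∣ 9240 → d ≠ 9240 → ∀ (X : Type u) [Group X] [Finite X] [IsSimpleGroup X],
      (∃ x y : X, x * y ≠ y * x) → Nat.card X ≠ 19 * d)
    {G : Type u} [Group G] [Finite G] (hG : Nat.card G = 175560) (hnot : ¬ IsSimpleGroup G)
    (P : Sylow 19 G) : (P : Subgroup G).Normal :=
  RED.claim hns 175560 G hG dvd_rfl (fun _ => hnot) P

end Cfsg.Agent.Helper10.J1Ord
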