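import Mathlib
import Cfsg.Agent.Lib.Helper24.KF9CharCore

/-!
# S3805, piece MOD2 (helper24 for helper16): `χ(g) ≡ χ(g⁴) mod 2` for `g` of order 6 with integer values.
-/

set_option autoImplicit false
set_option linter.unusedSectionVars false
set_option linter.unusedVariables false

namespace Cfsg.Agent.Helper16.KF9

open Cfsg Cfsg.Agent.Helper24
open scoped ComplexConjugate

universe u

section Chr

variable {G : Type u} [Group G] [Finite G]

/-- PIECE MOD2: `χ(g) ≡ χ(g⁴) mod 2` for `g` of order 6 with integer values -/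
theorem mod_two {χ : G → ℂ} (hχ : IsCharacter G χ) {g : G} (hg : orderOf g = 6) (m n : ℤ)
    (hm : χ g = (m : ℂ)) (hn : χ (g ^ 4) = (n : ℂ)) : ∃ k : ℤ, m - n = 2 * k := by
  obtain ⟨d, ρ, rfl⟩ := hχ
  have hg6 : g ^ 6 = 1 := by rw [← hg]; exact pow_orderOf_eq_one g
  obtain ⟨μ, hμ, hk⟩ := charcore_roots ρ g (by norm_num : 0 < 6) hg6
  have h1 : ρ.character g = ∑ i, μ i := by simpa using hk 1
  have h4 : ρ.character (g ^ 4) = ∑ i, μ i ^ 4 := hk 4
  have hterm : ∀ i, ∃ z : ℂ, IsIntegral ℤ z ∧ μ i - μ i ^ 4 = 2 * z := by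
    intro i
    have hint := charcore_integral_of_pow (by norm_num : 0 < 6) (hμ i)
    rcases charcore_sixth (hμ i) with h0 | h0 | h0 | h0
    · exact ⟨0, isIntegral_zero, by rw [h0]; norm_num⟩
    · exact ⟨μ i, hint, by rw [h0]; norm_num⟩
    · exact ⟨0, isIntegral_zero, by linear_combination (-(μ i) ^ 2 + μ i) * h0⟩
    · exact ⟨μ i, hint, by linear_combination (-(μ i) ^ 2 - μ i) * h0⟩
  choose z hz hz2 using hterm
  have hzint : IsIntegral ℤ (∑ i, z i) := IsIntegral.sum _ (fun i _ => hz i)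
  have h5 : (2 : ℂ) * ∑ i, z i = ((m - n : ℤ) : ℂ) := by
    rw [Finset.mul_sum, ← Finset.sum_congr rfl (fun i _ => hz2 i), Finset.sum_sub_distrib, ← h1,
      ← h4, hm, hn]
    push_cast
    ring
  obtain ⟨k, hk'⟩ := charcore_int_of_two_mul _ hzint (m - n) h5
  refine ⟨k, ?_⟩
  rw [hk'] at h5
  exact_mod_cast h5.symm

end Chr

end Cfsg.Agent.Helper16.KF9
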