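import Mathlib

/-!
# M11Rec (S3413 + S3592), piece CNT11 (helper24)

In a group of order `7920` the number of elements of order `11` is `10` times the number of Sylow `11`-subgroups.
-/

set_option autoImplicit false
set_option linter.unusedSectionVars false
set_option linter.unusedVariables false
set_option linter.style.haveILetI false

namespace Cfsg.Agent.Helper6.M11Rec

namespace CNT11

/-- a group of order `11` has `10` non-identity elements -/
theorem card_ne_one {P : Type*} [Group P] [Finite P] (h : Nat.card P = 11) :
    Nat.card {y : P // y ≠ 1} = 10 := by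
  classical
  haveI : Fintype P := Fintype.ofFinite P
  have h1 : Fintype.card {y : P // ¬ y = 1} = Fintype.card P - Fintype.card {y : P // y = 1} :=
    Fintype.card_subtype_compl _
  rw [Fintype.card_subtype_eq] at h1
  have h2 : Fintype.card P = 11 := by rw [← Nat.card_eq_fintype_card]; exact h
  rw [h2] at h1
  rw [Nat.card_eq_fintype_card]
  exact h1

end CNT11

/-- PIECE CNT11. -/
theorem card_orderOf_eleven {G : Type*} [Group G] [Finite G] (hG : Nat.card G = 7920) :
    Nat.card {x : G // orderOf x = 11} = 10 * Nat.card (Sylow 11 G) := by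
  classical
  haveI : Fact (Nat.Prime 11) := ⟨by norm_num⟩
  have p11 : Nat.Prime 11 := by norm_num
  have hG0 : Nat.card G ≠ 0 := Nat.card_pos.ne'
  have hfac : (Nat.card G).factorization 11 = 1 := by
    have h1 : 1 ≤ (Nat.card G).factorization 11 :=
      (p11.pow_dvd_iff_le_factorization hG0).1 (by rw [hG]; norm_num)
    have h2 : ¬ 2 ≤ (Nat.card G).factorization 11 := by
      intro h
      have := (p11.pow_dvd_iff_le_factorization hG0).2 h
      rw [hG] at this
      norm_num at this
    omega
  have hcardP : ∀ P : Sylow 11 G, Nat.card (P : Subgroup G) = 11 := fun P => by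
    rw [P.card_eq_multiplicity, hfac, pow_one]
  -- the Sylow subgroup of an element of order 11
  have hz : ∀ x : G, orderOf x = 11 →
      Nat.card (Subgroup.zpowers x) = 11 ^ (Nat.card G).factorization 11 := fun x hx => by
    rw [Nat.card_zpowers, hx, hfac, pow_one]
  let φ : {x : G // orderOf x = 11} → Sylow 11 G := fun x =>
    Sylow.ofCard (Subgroup.zpowers x.1) (hz x.1 x.2)
  have hφmem : ∀ x : {x : G // orderOf x = 11}, x.1 ∈ ((φ x : Sylow 11 G) : Subgroup G) := by
    intro x
    show x.1 ∈ ((Sylow.ofCard (Subgroup.zpowers x.1) (hz x.1 x.2) : Sylow 11 G) : Subgroup G)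
    rw [Sylow.coe_ofCard]
    exact Subgroup.mem_zpowers _
  have hφeq : ∀ (x : {x : G // orderOf x = 11}) (P : Sylow 11 G),
      x.1 ∈ (P : Subgroup G) → φ x = P := by
    intro x P hxP
    apply Sylow.ext
    show ((Sylow.ofCard (Subgroup.zpowers x.1) (hz x.1 x.2) : Sylow 11 G) : Subgroup G) = P
    rw [Sylow.coe_ofCard]
    apply Subgroup.eq_of_le_of_card_ge
    · rw [Subgroup.zpowers_le]; exact hxP
    · rw [hcardP P, Nat.card_zpowers, x.2]
  -- fibres
  have hfib : ∀ P : Sylow 11 G, Nat.card {x : {x : G // orderOf x = 11} // φ x = P} = 10 := by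
    intro P
    rw [← CNT11.card_ne_one (hcardP P)]
    apply Nat.card_congr
    refine
      { toFun := fun x => ⟨⟨x.1.1, by have h0 := hφmem x.1; rw [x.2] at h0; exact h0⟩, fun h => by
          have h1 : x.1.1 = 1 := congrArg Subtype.val h
          have h2 := x.1.2
          rw [h1, orderOf_one] at h2
          omega⟩
        invFun := fun y => ⟨⟨y.1.1, by
            have h1 : orderOf (y.1 : (P : Subgroup G)) ∣ 11 := by
              have h0 := orderOf_dvd_natCard (y.1 : (P : Subgroup G))
              rw [hcardP P] at h0
              exact h0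
            rw [Subgroup.orderOf_coe]
            rcases (Nat.dvd_prime p11).1 h1 with h2 | h2
            · exact absurd (orderOf_eq_one_iff.1 h2) y.2
            · exact h2⟩, hφeq _ P y.1.2⟩
        left_inv := fun x => Subtype.ext (Subtype.ext rfl)
        right_inv := fun y => Subtype.ext (Subtype.ext rfl) }
  haveI : Fintype (Sylow 11 G) := Fintype.ofFinite _
  rw [← Nat.card_congr (Equiv.sigmaFiberEquiv φ), Nat.card_sigma]
  simp only [hfib]
  rw [Finset.sum_const, Finset.card_univ, smul_eq_mul, mul_comm, Nat.card_eq_fintype_card]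

end Cfsg.Agent.Helper6.M11Rec
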