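import Mathlib

/-!
# M11Rec (S3413 + S3592), piece FP (helper24)

An element `g` of order `11` cannot normalize a normal subgroup `K` of order dividing `720` having a prime divisor `r`
of its order that does not divide `|C(g)|`.
-/

set_option autoImplicit false
set_option linter.unusedSectionVars false
set_option linter.unusedVariables false
set_option linter.style.haveILetI false

namespace Cfsg.Agent.Helper6.M11Rec

open scoped Pointwise

namespace FP

/-- the divisors of `720` congruent to `1` modulo `11` -/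
theorem dvd_list : ∀ d ∈ Finset.range 721, d ∣ 720 → d % 11 = 1 →
    d = 1 ∨ d = 12 ∨ d = 45 ∨ d = 144 := by
  decide +kernel

/-- a prime power `r ^ k`, `k ≥ 1`, dividing `720` is not `≡ 1 (mod 11)` -/
theorem primePow_mod {r k : ℕ} (hr : r.Prime) (hk : 0 < k) (h : r ^ k ∣ 720) : r ^ k % 11 ≠ 1 := by
  intro hmod
  have hle : r ^ k ≤ 720 := Nat.le_of_dvd (by norm_num) h
  have hr2 : ∀ q : ℕ, q.Prime → q ∣ r ^ k → q = r := fun q hq hd =>
    (Nat.prime_dvd_prime_iff_eq hq hr).1 (hq.dvd_of_dvd_pow hd)
  rcases dvd_list (r ^ k) (Finset.mem_range.2 (by omega)) h hmod with h1 | h1 | h1 | h1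
  · have : 1 < r ^ k := Nat.one_lt_pow hk.ne' hr.one_lt
    omega
  · have e2 := hr2 2 Nat.prime_two (by rw [h1]; norm_num)
    have e3 := hr2 3 Nat.prime_three (by rw [h1]; norm_num)
    omega
  · have e3 := hr2 3 Nat.prime_three (by rw [h1]; norm_num)
    have e5 := hr2 5 Nat.prime_five (by rw [h1]; norm_num)
    omega
  · have e2 := hr2 2 Nat.prime_two (by rw [h1]; norm_num)
    have e3 := hr2 3 Nat.prime_three (by rw [h1]; norm_num)
    omega

end FP

/-- PIECE FP. -/
theorem no_normal_of_fixed {Γ : Type*} [Group Γ] [Finite Γ] (g : Γ) (hg : orderOf g = 11)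
    (K : Subgroup Γ) [K.Normal] (hK : Nat.card K ∣ 720) (r : ℕ) (hr : r.Prime)
    (hrK : r ∣ Nat.card K)
    (hrC : ¬ r ∣ Nat.card (Subgroup.centralizer ({g} : Set Γ))) : False := by
  classical
  haveI : Fact (Nat.Prime 11) := ⟨by norm_num⟩
  haveI : Fact r.Prime := ⟨hr⟩
  set P : Subgroup Γ := Subgroup.zpowers g with hPdef
  have hPcard : Nat.card P = 11 := by rw [Nat.card_zpowers, hg]
  have hP : IsPGroup 11 P := IsPGroup.of_card (n := 1) (by rw [hPcard, pow_one])
  let f : P →* MulAut K := (MulAut.conjNormal (H := K)).comp P.subtype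
  letI : MulDistribMulAction P K := MulDistribMulAction.compHom K f
  have hsmul : ∀ (p : P) (k : K), ((p • k : K) : Γ) = (p : Γ) * (k : Γ) * (p : Γ)⁻¹ := by
    intro p k
    rfl
  have h11K : ¬ 11 ∣ Nat.card K := by
    intro h
    have := dvd_trans h hK
    norm_num at this
  have hcard : ¬ 11 ∣ Nat.card (Sylow r K) := by
    intro h
    obtain ⟨R0⟩ : Nonempty (Sylow r K) := inferInstance
    exact h11K (dvd_trans h (dvd_trans (Sylow.card_dvd_index R0) (Subgroup.index_dvd_card _)))
  obtain ⟨R, hR⟩ := hP.nonempty_fixed_point_of_prime_not_dvd_card (Sylow r K) hcard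
  have hRfix : ∀ (p : P) (k : K), k ∈ (R : Subgroup K) → p • k ∈ (R : Subgroup K) := by
    intro p k hk
    have h1 : p • R = R := hR p
    have h2 : p • k ∈ p • (R : Subgroup K) := Subgroup.smul_mem_pointwise_smul k p _ hk
    rw [← Sylow.pointwise_smul_def, h1] at h2
    exact h2
  -- the order of `R`
  have hRcard : Nat.card (R : Subgroup K) = r ^ (Nat.card K).factorization r := R.card_eq_multiplicity
  have hkpos : 0 < (Nat.card K).factorization r :=
    hr.factorization_pos_of_dvd Nat.card_pos.ne' hrK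
  have hRmod : Nat.card (R : Subgroup K) % 11 ≠ 1 := by
    rw [hRcard]
    apply FP.primePow_mod hr hkpos
    exact dvd_trans (Nat.ordProj_dvd _ _) hK
  -- the action of `P` on `R`
  letI actR : MulAction P (R : Subgroup K) :=
    { smul := fun p x => ⟨p • (x : K), hRfix p x x.2⟩
      one_smul := fun x => Subtype.ext (one_smul P (x : K))
      mul_smul := fun p q x => Subtype.ext (mul_smul p q (x : K)) }
  have hmodeq := hP.card_modEq_card_fixedPoints (R : Subgroup K)
  -- a nontrivial fixed point
  have hex : ∃ x : (R : Subgroup K), x ≠ 1 ∧ ∀ p : P, p • x = x := by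
    by_contra hcon
    push Not at hcon
    have hfix : MulAction.fixedPoints P (R : Subgroup K) = {1} := by
      ext x
      constructor
      · intro hx
        by_contra hx1
        obtain ⟨p, hp⟩ := hcon x hx1
        exact hp (hx p)
      · intro hx
        rw [Set.mem_singleton_iff] at hx
        subst hx
        intro p
        apply Subtype.ext
        show p • ((1 : (R : Subgroup K)) : K) = ((1 : (R : Subgroup K)) : K)
        exact smul_one p
    rw [hfix] at hmodeq
    have h1 : Nat.card (({1} : Set (R : Subgroup K))) = 1 := by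
      rw [Nat.card_coe_set_eq, Set.ncard_singleton]
    rw [h1] at hmodeq
    exact hRmod hmodeq
  obtain ⟨x, hx1, hxfix⟩ := hex
  -- `x` commutes with `g`
  have hgP : g ∈ P := Subgroup.mem_zpowers g
  have h3 : (((⟨g, hgP⟩ : P) • x : (R : Subgroup K)) : K) = (x : K) := congrArg Subtype.val (hxfix ⟨g, hgP⟩)
  have h4 : g * ((x : K) : Γ) * g⁻¹ = ((x : K) : Γ) := by
    have := congrArg (fun t : K => (t : Γ)) h3
    exact this
  have hxC : ((x : K) : Γ) ∈ Subgroup.centralizer ({g} : Set Γ) := by
    rw [Subgroup.mem_centralizer_iff]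
    intro y hy
    rw [Set.mem_singleton_iff] at hy
    subst hy
    calc y * ((x : K) : Γ) = y * ((x : K) : Γ) * y⁻¹ * y := by group
      _ = ((x : K) : Γ) * y := by rw [h4]
  -- the order of `x`
  have hxne : ((x : K) : Γ) ≠ 1 := by
    intro h
    apply hx1
    apply Subtype.ext
    apply Subtype.ext
    exact h
  obtain ⟨j, hj⟩ := (R.isPGroup' : IsPGroup r (R : Subgroup K)) x
  have hpowΓ : ((x : K) : Γ) ^ r ^ j = 1 := by
    have := congrArg (fun t : (R : Subgroup K) => ((t : K) : Γ)) hj
    simpa using this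
  have hord : orderOf ((x : K) : Γ) ∣ r ^ j := orderOf_dvd_of_pow_eq_one hpowΓ
  obtain ⟨i, hi, hoi⟩ := (Nat.dvd_prime_pow hr).1 hord
  have hi0 : i ≠ 0 := by
    intro h
    rw [h, pow_zero, orderOf_eq_one_iff] at hoi
    exact hxne hoi
  have hrord : r ∣ orderOf ((x : K) : Γ) := by
    rw [hoi]
    exact dvd_pow_self r hi0
  have hordC : orderOf ((x : K) : Γ) ∣ Nat.card (Subgroup.centralizer ({g} : Set Γ)) := by
    have h5 : orderOf (⟨((x : K) : Γ), hxC⟩ : Subgroup.centralizer ({g} : Set Γ)) =
        orderOf ((x : K) : Γ) := Subgroup.orderOf_mk _ _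
    rw [← h5]
    exact orderOf_dvd_natCard _
  exact hrC (dvd_trans hrord hordC)

end Cfsg.Agent.Helper6.M11Rec
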