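import Mathlib
import Cfsg.Agent.Lib.Helper24.M11UALPHA2Core
import Cfsg.Agent.Lib.Helper23.M11UNUMD

/-!
# S0420 (uniqueness of the simple group of order 7920), piece ALPHA2 (helper24)
-/

set_option autoImplicit false
set_option linter.unusedSectionVars false
set_option linter.unusedVariables false

namespace Cfsg.Agent.Helper27.M11U

open Cfsg Cfsg.Agent.Helper24 Cfsg.Agent.Helper17.M11

universe u v

section Abstract

variable {G : Type u} [Group G] [Fintype G]

/-- PIECE ALPHA2: the character of degree `11` takes the value `3` at every involution. -/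
theorem alpha_invol (hs : IsSimpleGroup G) (hG : Nat.card G = 7920) (P : Sylow 11 G) (Q : Sylow 5 G)
    (T : CT (P : Subgroup G) (Q : Subgroup G)) {t : G} (ht : orderOf t = 2) :
    (T.α : G → ℂ) t = 3 :=
  alpha_invol_core (fun R1 R2 R3 R4 hk R5 ha hb1 hb2 hb3 hc hd hf hg ha45 =>
    num435_d R1 R2 R3 R4 hk R5 ha hb1 hb2 hb3 hc hd hf hg ha45) hs hG P Q T ht

end Abstract

end Cfsg.Agent.Helper27.M11U
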