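import Mathlib
import Cfsg.Agent.Lib.Helper3.M24IdxDefs

/-!
# S1589 piece IDX-276A: a subgroup of order 887040 of `M24` preserves a pair or is transitive
-/

set_option autoImplicit false
open Cfsg

namespace Cfsg.Agent.Helper3.M24Idx

open Cfsg.Agent.Helper27 Cfsg.Agent.Helper29 Cfsg.Agent.Helper29.M24
open Cfsg.Agent.Helper29.M23Idx
open Cfsg.Agent.Helper29.FusM23 (Q23)
open Cfsg.Agent.Helper29.IdxTools
open Cfsg.Agent.S0358 (idx)
open scoped Pointwise

/-- the arithmetic behind IDX-276A -/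
theorem m24idx_276a_arith (n s c1 c2 : ℕ) (hns : n * s = 887040) (hs : s ∣ 10200960)
    (hn1 : 1 ≤ n) (hn24 : n ≤ 24) (h11 : n ≡ c1 [MOD 11]) (hc1 : 1 ≤ c1) (hc1' : c1 ≤ 2)
    (h7 : n ≡ c2 [MOD 7]) (hc2 : c2 ≤ 3) : n = 2 ∨ n = 24 := by
  unfold Nat.ModEq at h11 h7
  have h11' : n % 11 = 1 ∨ n % 11 = 2 := by omega
  have h7' : n % 7 ≤ 3 := by omega
  interval_cases n
  all_goals first
    | omega
    | (left; rfl)
    | (right; rfl)
    | (exfalso
       have hs' : s = 887040 := by omega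
       rw [hs'] at hs
       norm_num at hs)

/-- IDX-276A -/
theorem idx276_orbit (K : Subgroup (Equiv.Perm GolayPt)) (hKM : K ≤ Cfsg.M24)
    (hc : Nat.card K = 887040)
    (hF11 : ∀ t ∈ Cfsg.M24, orderOf t = 11 → (fixF t).card = 2)
    (hF7 : ∀ t ∈ Cfsg.M24, orderOf t = 7 → (fixF t).card = 3) :
    (∃ s : Finset GolayPt, s.card = 2 ∧ ∀ g ∈ K, g • s = s) ∨ IsTrans K := by
  classical
  have h11 : 11 ∣ Nat.card K := by rw [hc]; norm_num
  have h7 : 7 ∣ Nat.card K := by rw [hc]; norm_num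
  obtain ⟨σ, hσK, hσ11⟩ := exists_orderOf_eq K 11 (by norm_num) h11
  obtain ⟨τ, hτK, hτ7⟩ := exists_orderOf_eq K 7 (by norm_num) h7
  have hσfix : (fixF σ).card = 2 := hF11 σ (hKM hσK) hσ11
  have hτfix : (fixF τ).card = 3 := hF7 τ (hKM hτK) hτ7
  have hne : (fixF σ).Nonempty := by
    rw [← Finset.card_pos, hσfix]; norm_num
  obtain ⟨f1, hf1⟩ := hne
  have hσpow : σ ^ 11 = 1 := by rw [← hσ11]; exact pow_orderOf_eq_one σ
  have hτpow : τ ^ 7 = 1 := by rw [← hτ7]; exact pow_orderOf_eq_one τ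
  have hmod11 := card_inv_modEq σ 11 (by norm_num) hσpow (orbF K f1) (smul_orbF K f1 σ hσK)
  have hmod7 := card_inv_modEq τ 7 (by norm_num) hτpow (orbF K f1) (smul_orbF K f1 τ hτK)
  have hc1 : 1 ≤ (orbF K f1 ∩ fixF σ).card := by
    rw [Nat.succ_le_iff, Finset.card_pos]
    exact ⟨f1, Finset.mem_inter.mpr ⟨self_mem_orbF K f1, hf1⟩⟩
  have hc1' : (orbF K f1 ∩ fixF σ).card ≤ 2 := by
    rw [← hσfix]; exact Finset.card_le_card Finset.inter_subset_right
  have hc2 : (orbF K f1 ∩ fixF τ).card ≤ 3 := by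
    rw [← hτfix]; exact Finset.card_le_card Finset.inter_subset_right
  have hcard := card_orbF K f1
  rw [hc] at hcard
  have hdvd := card_stabIn_dvd K hKM f1
  have hn1 : 1 ≤ (orbF K f1).card := by
    rw [Nat.succ_le_iff, Finset.card_pos]
    exact ⟨f1, self_mem_orbF K f1⟩
  have hn24 : (orbF K f1).card ≤ 24 := by
    rw [← card_univ_pt]; exact Finset.card_le_card (Finset.subset_univ _)
  rcases m24idx_276a_arith _ _ _ _ hcard.symm hdvd hn1 hn24 hmod11 hc1 hc1' hmod7 hc2 with h | h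
  · left
    exact ⟨orbF K f1, h, fun g hg => smul_orbF K f1 g hg⟩
  · right
    have huniv : orbF K f1 = Finset.univ := by
      apply Finset.eq_univ_of_card
      rw [h]
      exact card_univ_pt.symm ▸ (Finset.card_univ (α := GolayPt)).symm ▸ rfl
    apply isTrans_of_base K f1
    intro p
    have hp : p ∈ orbF K f1 := by rw [huniv]; exact Finset.mem_univ p
    exact (mem_orbF K f1 p).mp hp

end Cfsg.Agent.Helper3.M24Idx
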