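import Mathlib
import Cfsg.Agent.Lib.Helper3.M24IdxDefs
import Cfsg.Agent.Lib.Helper29.M24Trans
import Cfsg.Agent.Lib.Helper29.M24Rigid
import Cfsg.Agent.Lib.Helper29.M24Chain
import Cfsg.Agent.Lib.Helper29.M23IdxB

set_option autoImplicit false
open Cfsg

namespace Cfsg.Agent.Helper3.M24Idx

open Cfsg.Agent.Helper27 Cfsg.Agent.Helper29 Cfsg.Agent.Helper29.M24
open Cfsg.Agent.Helper29.M23Idx
open Cfsg.Agent.Helper29.FusM23 (Q23)
open Cfsg.Agent.Helper29.IdxTools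
open Cfsg.Agent.S0358 (idx)
open scoped Pointwise

/-- the embedding of `Fin 4` given by four distinct points -/
def m24idx_fix4_emb4 (p q r s : GolayPt) (hpq : p ≠ q) (hpr : p ≠ r) (hps : p ≠ s) (hqr : q ≠ r)
    (hqs : q ≠ s) (hrs : r ≠ s) : Fin 4 ↪ GolayPt where
  toFun := ![p, q, r, s]
  inj' := by
    intro i j h
    fin_cases i <;> fin_cases j <;> simp_all

/-- the embedding of `Fin 5` given by five distinct points -/
def m24idx_fix4_emb5 (p q r s u : GolayPt) (hpq : p ≠ q) (hpr : p ≠ r) (hps : p ≠ s) (hqr : q ≠ r)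
    (hqs : q ≠ s) (hrs : r ≠ s) (hu : u ≠ p ∧ u ≠ q ∧ u ≠ r ∧ u ≠ s) : Fin 5 ↪ GolayPt where
  toFun := ![p, q, r, s, u]
  inj' := by
    obtain ⟨h1, h2, h3, h4⟩ := hu
    intro i j h
    fin_cases i <;> fin_cases j <;> simp_all

theorem m24idx_fix4_eq_conjS (p q r s : GolayPt) (g : Equiv.Perm GolayPt) (hg : g ∈ Cfsg.M24)
    (h0 : g (bp 0) = p) (h1 : g (bp 1) = q) (h2 : g (bp 2) = r) (h3 : g (bp 3) = s) :
    fix4 p q r s = conjS g (grp 4) := by
  ext y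
  rw [mem_fix4, mem_conjS, mem_grp_iff 4 (by norm_num)]
  have hgi : ∀ a b : GolayPt, g a = b → g⁻¹ b = a := by
    intro a b hab
    rw [← hab, Equiv.Perm.inv_def, Equiv.symm_apply_apply]
  constructor
  · rintro ⟨hy, hp, hq, hr, hs⟩
    refine ⟨Subgroup.mul_mem _ (Subgroup.mul_mem _ (Subgroup.inv_mem _ hg) hy) hg, ?_⟩
    intro i hi
    have key : ∀ a b : GolayPt, g a = b → y b = b → (g⁻¹ * y * g) a = a := by
      intro a b hab hyb
      rw [Equiv.Perm.mul_apply, Equiv.Perm.mul_apply, hab, hyb]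
      exact hgi a b hab
    interval_cases i
    · exact key _ _ h0 hp
    · exact key _ _ h1 hq
    · exact key _ _ h2 hr
    · exact key _ _ h3 hs
  · rintro ⟨hy, hfix⟩
    have hyM : y ∈ Cfsg.M24 := by
      have : y = g * (g⁻¹ * y * g) * g⁻¹ := by group
      rw [this]
      exact Subgroup.mul_mem _ (Subgroup.mul_mem _ hg hy) (Subgroup.inv_mem _ hg)
    have key : ∀ a b : GolayPt, g a = b → (g⁻¹ * y * g) a = a → y b = b := by
      intro a b hab hya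
      rw [Equiv.Perm.mul_apply, Equiv.Perm.mul_apply, hab] at hya
      have := congrArg g hya
      rw [Equiv.Perm.inv_def, Equiv.apply_symm_apply, hab] at this
      exact this
    exact ⟨hyM, key _ _ h0 (hfix 0 (by norm_num)), key _ _ h1 (hfix 1 (by norm_num)),
      key _ _ h2 (hfix 2 (by norm_num)), key _ _ h3 (hfix 3 (by norm_num))⟩

/-- IDX-FIX4 -/
theorem card_fix4 (p q r s : GolayPt) (hpq : p ≠ q) (hpr : p ≠ r) (hps : p ≠ s) (hqr : q ≠ r)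
    (hqs : q ≠ s) (hrs : r ≠ s) : Nat.card (fix4 p q r s) = 960 := by
  obtain ⟨g, hg, hgx⟩ := exists_map_emb (k := 4) (by norm_num)
    (m24idx_fix4_emb4 p q r s hpq hpr hps hqr hqs hrs)
  have h0 : g (bp 0) = p := hgx 0
  have h1 : g (bp 1) = q := hgx 1
  have h2 : g (bp 2) = r := hgx 2
  have h3 : g (bp 3) = s := hgx 3
  rw [m24idx_fix4_eq_conjS p q r s g hg h0 h1 h2 h3, card_conjS, card_grp 4 (by norm_num)]
  rfl

/-- IDX-FIX4 -/
theorem fix4_trans (p q r s : GolayPt) (hpq : p ≠ q) (hpr : p ≠ r) (hps : p ≠ s) (hqr : q ≠ r)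
    (hqs : q ≠ s) (hrs : r ≠ s) (u v : GolayPt)
    (hu : u ≠ p ∧ u ≠ q ∧ u ≠ r ∧ u ≠ s) (hv : v ≠ p ∧ v ≠ q ∧ v ≠ r ∧ v ≠ s) :
    ∃ g ∈ fix4 p q r s, g u = v := by
  obtain ⟨g, hg, hgx⟩ := exists_map_emb₂ (k := 5) (by norm_num)
    (m24idx_fix4_emb5 p q r s u hpq hpr hps hqr hqs hrs hu)
    (m24idx_fix4_emb5 p q r s v hpq hpr hps hqr hqs hrs hv)
  refine ⟨g, (mem_fix4 p q r s g).2 ⟨hg, hgx 0, hgx 1, hgx 2, hgx 3⟩, hgx 4⟩

end Cfsg.Agent.Helper3.M24Idx
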