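import Mathlib
import Cfsg.Agent.Lib.Helper24.GroupLemmas
import Cfsg.Agent.Lib.Helper24.SylIn

/-!
# Orbit counting with a Sylow subgroup (helper24's shared library)

`Γ` acts on finite sets `X`, `Y`; `P` is a Sylow `p`-subgroup of `Γ`.  If every element of `Γ`
has equally many fixed points on `X` and on `Y`, the same holds for the common fixed points of
`P` and any `n ∈ N_Γ(P)`, and every `Γ`-orbit on `X` contains a `P`-fixed point, then every
`Γ`-orbit on `Y` contains a `P`-fixed point.
-/

set_option autoImplicit false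
set_option linter.style.haveILetI false
set_option linter.unusedSectionVars false

namespace Cfsg.Agent.Helper24.RealNorm

open Cfsg.Agent.Helper24 Cfsg.Agent.Helper24.SylIn

section Orbit

variable {Γ : Type*} [Group Γ] [Finite Γ]

/-- An element conjugating a finite subgroup into itself normalizes it. -/
theorem mem_normalizer_of_conj_mem (H : Subgroup Γ) (g : Γ)
    (h : ∀ k ∈ H, g * k * g⁻¹ ∈ H) : g ∈ Subgroup.normalizer (H : Set Γ) := by
  rw [Subgroup.mem_normalizer_iff_map_conj_eq]
  apply Subgroup.eq_of_le_of_card_ge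
  · rintro _ ⟨k, hk, rfl⟩
    exact h k hk
  · rw [Subgroup.card_map_of_injective (MulAut.conj g).injective]

/-- Sylow fusion: two `P`-fixed points in the same orbit are conjugate under `N(P)`. -/
theorem exists_normalizer_smul {X : Type*} [MulAction Γ X] {p : ℕ} [Fact p.Prime] (P : Sylow p Γ)
    {x : X} (hx : ∀ u ∈ P, u • x = x) (g : Γ) (hgx : ∀ u ∈ P, u • (g • x) = g • x) :
    ∃ n ∈ Subgroup.normalizer ((P : Subgroup Γ) : Set Γ), n • x = g • x := by
  set S : Subgroup Γ := MulAction.stabilizer Γ (g • x) with hS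
  have hPS : (P : Subgroup Γ) ≤ S := by
    intro u hu
    rw [hS, MulAction.mem_stabilizer_iff]
    exact hgx u hu
  have hsyl : IsSylIn p S (P : Subgroup Γ) :=
    ⟨P.subtype hPS, by rw [Sylow.coe_subtype]; exact Subgroup.map_subgroupOf_eq_of_le hPS⟩
  set T : Subgroup Γ := (P : Subgroup Γ).map (MulAut.conj g).toMonoidHom with hT
  have hTS : T ≤ S := by
    rintro _ ⟨u, hu, rfl⟩
    rw [hS, MulAction.mem_stabilizer_iff]
    show (g * u * g⁻¹) • (g • x) = g • x
    rw [smul_smul, inv_mul_cancel_right, mul_smul, hx u hu]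
  have hTp : IsPGroup p T := P.isPGroup'.map _
  obtain ⟨a, haS, ha⟩ := hsyl.exists_conj_le hTS hTp
  refine ⟨a * g, ?_, ?_⟩
  · apply mem_normalizer_of_conj_mem
    intro u hu
    have h1 : g * u * g⁻¹ ∈ T := ⟨u, hu, rfl⟩
    have h2 := ha _ h1
    have e : a * g * u * (a * g)⁻¹ = a * (g * u * g⁻¹) * a⁻¹ := by group
    rw [e]
    exact h2
  · rw [mul_smul]
    rw [hS, MulAction.mem_stabilizer_iff] at haS
    exact haS

variable {X Y : Type*} [MulAction Γ X] [MulAction Γ Y] [Finite X] [Finite Y]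

/-- The number of orbits is determined by the fixed point numbers. -/
theorem card_orbits_eq_of_card_fixed {Δ : Type*} [Group Δ] [Finite Δ] {X Y : Type*}
    [MulAction Δ X] [MulAction Δ Y] [Finite X] [Finite Y]
    (h : ∀ g : Δ, Nat.card {x : X // g • x = x} = Nat.card {y : Y // g • y = y}) :
    Nat.card (Quotient (MulAction.orbitRel Δ X)) = Nat.card (Quotient (MulAction.orbitRel Δ Y)) := by
  classical
  letI : Fintype Δ := Fintype.ofFinite Δ
  have h1 := card_orbits_mul_card_group Δ X
  have h2 := card_orbits_mul_card_group Δ Y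
  rw [card_subtype_prod_eq_sum_fst (fun (g : Δ) (x : X) => g • x = x)] at h1
  rw [card_subtype_prod_eq_sum_fst (fun (g : Δ) (y : Y) => g • y = y)] at h2
  have h3 : ∑ g : Δ, Nat.card {x : X // g • x = x} = ∑ g : Δ, Nat.card {y : Y // g • y = y} :=
    Finset.sum_congr rfl fun g _ => h g
  rw [h3, ← h2] at h1
  exact Nat.eq_of_mul_eq_mul_right Nat.card_pos h1

/-- The fixed points of a subgroup. -/
def FixedPts (P : Subgroup Γ) (Z : Type*) [MulAction Γ Z] : Type _ :=
  {z : Z // ∀ u ∈ P, u • z = z}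

/-- The normalizer of `P` acts on the fixed points of `P`. -/
@[reducible] def normAct (P : Subgroup Γ) (Z : Type*) [MulAction Γ Z] :
    MulAction ↥(Subgroup.normalizer (P : Set Γ)) (FixedPts P Z) where
  smul n z := ⟨(n : Γ) • z.1, by
    intro u hu
    have h1 : (n : Γ)⁻¹ * u * (n : Γ) ∈ P := by
      have := (Subgroup.mem_normalizer_iff.mp (Subgroup.inv_mem _ n.2) u).mp hu
      simpa using this
    have h2 := z.2 _ h1
    calc u • (n : Γ) • z.1 = ((n : Γ) * ((n : Γ)⁻¹ * u * (n : Γ))) • z.1 := by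
          rw [smul_smul]; congr 1; group
      _ = (n : Γ) • z.1 := by rw [mul_smul, h2]⟩
  one_smul z := Subtype.ext (one_smul Γ z.1)
  mul_smul a b z := Subtype.ext (mul_smul (a : Γ) (b : Γ) z.1)

theorem normAct_val (P : Subgroup Γ) (Z : Type*) [MulAction Γ Z]
    (n : ↥(Subgroup.normalizer (P : Set Γ))) (z : FixedPts P Z) :
    (letI := normAct P Z; (n • z : FixedPts P Z)).1 = (n : Γ) • z.1 := rfl

instance (P : Subgroup Γ) (Z : Type*) [MulAction Γ Z] [Finite Z] : Finite (FixedPts P Z) :=
  Subtype.finite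

/-- The map from `N(P)`-orbits on the `P`-fixed points to `Γ`-orbits. -/
def orbMap (P : Subgroup Γ) (Z : Type*) [MulAction Γ Z] :
    letI := normAct P Z
    Quotient (MulAction.orbitRel ↥(Subgroup.normalizer (P : Set Γ)) (FixedPts P Z)) →
      Quotient (MulAction.orbitRel Γ Z) :=
  letI := normAct P Z
  Quotient.map' (fun z => z.1) (by
    intro a b hab
    obtain ⟨n, hn⟩ := hab
    exact ⟨(n : Γ), congrArg Subtype.val hn⟩)

theorem orbMap_injective {p : ℕ} [Fact p.Prime] (P : Sylow p Γ) (Z : Type*) [MulAction Γ Z] :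
    Function.Injective (orbMap (P : Subgroup Γ) Z) := by
  letI := normAct (P : Subgroup Γ) Z
  intro a b hab
  induction a using Quotient.inductionOn' with | _ a => ?_
  induction b using Quotient.inductionOn' with | _ b => ?_
  have h1 : (Quotient.mk'' a.1 : Quotient (MulAction.orbitRel Γ Z)) = Quotient.mk'' b.1 := hab
  rw [Quotient.eq''] at h1
  obtain ⟨g, hg⟩ := h1
  have hg' : g • b.1 = a.1 := hg
  obtain ⟨n, hn, hnb⟩ := exists_normalizer_smul P (x := b.1) b.2 g (by
    intro u hu
    rw [hg']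
    exact a.2 u hu)
  rw [Quotient.eq'']
  refine ⟨⟨n, hn⟩, Subtype.ext ?_⟩
  show n • b.1 = a.1
  rw [hnb, hg']

/-- **Orbit counting**: if `X` and `Y` have the same fixed point numbers and every orbit on `X`
meets the fixed points of the Sylow subgroup `P`, then so does every orbit on `Y`. -/
theorem orbit_meets_fixed (p : ℕ) [Fact p.Prime] (P : Sylow p Γ)
    (h1 : ∀ g : Γ, Nat.card {x : X // g • x = x} = Nat.card {y : Y // g • y = y})
    (h2 : ∀ n ∈ Subgroup.normalizer ((P : Subgroup Γ) : Set Γ),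
      Nat.card {x : X // (∀ u ∈ P, u • x = x) ∧ n • x = x} =
        Nat.card {y : Y // (∀ u ∈ P, u • y = y) ∧ n • y = y})
    (h3 : ∀ x : X, ∃ g : Γ, ∀ u ∈ P, u • (g • x) = g • x) :
    ∀ y : Y, ∃ g : Γ, ∀ u ∈ P, u • (g • y) = g • y := by
  classical
  letI iX := normAct (P : Subgroup Γ) X
  letI iY := normAct (P : Subgroup Γ) Y
  -- Burnside for `Γ`
  have hΓ := card_orbits_eq_of_card_fixed (Δ := Γ) (X := X) (Y := Y) h1
  -- Burnside for the normalizer
  have hN : Nat.card (Quotient (MulAction.orbitRel ↥(Subgroup.normalizer ((P : Subgroup Γ) : Set Γ))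
        (FixedPts (P : Subgroup Γ) X))) =
      Nat.card (Quotient (MulAction.orbitRel ↥(Subgroup.normalizer ((P : Subgroup Γ) : Set Γ))
        (FixedPts (P : Subgroup Γ) Y))) := by
    apply card_orbits_eq_of_card_fixed
    intro n
    have e1 : {z : FixedPts (P : Subgroup Γ) X // n • z = z} ≃
        {x : X // (∀ u ∈ P, u • x = x) ∧ (n : Γ) • x = x} :=
      { toFun := fun z => ⟨z.1.1, z.1.2, congrArg Subtype.val z.2⟩
        invFun := fun x => ⟨⟨x.1, x.2.1⟩, Subtype.ext x.2.2⟩
        left_inv := fun z => rfl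
        right_inv := fun x => rfl }
    have e2 : {z : FixedPts (P : Subgroup Γ) Y // n • z = z} ≃
        {y : Y // (∀ u ∈ P, u • y = y) ∧ (n : Γ) • y = y} :=
      { toFun := fun z => ⟨z.1.1, z.1.2, congrArg Subtype.val z.2⟩
        invFun := fun x => ⟨⟨x.1, x.2.1⟩, Subtype.ext x.2.2⟩
        left_inv := fun z => rfl
        right_inv := fun x => rfl }
    rw [Nat.card_congr e1, Nat.card_congr e2]
    exact h2 n n.2
  -- surjectivity on `X`
  have hsurjX : Function.Surjective (orbMap (P : Subgroup Γ) X) := by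
    intro c
    induction c using Quotient.inductionOn' with | _ x => ?_
    obtain ⟨g, hg⟩ := h3 x
    refine ⟨Quotient.mk'' ⟨g • x, hg⟩, ?_⟩
    show (Quotient.mk'' (g • x) : Quotient (MulAction.orbitRel Γ X)) = Quotient.mk'' x
    rw [Quotient.eq'']
    exact ⟨g, rfl⟩
  have hcardX := Nat.card_congr (Equiv.ofBijective _ ⟨orbMap_injective P X, hsurjX⟩)
  have hinjY := orbMap_injective P Y
  have hcardY : Nat.card (Quotient (MulAction.orbitRel ↥(Subgroup.normalizer
        ((P : Subgroup Γ) : Set Γ)) (FixedPts (P : Subgroup Γ) Y))) =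
      Nat.card (Quotient (MulAction.orbitRel Γ Y)) := by
    rw [← hN, hcardX, hΓ]
  have hbij : Function.Bijective (orbMap (P : Subgroup Γ) Y) := by
    letI : Fintype (Quotient (MulAction.orbitRel ↥(Subgroup.normalizer
        ((P : Subgroup Γ) : Set Γ)) (FixedPts (P : Subgroup Γ) Y))) := Fintype.ofFinite _
    letI : Fintype (Quotient (MulAction.orbitRel Γ Y)) := Fintype.ofFinite _
    rw [Fintype.bijective_iff_injective_and_card]
    refine ⟨hinjY, ?_⟩
    rw [← Nat.card_eq_fintype_card, ← Nat.card_eq_fintype_card]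
    exact hcardY
  intro y
  obtain ⟨c, hc⟩ := hbij.2 (Quotient.mk'' y)
  induction c using Quotient.inductionOn' with | _ z => ?_
  have h4 : (Quotient.mk'' z.1 : Quotient (MulAction.orbitRel Γ Y)) = Quotient.mk'' y := hc
  rw [Quotient.eq''] at h4
  obtain ⟨g, hg⟩ := h4
  have hg' : g • y = z.1 := hg
  refine ⟨g, ?_⟩
  rw [hg']
  exact z.2

end Orbit

end Cfsg.Agent.Helper24.RealNorm
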