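import Mathlib
import Cfsg.Prelude.Def_Blocks
import Cfsg.Agent.Lib.Helper24.GlaubReal

/-!
# Real characters and real classes fixed by an automorphism of odd outer order
(helper24's shared library)

If `a` is an automorphism of the finite group `H` some odd power of which is inner, then the number
of real irreducible characters of `H` fixed by `a` equals the number of real classes fixed by `a`
(Brauer's permutation lemma applied to `χ ↦ conj ∘ χ ∘ a⁻¹`).
-/

set_option autoImplicit false
set_option linter.style.haveILetI false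
set_option linter.unusedSectionVars false

namespace Cfsg.Agent.Helper24.RealNorm

open Cfsg Cfsg.Agent.Helper24 Cfsg.Agent.Helper24.Glaub
open scoped ComplexConjugate

universe u

/-- In a group, `a² ∈ S` and `a^m ∈ S` with `m` odd force `a ∈ S`. -/
theorem mem_of_sq_mem_of_odd_pow_mem {G : Type*} [Group G] (S : Subgroup G) (a : G) {m : ℕ}
    (hm : Odd m) (h2 : a ^ 2 ∈ S) (hm' : a ^ m ∈ S) : a ∈ S := by
  obtain ⟨k, rfl⟩ := hm
  have h3 : (a ^ 2) ^ k ∈ S := S.pow_mem h2 k
  have h4 : ((a ^ 2) ^ k)⁻¹ * a ^ (2 * k + 1) ∈ S := S.mul_mem (S.inv_mem h3) hm'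
  have e : ((a ^ 2) ^ k)⁻¹ * a ^ (2 * k + 1) = a := by
    rw [← pow_mul, pow_succ, ← mul_assoc, inv_mul_cancel, one_mul]
  rwa [e] at h4

section BR

variable {H : Type u} [Group H]

/-- The automorphisms fixing a function. -/
def stabFun (χ : H → ℂ) : Subgroup (MulAut H) where
  carrier := {b | ∀ h, χ (b h) = χ h}
  mul_mem' := by
    intro b b' hb hb' h
    rw [MulAut.mul_apply, hb, hb']
  one_mem' := fun h => rfl
  inv_mem' := by
    intro b hb h
    have := hb (b⁻¹ h)
    rw [MulAut.apply_inv_self] at this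
    exact this.symm

theorem mem_stabFun (χ : H → ℂ) (b : MulAut H) : b ∈ stabFun χ ↔ ∀ h, χ (b h) = χ h := Iff.rfl

/-- The automorphisms fixing a conjugacy class. -/
def stabCls (c : ConjClasses H) : Subgroup (MulAut H) where
  carrier := {b | ConjClasses.map (b : H ≃* H).toMonoidHom c = c}
  mul_mem' := by
    intro b b' hb hb'
    simp only [Set.mem_ofPred_eq] at hb hb' ⊢
    obtain ⟨h, rfl⟩ := ConjClasses.exists_rep c
    have e : ConjClasses.map ((b * b' : MulAut H) : H ≃* H).toMonoidHom (ConjClasses.mk h) =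
        ConjClasses.map (b : H ≃* H).toMonoidHom
          (ConjClasses.map (b' : H ≃* H).toMonoidHom (ConjClasses.mk h)) := rfl
    rw [e, hb', hb]
  one_mem' := by
    simp only [Set.mem_ofPred_eq]
    obtain ⟨h, rfl⟩ := ConjClasses.exists_rep c
    rfl
  inv_mem' := by
    intro b hb
    simp only [Set.mem_ofPred_eq] at hb ⊢
    obtain ⟨h, rfl⟩ := ConjClasses.exists_rep c
    have e : ConjClasses.map ((b⁻¹ : MulAut H) : H ≃* H).toMonoidHom
        (ConjClasses.map (b : H ≃* H).toMonoidHom (ConjClasses.mk h)) = ConjClasses.mk h := by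
      show ConjClasses.mk (b⁻¹ (b h)) = ConjClasses.mk h
      rw [MulAut.inv_apply_self]
    rw [hb] at e
    exact e

theorem mem_stabCls (c : ConjClasses H) (b : MulAut H) :
    b ∈ stabCls c ↔ ∀ h, ConjClasses.mk h = c → ConjClasses.mk (b h) = c := by
  constructor
  · intro hb h hh
    have hb' : ConjClasses.map (b : H ≃* H).toMonoidHom c = c := hb
    rw [← hh] at hb' ⊢
    exact hb'
  · intro hb
    show ConjClasses.map (b : H ≃* H).toMonoidHom c = c
    obtain ⟨h, rfl⟩ := ConjClasses.exists_rep c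
    exact hb h rfl

variable [Fintype H]

/-- The twisted map on the irreducible characters: `χ ↦ conj ∘ χ ∘ a⁻¹`. -/
noncomputable def twist (a : MulAut H) (χ : IrrCharacter H) : IrrCharacter H :=
  conjIrrChar ⟨(χ : H → ℂ) ∘ ((a⁻¹ : MulAut H) : H ≃* H),
    Cfsg.Agent.Helper5.isIrrCharacter_comp_equiv ((a⁻¹ : MulAut H) : H ≃* H) χ.2⟩

theorem twist_apply (a : MulAut H) (χ : IrrCharacter H) (h : H) :
    (twist a χ : H → ℂ) h = conj ((χ : H → ℂ) ((a⁻¹ : MulAut H) h)) := rfl

theorem twist_eq_iff (a : MulAut H) {m : ℕ} (hm : Odd m) (c : H)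
    (hc : ∀ h, (a ^ m) h = c * h * c⁻¹) (χ : IrrCharacter H) :
    twist a χ = χ ↔
      IsRealFun (χ : H → ℂ) ∧ ∀ h, (χ : H → ℂ) (a h) = (χ : H → ℂ) h := by
  have hcf := isClassFunction_of_isIrrCharacter χ.2
  constructor
  · intro h
    have hst : ∀ x, conj ((χ : H → ℂ) ((a⁻¹ : MulAut H) x)) = (χ : H → ℂ) x := by
      intro x
      have := congrArg (fun γ : IrrCharacter H => (γ : H → ℂ) x) h
      simpa only [twist_apply] using this
    have h2 : a ^ 2 ∈ stabFun (χ : H → ℂ) := by
      rw [mem_stabFun]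
      intro x
      have e1 := hst ((a ^ 2) x)
      have e2 := hst (a x)
      have e3 : (a⁻¹ : MulAut H) ((a ^ 2) x) = a x := by
        rw [pow_two, MulAut.mul_apply, MulAut.inv_apply_self]
      rw [e3] at e1
      rw [MulAut.inv_apply_self] at e2
      rw [← e1, ← e2, Complex.conj_conj]
    have hmm : a ^ m ∈ stabFun (χ : H → ℂ) := by
      rw [mem_stabFun]
      intro x
      rw [hc x]
      exact hcf x c
    have ha : a ∈ stabFun (χ : H → ℂ) := mem_of_sq_mem_of_odd_pow_mem _ a hm h2 hmm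
    rw [mem_stabFun] at ha
    refine ⟨?_, ha⟩
    intro x
    apply Complex.conj_eq_iff_im.mp
    have e1 := hst (a x)
    rw [MulAut.inv_apply_self, ha x] at e1
    exact e1
  · rintro ⟨hr, ha⟩
    apply Subtype.ext
    funext x
    rw [twist_apply]
    have e1 := ha ((a⁻¹ : MulAut H) x)
    rw [MulAut.apply_inv_self] at e1
    rw [← e1]
    exact Complex.conj_eq_iff_im.mpr (hr x)

theorem cls_eq_iff (a : MulAut H) {m : ℕ} (hm : Odd m) (c : H)
    (hc : ∀ h, (a ^ m) h = c * h * c⁻¹) (C : ConjClasses H) :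
    (∀ g : H, ConjClasses.mk g = C → ConjClasses.mk ((a g)⁻¹) = C) ↔
      IsRealCls C ∧ ∀ h, ConjClasses.mk h = C → ConjClasses.mk (a h) = C := by
  constructor
  · intro h
    have h2 : a ^ 2 ∈ stabCls C := by
      rw [mem_stabCls]
      intro x hx
      have e1 := h x hx
      have e2 := h _ e1
      have e3 : (a ((a x)⁻¹))⁻¹ = (a ^ 2) x := by
        rw [map_inv, inv_inv, pow_two, MulAut.mul_apply]
      rw [e3] at e2
      exact e2
    have hmm : a ^ m ∈ stabCls C := by
      rw [mem_stabCls]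
      intro x hx
      rw [hc x, ← hx, ConjClasses.mk_eq_mk_iff_isConj]
      exact (isConj_iff.mpr ⟨c, rfl⟩).symm
    have ha : a ∈ stabCls C := mem_of_sq_mem_of_odd_pow_mem _ a hm h2 hmm
    rw [mem_stabCls] at ha
    refine ⟨?_, ha⟩
    intro k hk
    have e1 := h k hk
    have e2 := ha k hk
    rw [← e2, ConjClasses.mk_eq_mk_iff_isConj] at e1
    -- `(a k)⁻¹ ~ a k`, and `a k ~ k`
    rw [← hk, ConjClasses.mk_eq_mk_iff_isConj] at e2
    have e3 : IsConj ((a k)⁻¹) k⁻¹ := by
      obtain ⟨g, hg⟩ := isConj_iff.mp e2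
      apply isConj_iff.mpr
      refine ⟨g, ?_⟩
      have e4 : k⁻¹ = (g * a k * g⁻¹)⁻¹ := by rw [hg]
      rw [e4]; group
    exact e2.symm.trans (e1.symm.trans e3)
  · rintro ⟨hr, ha⟩ g hg
    have e1 := ha g hg
    have e2 := hr (a g) e1
    rw [← e1, ConjClasses.mk_eq_mk_iff_isConj]
    exact e2.symm

/-- **Brauer**: the real irreducible characters and the real classes fixed by an automorphism of
odd order modulo inner automorphisms are equinumerous. -/
theorem card_real_fixed_eq (a : MulAut H) {m : ℕ} (hm : Odd m) (c : H)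
    (hc : ∀ h, (a ^ m) h = c * h * c⁻¹) :
    Nat.card {θ : IrrCharacter H // IsRealFun (θ : H → ℂ) ∧
        ∀ h, (θ : H → ℂ) (a h) = (θ : H → ℂ) h} =
      Nat.card {C : ConjClasses H // IsRealCls C ∧
        ∀ h, ConjClasses.mk h = C → ConjClasses.mk (a h) = C} := by
  classical
  letI := irrFintype (G := H)
  have h := brauer_permutation (G := H) (twist a) ((a : H ≃* H).toEquiv.trans (Equiv.inv H))
    (by
      intro x y hxy
      obtain ⟨g, hg⟩ := isConj_iff.mp hxy
      apply isConj_iff.mpr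
      refine ⟨a g, ?_⟩
      show a g * (a x)⁻¹ * (a g)⁻¹ = (a y)⁻¹
      rw [← hg]
      simp only [map_mul, map_inv]
      group)
    (by
      intro χ g
      show conj ((χ : H → ℂ) ((a⁻¹ : MulAut H) ((a g)⁻¹))) = (χ : H → ℂ) g
      rw [map_inv, MulAut.inv_apply_self, irr_inv (isCharacter_of_isIrrCharacter χ.2),
        Complex.conj_conj])
  rw [Nat.card_congr (Equiv.subtypeEquivRight (fun θ => (twist_eq_iff a hm c hc θ).symm)), h]
  apply Nat.card_congr
  apply Equiv.subtypeEquivRight
  intro C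
  exact cls_eq_iff a hm c hc C

end BR

end Cfsg.Agent.Helper24.RealNorm
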