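import Mathlib
import Cfsg.Prelude.Def_Blocks
import Cfsg.Agent.Lib.Helper24.GlaubReal
import Cfsg.Agent.Lib.Helper24.RealNormB

/-!
# Real equivariant Glauberman counts (helper24's shared library)

`A` acts on the `p'`-group `G`, `P ⊴ A` is a `p`-group and `n ∈ A`.  The real irreducible
characters (resp. real classes) of `G` fixed by `P` and `n` are equinumerous with the real
irreducible characters (resp. real classes) of `C_G(P)` fixed by `n`.  Combined with Brauer's
permutation lemma this gives: if an odd power of `n` acts on `C_G(P)` as an inner automorphism,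
the numbers of real `⟨P, n⟩`-invariant irreducible characters and classes of `G` agree.
-/

set_option autoImplicit false
set_option linter.style.haveILetI false
set_option linter.unusedSectionVars false

namespace Cfsg.Agent.Helper24.Glaub

open Cfsg Cfsg.Agent.Helper24
open scoped ComplexConjugate

universe u v

section PStepReal

variable {G : Type u} [Group G] [Fintype G] {A : Type v} [Group A] (φ : A →* MulAut G)
  (P : Subgroup A) [hP : P.Normal] [Fintype (fixP φ P)] {p : ℕ}

/-- The real irreducible characters of `G` invariant under `P` and `n` and the real irreducible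
characters of `C_G(P)` invariant under `n` are equinumerous. -/
theorem pstep_char_real (hpp : p.Prime) (hPp : IsPGroup p P) (hp : ¬ p ∣ Nat.card G) (n : A) :
    Nat.card {χ : IrrCharacter G // IsRealFun (χ : G → ℂ) ∧
        IsInv (φ.comp P.subtype) (χ : G → ℂ) ∧ ∀ g, (χ : G → ℂ) (φ n g) = (χ : G → ℂ) g} =
      Nat.card {β : IrrCharacter (fixP φ P) // IsRealFun (β : fixP φ P → ℂ) ∧
        ∀ c, (β : fixP φ P → ℂ) (resFix φ P n c) = (β : fixP φ P → ℂ) c} := by
  have hex : ∀ χ : {χ : IrrCharacter G // IsRealFun (χ : G → ℂ) ∧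
        IsInv (φ.comp P.subtype) (χ : G → ℂ) ∧ ∀ g, (χ : G → ℂ) (φ n g) = (χ : G → ℂ) g},
      ∃ β : {β : IrrCharacter (fixP φ P) // IsRealFun (β : fixP φ P → ℂ) ∧
        ∀ c, (β : fixP φ P → ℂ) (resFix φ P n c) = (β : fixP φ P → ℂ) c},
        IsGl (φ.comp P.subtype) p (χ.1 : G → ℂ) (β.1 : fixP φ P → ℂ) := by
    intro χ
    obtain ⟨β, hβ, huniq⟩ := glauberman_existsUnique (φ.comp P.subtype) hpp hPp hp χ.1 χ.2.2.1
    refine ⟨⟨β, ?_, ?_⟩, hβ⟩
    · rw [← conjIrrChar_eq_iff]
      apply huniq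
      have h1 := isGl_conj (φ.comp P.subtype) hβ
      have h2 : (fun g => conj ((χ.1 : G → ℂ) g)) = (χ.1 : G → ℂ) := by
        funext g
        exact Complex.conj_eq_iff_im.mpr (χ.2.1 g)
      rw [h2] at h1
      exact h1
    · intro c
      have h1 := isGl_comp φ P n hβ
      have h2 : (χ.1 : G → ℂ) ∘ φ n = (χ.1 : G → ℂ) := funext (fun g => χ.2.2.2 g)
      rw [h2] at h1
      have h3 := huniq ⟨(β : fixP φ P → ℂ) ∘ resFix φ P n,
        Cfsg.Agent.Helper5.isIrrCharacter_comp_equiv (resFix φ P n : fixP φ P ≃* fixP φ P) β.2⟩ h1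
      exact congrFun (congrArg Subtype.val h3) c
  choose f hf using hex
  apply Nat.card_congr (Equiv.ofBijective f ⟨?_, ?_⟩)
  · intro χ χ' h
    apply Subtype.ext
    have h' := hf χ'
    rw [← h] at h'
    exact glauberman_inj (φ.comp P.subtype) hpp hPp hp χ.1 χ'.1 χ.2.2.1 χ'.2.2.1
      (f χ).1 (hf χ) h'
  · intro β
    obtain ⟨χ, hχ, hgl⟩ := glauberman_surj (φ.comp P.subtype) hpp hPp hp β.1
    have hχn : ∀ g, (χ : G → ℂ) (φ n g) = (χ : G → ℂ) g := by
      intro g
      have h1 := isGl_comp φ P n hgl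
      have h2 : (β.1 : fixP φ P → ℂ) ∘ resFix φ P n = (β.1 : fixP φ P → ℂ) :=
        funext (fun c => β.2.2 c)
      rw [h2] at h1
      have h3 := glauberman_inj (φ.comp P.subtype) hpp hPp hp
        ⟨(χ : G → ℂ) ∘ φ n, Cfsg.Agent.Helper5.isIrrCharacter_comp_equiv (φ n : G ≃* G) χ.2⟩ χ
        (isInv_comp_of_normal φ P hχ n) hχ β.1 h1 hgl
      exact congrFun (congrArg Subtype.val h3) g
    have hχr : IsRealFun (χ : G → ℂ) := by
      rw [← conjIrrChar_eq_iff]
      have h1 := isGl_conj (φ.comp P.subtype) hgl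
      have h2 : (fun c => conj ((β.1 : fixP φ P → ℂ) c)) = (β.1 : fixP φ P → ℂ) := by
        funext c
        exact Complex.conj_eq_iff_im.mpr (β.2.1 c)
      rw [h2] at h1
      exact glauberman_inj (φ.comp P.subtype) hpp hPp hp (conjIrrChar χ) χ
        (isInv_conj (φ.comp P.subtype) hχ) hχ β.1 h1 hgl
    refine ⟨⟨χ, hχr, hχ, hχn⟩, ?_⟩
    apply Subtype.ext
    obtain ⟨β₀, hβ₀, huniq⟩ := glauberman_existsUnique (φ.comp P.subtype) hpp hPp hp χ hχ
    rw [huniq _ (hf ⟨χ, hχr, hχ, hχn⟩), huniq _ hgl]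

/-- The real classes of `G` invariant under `P` and `n` and the real classes of `C_G(P)` invariant
under `n` are equinumerous. -/
theorem pstep_class_real (hpp : p.Prime) (hPp : IsPGroup p P) (hp : ¬ p ∣ Nat.card G) (n : A) :
    Nat.card {K : ConjClasses G // IsRealCls K ∧ ClsInv (φ.comp P.subtype) K ∧
        ∀ g, ConjClasses.mk g = K → ConjClasses.mk (φ n g) = K} =
      Nat.card {L : ConjClasses (fixP φ P) // IsRealCls L ∧
        ∀ c, ConjClasses.mk c = L → ConjClasses.mk (resFix φ P n c) = L} := by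
  haveI : Fact p.Prime := ⟨hpp⟩
  symm
  have hwd : ∀ L : {L : ConjClasses (fixP φ P) // IsRealCls L ∧
        ∀ c, ConjClasses.mk c = L → ConjClasses.mk (resFix φ P n c) = L},
      IsRealCls (ConjClasses.map (fixP φ P).subtype L.1) ∧
        ClsInv (φ.comp P.subtype) (ConjClasses.map (fixP φ P).subtype L.1) ∧
        ∀ g, ConjClasses.mk g = ConjClasses.map (fixP φ P).subtype L.1 →
          ConjClasses.mk (φ n g) = ConjClasses.map (fixP φ P).subtype L.1 := by
    rintro ⟨L, hLr, hLn⟩
    obtain ⟨c, rfl⟩ := ConjClasses.exists_rep L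
    have hmap : ConjClasses.map (fixP φ P).subtype (ConjClasses.mk c) = ConjClasses.mk (c : G) :=
      rfl
    refine ⟨?_, ?_, ?_⟩
    · intro k hk
      rw [hmap, ConjClasses.mk_eq_mk_iff_isConj] at hk
      have h1 : IsConj c c⁻¹ := hLr c rfl
      have h2 : IsConj (c : G) ((c : G)⁻¹) := by
        have := (fixP φ P).subtype.map_isConj h1
        simpa using this
      have h3 : IsConj ((c : G)⁻¹) k⁻¹ := by
        obtain ⟨g, hg⟩ := isConj_iff.mp hk
        apply isConj_iff.mpr
        refine ⟨g⁻¹, ?_⟩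
        rw [← hg]; group
      exact hk.trans (h2.trans h3)
    · intro x g hg
      rw [hmap] at hg ⊢
      have h1 : IsConj g (c : G) := ConjClasses.mk_eq_mk_iff_isConj.mp hg
      have h2 : IsConj ((φ.comp P.subtype) x g) ((φ.comp P.subtype) x c) :=
        ((φ.comp P.subtype) x).toMonoidHom.map_isConj h1
      have h3 : (φ.comp P.subtype) x c = c := c.2 x
      rw [h3] at h2
      exact ConjClasses.mk_eq_mk_iff_isConj.mpr h2
    · intro g hg
      rw [hmap] at hg ⊢
      have h1 : IsConj g (c : G) := ConjClasses.mk_eq_mk_iff_isConj.mp hg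
      have h2 : IsConj (φ n g) (φ n c) := isConj_map_aut φ n h1
      have h3 := hLn c rfl
      have h4 : ConjClasses.mk (φ n c) = ConjClasses.mk (c : G) := by
        have := congrArg (ConjClasses.map (fixP φ P).subtype) h3
        exact this
      rw [ConjClasses.mk_eq_mk_iff_isConj.mpr h2, h4]
  apply Nat.card_congr (Equiv.ofBijective
    (fun L => (⟨ConjClasses.map (fixP φ P).subtype L.1, hwd L⟩ :
      {K : ConjClasses G // IsRealCls K ∧ ClsInv (φ.comp P.subtype) K ∧
        ∀ g, ConjClasses.mk g = K → ConjClasses.mk (φ n g) = K}))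
    ⟨?_, ?_⟩)
  · rintro ⟨L, hL⟩ ⟨L', hL'⟩ h
    obtain ⟨c, rfl⟩ := ConjClasses.exists_rep L
    obtain ⟨c', rfl⟩ := ConjClasses.exists_rep L'
    apply Subtype.ext
    have h1 := congrArg Subtype.val h
    exact mk_fix_inj φ P hPp hp h1
  · rintro ⟨K, hKr, hKP, hKn⟩
    obtain ⟨c, hc⟩ := exists_fixed_in_class φ P hPp hp K hKP
    have hLr : IsRealCls (ConjClasses.mk c) := by
      intro c₀ hc₀
      rw [← ConjClasses.mk_eq_mk_iff_isConj]
      apply mk_fix_inj φ P hPp hp
      have h1 : ConjClasses.mk (c₀ : G) = K := by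
        rw [← hc]
        exact congrArg (ConjClasses.map (fixP φ P).subtype) hc₀
      have h2 := hKr _ h1
      rw [ConjClasses.mk_eq_mk_iff_isConj]
      simpa using h2
    have hLn : ∀ c₀, ConjClasses.mk c₀ = ConjClasses.mk c →
        ConjClasses.mk (resFix φ P n c₀) = ConjClasses.mk c := by
      intro c₀ hc₀
      apply mk_fix_inj φ P hPp hp
      have h1 : ConjClasses.mk (c₀ : G) = K := by
        rw [← hc]
        exact congrArg (ConjClasses.map (fixP φ P).subtype) hc₀
      have h2 := hKn _ h1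
      rw [resFix_apply, h2, hc]
    refine ⟨⟨ConjClasses.mk c, hLr, hLn⟩, ?_⟩
    apply Subtype.ext
    exact hc

/-- If an odd power of `n` acts on `C_G(P)` as an inner automorphism, then the real irreducible
characters and the real classes of `G` invariant under `P` and `n` are equinumerous. -/
theorem card_real_inv_pair (hpp : p.Prime) (hPp : IsPGroup p P) (hp : ¬ p ∣ Nat.card G) (n : A)
    {m : ℕ} (hm : Odd m) (c : fixP φ P)
    (hc : ∀ h : fixP φ P, resFix φ P (n ^ m) h = c * h * c⁻¹) :
    Nat.card {χ : IrrCharacter G // IsRealFun (χ : G → ℂ) ∧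
        IsInv (φ.comp P.subtype) (χ : G → ℂ) ∧ ∀ g, (χ : G → ℂ) (φ n g) = (χ : G → ℂ) g} =
      Nat.card {K : ConjClasses G // IsRealCls K ∧ ClsInv (φ.comp P.subtype) K ∧
        ∀ g, ConjClasses.mk g = K → ConjClasses.mk (φ n g) = K} := by
  rw [pstep_char_real φ P hpp hPp hp n, pstep_class_real φ P hpp hPp hp n]
  exact Cfsg.Agent.Helper24.RealNorm.card_real_fixed_eq (resFix φ P n) hm c (by
    intro h
    rw [← map_pow]
    exact hc h)

end PStepReal

end Cfsg.Agent.Helper24.Glaub
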