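import Mathlib
import Cfsg.Prelude.Def_Blocks
import Cfsg.Agent.Lib.Helper24.RealNormA
import Cfsg.Agent.Lib.Helper24.RealNormC
import Cfsg.Agent.Lib.Helper24.OddIndexReal
import Cfsg.Agent.Lib.Helper24.FrobeniusSchur
import Cfsg.Agent.Lib.Helper18.CliffordCorr

/-!
# Real classes and the Sylow normalizer: the `p'`-kernel case (helper24's shared library)

`K ⊴ Γ` a `p'`-group of odd index, `P` a Sylow `p`-subgroup of `Γ`, and every real irreducible
character of `Γ` of degree prime to `p`: every real element of `K` is `Γ`-conjugate to an element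
of `C_K(P)`.
-/

set_option autoImplicit false
set_option linter.style.haveILetI false
set_option linter.unusedSectionVars false

namespace Cfsg.Agent.Helper24.RealNorm

open Cfsg Cfsg.Agent.Helper24 Cfsg.Agent.Helper24.Glaub
open scoped ComplexConjugate

universe u v

section Actions

variable {Γ : Type v} [Group Γ] {H : Type u} [Group H] (φ : Γ →* MulAut H)

/-- The action on the real irreducible characters. -/
@[reducible] noncomputable def realIrrAct :
    MulAction Γ {θ : IrrCharacter H // IsRealFun (θ : H → ℂ)} where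
  smul g θ := ⟨⟨(θ.1 : H → ℂ) ∘ ((φ g⁻¹ : MulAut H) : H ≃* H),
      Cfsg.Agent.Helper5.isIrrCharacter_comp_equiv ((φ g⁻¹ : MulAut H) : H ≃* H) θ.1.2⟩,
    fun h => θ.2 _⟩
  one_smul θ := by
    apply Subtype.ext; apply Subtype.ext
    funext h
    show (θ.1 : H → ℂ) ((φ (1 : Γ)⁻¹) h) = (θ.1 : H → ℂ) h
    rw [inv_one, map_one]; rfl
  mul_smul g g' θ := by
    apply Subtype.ext; apply Subtype.ext
    funext h
    show (θ.1 : H → ℂ) ((φ (g * g')⁻¹) h) = (θ.1 : H → ℂ) ((φ g'⁻¹) ((φ g⁻¹) h))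
    rw [mul_inv_rev, map_mul]; rfl

theorem realIrr_smul_eq_iff (g : Γ) (θ : {θ : IrrCharacter H // IsRealFun (θ : H → ℂ)}) :
    (letI := realIrrAct φ; g • θ = θ) ↔
      ∀ h, (θ.1 : H → ℂ) (φ g h) = (θ.1 : H → ℂ) h := by
  letI := realIrrAct φ
  constructor
  · intro h x
    have h1 : ((g • θ).1 : H → ℂ) (φ g x) = (θ.1 : H → ℂ) (φ g x) := by rw [h]
    have h2 : ((g • θ).1 : H → ℂ) (φ g x) = (θ.1 : H → ℂ) ((φ g⁻¹) (φ g x)) := rfl
    rw [h2, map_inv, MulAut.inv_apply_self] at h1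
    exact h1.symm
  · intro h
    apply Subtype.ext; apply Subtype.ext
    funext x
    show (θ.1 : H → ℂ) ((φ g⁻¹) x) = (θ.1 : H → ℂ) x
    have h1 := h ((φ g⁻¹) x)
    rw [map_inv, MulAut.apply_inv_self] at h1
    rw [map_inv]
    exact h1.symm

theorem isRealCls_map (b : MulAut H) {c : ConjClasses H} (hc : IsRealCls c) :
    IsRealCls (ConjClasses.map (b : H ≃* H).toMonoidHom c) := by
  obtain ⟨h, rfl⟩ := ConjClasses.exists_rep c
  intro k hk
  have hk' : ConjClasses.mk k = ConjClasses.mk (b h) := hk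
  rw [ConjClasses.mk_eq_mk_iff_isConj] at hk'
  have h1 : IsConj h h⁻¹ := hc h rfl
  have h2 : IsConj (b h) (b h)⁻¹ := by
    have := (b : H ≃* H).toMonoidHom.map_isConj h1
    simpa using this
  have h3 : IsConj (b h)⁻¹ k⁻¹ := by
    obtain ⟨g, hg⟩ := isConj_iff.mp hk'
    apply isConj_iff.mpr
    refine ⟨g⁻¹, ?_⟩
    rw [← hg]; group
  exact hk'.trans (h2.trans h3)

/-- The action on the real classes. -/
@[reducible] def realClsAct : MulAction Γ {c : ConjClasses H // IsRealCls c} where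
  smul g c := ⟨ConjClasses.map ((φ g : MulAut H) : H ≃* H).toMonoidHom c.1,
    isRealCls_map (φ g) c.2⟩
  one_smul c := by
    obtain ⟨c, hc⟩ := c
    obtain ⟨h, rfl⟩ := ConjClasses.exists_rep c
    apply Subtype.ext
    show ConjClasses.mk ((φ (1 : Γ)) h) = ConjClasses.mk h
    rw [map_one]; rfl
  mul_smul g g' c := by
    obtain ⟨c, hc⟩ := c
    obtain ⟨h, rfl⟩ := ConjClasses.exists_rep c
    apply Subtype.ext
    show ConjClasses.mk ((φ (g * g')) h) = ConjClasses.mk ((φ g) ((φ g') h))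
    rw [map_mul]; rfl

theorem realCls_smul_eq_iff (g : Γ) (c : {c : ConjClasses H // IsRealCls c}) :
    (letI := realClsAct φ; g • c = c) ↔
      ∀ h, ConjClasses.mk h = c.1 → ConjClasses.mk (φ g h) = c.1 := by
  letI := realClsAct φ
  rw [← mem_stabCls]
  constructor
  · intro h
    exact congrArg Subtype.val h
  · intro h
    exact Subtype.ext h

end Actions

section Main

variable {Γ : Type u} [Group Γ] [Finite Γ]

/-- A `p`-subgroup meets a `p'`-subgroup trivially. -/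
theorem eq_one_of_mem_sylow_of_mem {p : ℕ} [Fact p.Prime] (P : Sylow p Γ) (K : Subgroup Γ)
    (hK : ¬ p ∣ Nat.card K) {x : Γ} (hxP : x ∈ P) (hxK : x ∈ K) : x = 1 := by
  obtain ⟨k, hk⟩ := IsPGroup.iff_card.mp P.isPGroup'
  have hcop : Nat.Coprime (Nat.card (P : Subgroup Γ)) (Nat.card K) := by
    rw [hk]
    exact Nat.Coprime.pow_left _ ((Nat.Prime.coprime_iff_not_dvd Fact.out).mpr hK)
  have := (Subgroup.disjoint_of_coprime_natCard hcop).eq_bot
  have hx : x ∈ (P : Subgroup Γ) ⊓ K := ⟨hxP, hxK⟩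
  rw [this, Subgroup.mem_bot] at hx
  exact hx

variable (p : ℕ) [hp : Fact p.Prime] (K : Subgroup Γ) [hKn : K.Normal]

/-- Fixed point equality for single elements. -/
theorem card_fixed_single (hodd : Odd K.index) (g : Γ) :
    Nat.card {θ : IrrCharacter K // IsRealFun (θ : K → ℂ) ∧
        ∀ h, (θ : K → ℂ) ((MulAut.conjNormal g : MulAut K) h) = (θ : K → ℂ) h} =
      Nat.card {C : ConjClasses K // IsRealCls C ∧
        ∀ h, ConjClasses.mk h = C → ConjClasses.mk ((MulAut.conjNormal g : MulAut K) h) = C} := by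
  classical
  letI : Fintype K := Fintype.ofFinite K
  have hmem : g ^ K.index ∈ K := Subgroup.pow_index_mem K g
  apply card_real_fixed_eq (MulAut.conjNormal g : MulAut K) hodd ⟨g ^ K.index, hmem⟩
  intro h
  rw [← map_pow]
  apply Subtype.ext
  rw [MulAut.conjNormal_apply]
  rfl

/-- Fixed point equality for the Sylow subgroup together with an element of its normalizer. -/
theorem card_fixed_pair (hK : ¬ p ∣ Nat.card K) (hodd : Odd K.index) (P : Sylow p Γ) (n : Γ)
    (hn : n ∈ Subgroup.normalizer ((P : Subgroup Γ) : Set Γ)) :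
    Nat.card {θ : IrrCharacter K // IsRealFun (θ : K → ℂ) ∧
        (∀ u ∈ P, ∀ h, (θ : K → ℂ) ((MulAut.conjNormal u : MulAut K) h) = (θ : K → ℂ) h) ∧
        ∀ h, (θ : K → ℂ) ((MulAut.conjNormal n : MulAut K) h) = (θ : K → ℂ) h} =
      Nat.card {C : ConjClasses K // IsRealCls C ∧
        (∀ u ∈ P, ∀ h, ConjClasses.mk h = C →
          ConjClasses.mk ((MulAut.conjNormal u : MulAut K) h) = C) ∧
        ∀ h, ConjClasses.mk h = C → ConjClasses.mk ((MulAut.conjNormal n : MulAut K) h) = C} := by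
  classical
  letI : Fintype K := Fintype.ofFinite K
  set N : Subgroup Γ := Subgroup.normalizer ((P : Subgroup Γ) : Set Γ) with hN
  set φA : ↥N →* MulAut K := (MulAut.conjNormal : Γ →* MulAut K).comp N.subtype with hφA
  set PA : Subgroup ↥N := (P : Subgroup Γ).subgroupOf N with hPA
  haveI : PA.Normal := Subgroup.normal_in_normalizer
  letI : Fintype (fixP φA PA) := Fintype.ofFinite _
  have hPp : IsPGroup p PA := P.isPGroup'.comap_of_injective N.subtype N.subtype_injective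
  set m := K.index with hm
  have hmemK : n ^ m ∈ K := Subgroup.pow_index_mem K n
  have hmemN : n ^ m ∈ N := N.pow_mem hn m
  have hfix : (⟨n ^ m, hmemK⟩ : K) ∈ fixP φA PA := by
    rw [mem_fixP]
    intro x hx
    have hxP : (x : Γ) ∈ (P : Subgroup Γ) := hx
    apply Subtype.ext
    show (x : Γ) * n ^ m * (x : Γ)⁻¹ = n ^ m
    have h1 : (x : Γ) * (n ^ m * (x : Γ)⁻¹ * (n ^ m)⁻¹) ∈ (P : Subgroup Γ) := by
      apply Subgroup.mul_mem _ hxP
      exact (Subgroup.mem_normalizer_iff.mp hmemN _).mp (Subgroup.inv_mem _ hxP)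
    have h2 : (x : Γ) * (n ^ m * (x : Γ)⁻¹ * (n ^ m)⁻¹) ∈ K := by
      have e : (x : Γ) * (n ^ m * (x : Γ)⁻¹ * (n ^ m)⁻¹) =
          ((x : Γ) * n ^ m * (x : Γ)⁻¹) * (n ^ m)⁻¹ := by group
      rw [e]
      exact K.mul_mem (hKn.conj_mem _ hmemK _) (K.inv_mem hmemK)
    have h3 := eq_one_of_mem_sylow_of_mem P K hK h1 h2
    have e : (x : Γ) * n ^ m * (x : Γ)⁻¹ =
        ((x : Γ) * (n ^ m * (x : Γ)⁻¹ * (n ^ m)⁻¹)) * n ^ m := by group
    rw [e, h3, one_mul]
  have key := card_real_inv_pair φA PA hp.out hPp hK (⟨n, hn⟩ : ↥N) hodd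
    (⟨⟨n ^ m, hmemK⟩, hfix⟩ : fixP φA PA) (by
      intro h
      apply Subtype.ext
      apply Subtype.ext
      rfl)
  have e1 : {θ : IrrCharacter K // IsRealFun (θ : K → ℂ) ∧
        (∀ u ∈ P, ∀ h, (θ : K → ℂ) ((MulAut.conjNormal u : MulAut K) h) = (θ : K → ℂ) h) ∧
        ∀ h, (θ : K → ℂ) ((MulAut.conjNormal n : MulAut K) h) = (θ : K → ℂ) h} ≃
      {χ : IrrCharacter K // IsRealFun (χ : K → ℂ) ∧
        IsInv (φA.comp PA.subtype) (χ : K → ℂ) ∧
        ∀ g, (χ : K → ℂ) (φA (⟨n, hn⟩ : ↥N) g) = (χ : K → ℂ) g} :=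
    Equiv.subtypeEquivRight (fun θ => by
      constructor
      · rintro ⟨h1, h2, h3⟩
        exact ⟨h1, fun a g => h2 (a : ↥N) a.2 g, h3⟩
      · rintro ⟨h1, h2, h3⟩
        refine ⟨h1, fun u hu g => ?_, h3⟩
        exact h2 ⟨⟨u, Subgroup.le_normalizer hu⟩, hu⟩ g)
  have e2 : {C : ConjClasses K // IsRealCls C ∧
        (∀ u ∈ P, ∀ h, ConjClasses.mk h = C →
          ConjClasses.mk ((MulAut.conjNormal u : MulAut K) h) = C) ∧
        ∀ h, ConjClasses.mk h = C →
          ConjClasses.mk ((MulAut.conjNormal n : MulAut K) h) = C} ≃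
      {C : ConjClasses K // IsRealCls C ∧ ClsInv (φA.comp PA.subtype) C ∧
        ∀ g, ConjClasses.mk g = C → ConjClasses.mk (φA (⟨n, hn⟩ : ↥N) g) = C} :=
    Equiv.subtypeEquivRight (fun C => by
      constructor
      · rintro ⟨h1, h2, h3⟩
        exact ⟨h1, fun a g hg => h2 (a : ↥N) a.2 g hg, h3⟩
      · rintro ⟨h1, h2, h3⟩
        refine ⟨h1, fun u hu g hg => ?_, h3⟩
        exact h2 ⟨⟨u, Subgroup.le_normalizer hu⟩, hu⟩ g hg)
  rw [Nat.card_congr e1, Nat.card_congr e2]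
  exact key

/-- A real irreducible character of `K` has a conjugate invariant under the Sylow subgroup. -/
theorem exists_conj_le_inertia (hodd : Odd K.index) (P : Sylow p Γ)
    (hreal : ∀ χ : IrrCharacter Γ, (∀ g, ((χ : Γ → ℂ) g).im = 0) →
      ¬ p ∣ charDegree (χ : Γ → ℂ))
    (θ : IrrCharacter K) (hθ : IsRealFun (θ : K → ℂ)) :
    ∃ g : Γ, ∀ u ∈ P, g⁻¹ * u * g ∈ Cfsg.Agent.Helper18.inertia K (θ : K → ℂ) := by
  classical
  letI : Fintype Γ := Fintype.ofFinite Γ
  letI : Fintype K := Fintype.ofFinite K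
  letI : Fintype (IrrCharacter Γ) := irrFintype
  letI : Fintype (IrrCharacter K) := irrFintype
  have hsum := Cfsg.Agent.Helper24.OddReal.sum_fsInd_inner K hodd θ.2
  have hne : fsInd (θ : K → ℂ) ≠ 0 :=
    (fsInd_ne_zero_iff θ.2).mpr (fun g => Complex.conj_eq_iff_im.mpr (hθ g))
  rw [← hsum] at hne
  obtain ⟨χ, -, hχ⟩ := Finset.exists_ne_zero_of_sum_ne_zero hne
  have hχ1 : fsInd (χ : Γ → ℂ) ≠ 0 := left_ne_zero_of_mul hχ
  have hχ2 : classInner (fun n : K => (χ : Γ → ℂ) n) (θ : K → ℂ) ≠ 0 := right_ne_zero_of_mul hχ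
  have hχr : ∀ g, ((χ : Γ → ℂ) g).im = 0 := fun g =>
    Complex.conj_eq_iff_im.mp ((fsInd_ne_zero_iff χ.2).mp hχ1 g)
  have hdeg := hreal χ hχr
  have hd := Cfsg.Agent.Helper18.degree_eq_of_constituent K χ.2 θ.2 hχ2
  obtain ⟨e, he⟩ := classInner_char_nat
    (isCharacter_restrict K (isCharacter_of_isIrrCharacter χ.2))
    (isCharacter_of_isIrrCharacter θ.2)
  rw [he, irr_one_eq_charDegree χ.2, irr_one_eq_charDegree θ.2] at hd
  have hd' : charDegree (χ : Γ → ℂ) =
      e * (Cfsg.Agent.Helper18.inertia K (θ : K → ℂ)).index * charDegree (θ : K → ℂ) := by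
    exact_mod_cast hd
  have hidx : ¬ p ∣ (Cfsg.Agent.Helper18.inertia K (θ : K → ℂ)).index := by
    intro h
    apply hdeg
    rw [hd']
    exact Dvd.dvd.mul_right (Dvd.dvd.mul_left h e) _
  set T := Cfsg.Agent.Helper18.inertia K (θ : K → ℂ) with hT
  have hfp := P.isPGroup'.nonempty_fixed_point_of_prime_not_dvd_card (Γ ⧸ T) (by
    rw [← Subgroup.index_eq_card]
    exact hidx)
  obtain ⟨q, hq⟩ := hfp
  obtain ⟨g, rfl⟩ := QuotientGroup.mk_surjective q
  refine ⟨g, fun u hu => ?_⟩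
  have h1 := hq ⟨u⁻¹, Subgroup.inv_mem _ hu⟩
  have h2 : ((u⁻¹ * g : Γ) : Γ ⧸ T) = (g : Γ ⧸ T) := h1
  rw [QuotientGroup.eq] at h2
  have e : (u⁻¹ * g)⁻¹ * g = g⁻¹ * u * g := by group
  rw [e] at h2
  exact h2

/-- **Main theorem** (`p'`-kernel case): every real element of `K` is conjugate in `Γ` to an
element centralized by the Sylow `p`-subgroup `P`. -/
theorem exists_conj_fixed (hK : ¬ p ∣ Nat.card K) (hodd : Odd K.index) (P : Sylow p Γ)
    (hreal : ∀ χ : IrrCharacter Γ, (∀ g, ((χ : Γ → ℂ) g).im = 0) →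
      ¬ p ∣ charDegree (χ : Γ → ℂ))
    (k : K) (hk : IsConj k k⁻¹) :
    ∃ g : Γ, ∀ u ∈ P, u * (g * (k : Γ) * g⁻¹) * u⁻¹ = g * (k : Γ) * g⁻¹ := by
  classical
  letI : Fintype Γ := Fintype.ofFinite Γ
  letI : Fintype K := Fintype.ofFinite K
  haveI : Finite (IrrCharacter K) := (irrFintype (G := K)).finite
  set φ : Γ →* MulAut K := MulAut.conjNormal with hφ
  letI iX := realIrrAct φ
  letI iY := realClsAct φ
  have h1 : ∀ g : Γ, Nat.card {x : {θ : IrrCharacter K // IsRealFun (θ : K → ℂ)} // g • x = x} =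
      Nat.card {y : {c : ConjClasses K // IsRealCls c} // g • y = y} := by
    intro g
    have e1 := (Equiv.subtypeEquivRight (fun x => realIrr_smul_eq_iff φ g x)).trans
      (Equiv.subtypeSubtypeEquivSubtypeInter (fun θ : IrrCharacter K => IsRealFun (θ : K → ℂ))
        (fun θ : IrrCharacter K => ∀ h, (θ : K → ℂ) (φ g h) = (θ : K → ℂ) h))
    have e2 := (Equiv.subtypeEquivRight (fun y => realCls_smul_eq_iff φ g y)).trans
      (Equiv.subtypeSubtypeEquivSubtypeInter (fun c : ConjClasses K => IsRealCls c)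
        (fun c : ConjClasses K => ∀ h, ConjClasses.mk h = c → ConjClasses.mk (φ g h) = c))
    rw [Nat.card_congr e1, Nat.card_congr e2]
    exact card_fixed_single K hodd g
  have h2 : ∀ n ∈ Subgroup.normalizer ((P : Subgroup Γ) : Set Γ),
      Nat.card {x : {θ : IrrCharacter K // IsRealFun (θ : K → ℂ)} //
          (∀ u ∈ P, u • x = x) ∧ n • x = x} =
        Nat.card {y : {c : ConjClasses K // IsRealCls c} //
          (∀ u ∈ P, u • y = y) ∧ n • y = y} := by
    intro n hn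
    have e1 := (Equiv.subtypeEquivRight (fun x : {θ : IrrCharacter K // IsRealFun (θ : K → ℂ)} =>
        and_congr (forall₂_congr (fun u (_ : u ∈ P) => realIrr_smul_eq_iff φ u x))
          (realIrr_smul_eq_iff φ n x))).trans
      (Equiv.subtypeSubtypeEquivSubtypeInter (fun θ : IrrCharacter K => IsRealFun (θ : K → ℂ))
        (fun θ : IrrCharacter K =>
          (∀ u ∈ P, ∀ h, (θ : K → ℂ) (φ u h) = (θ : K → ℂ) h) ∧
            ∀ h, (θ : K → ℂ) (φ n h) = (θ : K → ℂ) h))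
    have e2 := (Equiv.subtypeEquivRight (fun y : {c : ConjClasses K // IsRealCls c} =>
        and_congr (forall₂_congr (fun u (_ : u ∈ P) => realCls_smul_eq_iff φ u y))
          (realCls_smul_eq_iff φ n y))).trans
      (Equiv.subtypeSubtypeEquivSubtypeInter (fun c : ConjClasses K => IsRealCls c)
        (fun c : ConjClasses K =>
          (∀ u ∈ P, ∀ h, ConjClasses.mk h = c → ConjClasses.mk (φ u h) = c) ∧
            ∀ h, ConjClasses.mk h = c → ConjClasses.mk (φ n h) = c))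
    rw [Nat.card_congr e1, Nat.card_congr e2]
    exact card_fixed_pair p K hK hodd P n hn
  have h3 : ∀ x : {θ : IrrCharacter K // IsRealFun (θ : K → ℂ)},
      ∃ g : Γ, ∀ u ∈ P, u • (g • x) = g • x := by
    intro x
    obtain ⟨g, hg⟩ := exists_conj_le_inertia p K hodd P hreal x.1 x.2
    refine ⟨g, fun u hu => ?_⟩
    rw [realIrr_smul_eq_iff]
    intro h
    show (x.1 : K → ℂ) ((φ g⁻¹) ((φ u) h)) = (x.1 : K → ℂ) ((φ g⁻¹) h)
    have h4 := hg u hu
    rw [Cfsg.Agent.Helper18.mem_inertia, Cfsg.Agent.Helper5.conjFun_eq_comp] at h4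
    have h5 := congrFun h4 ((φ g⁻¹) h)
    rw [Function.comp_apply] at h5
    rw [← h5]
    refine congrArg _ ?_
    apply Subtype.ext
    simp only [hφ, MulAut.conjNormal_apply]
    group
  have key := orbit_meets_fixed (Γ := Γ) p P h1 h2 h3
  have hyr : IsRealCls (ConjClasses.mk k) := by
    intro k' hk'
    rw [ConjClasses.mk_eq_mk_iff_isConj] at hk'
    have h4 : IsConj k⁻¹ k'⁻¹ := by
      obtain ⟨z, hz⟩ := isConj_iff.mp hk'
      apply isConj_iff.mpr
      refine ⟨z⁻¹, ?_⟩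
      rw [← hz]; group
    exact hk'.trans (hk.trans h4)
  obtain ⟨g, hg⟩ := key ⟨ConjClasses.mk k, hyr⟩
  -- the class of `g k g⁻¹` is `P`-invariant
  set ψ : ↥(P : Subgroup Γ) →* MulAut K := φ.comp (P : Subgroup Γ).subtype with hψ
  letI : Fintype (fixedSub ψ) := Fintype.ofFinite _
  have hinv : ClsInv ψ (ConjClasses.mk (φ g k)) := by
    intro a h hh
    have h4 := (realCls_smul_eq_iff φ (a : Γ) (g • (⟨ConjClasses.mk k, hyr⟩ :
      {c : ConjClasses K // IsRealCls c}))).mp (hg a a.2)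
    exact h4 h hh
  obtain ⟨c, hc⟩ := exists_fixedSub_in_class ψ P.isPGroup' hK _ hinv
  rw [ConjClasses.mk_eq_mk_iff_isConj] at hc
  obtain ⟨z, hz⟩ := isConj_iff.mp hc.symm
  refine ⟨(z : Γ) * g, fun u hu => ?_⟩
  have e1 : (z : Γ) * g * (k : Γ) * ((z : Γ) * g)⁻¹ = ((c : K) : Γ) := by
    have := congrArg (fun t : K => (t : Γ)) hz
    simp only [Subgroup.coe_mul, Subgroup.coe_inv] at this
    rw [← this]
    show _ = (z : Γ) * ((φ g k : K) : Γ) * (z : Γ)⁻¹
    rw [hφ, MulAut.conjNormal_apply]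
    group
  rw [e1]
  have h6 := c.2 ⟨u, hu⟩
  have h7 := congrArg (fun t : K => (t : Γ)) h6
  exact h7

end Main

end Cfsg.Agent.Helper24.RealNorm
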