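import Mathlib
import Cfsg.Prelude.Def_Blocks
import Cfsg.Agent.Lib.Helper24.RealNormD

/-!
# Real characters over a normal subgroup of odd index (helper24's shared library)

`K ⊴ Γ` of odd index.  Every real `θ ∈ Irr(K)` lies under a unique real `χ ∈ Irr(Γ)`, every real
`χ ∈ Irr(Γ)` lies over a real `θ ∈ Irr(K)`, and `[χ_K, θ] = 1`; the proof is by counting (real
classes of `Γ` are the `Γ`-orbits of real classes of `K`, Brauer's permutation lemma, Burnside).
-/

set_option autoImplicit false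
set_option linter.style.haveILetI false
set_option linter.unusedSectionVars false

namespace Cfsg.Agent.Helper24.RealNorm

open Cfsg Cfsg.Agent.Helper24 Cfsg.Agent.Helper24.Glaub
open scoped ComplexConjugate

universe u

section LemmaU

variable {Γ : Type u} [Group Γ] [Fintype Γ] (K : Subgroup Γ) [hKn : K.Normal] [Fintype K]

/-- Real elements lie in a normal subgroup of odd index, and are real there. -/
theorem real_mem_of_odd_index (hodd : Odd K.index) {x : Γ} (hx : IsConj x x⁻¹) :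
    ∃ hxK : x ∈ K, IsConj (⟨x, hxK⟩ : K) (⟨x, hxK⟩ : K)⁻¹ := by
  obtain ⟨g₀, hg₀⟩ := isConj_iff.mp hx
  have hpow : ∀ j : ℕ, g₀ ^ (2 * j + 1) * x * (g₀ ^ (2 * j + 1))⁻¹ = x⁻¹ := by
    intro j
    induction j with
    | zero => simpa using hg₀
    | succ j ih =>
      have e : g₀ ^ (2 * (j + 1) + 1) = g₀ * g₀ * g₀ ^ (2 * j + 1) := by
        rw [show 2 * (j + 1) + 1 = 2 + (2 * j + 1) by ring, pow_add, pow_two]
      have e2 : g₀ * g₀ * g₀ ^ (2 * j + 1) * x * (g₀ * g₀ * g₀ ^ (2 * j + 1))⁻¹ =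
          g₀ * (g₀ * (g₀ ^ (2 * j + 1) * x * (g₀ ^ (2 * j + 1))⁻¹) * g₀⁻¹) * g₀⁻¹ := by group
      rw [e, e2, ih]
      have e3 : g₀ * x⁻¹ * g₀⁻¹ = x := by
        have h5 : (g₀ * x * g₀⁻¹)⁻¹ = x := by rw [hg₀, inv_inv]
        calc g₀ * x⁻¹ * g₀⁻¹ = (g₀ * x * g₀⁻¹)⁻¹ := by group
          _ = x := h5
      rw [e3, hg₀]
  obtain ⟨j, hj⟩ := hodd
  have hodd : Odd K.index := ⟨j, hj⟩
  set t : Γ := g₀ ^ K.index with ht
  have htK : t ∈ K := Subgroup.pow_index_mem K g₀
  have htx : t * x * t⁻¹ = x⁻¹ := by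
    rw [ht, hj]
    exact hpow j
  have hxK : x ∈ K := by
    apply Cfsg.Agent.Helper24.OddReal.mem_of_sq_mem K hodd
    have h1 : x⁻¹ * x⁻¹ ∈ K := by
      have e : x⁻¹ * x⁻¹ = t * (x * t⁻¹ * x⁻¹) := by
        rw [← htx]; group
      rw [e]
      exact K.mul_mem htK (hKn.conj_mem _ (K.inv_mem htK) x)
    have := K.inv_mem h1
    simpa using this
  refine ⟨hxK, ?_⟩
  apply isConj_iff.mpr
  refine ⟨⟨t, htK⟩, ?_⟩
  apply Subtype.ext
  exact htx

/-- Every real irreducible character of `K` lies under a real irreducible character. -/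
theorem exists_real_over (hodd : Odd K.index) (θ : IrrCharacter K)
    (hθ : IsRealFun (θ : K → ℂ)) :
    ∃ χ : IrrCharacter Γ, IsRealFun (χ : Γ → ℂ) ∧
      classInner (fun n : K => (χ : Γ → ℂ) n) (θ : K → ℂ) ≠ 0 := by
  classical
  letI : Fintype (IrrCharacter Γ) := irrFintype
  have hsum := Cfsg.Agent.Helper24.OddReal.sum_fsInd_inner K hodd θ.2
  have hne : fsInd (θ : K → ℂ) ≠ 0 :=
    (fsInd_ne_zero_iff θ.2).mpr (fun g => Complex.conj_eq_iff_im.mpr (hθ g))
  rw [← hsum] at hne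
  obtain ⟨χ, -, hχ⟩ := Finset.exists_ne_zero_of_sum_ne_zero hne
  have hχ1 : fsInd (χ : Γ → ℂ) ≠ 0 := left_ne_zero_of_mul hχ
  have hχ2 : classInner (fun n : K => (χ : Γ → ℂ) n) (θ : K → ℂ) ≠ 0 := right_ne_zero_of_mul hχ
  exact ⟨χ, fun g => Complex.conj_eq_iff_im.mp ((fsInd_ne_zero_iff χ.2).mp hχ1 g), hχ2⟩

/-- Fixed point numbers of single elements on real characters and real classes of `K`. -/
theorem card_fixedBy_real_eq (hodd : Odd K.index) (g : Γ) :
    letI := realIrrAct (MulAut.conjNormal : Γ →* MulAut K)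
    letI := realClsAct (MulAut.conjNormal : Γ →* MulAut K)
    Nat.card {x : {θ : IrrCharacter K // IsRealFun (θ : K → ℂ)} // g • x = x} =
      Nat.card {y : {c : ConjClasses K // IsRealCls c} // g • y = y} := by
  letI iX := realIrrAct (MulAut.conjNormal : Γ →* MulAut K)
  letI iY := realClsAct (MulAut.conjNormal : Γ →* MulAut K)
  have e1 := (Equiv.subtypeEquivRight
      (fun x => realIrr_smul_eq_iff (MulAut.conjNormal : Γ →* MulAut K) g x)).trans
    (Equiv.subtypeSubtypeEquivSubtypeInter (fun θ : IrrCharacter K => IsRealFun (θ : K → ℂ))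
      (fun θ : IrrCharacter K => ∀ h, (θ : K → ℂ) ((MulAut.conjNormal g : MulAut K) h) =
        (θ : K → ℂ) h))
  have e2 := (Equiv.subtypeEquivRight
      (fun y => realCls_smul_eq_iff (MulAut.conjNormal : Γ →* MulAut K) g y)).trans
    (Equiv.subtypeSubtypeEquivSubtypeInter (fun c : ConjClasses K => IsRealCls c)
      (fun c : ConjClasses K => ∀ h, ConjClasses.mk h = c →
        ConjClasses.mk ((MulAut.conjNormal g : MulAut K) h) = c))
  rw [Nat.card_congr e1, Nat.card_congr e2]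
  exact card_fixed_single K hodd g

/-- The real classes of `Γ` correspond to the orbits of `Γ` on the real classes of `K`. -/
theorem card_real_cls_eq_card_orbits (hodd : Odd K.index) :
    letI := realClsAct (MulAut.conjNormal : Γ →* MulAut K)
    Nat.card (Quotient (MulAction.orbitRel Γ {c : ConjClasses K // IsRealCls c})) =
      Nat.card {C : ConjClasses Γ // IsRealCls C} := by
  letI iY := realClsAct (MulAut.conjNormal : Γ →* MulAut K)
  have hwd : ∀ c : {c : ConjClasses K // IsRealCls c},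
      IsRealCls (ConjClasses.map K.subtype c.1) := by
    rintro ⟨c, hc⟩
    obtain ⟨k, rfl⟩ := ConjClasses.exists_rep c
    intro x hx
    have hx' : ConjClasses.mk x = ConjClasses.mk (k : Γ) := hx
    rw [ConjClasses.mk_eq_mk_iff_isConj] at hx'
    have h1 : IsConj k k⁻¹ := hc k rfl
    have h2 : IsConj (k : Γ) ((k : Γ)⁻¹) := by
      have := K.subtype.map_isConj h1
      simpa using this
    have h3 : IsConj ((k : Γ)⁻¹) x⁻¹ := by
      obtain ⟨g, hg⟩ := isConj_iff.mp hx'
      apply isConj_iff.mpr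
      refine ⟨g⁻¹, ?_⟩
      rw [← hg]; group
    exact hx'.trans (h2.trans h3)
  let Ψ₀ : {c : ConjClasses K // IsRealCls c} → {C : ConjClasses Γ // IsRealCls C} :=
    fun c => ⟨ConjClasses.map K.subtype c.1, hwd c⟩
  have hresp : ∀ a b : {c : ConjClasses K // IsRealCls c},
      (MulAction.orbitRel Γ {c : ConjClasses K // IsRealCls c}) a b → Ψ₀ a = Ψ₀ b := by
    rintro a ⟨b, hb⟩ ⟨g, hg⟩
    obtain ⟨k, rfl⟩ := ConjClasses.exists_rep b
    apply Subtype.ext
    have hg' : ConjClasses.mk ((MulAut.conjNormal g : MulAut K) k) = a.1 :=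
      congrArg Subtype.val hg
    show ConjClasses.map K.subtype a.1 = ConjClasses.mk (k : Γ)
    rw [← hg']
    show ConjClasses.mk (((MulAut.conjNormal g : MulAut K) k : K) : Γ) = ConjClasses.mk (k : Γ)
    rw [MulAut.conjNormal_apply, ConjClasses.mk_eq_mk_iff_isConj]
    exact (isConj_iff.mpr ⟨g, rfl⟩).symm
  apply Nat.card_congr (Equiv.ofBijective (Quotient.lift Ψ₀ hresp) ⟨?_, ?_⟩)
  · intro a b hab
    induction a using Quotient.inductionOn with | _ a => ?_
    induction b using Quotient.inductionOn with | _ b => ?_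
    have h1 : Ψ₀ a = Ψ₀ b := hab
    obtain ⟨a, ha⟩ := a
    obtain ⟨b, hb⟩ := b
    obtain ⟨k, rfl⟩ := ConjClasses.exists_rep a
    obtain ⟨k', rfl⟩ := ConjClasses.exists_rep b
    have h2 : ConjClasses.mk (k : Γ) = ConjClasses.mk (k' : Γ) := congrArg Subtype.val h1
    rw [ConjClasses.mk_eq_mk_iff_isConj] at h2
    obtain ⟨g, hg⟩ := isConj_iff.mp h2
    apply Quotient.sound
    refine ⟨g⁻¹, ?_⟩
    apply Subtype.ext
    show ConjClasses.mk ((MulAut.conjNormal g⁻¹ : MulAut K) k') = ConjClasses.mk k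
    congr 1
    apply Subtype.ext
    rw [MulAut.conjNormal_apply, ← hg]
    group
  · rintro ⟨C, hC⟩
    obtain ⟨x, rfl⟩ := ConjClasses.exists_rep C
    obtain ⟨hxK, hxr⟩ := real_mem_of_odd_index K hodd (hC x rfl)
    have hreal : IsRealCls (ConjClasses.mk (⟨x, hxK⟩ : K)) := by
      intro k' hk'
      rw [ConjClasses.mk_eq_mk_iff_isConj] at hk'
      have h4 : IsConj (⟨x, hxK⟩ : K)⁻¹ k'⁻¹ := by
        obtain ⟨z, hz⟩ := isConj_iff.mp hk'
        apply isConj_iff.mpr
        refine ⟨z⁻¹, ?_⟩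
        rw [← hz]; group
      exact hk'.trans (hxr.trans h4)
    refine ⟨Quotient.mk _ ⟨ConjClasses.mk ⟨x, hxK⟩, hreal⟩, ?_⟩
    apply Subtype.ext
    rfl

/-- The number of real irreducible characters of `Γ` is the number of orbits of `Γ` on the real
irreducible characters of `K`. -/
theorem card_real_irr_eq_card_orbits (hodd : Odd K.index) :
    letI := realIrrAct (MulAut.conjNormal : Γ →* MulAut K)
    Nat.card {χ : IrrCharacter Γ // IsRealFun (χ : Γ → ℂ)} =
      Nat.card (Quotient (MulAction.orbitRel Γ {θ : IrrCharacter K // IsRealFun (θ : K → ℂ)})) := by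
  classical
  letI iX := realIrrAct (MulAut.conjNormal : Γ →* MulAut K)
  letI iY := realClsAct (MulAut.conjNormal : Γ →* MulAut K)
  haveI : Finite (IrrCharacter K) := (irrFintype (G := K)).finite
  rw [card_real_irr_eq_card_real_cls, ← card_real_cls_eq_card_orbits K hodd]
  exact (card_orbits_eq_of_card_fixed (Δ := Γ) (fun g => card_fixedBy_real_eq K hodd g)).symm

/-- Two real constituents of the restriction of an irreducible character lie in one orbit. -/
theorem orbit_eq_of_over {χ : IrrCharacter Γ}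
    {θ θ' : {θ : IrrCharacter K // IsRealFun (θ : K → ℂ)}}
    (h : classInner (fun n : K => (χ : Γ → ℂ) n) (θ.1 : K → ℂ) ≠ 0)
    (h' : classInner (fun n : K => (χ : Γ → ℂ) n) (θ'.1 : K → ℂ) ≠ 0) :
    letI := realIrrAct (MulAut.conjNormal : Γ →* MulAut K)
    (Quotient.mk (MulAction.orbitRel Γ {θ : IrrCharacter K // IsRealFun (θ : K → ℂ)}) θ) =
      Quotient.mk (MulAction.orbitRel Γ {θ : IrrCharacter K // IsRealFun (θ : K → ℂ)}) θ' := by
  letI iX := realIrrAct (MulAut.conjNormal : Γ →* MulAut K)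
  obtain ⟨x, hx⟩ := Cfsg.Agent.Helper5.clifford_conj K χ.2 θ.1.2 θ'.1.2 h h'
  apply Quotient.sound
  refine ⟨x, ?_⟩
  apply Subtype.ext; apply Subtype.ext
  funext k
  show (θ'.1 : K → ℂ) ((MulAut.conjNormal x⁻¹ : MulAut K) k) = (θ.1 : K → ℂ) k
  rw [← hx, Cfsg.Agent.Helper5.conjFun_eq_comp, Function.comp_apply, ← MulAut.mul_apply,
    ← map_mul, mul_inv_cancel, map_one, MulAut.one_apply]

/-- **Real characters over a normal subgroup of odd index**: existence of a real constituent and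
uniqueness of the real character over a real character. -/
theorem real_over_unique (hodd : Odd K.index) :
    (∀ χ : IrrCharacter Γ, IsRealFun (χ : Γ → ℂ) → ∃ θ : IrrCharacter K,
      IsRealFun (θ : K → ℂ) ∧ classInner (fun n : K => (χ : Γ → ℂ) n) (θ : K → ℂ) ≠ 0) ∧
    (∀ χ χ' : IrrCharacter Γ, IsRealFun (χ : Γ → ℂ) → IsRealFun (χ' : Γ → ℂ) →
      ∀ θ : IrrCharacter K, IsRealFun (θ : K → ℂ) →
        classInner (fun n : K => (χ : Γ → ℂ) n) (θ : K → ℂ) ≠ 0 →
        classInner (fun n : K => (χ' : Γ → ℂ) n) (θ : K → ℂ) ≠ 0 → χ = χ') := by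
  classical
  letI iX := realIrrAct (MulAut.conjNormal : Γ →* MulAut K)
  haveI : Finite (IrrCharacter K) := (irrFintype (G := K)).finite
  haveI : Finite (IrrCharacter Γ) := (irrFintype (G := Γ)).finite
  have hex : ∀ o : Quotient (MulAction.orbitRel Γ {θ : IrrCharacter K // IsRealFun (θ : K → ℂ)}),
      ∃ χ : {χ : IrrCharacter Γ // IsRealFun (χ : Γ → ℂ)},
        classInner (fun n : K => (χ.1 : Γ → ℂ) n) ((Quotient.out o).1 : K → ℂ) ≠ 0 := by
    intro o
    obtain ⟨χ, hχ, hov⟩ := exists_real_over K hodd (Quotient.out o).1 (Quotient.out o).2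
    exact ⟨⟨χ, hχ⟩, hov⟩
  choose Φ hΦ using hex
  have hinj : Function.Injective Φ := by
    intro o o' h
    have h1 := hΦ o
    have h2 := hΦ o'
    rw [← h] at h2
    have := orbit_eq_of_over K h1 h2
    rw [Quotient.out_eq, Quotient.out_eq] at this
    exact this
  have hbij : Function.Bijective Φ :=
    hinj.bijective_of_nat_card_le (le_of_eq (card_real_irr_eq_card_orbits K hodd))
  have hover : ∀ (χ : {χ : IrrCharacter Γ // IsRealFun (χ : Γ → ℂ)})
      (θ : {θ : IrrCharacter K // IsRealFun (θ : K → ℂ)}),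
      classInner (fun n : K => (χ.1 : Γ → ℂ) n) (θ.1 : K → ℂ) ≠ 0 →
      ∀ o, Φ o = χ → o = Quotient.mk _ θ := by
    intro χ θ hov o ho
    have h1 := hΦ o
    rw [ho] at h1
    have := orbit_eq_of_over K h1 hov
    rw [Quotient.out_eq] at this
    exact this
  constructor
  · intro χ hχ
    obtain ⟨o, ho⟩ := hbij.2 ⟨χ, hχ⟩
    refine ⟨(Quotient.out o).1, (Quotient.out o).2, ?_⟩
    have := hΦ o
    rw [ho] at this
    exact this
  · intro χ χ' hχ hχ' θ hθ hov hov'
    obtain ⟨o, ho⟩ := hbij.2 ⟨χ, hχ⟩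
    obtain ⟨o', ho'⟩ := hbij.2 ⟨χ', hχ'⟩
    have h1 := hover ⟨χ, hχ⟩ ⟨θ, hθ⟩ hov o ho
    have h2 := hover ⟨χ', hχ'⟩ ⟨θ, hθ⟩ hov' o' ho'
    have h3 : (⟨χ, hχ⟩ : {χ : IrrCharacter Γ // IsRealFun (χ : Γ → ℂ)}) = ⟨χ', hχ'⟩ := by
      rw [← ho, ← ho', h1, h2]
    exact congrArg Subtype.val h3

/-- The multiplicity of a real character of `K` in a real character of `Γ` is one. -/
theorem inner_eq_one_of_real (hodd : Odd K.index) (χ : IrrCharacter Γ)
    (hχ : IsRealFun (χ : Γ → ℂ)) (θ : IrrCharacter K) (hθ : IsRealFun (θ : K → ℂ))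
    (hov : classInner (fun n : K => (χ : Γ → ℂ) n) (θ : K → ℂ) ≠ 0) :
    classInner (fun n : K => (χ : Γ → ℂ) n) (θ : K → ℂ) = 1 := by
  classical
  letI : Fintype (IrrCharacter Γ) := irrFintype
  letI : Fintype (IrrCharacter K) := irrFintype
  have hsum := Cfsg.Agent.Helper24.OddReal.sum_fsInd_inner K hodd θ.2
  have huniq := (real_over_unique K hodd).2
  rw [Finset.sum_eq_single χ] at hsum
  · obtain ⟨n, hn⟩ := classInner_char_nat
      (isCharacter_restrict K (isCharacter_of_isIrrCharacter χ.2))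
      (isCharacter_of_isIrrCharacter θ.2)
    rw [hn] at hsum hov ⊢
    have hn0 : n ≠ 0 := by
      intro h
      apply hov
      rw [h]; simp
    have hθc : ∀ g, conj ((θ : K → ℂ) g) = (θ : K → ℂ) g :=
      fun g => Complex.conj_eq_iff_im.mpr (hθ g)
    have hχc : ∀ g, conj ((χ : Γ → ℂ) g) = (χ : Γ → ℂ) g :=
      fun g => Complex.conj_eq_iff_im.mpr (hχ g)
    rcases fsInd_cases θ.2 with ⟨-, h1 | h1⟩ | ⟨h1, -⟩
    · rcases fsInd_cases χ.2 with ⟨-, h2 | h2⟩ | ⟨h2, -⟩
      · rw [h1, h2, one_mul] at hsum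
        exact hsum
      · rw [h1, h2] at hsum
        exfalso
        have h3 : ((n : ℤ) : ℂ) = ((-1 : ℤ) : ℂ) := by
          push_cast
          linear_combination -hsum
        have h4 : (n : ℤ) = -1 := by exact_mod_cast h3
        omega
      · exact absurd hχc h2
    · rcases fsInd_cases χ.2 with ⟨-, h2 | h2⟩ | ⟨h2, -⟩
      · rw [h1, h2, one_mul] at hsum
        exfalso
        have h3 : ((n : ℤ) : ℂ) = ((-1 : ℤ) : ℂ) := by
          push_cast
          exact hsum
        have h4 : (n : ℤ) = -1 := by exact_mod_cast h3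
        omega
      · rw [h1, h2] at hsum
        have h3 : (n : ℂ) = 1 := by linear_combination -hsum
        exact h3
      · exact absurd hχc h2
    · exact absurd hθc h1
  · intro χ' _ hne
    by_cases hr : IsRealFun (χ' : Γ → ℂ)
    · by_cases hov' : classInner (fun n : K => (χ' : Γ → ℂ) n) (θ : K → ℂ) = 0
      · rw [hov', mul_zero]
      · exact absurd (huniq χ' χ hr hχ θ hθ hov' hov) hne
    · have h0 : fsInd (χ' : Γ → ℂ) = 0 := by
        by_contra h
        apply hr
        intro g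
        exact Complex.conj_eq_iff_im.mp ((fsInd_ne_zero_iff χ'.2).mp h g)
      rw [h0, zero_mul]
  · intro h
    exact absurd (Finset.mem_univ χ) h

/-- The degree of the real character over a real character of `K`. -/
theorem degree_real_over (hodd : Odd K.index) (χ : IrrCharacter Γ)
    (hχ : IsRealFun (χ : Γ → ℂ)) (θ : IrrCharacter K) (hθ : IsRealFun (θ : K → ℂ))
    (hov : classInner (fun n : K => (χ : Γ → ℂ) n) (θ : K → ℂ) ≠ 0) :
    charDegree (χ : Γ → ℂ) =
      (Cfsg.Agent.Helper18.inertia K (θ : K → ℂ)).index * charDegree (θ : K → ℂ) := by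
  have hd := Cfsg.Agent.Helper18.degree_eq_of_constituent K χ.2 θ.2 hov
  rw [inner_eq_one_of_real K hodd χ hχ θ hθ hov, one_mul, irr_one_eq_charDegree χ.2,
    irr_one_eq_charDegree θ.2] at hd
  exact_mod_cast hd

end LemmaU

end Cfsg.Agent.Helper24.RealNorm
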