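import Mathlib
import Cfsg.Prelude.Def_Blocks
import Cfsg.Agent.Lib.Helper5.RelDegree
import Cfsg.Agent.Lib.Helper18.CliffordCorr2
import Cfsg.Agent.Lib.Helper24.RealBijA

/-!
# Odd-degree characters and Sylow `2`-normalizers in solvable groups, part A
(helper24's shared library)

Basic tools: the "signature" `Sig` (the identity or complex conjugation acting on class functions),
a weighted counting lemma, and irreducibility of restrictions of odd-degree characters to normal
subgroups of `2`-power index.
-/

set_option autoImplicit false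
set_option linter.style.haveILetI false
set_option linter.unusedSectionVars false

namespace Cfsg.Agent.Helper24.OddMcKay

open Cfsg Cfsg.Agent.Helper24
open scoped ComplexConjugate

universe u

/-- A field automorphism of `ℂ` of order at most two, commuting with complex conjugation and
preserving irreducibility of characters: in practice the identity or complex conjugation. -/
structure Sig : Type (u + 1) where
  /-- the automorphism -/
  σ : ℂ →+* ℂ
  invol : ∀ z, σ (σ z) = z
  conj_comm : ∀ z, σ ((starRingEnd ℂ) z) = (starRingEnd ℂ) (σ z)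
  irr : ∀ (H : Type u) [Group H] [Finite H] (χ : H → ℂ), IsIrrCharacter H χ →
    IsIrrCharacter H (fun h => σ (χ h))

/-- The identity signature. -/
def Sig.one : Sig.{u} where
  σ := RingHom.id ℂ
  invol _ := rfl
  conj_comm _ := rfl
  irr _ _ _ _ h := h

/-- Complex conjugation. -/
noncomputable def Sig.conj : Sig.{u} where
  σ := starRingEnd ℂ
  invol z := Complex.conj_conj z
  conj_comm _ := rfl
  irr H _ _ _ h := by
    letI : Fintype H := Fintype.ofFinite H
    letI : Fintype (IrrCharacter H) := irrFintype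
    exact isIrrCharacter_conj h

section Basic

variable (s : Sig.{u}) {H : Type u} [Group H]

/-- Apply the signature to a function. -/
def Sig.ap (f : H → ℂ) : H → ℂ := fun h => s.σ (f h)

theorem Sig.ap_apply (f : H → ℂ) (h : H) : s.ap f h = s.σ (f h) := rfl

theorem Sig.ap_ap (f : H → ℂ) : s.ap (s.ap f) = f := by
  funext h
  exact s.invol _

theorem Sig.ap_injective : Function.Injective (s.ap : (H → ℂ) → (H → ℂ)) := by
  intro f g hfg
  rw [← s.ap_ap f, hfg, s.ap_ap]

theorem Sig.σ_injective : Function.Injective s.σ := by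
  intro a b hab
  rw [← s.invol a, hab, s.invol]

/-- A function fixed by the signature. -/
def IsFix (f : H → ℂ) : Prop := s.ap f = f

theorem isFix_one (f : H → ℂ) : IsFix Sig.one f := rfl

theorem isFix_conj_iff (f : H → ℂ) : IsFix Sig.conj f ↔ ∀ h, (f h).im = 0 := by
  constructor
  · intro hf h
    have := congrFun hf h
    exact Complex.conj_eq_iff_im.mp this
  · intro hf
    funext h
    exact Complex.conj_eq_iff_im.mpr (hf h)

theorem Sig.classInner_ap [Fintype H] (α β : H → ℂ) :
    classInner (s.ap α) (s.ap β) = s.σ (classInner α β) := by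
  simp only [classInner, Sig.ap, map_mul, map_inv₀, map_natCast, map_sum, s.conj_comm]

theorem Sig.isIrr_ap [Finite H] {χ : H → ℂ} (h : IsIrrCharacter H χ) :
    IsIrrCharacter H (s.ap χ) := s.irr H χ h

theorem Sig.σ_natCast (n : ℕ) : s.σ (n : ℂ) = n := map_natCast s.σ n

theorem Sig.ap_one_of_char [Finite H] {χ : H → ℂ} (h : IsCharacter H χ) : s.ap χ 1 = χ 1 := by
  obtain ⟨n, ρ, rfl⟩ := h
  rw [Sig.ap_apply, Representation.char_one]
  exact map_natCast s.σ _

theorem Sig.charDegree_ap [Finite H] {χ : H → ℂ} (h : IsCharacter H χ) :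
    charDegree (s.ap χ) = charDegree χ := by
  unfold charDegree
  rw [s.ap_one_of_char h]

/-- The signature applied to an irreducible character. -/
def Sig.apIrr [Finite H] (χ : IrrCharacter H) : IrrCharacter H := ⟨s.ap χ.1, s.isIrr_ap χ.2⟩

theorem Sig.apIrr_apIrr [Finite H] (χ : IrrCharacter H) : s.apIrr (s.apIrr χ) = χ :=
  Subtype.ext (s.ap_ap χ.1)

/-- If `ξ` is fixed, then `η` and its image have the same multiplicity in `ξ` up to `σ`. -/
theorem Sig.classInner_fix_ap [Fintype H] {ξ : H → ℂ} (hξ : IsFix s ξ) (η : H → ℂ) :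
    classInner ξ (s.ap η) = s.σ (classInner ξ η) := by
  conv_lhs => rw [← hξ]
  exact s.classInner_ap ξ η

theorem Sig.classInner_fix_ap_ne_zero [Fintype H] {ξ : H → ℂ} (hξ : IsFix s ξ) (η : H → ℂ) :
    classInner ξ (s.ap η) ≠ 0 ↔ classInner ξ η ≠ 0 := by
  rw [s.classInner_fix_ap hξ]
  constructor
  · intro h h0
    apply h
    rw [h0, map_zero]
  · intro h h0
    apply h
    apply s.σ_injective
    rw [h0, map_zero]

end Basic

section Weights

/-- **Weighted counting.** If every `x` is related to exactly one class of an equivalence relation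
on `A`, then `|X|` is the sum over `a` of the number of `x` related to `a`, divided by the size of
the class of `a`. -/
theorem card_eq_sum_weights {X A : Type*} [Fintype X] [Fintype A] (r : A → A → Prop)
    (hsymm : ∀ a b, r a b → r b a) (htrans : ∀ a b c, r a b → r b c → r a c)
    (ρ : X → A → Prop) (h1 : ∀ x, ∃ a, ρ x a)
    (h2 : ∀ x a a', ρ x a → (ρ x a' ↔ r a a')) :
    (Fintype.card X : ℚ) =
      ∑ a : A, (Nat.card {x // ρ x a} : ℚ) / (Nat.card {a' // r a a'} : ℚ) := by
  classical
  have hnum : ∀ a : A, (Nat.card {x // ρ x a} : ℚ) = ∑ x : X, if ρ x a then (1 : ℚ) else 0 := by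
    intro a
    rw [Nat.card_eq_fintype_card, Fintype.card_subtype, Finset.sum_boole]
  have hstep : ∀ a : A, (Nat.card {x // ρ x a} : ℚ) / (Nat.card {a' // r a a'} : ℚ) =
      ∑ x : X, if ρ x a then (1 : ℚ) / (Nat.card {a' // r a a'} : ℚ) else 0 := by
    intro a
    rw [hnum a, Finset.sum_div]
    refine Finset.sum_congr rfl fun x _ => ?_
    split_ifs <;> simp
  rw [Finset.sum_congr rfl (fun a _ => hstep a), Finset.sum_comm]
  have hone : ∀ x : X, (∑ a : A, if ρ x a then (1 : ℚ) / (Nat.card {a' // r a a'} : ℚ) else 0)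
      = 1 := by
    intro x
    obtain ⟨a₀, ha₀⟩ := h1 x
    have hrefl : r a₀ a₀ := (h2 x a₀ a₀ ha₀).mp ha₀
    have hw : ∀ a, ρ x a → Nat.card {a' // r a a'} = Nat.card {a' // r a₀ a'} := by
      intro a ha
      have hra : r a₀ a := (h2 x a₀ a ha₀).mp ha
      apply Nat.card_congr
      refine Equiv.subtypeEquivRight fun a' => ?_
      constructor
      · intro h
        exact htrans _ _ _ hra h
      · intro h
        exact htrans _ _ _ (hsymm _ _ hra) h
    have hrew : ∀ a : A, (if ρ x a then (1 : ℚ) / (Nat.card {a' // r a a'} : ℚ) else 0) =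
        if r a₀ a then (1 : ℚ) / (Nat.card {a' // r a₀ a'} : ℚ) else 0 := by
      intro a
      by_cases ha : ρ x a
      · rw [if_pos ha, if_pos ((h2 x a₀ a ha₀).mp ha), hw a ha]
      · rw [if_neg ha, if_neg (fun h => ha ((h2 x a₀ a ha₀).mpr h))]
    rw [Finset.sum_congr rfl (fun a _ => hrew a), ← Finset.sum_filter, Finset.sum_const,
      nsmul_eq_mul]
    have hc : (Finset.univ.filter fun a => r a₀ a).card = Nat.card {a' // r a₀ a'} := by
      rw [Nat.card_eq_fintype_card, Fintype.card_subtype]
    rw [hc]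
    have hpos : (Nat.card {a' // r a₀ a'} : ℚ) ≠ 0 := by
      have : 0 < Nat.card {a' // r a₀ a'} := Nat.card_pos_iff.mpr ⟨⟨⟨a₀, hrefl⟩⟩, inferInstance⟩
      exact_mod_cast this.ne'
    field_simp
  rw [Finset.sum_congr rfl (fun x _ => hone x)]
  simp

/-- Comparison form: two sets related to the same weighted classes with the same fibre counts
have the same size. -/
theorem card_eq_of_weights {X Y A : Type*} [Finite X] [Finite Y] [Finite A] (r : A → A → Prop)
    (hsymm : ∀ a b, r a b → r b a) (htrans : ∀ a b c, r a b → r b c → r a c)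
    (ρ : X → A → Prop) (h1 : ∀ x, ∃ a, ρ x a)
    (h2 : ∀ x a a', ρ x a → (ρ x a' ↔ r a a'))
    (ρ' : Y → A → Prop) (h1' : ∀ y, ∃ a, ρ' y a)
    (h2' : ∀ y a a', ρ' y a → (ρ' y a' ↔ r a a'))
    (hfib : ∀ a, Nat.card {x // ρ x a} = Nat.card {y // ρ' y a}) :
    Nat.card X = Nat.card Y := by
  classical
  letI : Fintype X := Fintype.ofFinite X
  letI : Fintype Y := Fintype.ofFinite Y
  letI : Fintype A := Fintype.ofFinite A
  have hX := card_eq_sum_weights r hsymm htrans ρ h1 h2
  have hY := card_eq_sum_weights r hsymm htrans ρ' h1' h2'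
  have : (Fintype.card X : ℚ) = Fintype.card Y := by
    rw [hX, hY]
    refine Finset.sum_congr rfl fun a _ => ?_
    rw [hfib a]
  rw [Nat.card_eq_fintype_card, Nat.card_eq_fintype_card]
  exact_mod_cast this

end Weights

section OddRestrict

open Cfsg.Agent.Helper5 Cfsg.Agent.Helper18

variable {G : Type u} [Group G] [Finite G]

theorem odd_charDegree_ne_zero {χ : G → ℂ} (hodd : Odd (charDegree χ)) : χ 1 ≠ 0 := by
  intro h
  unfold charDegree at hodd
  rw [h] at hodd
  simp at hodd

/-- An irreducible character of odd degree restricts irreducibly to a normal subgroup of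
`2`-power index. -/
theorem restrict_irr_of_odd (N : Subgroup G) [hN : N.Normal] (hidx : ∃ k : ℕ, N.index = 2 ^ k)
    {χ : G → ℂ} (hχ : IsIrrCharacter G χ) (hodd : Odd (charDegree χ)) :
    IsIrrCharacter N (fun n : N => χ n) := by
  classical
  letI : Fintype G := Fintype.ofFinite G
  letI : Fintype N := Fintype.ofFinite N
  have hχc := isCharacter_of_isIrrCharacter hχ
  have hresc : IsCharacter N (fun n : N => χ n) := isCharacter_restrict N hχc
  have hne : (fun n : N => χ n) ≠ 0 := by
    intro h
    have := congrFun h 1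
    exact odd_charDegree_ne_zero hodd this
  obtain ⟨ϑ, hϑ, hcon⟩ := exists_constituent hresc hne
  obtain ⟨k, hk, hkd⟩ := degree_eq_mul_of_constituent N hχ hϑ hcon
  obtain ⟨j, hj⟩ := hidx
  rw [irr_one_eq_charDegree hχ, irr_one_eq_charDegree hϑ] at hk
  have hk' : charDegree χ = k * charDegree ϑ := by exact_mod_cast hk
  have hkodd : Odd k := by
    rw [hk'] at hodd
    exact (Nat.odd_mul.mp hodd).1
  have hk1 : k = 1 := by
    rw [hj] at hkd
    obtain ⟨i, -, rfl⟩ := (Nat.dvd_prime_pow Nat.prime_two).mp hkd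
    rcases Nat.eq_zero_or_pos i with rfl | hi
    · simp
    · exfalso
      have : Even (2 ^ i) := (Nat.even_pow' hi.ne').mpr even_two
      exact (Nat.not_even_iff_odd.mpr hkodd) this
  subst hk1
  rw [one_mul] at hk'
  obtain ⟨ρ, hρ, hdec⟩ := exists_add_of_constituent hresc hϑ hcon
  have hρ1 : ρ 1 = 0 := by
    have h1 := congrFun hdec 1
    simp only [Pi.add_apply] at h1
    have h2 : χ 1 = ϑ 1 := by
      rw [irr_one_eq_charDegree hχ, irr_one_eq_charDegree hϑ, hk']
    have h3 : (χ : G → ℂ) ((1 : N) : G) = χ 1 := rfl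
    rw [h3, h2] at h1
    have : ϑ 1 + ρ 1 = ϑ 1 + 0 := by rw [add_zero]; exact h1.symm
    exact add_left_cancel this
  have hρ0 : ρ = 0 := char_eq_zero_of_one_eq_zero hρ hρ1
  rw [hdec, hρ0, add_zero]
  exact hϑ

/-- Relative form. -/
theorem restrict_irr_of_odd_rel (N U : Subgroup G) [hN : N.Normal] (hNU : N ≤ U)
    (hidx : ∃ k : ℕ, N.relIndex U = 2 ^ k)
    {ξ : U → ℂ} (hξ : IsIrrCharacter U ξ) (hodd : Odd (charDegree ξ)) :
    IsIrrCharacter N (resFun hNU ξ) := by
  haveI : (N.subgroupOf U).Normal := Subgroup.normal_subgroupOf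
  have h := restrict_irr_of_odd (N.subgroupOf U) hidx hξ hodd
  let e : N.subgroupOf U ≃* N := Subgroup.subgroupOfEquivOfLe hNU
  have h2 := isIrrCharacter_comp_equiv e.symm h
  have : (fun n : N.subgroupOf U => ξ n) ∘ e.symm = resFun hNU ξ := by
    funext n
    rfl
  rw [this] at h2
  exact h2

end OddRestrict

end Cfsg.Agent.Helper24.OddMcKay
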