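import Mathlib
import Cfsg.Prelude.Def_Blocks
import Cfsg.Agent.Lib.Helper24.OddMcKayA
import Cfsg.Agent.Lib.Helper24.CharInduced

/-!
# Odd-degree characters and Sylow `2`-normalizers in solvable groups, part B
(helper24's shared library)

The counting functions `cntTop` (characters of the whole group) and `cnt` (characters of a
subgroup) of `σ`-fixed odd-degree irreducible characters over a given character of a subgroup `L`,
and their transport along subgroups and isomorphisms.
-/

set_option autoImplicit false
set_option linter.style.haveILetI false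
set_option linter.unusedSectionVars false

namespace Cfsg.Agent.Helper24.OddMcKay

open Cfsg Cfsg.Agent.Helper5 Cfsg.Agent.Helper18
open scoped ComplexConjugate

universe u

section Defs

variable {G : Type u} [Group G] [Finite G]

/-- `χ` is fixed by the signature, has odd degree, and lies over `ν`. -/
def GoodTop (s : Sig.{u}) (L : Subgroup G) (ν : L → ℂ) (χ : G → ℂ) : Prop :=
  letI : Fintype L := Fintype.ofFinite L
  IsFix s χ ∧ Odd (charDegree χ) ∧ classInner (fun n : L => χ n) ν ≠ 0

/-- `ξ` (a function on the subgroup `U`) is fixed by the signature, has odd degree, and lies over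
`ν`. -/
def Good (s : Sig.{u}) (L U : Subgroup G) (hLU : L ≤ U) (ν : L → ℂ) (ξ : U → ℂ) : Prop :=
  letI : Fintype L := Fintype.ofFinite L
  IsFix s ξ ∧ Odd (charDegree ξ) ∧ classInner (resFun hLU ξ) ν ≠ 0

/-- The number of good irreducible characters of `G`. -/
noncomputable def cntTop (s : Sig.{u}) (L : Subgroup G) (ν : L → ℂ) : ℕ :=
  Nat.card {χ : IrrCharacter G // GoodTop s L ν (χ : G → ℂ)}

/-- The number of good irreducible characters of the subgroup `U`. -/
noncomputable def cnt (s : Sig.{u}) (L U : Subgroup G) (hLU : L ≤ U) (ν : L → ℂ) : ℕ :=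
  Nat.card {ξ : IrrCharacter U // Good s L U hLU ν (ξ : U → ℂ)}

theorem cnt_congr (s : Sig.{u}) (L : Subgroup G) {U U' : Subgroup G} (hUU' : U = U')
    (hLU : L ≤ U) (hLU' : L ≤ U') (ν : L → ℂ) : cnt s L U hLU ν = cnt s L U' hLU' ν := by
  subst hUU'
  rfl

instance finite_irr {H : Type u} [Group H] [Finite H] : Finite (IrrCharacter H) := by
  letI : Fintype H := Fintype.ofFinite H
  exact (irrFintype (G := H)).finite

end Defs

section Transport

/-- Transport of irreducible characters along an isomorphism. -/
def irrCongr {H H' : Type u} [Group H] [Group H'] (e : H ≃* H') :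
    IrrCharacter H' ≃ IrrCharacter H where
  toFun χ := ⟨χ.1 ∘ e, isIrrCharacter_comp_equiv e χ.2⟩
  invFun χ := ⟨χ.1 ∘ e.symm, isIrrCharacter_comp_equiv e.symm χ.2⟩
  left_inv χ := Subtype.ext (by
    funext x
    simp)
  right_inv χ := Subtype.ext (by
    funext x
    simp)

theorem irrCongr_apply {H H' : Type u} [Group H] [Group H'] (e : H ≃* H') (χ : IrrCharacter H')
    (x : H) : ((irrCongr e χ : IrrCharacter H) : H → ℂ) x = (χ : H' → ℂ) (e x) := rfl

theorem isFix_comp_equiv (s : Sig.{u}) {H H' : Type u} [Group H] [Group H'] (e : H ≃* H')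
    (f : H' → ℂ) : IsFix s (f ∘ e) ↔ IsFix s f := by
  constructor
  · intro h
    funext x
    have := congrFun h (e.symm x)
    simpa [Sig.ap] using this
  · intro h
    funext x
    exact congrFun h (e x)

theorem charDegree_comp_equiv {H H' : Type u} [Group H] [Group H'] (e : H ≃* H')
    (f : H' → ℂ) : charDegree (f ∘ e) = charDegree f := by
  unfold charDegree
  rw [Function.comp_apply, map_one]

variable {G : Type u} [Group G] [Finite G]

/-- The count over the subgroup `⊤` is the global count. -/
theorem cnt_top (s : Sig.{u}) (L : Subgroup G) (ν : L → ℂ) :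
    cnt s L ⊤ le_top ν = cntTop s L ν := by
  unfold cnt cntTop
  apply Nat.card_congr
  refine (Equiv.subtypeEquiv (irrCongr (Subgroup.topEquiv (G := G))) ?_).symm
  intro χ
  unfold Good GoodTop
  rw [show (irrCongr (Subgroup.topEquiv (G := G)) χ).1 =
    χ.1 ∘ (Subgroup.topEquiv (G := G)) from rfl, isFix_comp_equiv, charDegree_comp_equiv]
  rfl

/-- The global count of a subgroup `T`, viewed as a group, is the count over `T`. -/
theorem cntTop_subgroupOf (s : Sig.{u}) (L T : Subgroup G) (hLT : L ≤ T) (ν : L → ℂ) :
    cntTop (G := T) s (L.subgroupOf T) (thetaSub L T hLT ν) = cnt s L T hLT ν := by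
  unfold cnt cntTop
  apply Nat.card_congr
  refine Equiv.subtypeEquivRight ?_
  intro ξ
  unfold Good GoodTop
  letI : Fintype G := Fintype.ofFinite G
  letI : Fintype T := Fintype.ofFinite T
  letI : Fintype L := Fintype.ofFinite L
  rw [classInner_thetaSub]

/-- The count over a subgroup `V'` of the group `T` is the count over its image in `G`. -/
theorem cnt_subgroupOf (s : Sig.{u}) (L T : Subgroup G) (hLT : L ≤ T) (ν : L → ℂ)
    (V' : Subgroup T) (hLV' : L.subgroupOf T ≤ V') (hLV : L ≤ V'.map T.subtype) :
    cnt (G := T) s (L.subgroupOf T) V' hLV' (thetaSub L T hLT ν) =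
      cnt s L (V'.map T.subtype) hLV ν := by
  unfold cnt
  apply Nat.card_congr
  let e : V' ≃* (V'.map T.subtype) :=
    Subgroup.equivMapOfInjective V' T.subtype (Subgroup.subtype_injective T)
  refine (Equiv.subtypeEquiv (irrCongr e) ?_).symm
  intro ξ
  unfold Good
  rw [show (irrCongr e ξ).1 = ξ.1 ∘ e from rfl,
    isFix_comp_equiv, charDegree_comp_equiv]
  have hres : resFun hLV' (ξ.1 ∘ e) =
      (resFun hLV ξ.1) ∘ (Subgroup.subgroupOfEquivOfLe hLT) := by
    funext x
    show ξ.1 (e ⟨x, hLV' x.2⟩) = ξ.1 ⟨((x : T) : G), _⟩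
    congr 1
  rw [hres]
  unfold thetaSub
  letI : Fintype L := Fintype.ofFinite L
  letI : Fintype (L.subgroupOf T) := Fintype.ofFinite _
  rw [classInner_comp_equiv]

end Transport

end Cfsg.Agent.Helper24.OddMcKay
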