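import Mathlib
import Cfsg.Prelude.Def_Blocks
import Cfsg.Agent.Lib.Helper24.OddMcKayB

/-!
# Odd-degree characters and Sylow `2`-normalizers in solvable groups, part C
(helper24's shared library)

The Clifford correspondence for the counting functions: passing to the inertia subgroup.
-/

set_option autoImplicit false
set_option linter.style.haveILetI false
set_option linter.unusedSectionVars false

namespace Cfsg.Agent.Helper24.OddMcKay

open Cfsg Cfsg.Agent.Helper5 Cfsg.Agent.Helper18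
open scoped ComplexConjugate

universe u

section Induce

variable {G : Type u} [Group G] [Fintype G]

theorem Sig.ap_extendByZero (s : Sig.{u}) (T : Subgroup G) (ψ : T → ℂ) (y : G) :
    s.σ (extendByZero T ψ y) = extendByZero T (s.ap ψ) y := by
  by_cases hy : y ∈ T
  · rw [Cfsg.Agent.Helper24.extendByZero_of_mem T ψ hy,
      Cfsg.Agent.Helper24.extendByZero_of_mem T (s.ap ψ) hy]
    rfl
  · rw [Cfsg.Agent.Helper24.extendByZero_of_not_mem T ψ hy,
      Cfsg.Agent.Helper24.extendByZero_of_not_mem T (s.ap ψ) hy, map_zero]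

theorem Sig.ap_indFun (s : Sig.{u}) (T : Subgroup G) (ψ : T → ℂ) :
    s.ap (indFun T ψ) = indFun T (s.ap ψ) := by
  funext g
  show s.σ (indFun T ψ g) = indFun T (s.ap ψ) g
  unfold indFun
  rw [map_mul, map_inv₀, map_natCast, map_sum]
  congr 1
  refine Finset.sum_congr rfl fun x _ => ?_
  exact s.ap_extendByZero T ψ _

theorem charDegree_indFun (T : Subgroup G) {ψ : T → ℂ} (hψ : IsIrrCharacter T ψ) :
    charDegree (indFun T ψ) = T.index * charDegree ψ := by
  have h1 : indFun T ψ 1 = ((T.index * charDegree ψ : ℕ) : ℂ) := by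
    rw [indFun_one, irr_one_eq_charDegree hψ]
    push_cast
    rfl
  exact charDegree_natCast _ h1

end Induce

section Clifford

variable {G : Type u} [Group G] [Finite G]

/-- **Clifford correspondence for counts** (absolute form). -/
theorem cntTop_inertia (s : Sig.{u}) (L : Subgroup G) [hL : L.Normal] (ν : IrrCharacter L)
    (hν : IsFix s (ν : L → ℂ)) (hodd : Odd (inertia L (ν : L → ℂ)).index) :
    cntTop s L (ν : L → ℂ) =
      cnt s L (inertia L (ν : L → ℂ))
        (le_inertia L (isClassFunction_of_isIrrCharacter ν.2)) (ν : L → ℂ) := by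
  classical
  letI : Fintype G := Fintype.ofFinite G
  letI : Fintype L := Fintype.ofFinite L
  set T : Subgroup G := inertia L (ν : L → ℂ) with hT
  letI : Fintype T := Fintype.ofFinite T
  have hLT : L ≤ T := le_inertia L (isClassFunction_of_isIrrCharacter ν.2)
  symm
  unfold cnt cntTop
  -- the induction map
  have hgood : ∀ ψ : {ξ : IrrCharacter T // Good s L T hLT (ν : L → ℂ) (ξ : T → ℂ)},
      IsIrrCharacter G (indFun T (ψ.1 : T → ℂ)) ∧
        GoodTop s L (ν : L → ℂ) (indFun T (ψ.1 : T → ℂ)) := by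
    intro ψ
    obtain ⟨hfix, hdeg, hov⟩ := ψ.2
    obtain ⟨hirr, hmult⟩ := clifford_induce_irr L T hLT ν.2 le_rfl ψ.1.2 hov
    refine ⟨hirr, ?_, ?_, ?_⟩
    · show s.ap (indFun T (ψ.1 : T → ℂ)) = _
      rw [s.ap_indFun, hfix]
    · rw [charDegree_indFun T ψ.1.2]
      exact hodd.mul hdeg
    · rw [hmult]
      exact hov
  let F : {ξ : IrrCharacter T // Good s L T hLT (ν : L → ℂ) (ξ : T → ℂ)} →
      {χ : IrrCharacter G // GoodTop s L (ν : L → ℂ) (χ : G → ℂ)} :=
    fun ψ => ⟨⟨indFun T (ψ.1 : T → ℂ), (hgood ψ).1⟩, (hgood ψ).2⟩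
  apply Nat.card_eq_of_bijective F
  constructor
  · intro ψ₁ ψ₂ h
    have h1 : indFun T (ψ₁.1 : T → ℂ) = indFun T (ψ₂.1 : T → ℂ) :=
      congrArg (fun x => (x.1 : G → ℂ)) h
    have := clifford_induce_inj L T hLT ν.2 le_rfl ψ₁.1.2 ψ₂.1.2 ψ₁.2.2.2 ψ₂.2.2.2 h1
    exact Subtype.ext (Subtype.ext this)
  · intro χ
    obtain ⟨hfix, hdeg, hov⟩ := χ.2
    obtain ⟨ψ, hψ, hψov, hind⟩ := clifford_induce_exists L T hLT ν.2 le_rfl χ.1.2 hov
    have hψfix : IsFix s ψ := by
      have h1 : IsIrrCharacter T (s.ap ψ) := s.isIrr_ap hψ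
      have h2 : classInner (resFun hLT (s.ap ψ)) (ν : L → ℂ) ≠ 0 := by
        have e1 : resFun hLT (s.ap ψ) = s.ap (resFun hLT ψ) := rfl
        rw [e1]
        conv => rw [← hν]
        rw [s.classInner_ap]
        intro h0
        apply hψov
        apply s.σ_injective
        rw [h0, map_zero]
      have h3 : indFun T (s.ap ψ) = indFun T ψ := by
        rw [← s.ap_indFun, hind]
        exact hfix
      exact clifford_induce_inj L T hLT ν.2 le_rfl h1 hψ h2 hψov h3
    have hψdeg : Odd (charDegree ψ) := by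
      have h1 := charDegree_indFun T hψ
      rw [hind] at h1
      rw [h1] at hdeg
      exact (Nat.odd_mul.mp hdeg).2
    refine ⟨⟨⟨ψ, hψ⟩, hψfix, hψdeg, hψov⟩, ?_⟩
    apply Subtype.ext
    apply Subtype.ext
    exact hind

/-- **Clifford correspondence for counts** (relative form). -/
theorem cnt_inertia (s : Sig.{u}) (L U : Subgroup G) [hL : L.Normal] (hLU : L ≤ U)
    (ν : IrrCharacter L) (hν : IsFix s (ν : L → ℂ))
    (hodd : Odd ((inertia L (ν : L → ℂ)).relIndex U))
    (hLTU : L ≤ inertia L (ν : L → ℂ) ⊓ U) :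
    cnt s L U hLU (ν : L → ℂ) = cnt s L (inertia L (ν : L → ℂ) ⊓ U) hLTU (ν : L → ℂ) := by
  classical
  letI : Fintype G := Fintype.ofFinite G
  haveI : (L.subgroupOf U).Normal := Subgroup.normal_subgroupOf
  set T : Subgroup G := inertia L (ν : L → ℂ) with hT
  let ν' : IrrCharacter (L.subgroupOf U) :=
    ⟨thetaSub L U hLU (ν : L → ℂ), isIrrCharacter_comp_equiv _ ν.2⟩
  have hν' : IsFix s (ν' : L.subgroupOf U → ℂ) := by
    show IsFix s ((ν : L → ℂ) ∘ (Subgroup.subgroupOfEquivOfLe hLU))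
    rw [isFix_comp_equiv]
    exact hν
  have hin : inertia (L.subgroupOf U) (ν' : L.subgroupOf U → ℂ) = T.subgroupOf U :=
    inertia_thetaSub L U hLU (ν : L → ℂ)
  have hodd' : Odd (inertia (L.subgroupOf U) (ν' : L.subgroupOf U → ℂ)).index := by
    rw [hin]
    exact hodd
  have h1 := cntTop_inertia (G := U) s (L.subgroupOf U) ν' hν' hodd'
  rw [cntTop_subgroupOf s L U hLU (ν : L → ℂ)] at h1
  rw [h1]
  have hmap : (inertia (L.subgroupOf U) (ν' : L.subgroupOf U → ℂ)).map U.subtype = T ⊓ U := by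
    rw [hin, Subgroup.subgroupOf_map_subtype]
  have hLV : L ≤ (inertia (L.subgroupOf U) (ν' : L.subgroupOf U → ℂ)).map U.subtype := by
    rw [hmap]
    exact hLTU
  rw [cnt_subgroupOf s L U hLU (ν : L → ℂ) _ _ hLV]
  exact cnt_congr s L hmap hLV hLTU (ν : L → ℂ)

end Clifford

end Cfsg.Agent.Helper24.OddMcKay
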