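import Mathlib
import Cfsg.Prelude.Def_Blocks
import Cfsg.Agent.Lib.Helper24.OddMcKayC
import Cfsg.Agent.Lib.Helper24.RealNormA

/-!
# Odd-degree characters and Sylow `2`-normalizers in solvable groups, part D
(helper24's shared library)

The partition lemma: good characters of `U` over `ν ∈ Irr(L)` are partitioned according to the
classes of `σ`-fixed `S`-invariant characters of `K` (with `L ≤ K` both normal) lying under them.
-/

set_option autoImplicit false
set_option linter.style.haveILetI false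
set_option linter.unusedSectionVars false

namespace Cfsg.Agent.Helper24.OddMcKay

open Cfsg Cfsg.Agent.Helper5 Cfsg.Agent.Helper18
open scoped ComplexConjugate

universe u

section Action

/-- In an orbit of odd size, a `2`-subgroup and a commuting involution have a common fixed
point. -/
theorem exists_fixed_in_orbit {Γ X : Type*} [Group Γ] [Finite Γ] [MulAction Γ X]
    (S : Subgroup Γ) (hS : IsPGroup 2 S) (x₀ : X)
    (hodd : Odd (MulAction.stabilizer Γ x₀).index) (τ : X → X) (hτ : Function.Involutive τ)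
    (hτS : ∀ (g : S) (x : X), τ (g • x) = g • τ x)
    (hτO : ∀ x ∈ MulAction.orbit Γ x₀, τ x ∈ MulAction.orbit Γ x₀) :
    ∃ x ∈ MulAction.orbit Γ x₀, (∀ g : S, g • x = x) ∧ τ x = x := by
  classical
  haveI : Fact (Nat.Prime 2) := ⟨Nat.prime_two⟩
  haveI : Finite (MulAction.orbit Γ x₀) := by
    have : (MulAction.orbit Γ x₀) = Set.range (fun g : Γ => g • x₀) := rfl
    rw [this]
    exact Set.finite_range _
  have hcard : Nat.card (MulAction.orbit Γ x₀) = (MulAction.stabilizer Γ x₀).index := by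
    rw [MulAction.index_stabilizer, Nat.card_coe_set_eq]
  have hmod := hS.card_modEq_card_fixedPoints (MulAction.orbit Γ x₀)
  have hoddF : Odd (Nat.card (MulAction.fixedPoints S (MulAction.orbit Γ x₀))) := by
    rw [hcard] at hmod
    rw [← Nat.not_even_iff_odd, Nat.even_iff]
    have h1 : (MulAction.stabilizer Γ x₀).index % 2 = 1 := Nat.odd_iff.mp hodd
    have h2 : (MulAction.stabilizer Γ x₀).index % 2 =
        Nat.card (MulAction.fixedPoints S (MulAction.orbit Γ x₀)) % 2 := hmod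
    omega
  letI : Fintype (MulAction.fixedPoints S (MulAction.orbit Γ x₀)) := Fintype.ofFinite _
  -- the involution on the fixed points
  have hfix : ∀ x : MulAction.fixedPoints S (MulAction.orbit Γ x₀), ∀ g : S,
      g • (x.1.1 : X) = x.1.1 := by
    intro x g
    have := x.2 g
    exact congrArg Subtype.val this
  let f : MulAction.fixedPoints S (MulAction.orbit Γ x₀) →
      MulAction.fixedPoints S (MulAction.orbit Γ x₀) := fun x =>
    ⟨⟨τ x.1.1, hτO _ x.1.2⟩, by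
      intro g
      apply Subtype.ext
      show g • τ x.1.1 = τ x.1.1
      rw [← hτS, hfix x g]⟩
  have hf : Function.Involutive f := by
    intro x
    apply Subtype.ext
    apply Subtype.ext
    exact hτ _
  have hnd : ¬ 2 ∣ Fintype.card (MulAction.fixedPoints S (MulAction.orbit Γ x₀)) := by
    rw [← Nat.card_eq_fintype_card]
    intro h
    exact (Nat.not_even_iff_odd.mpr hoddF) (even_iff_two_dvd.mpr h)
  have hpow : (hf.toPerm f) ^ 2 ^ 1 = 1 := by
    ext x
    simp [pow_two, hf x]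
  obtain ⟨x, hx⟩ := Equiv.Perm.exists_fixed_point_of_prime (p := 2) (n := 1) hnd hpow
  refine ⟨x.1.1, x.1.2, fun g => hfix x g, ?_⟩
  have := congrArg (fun y : MulAction.fixedPoints S (MulAction.orbit Γ x₀) => (y.1.1 : X)) hx
  exact this

end Action

section Rel

variable {G : Type u} [Group G] [Finite G]

/-- Restriction to a normal subgroup `K` of a class function of `U ≥ K` is invariant under
conjugation by `U`. -/
theorem conjFun_resFun (K U : Subgroup G) [hK : K.Normal] (hKU : K ≤ U) {ξ : U → ℂ}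
    (hξ : IsClassFunction U ξ) {u : G} (hu : u ∈ U) :
    Helper5.conjFun K u (resFun hKU ξ) = resFun hKU ξ := by
  funext k
  rw [Helper5.conjFun_apply]
  show ξ ⟨u * k * u⁻¹, _⟩ = ξ ⟨k, _⟩
  have := hξ ⟨k, hKU k.2⟩ ⟨u, hu⟩
  rw [← this]
  rfl

theorem classInner_resFun_conjFun (K U : Subgroup G) [hK : K.Normal] (hKU : K ≤ U) {ξ : U → ℂ}
    (hξ : IsClassFunction U ξ) {u : G} (hu : u ∈ U) (η : K → ℂ) :
    letI : Fintype K := Fintype.ofFinite K
    classInner (resFun hKU ξ) (Helper5.conjFun K u η) = classInner (resFun hKU ξ) η := by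
  letI : Fintype K := Fintype.ofFinite K
  conv_lhs => rw [← conjFun_resFun K U hKU hξ hu]
  exact Helper5.classInner_conjFun K u _ η

/-- Transitivity of "lying over". -/
theorem over_trans {L K U : Subgroup G} (hLK : L ≤ K) (hKU : K ≤ U) {ξ : U → ℂ}
    (hξ : IsCharacter U ξ) {η : K → ℂ} (hη : IsIrrCharacter K η) {ν : L → ℂ}
    (hν : IsCharacter L ν) :
    letI : Fintype K := Fintype.ofFinite K
    letI : Fintype L := Fintype.ofFinite L
    classInner (resFun hKU ξ) η ≠ 0 → classInner (resFun hLK η) ν ≠ 0 →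
      classInner (resFun (hLK.trans hKU) ξ) ν ≠ 0 := by
  letI : Fintype K := Fintype.ofFinite K
  letI : Fintype L := Fintype.ofFinite L
  intro h1 h2
  obtain ⟨ρ, hρ, hdec⟩ := exists_add_of_constituent (isCharacter_resFun hKU hξ) hη h1
  have e : resFun (hLK.trans hKU) ξ = resFun hLK η + resFun hLK ρ := by
    have : resFun (hLK.trans hKU) ξ = resFun hLK (resFun hKU ξ) := rfl
    rw [this, hdec]
    rfl
  rw [e]
  exact classInner_add_ne_zero (isCharacter_resFun hLK (isCharacter_of_isIrrCharacter hη))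
    (isCharacter_resFun hLK hρ) hν h2

end Rel

section Partition

variable {G : Type u} [Group G] [Finite G]

/-- `η` (on `K`) lies under `ξ` (on `U ≥ K`). -/
def Under {K U : Subgroup G} (hKU : K ≤ U) (ξ : U → ℂ) (η : K → ℂ) : Prop :=
  letI : Fintype K := Fintype.ofFinite K
  classInner (resFun hKU ξ) η ≠ 0

/-- The index set of the partition: `σ`-fixed, `S`-invariant functions on `K` over `ν`. -/
def Om (s : Sig.{u}) (L K : Subgroup G) [hK : K.Normal] (hLK : L ≤ K) (S : Subgroup G)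
    (ν : L → ℂ) (η : K → ℂ) : Prop :=
  IsFix s η ∧ (∀ x ∈ S, Helper5.conjFun K x η = η) ∧ Under hLK η ν

/-- Conjugacy under the normalizer of `K ⊔ S`. -/
def Rel (K S : Subgroup G) [hK : K.Normal] (η η' : K → ℂ) : Prop :=
  ∃ n ∈ Subgroup.normalizer ((K ⊔ S : Subgroup G) : Set G), Helper5.conjFun K n η = η'

theorem Rel.symm {K S : Subgroup G} [hK : K.Normal] {η η' : K → ℂ} (h : Rel K S η η') :
    Rel K S η' η := by
  obtain ⟨n, hn, rfl⟩ := h
  exact ⟨n⁻¹, Subgroup.inv_mem _ hn, Helper5.conjFun_inv_conjFun K n η⟩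

theorem Rel.trans {K S : Subgroup G} [hK : K.Normal] {η η' η'' : K → ℂ} (h : Rel K S η η')
    (h' : Rel K S η' η'') : Rel K S η η'' := by
  obtain ⟨n, hn, rfl⟩ := h
  obtain ⟨m, hm, rfl⟩ := h'
  exact ⟨n * m, Subgroup.mul_mem _ hn hm, Helper5.conjFun_mul K n m η⟩

theorem mem_normalizer_sup (K S : Subgroup G) [hK : K.Normal] {g : G}
    (hg : g ∈ Subgroup.normalizer (S : Set G)) :
    g ∈ Subgroup.normalizer ((K ⊔ S : Subgroup G) : Set G) := by
  apply Cfsg.Agent.Helper24.RealNorm.mem_normalizer_of_conj_mem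
  intro x hx
  have hx' : x ∈ ((K ⊔ S : Subgroup G) : Set G) := hx
  rw [Subgroup.normal_mul] at hx'
  obtain ⟨k, hk, y, hy, rfl⟩ := Set.mem_mul.mp hx'
  have e : g * (k * y) * g⁻¹ = (g * k * g⁻¹) * (g * y * g⁻¹) := by group
  rw [e]
  apply Subgroup.mul_mem
  · exact (le_sup_left : K ≤ K ⊔ S) (hK.conj_mem k hk g)
  · exact (le_sup_right : S ≤ K ⊔ S) ((Subgroup.mem_normalizer_iff.mp hg y).mp hy)

theorem isFix_resFun (s : Sig.{u}) {K U : Subgroup G} (hKU : K ≤ U) {ξ : U → ℂ}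
    (hξ : IsFix s ξ) : IsFix s (resFun hKU ξ) := by
  funext k
  exact congrFun hξ ⟨k, hKU k.2⟩

/-- Conjugates under `U` of constituents are constituents. -/
theorem under_conjFun {K U : Subgroup G} [hK : K.Normal] (hKU : K ≤ U) {ξ : U → ℂ}
    (hξ : IsClassFunction U ξ) {u : G} (hu : u ∈ U) {η : K → ℂ} :
    Under hKU ξ (Helper5.conjFun K u η) ↔ Under hKU ξ η := by
  unfold Under
  rw [classInner_resFun_conjFun K U hKU hξ hu η]

/-- Every constituent on `K` of a character of `U` over the `U`-invariant `ν` lies over `ν`. -/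
theorem under_over (L K U : Subgroup G) [hL : L.Normal] [hK : K.Normal] (hLK : L ≤ K)
    (hKU : K ≤ U) (ν : IrrCharacter L) (hinv : ∀ u ∈ U, Helper5.conjFun L u ν.1 = ν.1)
    (ξ : IrrCharacter U) (hξ : Under (hLK.trans hKU) ξ.1 ν.1) (η : IrrCharacter K)
    (hη : Under hKU ξ.1 η.1) : Under hLK η.1 ν.1 := by
  classical
  letI : Fintype G := Fintype.ofFinite G
  letI : Fintype K := Fintype.ofFinite K
  letI : Fintype L := Fintype.ofFinite L
  letI : Fintype U := Fintype.ofFinite U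
  have hηc := isCharacter_of_isIrrCharacter η.2
  have hres : IsCharacter L (resFun hLK η.1) := isCharacter_resFun hLK hηc
  have hne : resFun hLK η.1 ≠ 0 := by
    intro h
    have h1 := congrFun h 1
    have h2 : η.1 1 ≠ 0 := by
      rw [irr_one_eq_charDegree η.2]
      exact_mod_cast (charDegree_pos η.2).ne'
    exact h2 h1
  obtain ⟨ν', hν', hcon⟩ := exists_constituent hres hne
  have h1 : classInner (resFun (hLK.trans hKU) ξ.1) ν' ≠ 0 :=
    over_trans hLK hKU (isCharacter_of_isIrrCharacter ξ.2) η.2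
      (isCharacter_of_isIrrCharacter hν') hη hcon
  obtain ⟨y, hy, hconj⟩ := clifford_conj_rel L U (hLK.trans hKU) ξ.2 ν.2 hν' hξ h1
  rw [hinv y hy] at hconj
  unfold Under
  rw [hconj]
  exact hcon

/-- Existence of a `σ`-fixed `S`-invariant constituent. -/
theorem part_exists (s : Sig.{u}) (L K : Subgroup G) [hL : L.Normal] [hK : K.Normal]
    (hLK : L ≤ K) (S U : Subgroup G) (hS : IsPGroup 2 S) (hKU : K ≤ U) (hSU : S ≤ U)
    (ν : IrrCharacter L) (hinv : ∀ u ∈ U, Helper5.conjFun L u ν.1 = ν.1)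
    (ξ : IrrCharacter U) (hξ : Good s L U (hLK.trans hKU) ν.1 ξ.1) :
    ∃ η : IrrCharacter K, Om s L K hLK S ν.1 η.1 ∧ Under hKU ξ.1 η.1 := by
  classical
  letI : Fintype G := Fintype.ofFinite G
  letI : Fintype K := Fintype.ofFinite K
  letI : Fintype L := Fintype.ofFinite L
  letI : Fintype U := Fintype.ofFinite U
  letI : Fintype (IrrCharacter K) := irrFintype
  obtain ⟨hfix, hdeg, hov⟩ := hξ
  have hξc := isCharacter_of_isIrrCharacter ξ.2
  have hξcf := isClassFunction_of_isIrrCharacter ξ.2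
  have hresc : IsCharacter K (resFun hKU ξ.1) := isCharacter_resFun hKU hξc
  have hne : resFun hKU ξ.1 ≠ 0 := by
    intro h
    exact odd_charDegree_ne_zero hdeg (congrFun h 1)
  obtain ⟨η₁, hη₁, hcon₁⟩ := exists_constituent hresc hne
  -- the orbit has odd size
  have hrel : Odd ((inertia K η₁).relIndex U) := by
    have hd := degree_eq_of_constituent_rel K U hKU hη₁ ξ.2 hcon₁
    obtain ⟨e, he⟩ := classInner_char_nat hresc (isCharacter_of_isIrrCharacter hη₁)
    rw [he, irr_one_eq_charDegree ξ.2, irr_one_eq_charDegree hη₁] at hd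
    have hd' : charDegree ξ.1 = e * (inertia K η₁).relIndex U * charDegree η₁ := by
      exact_mod_cast hd
    rw [hd'] at hdeg
    exact (Nat.odd_mul.mp (Nat.odd_mul.mp hdeg).1).2
  letI iA := irrAct K
  have hstab : MulAction.stabilizer U (⟨η₁, hη₁⟩ : IrrCharacter K) =
      (inertia K η₁).subgroupOf U := by
    ext u
    rw [MulAction.mem_stabilizer_iff, Subgroup.mem_subgroupOf]
    constructor
    · intro h
      have h' : Helper5.conjFun K ((u : G))⁻¹ η₁ = η₁ := congrArg Subtype.val h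
      have h2 : ((u : G))⁻¹ ∈ inertia K η₁ := (mem_inertia K η₁ _).mpr h'
      simpa using Subgroup.inv_mem _ h2
    · intro h
      have h2 : ((u : G))⁻¹ ∈ inertia K η₁ := Subgroup.inv_mem _ h
      exact Subtype.ext ((mem_inertia K η₁ _).mp h2)
  have hoddstab : Odd (MulAction.stabilizer U (⟨η₁, hη₁⟩ : IrrCharacter K)).index := by
    rw [hstab]
    exact hrel
  have hunder_orbit : ∀ x ∈ MulAction.orbit U (⟨η₁, hη₁⟩ : IrrCharacter K),
      Under hKU ξ.1 x.1 := by
    rintro x ⟨u, rfl⟩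
    show Under hKU ξ.1 (Helper5.conjFun K ((u : G))⁻¹ η₁)
    rw [under_conjFun hKU hξcf (Subgroup.inv_mem _ u.2)]
    exact hcon₁
  have hmem_orbit : ∀ x : IrrCharacter K, Under hKU ξ.1 x.1 →
      x ∈ MulAction.orbit U (⟨η₁, hη₁⟩ : IrrCharacter K) := by
    intro x hx
    obtain ⟨y, hy, hconj⟩ := clifford_conj_rel K U hKU ξ.2 hη₁ x.2 hcon₁ hx
    refine ⟨(⟨y, hy⟩ : U)⁻¹, ?_⟩
    apply Subtype.ext
    show Helper5.conjFun K (((⟨y, hy⟩ : U)⁻¹ : U) : G)⁻¹ η₁ = x.1
    rw [← hconj]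
    congr 1
    simp
  obtain ⟨x, hxO, hxS, hxτ⟩ := exists_fixed_in_orbit (Γ := U) (S.subgroupOf U)
    (hS.comap_of_injective _ (Subgroup.subtype_injective U)) (⟨η₁, hη₁⟩ : IrrCharacter K)
    hoddstab (fun x => s.apIrr x) (fun x => s.apIrr_apIrr x)
    (fun g x => rfl)
    (by
      intro x hx
      apply hmem_orbit
      have h1 := hunder_orbit x hx
      unfold Under at h1 ⊢
      exact (s.classInner_fix_ap_ne_zero (isFix_resFun s hKU hfix) x.1).mpr h1)
  have hxu : Under hKU ξ.1 x.1 := hunder_orbit x hxO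
  refine ⟨x, ⟨?_, ?_, ?_⟩, hxu⟩
  · exact congrArg Subtype.val hxτ
  · intro y hy
    have h1 := hxS ⟨⟨y⁻¹, hSU (S.inv_mem hy)⟩, Subgroup.mem_subgroupOf.mpr (S.inv_mem hy)⟩
    have h2 : Helper5.conjFun K ((y⁻¹ : G))⁻¹ x.1 = x.1 := congrArg Subtype.val h1
    rwa [inv_inv] at h2
  · exact under_over L K U hLK hKU ν hinv ξ hov x hxu

/-- Two `S`-invariant constituents are conjugate under the normalizer of `K ⊔ S`. -/
theorem part_rel (K : Subgroup G) [hK : K.Normal]
    (S U : Subgroup G) (hS : IsPGroup 2 S) (hKU : K ≤ U) (hSU : S ≤ U)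
    (hSodd : Odd (S.relIndex U))
    (hNU : Subgroup.normalizer ((K ⊔ S : Subgroup G) : Set G) ≤ U)
    (ξ : IrrCharacter U) (η η' : IrrCharacter K)
    (hη : ∀ x ∈ S, Helper5.conjFun K x η.1 = η.1) (hη' : ∀ x ∈ S, Helper5.conjFun K x η'.1 = η'.1)
    (h : Under hKU ξ.1 η.1) : Under hKU ξ.1 η'.1 ↔ Rel K S η.1 η'.1 := by
  classical
  letI : Fintype G := Fintype.ofFinite G
  letI : Fintype K := Fintype.ofFinite K
  letI : Fintype U := Fintype.ofFinite U
  haveI : Fact (Nat.Prime 2) := ⟨Nat.prime_two⟩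
  have hξcf := isClassFunction_of_isIrrCharacter ξ.2
  constructor
  · intro h'
    obtain ⟨y, hy, hconj⟩ := clifford_conj_rel K U hKU ξ.2 η.2 η'.2 h h'
    letI iA := irrAct K
    have hS' : IsPGroup 2 (S.subgroupOf U) :=
      hS.comap_of_injective _ (Subgroup.subtype_injective U)
    have hidx : ¬ 2 ∣ (S.subgroupOf U).index := by
      intro hd
      exact (Nat.not_even_iff_odd.mpr hSodd) (even_iff_two_dvd.mpr hd)
    let P : Sylow 2 U := hS'.toSylow hidx
    have hfix1 : ∀ u ∈ P, u • η = η := by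
      intro u hu
      have hu' : (u : G) ∈ S := Subgroup.mem_subgroupOf.mp hu
      apply Subtype.ext
      show Helper5.conjFun K ((u : G))⁻¹ η.1 = η.1
      exact hη _ (S.inv_mem hu')
    have hg : (⟨y, hy⟩ : U)⁻¹ • η = η' := by
      apply Subtype.ext
      show Helper5.conjFun K (((⟨y, hy⟩ : U)⁻¹ : U) : G)⁻¹ η.1 = η'.1
      rw [← hconj]
      congr 1
      simp
    have hfix2 : ∀ u ∈ P, u • ((⟨y, hy⟩ : U)⁻¹ • η) = (⟨y, hy⟩ : U)⁻¹ • η := by
      intro u hu
      rw [hg]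
      have hu' : (u : G) ∈ S := Subgroup.mem_subgroupOf.mp hu
      apply Subtype.ext
      show Helper5.conjFun K ((u : G))⁻¹ η'.1 = η'.1
      exact hη' _ (S.inv_mem hu')
    obtain ⟨n, hn, hnx⟩ := Cfsg.Agent.Helper24.RealNorm.exists_normalizer_smul P hfix1 _ hfix2
    rw [hg] at hnx
    refine ⟨((n : U) : G)⁻¹, ?_, congrArg Subtype.val hnx⟩
    apply Subgroup.inv_mem
    apply mem_normalizer_sup
    rw [Subgroup.mem_normalizer_iff]
    intro x
    have hn' := Subgroup.mem_normalizer_iff.mp hn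
    constructor
    · intro hx
      have := (hn' ⟨x, hSU hx⟩).mp (Subgroup.mem_subgroupOf.mpr hx)
      exact Subgroup.mem_subgroupOf.mp this
    · intro hx
      have hxU : x ∈ U := by
        have h1 : (n : G) * x * (n : G)⁻¹ ∈ U := hSU hx
        have h2 := U.mul_mem (U.mul_mem (U.inv_mem n.2) h1) n.2
        have e : ((n : U) : G)⁻¹ * ((n : G) * x * (n : G)⁻¹) * (n : G) = x := by group
        rwa [e] at h2
      have := (hn' ⟨x, hxU⟩).mpr (Subgroup.mem_subgroupOf.mpr hx)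
      exact Subgroup.mem_subgroupOf.mp this
  · rintro ⟨n, hn, hconj⟩
    rw [← hconj, under_conjFun hKU hξcf (hNU hn)]
    exact h

/-- The fibre of the partition over `η` is counted by `cnt` relative to `η`. -/
theorem part_fiber (s : Sig.{u}) (L K : Subgroup G) [hL : L.Normal] [hK : K.Normal]
    (hLK : L ≤ K) (S U : Subgroup G) (hKU : K ≤ U)
    (ν : IrrCharacter L) (η : IrrCharacter K) (hη : Om s L K hLK S ν.1 η.1) :
    Nat.card {x : {ξ : IrrCharacter U // Good s L U (hLK.trans hKU) ν.1 ξ.1} //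
      Under hKU x.1.1 η.1} = cnt s K U hKU η.1 := by
  unfold cnt
  apply Nat.card_congr
  refine (Equiv.subtypeSubtypeEquivSubtypeInter
    (fun ξ : IrrCharacter U => Good s L U (hLK.trans hKU) ν.1 ξ.1)
    (fun ξ : IrrCharacter U => Under hKU ξ.1 η.1)).trans (Equiv.subtypeEquivRight ?_)
  intro ξ
  constructor
  · rintro ⟨⟨h1, h2, -⟩, h3⟩
    exact ⟨h1, h2, h3⟩
  · rintro ⟨h1, h2, h3⟩
    refine ⟨⟨h1, h2, ?_⟩, h3⟩
    exact over_trans hLK hKU (isCharacter_of_isIrrCharacter ξ.2) η.2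
      (isCharacter_of_isIrrCharacter ν.2) h3 hη.2.2

/-- **The partition lemma.** -/
theorem partition (s : Sig.{u}) (L K : Subgroup G) [hL : L.Normal] [hK : K.Normal]
    (hLK : L ≤ K) (S : Subgroup G) (hS : IsPGroup 2 S) (ν : IrrCharacter L)
    (U₁ U₂ : Subgroup G) (hKU₁ : K ≤ U₁) (hKU₂ : K ≤ U₂) (hSU₁ : S ≤ U₁) (hSU₂ : S ≤ U₂)
    (hodd₁ : Odd (S.relIndex U₁)) (hodd₂ : Odd (S.relIndex U₂))
    (hN₁ : Subgroup.normalizer ((K ⊔ S : Subgroup G) : Set G) ≤ U₁)
    (hN₂ : Subgroup.normalizer ((K ⊔ S : Subgroup G) : Set G) ≤ U₂)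
    (hinv₁ : ∀ u ∈ U₁, Helper5.conjFun L u ν.1 = ν.1)
    (hinv₂ : ∀ u ∈ U₂, Helper5.conjFun L u ν.1 = ν.1)
    (hfib : ∀ η : IrrCharacter K, Om s L K hLK S ν.1 η.1 →
      cnt s K U₁ hKU₁ η.1 = cnt s K U₂ hKU₂ η.1) :
    cnt s L U₁ (hLK.trans hKU₁) ν.1 = cnt s L U₂ (hLK.trans hKU₂) ν.1 := by
  unfold cnt
  have hsymm : ∀ a b : {η : IrrCharacter K // Om s L K hLK S ν.1 η.1},
      Rel K S a.1.1 b.1.1 → Rel K S b.1.1 a.1.1 := fun a b h => h.symm
  have htrans : ∀ a b c : {η : IrrCharacter K // Om s L K hLK S ν.1 η.1},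
      Rel K S a.1.1 b.1.1 → Rel K S b.1.1 c.1.1 → Rel K S a.1.1 c.1.1 :=
    fun a b c h h' => h.trans h'
  have h1 : ∀ x : {ξ : IrrCharacter U₁ // Good s L U₁ (hLK.trans hKU₁) ν.1 ξ.1},
      ∃ a : {η : IrrCharacter K // Om s L K hLK S ν.1 η.1}, Under hKU₁ x.1.1 a.1.1 := by
    intro x
    obtain ⟨η, hη, hu⟩ := part_exists s L K hLK S U₁ hS hKU₁ hSU₁ ν hinv₁ x.1 x.2
    exact ⟨⟨η, hη⟩, hu⟩
  have h2 : ∀ (x : {ξ : IrrCharacter U₁ // Good s L U₁ (hLK.trans hKU₁) ν.1 ξ.1})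
      (a a' : {η : IrrCharacter K // Om s L K hLK S ν.1 η.1}), Under hKU₁ x.1.1 a.1.1 →
      (Under hKU₁ x.1.1 a'.1.1 ↔ Rel K S a.1.1 a'.1.1) := fun x a a' h =>
    part_rel K S U₁ hS hKU₁ hSU₁ hodd₁ hN₁ x.1 a.1 a'.1 a.2.2.1 a'.2.2.1 h
  have h1' : ∀ y : {ξ : IrrCharacter U₂ // Good s L U₂ (hLK.trans hKU₂) ν.1 ξ.1},
      ∃ a : {η : IrrCharacter K // Om s L K hLK S ν.1 η.1}, Under hKU₂ y.1.1 a.1.1 := by
    intro y
    obtain ⟨η, hη, hu⟩ := part_exists s L K hLK S U₂ hS hKU₂ hSU₂ ν hinv₂ y.1 y.2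
    exact ⟨⟨η, hη⟩, hu⟩
  have h2' : ∀ (y : {ξ : IrrCharacter U₂ // Good s L U₂ (hLK.trans hKU₂) ν.1 ξ.1})
      (a a' : {η : IrrCharacter K // Om s L K hLK S ν.1 η.1}), Under hKU₂ y.1.1 a.1.1 →
      (Under hKU₂ y.1.1 a'.1.1 ↔ Rel K S a.1.1 a'.1.1) := fun y a a' h =>
    part_rel K S U₂ hS hKU₂ hSU₂ hodd₂ hN₂ y.1 a.1 a'.1 a.2.2.1 a'.2.2.1 h
  have hf : ∀ a : {η : IrrCharacter K // Om s L K hLK S ν.1 η.1},
      Nat.card {x : {ξ : IrrCharacter U₁ // Good s L U₁ (hLK.trans hKU₁) ν.1 ξ.1} //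
        Under hKU₁ x.1.1 a.1.1} =
      Nat.card {y : {ξ : IrrCharacter U₂ // Good s L U₂ (hLK.trans hKU₂) ν.1 ξ.1} //
        Under hKU₂ y.1.1 a.1.1} := by
    intro a
    rw [part_fiber s L K hLK S U₁ hKU₁ ν a.1 a.2, part_fiber s L K hLK S U₂ hKU₂ ν a.1 a.2]
    exact hfib a.1 a.2
  exact card_eq_of_weights (fun a b : {η : IrrCharacter K // Om s L K hLK S ν.1 η.1} =>
    Rel K S a.1.1 b.1.1) hsymm htrans _ h1 h2 _ h1' h2' hf

end Partition

end Cfsg.Agent.Helper24.OddMcKay
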