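import Mathlib
import Cfsg.Prelude.Def_Blocks
import Cfsg.Agent.Lib.Helper24.OddMcKayD
import Cfsg.Agent.Lib.Helper5.GoingDown

/-!
# Odd-degree characters and Sylow `2`-normalizers in solvable groups, part E
(helper24's shared library)

Uniqueness of the `S`-invariant odd-degree character of `K` over an invariant character of `L`,
when `K / L` is abelian and `S` fixes no nontrivial linear character of `K / L`.
-/

set_option autoImplicit false
set_option linter.style.haveILetI false
set_option linter.unusedSectionVars false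

namespace Cfsg.Agent.Helper24.OddMcKay

open Cfsg Cfsg.Agent.Helper5 Cfsg.Agent.Helper18
open scoped ComplexConjugate

universe u

section TwoChar

variable {K : Type u} [Group K] [Fintype K]

open scoped commutatorElement in
open Classical in
/-- For `K / L` abelian, the inner product of the restrictions to `L` of two irreducible characters
of `K` counts the linear characters `λ` of `K / L` with `ϑ₁ λ = ϑ₂`. -/
theorem classInner_restrict_eq_card (L : Subgroup K) [hL : L.Normal] [Fintype L]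
    (hab : commutator K ≤ L) [Fintype ((K ⧸ L) →* ℂˣ)] {ϑ₁ ϑ₂ : K → ℂ}
    (hϑ₁ : IsIrrCharacter K ϑ₁) (hϑ₂ : IsIrrCharacter K ϑ₂) :
    classInner (fun l : L => ϑ₂ l) (fun l : L => ϑ₁ l) =
      ((Finset.univ.filter (fun lam : (K ⧸ L) →* ℂˣ => ϑ₁ * twistFun L lam = ϑ₂)).card : ℂ) := by
  letI : CommGroup (K ⧸ L) :=
    { (inferInstance : Group (K ⧸ L)) with
      mul_comm := by
        intro a b
        induction a using QuotientGroup.induction_on with
        | H a =>
          induction b using QuotientGroup.induction_on with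
          | H b =>
            rw [← QuotientGroup.mk_mul, ← QuotientGroup.mk_mul, QuotientGroup.eq]
            apply hab
            rw [commutator_def]
            have : (a * b)⁻¹ * (b * a) = ⁅b⁻¹, a⁻¹⁆ := by
              rw [commutatorElement_def]
              group
            rw [this]
            exact Subgroup.commutator_mem_commutator (Subgroup.mem_top _) (Subgroup.mem_top _) }
  letI := Cfsg.Agent.Helper24.irrFintype (G := K)
  have hirr : ∀ lam : (K ⧸ L) →* ℂˣ, IsIrrCharacter K (ϑ₁ * twistFun L lam) := fun lam =>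
    Cfsg.Agent.Helper24.isIrrCharacter_mul_linear hϑ₁ (isCharacter_twistFun L lam).1
      (isCharacter_twistFun L lam).2
  have h1 : ∀ lam : (K ⧸ L) →* ℂˣ, classInner ϑ₂ (ϑ₁ * twistFun L lam) =
      if ϑ₁ * twistFun L lam = ϑ₂ then 1 else 0 := by
    intro lam
    rw [Cfsg.Agent.Helper24.irr_orthogonality hϑ₂ (hirr lam)]
    by_cases h : ϑ₁ * twistFun L lam = ϑ₂
    · rw [if_pos h, if_pos h.symm]
    · rw [if_neg h, if_neg (fun h' => h h'.symm)]
  have h2 : ∑ lam : (K ⧸ L) →* ℂˣ, classInner ϑ₂ (ϑ₁ * twistFun L lam) =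
      ((Finset.univ.filter (fun lam : (K ⧸ L) →* ℂˣ => ϑ₁ * twistFun L lam = ϑ₂)).card : ℂ) := by
    rw [Finset.sum_congr rfl (fun lam _ => h1 lam), Finset.sum_ite, Finset.sum_const_zero,
      add_zero, Finset.sum_const, nsmul_eq_mul, mul_one]
  rw [← h2]
  unfold classInner
  rw [← Finset.mul_sum, Finset.sum_comm]
  have h3 : ∀ k : K, ∑ lam : (K ⧸ L) →* ℂˣ, ϑ₂ k * conj ((ϑ₁ * twistFun L lam) k) =
      if k ∈ L then (L.index : ℂ) * (ϑ₂ k * conj (ϑ₁ k)) else 0 := by
    intro k
    have h4 : ∀ lam : (K ⧸ L) →* ℂˣ, ϑ₂ k * conj ((ϑ₁ * twistFun L lam) k) =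
        ϑ₂ k * conj (ϑ₁ k) * conj (((lam (QuotientGroup.mk k) : ℂˣ) : ℂ)) := by
      intro lam
      rw [Pi.mul_apply, map_mul, twistFun_apply]
      ring
    rw [Finset.sum_congr rfl (fun lam _ => h4 lam), ← Finset.mul_sum, ← map_sum,
      sum_monoidHom_apply]
    by_cases hk : k ∈ L
    · rw [if_pos hk, if_pos ((QuotientGroup.eq_one_iff k).mpr hk)]
      rw [Complex.conj_natCast, Subgroup.index_eq_card]
      ring
    · rw [if_neg hk, if_neg (fun h => hk ((QuotientGroup.eq_one_iff k).mp h))]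
      simp
  rw [Finset.sum_congr rfl (fun k _ => h3 k), ← Finset.sum_filter]
  have h5 : ∑ k ∈ Finset.univ.filter (fun k : K => k ∈ L), (L.index : ℂ) * (ϑ₂ k * conj (ϑ₁ k)) =
      (L.index : ℂ) * ∑ l : L, ϑ₂ l * conj (ϑ₁ l) := by
    rw [← Finset.mul_sum]
    congr 1
    exact Finset.sum_subtype (Finset.univ.filter (fun k : K => k ∈ L)) (by simp)
      (fun k => ϑ₂ k * conj (ϑ₁ k))
  rw [h5]
  have hcard : (Nat.card K : ℂ) = (Nat.card L : ℂ) * L.index := by
    exact_mod_cast (L.card_mul_index).symm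
  have hL0 : (Nat.card L : ℂ) ≠ 0 := by exact_mod_cast (Nat.card_pos (α := L)).ne'
  have hI0 : (L.index : ℂ) ≠ 0 := by
    have : L.index ≠ 0 := Subgroup.index_ne_zero_of_finite
    exact_mod_cast this
  rw [hcard]
  field_simp

end TwoChar

section FixedPoint

/-- A `2`-group stabilizing a finite set of odd size has a fixed point in it. -/
theorem exists_fixed_of_odd {A X : Type*} [Group A] [MulAction A X] (hA : IsPGroup 2 A)
    (Y : Set X) (hY : ∀ a : A, ∀ y ∈ Y, a • y ∈ Y) (hfin : Y.Finite) (hodd : Odd Y.ncard) :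
    ∃ y ∈ Y, ∀ a : A, a • y = y := by
  haveI : Fact (Nat.Prime 2) := ⟨Nat.prime_two⟩
  let Y' : SubMulAction A X := ⟨Y, fun a y hy => hY a y hy⟩
  haveI : Finite Y' := hfin.to_subtype
  have hnd : ¬ 2 ∣ Nat.card Y' := by
    have : Nat.card Y' = Y.ncard := Nat.card_coe_set_eq Y
    rw [this]
    intro h
    exact (Nat.not_even_iff_odd.mpr hodd) (even_iff_two_dvd.mpr h)
  obtain ⟨y, hy⟩ := hA.nonempty_fixed_point_of_prime_not_dvd_card Y' hnd
  refine ⟨y.1, y.2, fun a => ?_⟩
  have := hy a
  exact congrArg Subtype.val this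

end FixedPoint

section Unique

variable {G : Type u} [Group G] [Finite G]

/-- The action of `S` on the linear characters of the normal subgroup `K`. -/
@[reducible] def homAct (K S : Subgroup G) [hK : K.Normal] : MulAction S (K →* ℂˣ) where
  smul x lam := lam.comp ((MulAut.conjNormal ((x : G)⁻¹) : MulAut K) : K →* K)
  one_smul lam := by
    apply MonoidHom.ext
    intro k
    show lam ((MulAut.conjNormal (((1 : S) : G)⁻¹) : MulAut K) k) = lam k
    simp
  mul_smul x y lam := by
    apply MonoidHom.ext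
    intro k
    show lam ((MulAut.conjNormal (((x * y : S) : G)⁻¹) : MulAut K) k) =
      lam ((MulAut.conjNormal ((y : G)⁻¹) : MulAut K) ((MulAut.conjNormal ((x : G)⁻¹) : MulAut K) k))
    congr 1
    simp [mul_inv_rev, map_mul, MulAut.mul_apply]

theorem homAct_apply (K S : Subgroup G) [hK : K.Normal] (x : S) (lam : K →* ℂˣ) (k : K) :
    letI := homAct K S
    (x • lam) k = lam ((MulAut.conjNormal ((x : G)⁻¹) : MulAut K) k) := rfl

/-- **Uniqueness** of the `S`-invariant odd-degree irreducible character of `K` over `ν`. -/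
theorem unique_invariant (L K : Subgroup G) [hL : L.Normal] [hK : K.Normal] (hLK : L ≤ K)
    (S : Subgroup G) (hS : IsPGroup 2 S)
    (hab : ∀ a ∈ K, ∀ b ∈ K, a * b * a⁻¹ * b⁻¹ ∈ L)
    (ν : IrrCharacter L) (hνK : ∀ k ∈ K, Helper5.conjFun L k ν.1 = ν.1)
    (hH3 : ∀ lam : K →* ℂˣ, (∀ k : K, (k : G) ∈ L → lam k = 1) →
      (∀ x ∈ S, ∀ k : K, lam ((MulAut.conjNormal x : MulAut K) k) = lam k) → lam = 1)
    (η₁ η₂ : IrrCharacter K) (hodd₁ : Odd (charDegree η₁.1)) (hodd₂ : Odd (charDegree η₂.1))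
    (hS₁ : ∀ x ∈ S, Helper5.conjFun K x η₁.1 = η₁.1)
    (hS₂ : ∀ x ∈ S, Helper5.conjFun K x η₂.1 = η₂.1)
    (hov₁ : Under hLK η₁.1 ν.1) (hov₂ : Under hLK η₂.1 ν.1) : η₁ = η₂ := by
  classical
  letI : Fintype G := Fintype.ofFinite G
  letI : Fintype K := Fintype.ofFinite K
  letI : Fintype L := Fintype.ofFinite L
  letI : Fintype (L.subgroupOf K) := Fintype.ofFinite _
  haveI hL'n : (L.subgroupOf K).Normal := Subgroup.normal_subgroupOf
  letI : Fintype ((K ⧸ L.subgroupOf K) →* ℂˣ) := Fintype.ofFinite _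
  set L' : Subgroup K := L.subgroupOf K with hL'
  set ν' : L' → ℂ := thetaSub L K hLK ν.1 with hν'
  have hν'irr : IsIrrCharacter L' ν' := isIrrCharacter_comp_equiv _ ν.2
  have hinv' : ∀ k : K, Helper5.conjFun L' k ν' = ν' := by
    intro k
    funext n
    rw [Helper5.conjFun_apply]
    have := congrFun (hνK k k.2) (Subgroup.subgroupOfEquivOfLe hLK n)
    rw [Helper5.conjFun_apply] at this
    exact this
  have hab' : commutator K ≤ L' := by
    rw [commutator_def, Subgroup.commutator_le]
    intro a _ b _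
    rw [hL', Subgroup.mem_subgroupOf]
    have := hab a a.2 b b.2
    simpa [commutatorElement_def] using this
  have hcon₁ : classInner (fun n : L' => η₁.1 n) ν' ≠ 0 := by
    rw [hν', classInner_thetaSub]
    exact hov₁
  have hcon₂ : classInner (fun n : L' => η₂.1 n) ν' ≠ 0 := by
    rw [hν', classInner_thetaSub]
    exact hov₂
  obtain ⟨e₁, he₁0, -, hres₁⟩ := restrict_eq_smul_of_invariant L' η₁.2 hν'irr hinv' hcon₁
  obtain ⟨e₂, he₂0, -, hres₂⟩ := restrict_eq_smul_of_invariant L' η₂.2 hν'irr hinv' hcon₂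
  -- the multiplicities are odd
  have hdeg : ∀ (η : IrrCharacter K) (e : ℕ), (fun n : L' => η.1 n) = (e : ℂ) • ν' →
      Odd (charDegree η.1) → Odd e := by
    intro η e hres ho
    have h1 := congrFun hres 1
    have h2 : η.1 ((1 : L') : K) = η.1 1 := rfl
    rw [h2, Pi.smul_apply, smul_eq_mul, irr_one_eq_charDegree η.2,
      irr_one_eq_charDegree hν'irr] at h1
    have h3 : charDegree η.1 = e * charDegree ν' := by exact_mod_cast h1
    rw [h3] at ho
    exact (Nat.odd_mul.mp ho).1
  have ho₁ := hdeg η₁ e₁ hres₁ hodd₁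
  have ho₂ := hdeg η₂ e₂ hres₂ hodd₂
  -- counting the linear characters carrying `η₁` to `η₂`
  have hcount := classInner_restrict_eq_card L' hab' η₁.2 η₂.2
  rw [hres₁, hres₂, classInner_smul_left, classInner_smul_right,
    Cfsg.Agent.Helper24.irr_orthogonality hν'irr hν'irr, if_pos rfl, mul_one] at hcount
  have hcard : (Finset.univ.filter (fun lam : (K ⧸ L') →* ℂˣ =>
      η₁.1 * twistFun L' lam = η₂.1)).card = e₂ * e₁ := by
    have : ((e₂ * e₁ : ℕ) : ℂ) = ((Finset.univ.filter (fun lam : (K ⧸ L') →* ℂˣ =>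
        η₁.1 * twistFun L' lam = η₂.1)).card : ℂ) := by
      rw [← hcount]
      push_cast
      simp
    exact_mod_cast this.symm
  -- the corresponding set of homomorphisms on `K`
  let f : ((K ⧸ L') →* ℂˣ) → (K →* ℂˣ) := fun lam => lam.comp (QuotientGroup.mk' L')
  have hf : Function.Injective f := by
    intro a b hab
    apply MonoidHom.ext
    intro q
    induction q using QuotientGroup.induction_on with
    | H k => exact DFunLike.congr_fun hab k
  set Y : Set (K →* ℂˣ) := {lam | (∀ k : K, (k : G) ∈ L → lam k = 1) ∧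
    η₁.1 * (fun k => ((lam k : ℂˣ) : ℂ)) = η₂.1} with hY
  have hYimg : Y = f '' ((Finset.univ.filter (fun lam : (K ⧸ L') →* ℂˣ =>
      η₁.1 * twistFun L' lam = η₂.1) : Finset _) : Set _) := by
    ext lam
    constructor
    · rintro ⟨h1, h2⟩
      have hker : L' ≤ lam.ker := by
        intro k hk
        rw [MonoidHom.mem_ker]
        exact h1 k (Subgroup.mem_subgroupOf.mp hk)
      refine ⟨QuotientGroup.lift L' lam hker, ?_, ?_⟩
      · rw [Finset.coe_filter]
        refine ⟨Finset.mem_univ _, ?_⟩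
        rw [← h2]
        rfl
      · apply MonoidHom.ext
        intro k
        rfl
    · rintro ⟨mu, hmu, rfl⟩
      rw [Finset.coe_filter] at hmu
      refine ⟨?_, hmu.2⟩
      intro k hk
      show mu (QuotientGroup.mk k) = 1
      have : (QuotientGroup.mk k : K ⧸ L') = 1 :=
        (QuotientGroup.eq_one_iff k).mpr (Subgroup.mem_subgroupOf.mpr hk)
      rw [this, map_one]
  have hYcard : Y.ncard = e₂ * e₁ := by
    rw [hYimg, Set.ncard_image_of_injective _ hf, Set.ncard_coe_finset, hcard]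
  have hYfin : Y.Finite := Set.toFinite Y
  letI iH := homAct K S
  have hYstab : ∀ a : S, ∀ y ∈ Y, a • y ∈ Y := by
    rintro a y ⟨h1, h2⟩
    refine ⟨?_, ?_⟩
    · intro k hk
      rw [homAct_apply]
      apply h1
      show (a : G)⁻¹ * k * ((a : G)⁻¹)⁻¹ ∈ L
      exact hL.conj_mem k hk _
    · funext k
      have h3 := congrFun h2 ((MulAut.conjNormal ((a : G)⁻¹) : MulAut K) k)
      have h4 := congrFun (hS₁ (a : G)⁻¹ (S.inv_mem a.2)) k
      have h5 := congrFun (hS₂ (a : G)⁻¹ (S.inv_mem a.2)) k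
      rw [Helper5.conjFun_apply] at h4 h5
      simp only [Pi.mul_apply] at h3 ⊢
      rw [homAct_apply]
      have e1 : η₁.1 ((MulAut.conjNormal ((a : G)⁻¹) : MulAut K) k) = η₁.1 k := h4
      have e2 : η₂.1 ((MulAut.conjNormal ((a : G)⁻¹) : MulAut K) k) = η₂.1 k := h5
      rw [e1, e2] at h3
      exact h3
  have hS' : IsPGroup 2 S := hS
  obtain ⟨y, hyY, hyfix⟩ := exists_fixed_of_odd hS' Y hYstab hYfin (by
    rw [hYcard]
    exact ho₂.mul ho₁)
  have hy1 : y = 1 := by
    apply hH3 y hyY.1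
    intro x hx k
    have h1 := hyfix ⟨x⁻¹, S.inv_mem hx⟩
    have h2 := DFunLike.congr_fun h1 k
    rw [homAct_apply] at h2
    simpa using h2
  have := hyY.2
  rw [hy1] at this
  apply Subtype.ext
  rw [← this]
  funext k
  simp

end Unique

end Cfsg.Agent.Helper24.OddMcKay
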