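import Mathlib
import Cfsg.Prelude.Def_Blocks
import Cfsg.Agent.Lib.Helper24.OddMcKayD

/-!
# Odd-degree characters and Sylow `2`-normalizers in solvable groups, part F
(helper24's shared library)

The restriction bijection: if `G = K N`, `K ∩ N = L`, and the `G`-invariant irreducible character
`η₀` of `K` restricts irreducibly to `L`, then restriction is a bijection from the irreducible
characters of `G` over `η₀` onto the irreducible characters of `N` over `η₀|_L`.
-/

set_option autoImplicit false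
set_option linter.style.haveILetI false
set_option linter.unusedSectionVars false

namespace Cfsg.Agent.Helper24.OddMcKay

open Cfsg Cfsg.Agent.Helper5 Cfsg.Agent.Helper18
open scoped ComplexConjugate

universe u

section Comb

variable {I J : Type*} [Fintype I] [Fintype J] (a : I → ℕ) (b : J → ℕ) (c : I → J → ℕ)

/-- Combinatorial core of the restriction bijection: uniqueness of the constituent. -/
theorem comb_unique (h1 : ∀ i, a i ≠ 0 → a i = ∑ j, c i j * b j)
    (h2 : ∀ j, b j = ∑ i, a i * c i j) (i : I) (hi : a i ≠ 0) (j₁ j₂ : J)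
    (hj₁ : c i j₁ ≠ 0) (hj₂ : c i j₂ ≠ 0) : j₁ = j₂ := by
  classical
  by_contra hne
  have hb : ∀ j, c i j ≠ 0 → a i ≤ c i j * b j := by
    intro j hj
    have h3 : a i * c i j ≤ b j := by
      rw [h2 j]
      exact Finset.single_le_sum (f := fun i' => a i' * c i' j) (fun _ _ => Nat.zero_le _)
        (Finset.mem_univ i)
    have h4 : 1 ≤ c i j := Nat.one_le_iff_ne_zero.mpr hj
    calc a i = a i * 1 := (mul_one _).symm
      _ ≤ a i * c i j := Nat.mul_le_mul_left _ h4
      _ ≤ b j := h3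
      _ = 1 * b j := (one_mul _).symm
      _ ≤ c i j * b j := Nat.mul_le_mul_right _ h4
  have h5 : c i j₁ * b j₁ + c i j₂ * b j₂ ≤ a i := by
    rw [h1 i hi, ← Finset.sum_pair (f := fun j => c i j * b j) hne]
    exact Finset.sum_le_sum_of_subset (Finset.subset_univ _)
  have := hb j₁ hj₁
  have := hb j₂ hj₂
  have : 0 < a i := Nat.pos_of_ne_zero hi
  omega

/-- Combinatorial core: the multiplicity is one. -/
theorem comb_one (h1 : ∀ i, a i ≠ 0 → a i = ∑ j, c i j * b j)
    (h2 : ∀ j, b j = ∑ i, a i * c i j) (i : I) (hi : a i ≠ 0) (j : J) (hj : c i j ≠ 0) :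
    c i j = 1 := by
  classical
  have h3 : a i * c i j ≤ b j := by
    rw [h2 j]
    exact Finset.single_le_sum (f := fun i' => a i' * c i' j) (fun _ _ => Nat.zero_le _)
      (Finset.mem_univ i)
  have h4 : c i j * b j ≤ a i := by
    rw [h1 i hi]
    exact Finset.single_le_sum (f := fun j' => c i j' * b j') (fun _ _ => Nat.zero_le _)
      (Finset.mem_univ j)
  have h5 : c i j * (a i * c i j) ≤ a i := le_trans (Nat.mul_le_mul_left _ h3) h4
  by_contra hne
  have h6 : 2 ≤ c i j := by omega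
  have h7 : 2 * (a i * 2) ≤ c i j * (a i * c i j) :=
    Nat.mul_le_mul h6 (Nat.mul_le_mul_left _ h6)
  have : 0 < a i := Nat.pos_of_ne_zero hi
  omega

/-- Combinatorial core: injectivity. -/
theorem comb_inj (h1 : ∀ i, a i ≠ 0 → a i = ∑ j, c i j * b j)
    (h2 : ∀ j, b j = ∑ i, a i * c i j) (i i' : I) (hi : a i ≠ 0) (hi' : a i' ≠ 0) (j : J)
    (hj : c i j ≠ 0) (hj' : c i' j ≠ 0) : i = i' := by
  classical
  by_contra hne
  have h3 : a i * c i j + a i' * c i' j ≤ b j := by
    rw [h2 j, ← Finset.sum_pair (f := fun i₀ => a i₀ * c i₀ j) hne]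
    exact Finset.sum_le_sum_of_subset (Finset.subset_univ _)
  have h4 : c i j * b j ≤ a i := by
    rw [h1 i hi]
    exact Finset.single_le_sum (f := fun j' => c i j' * b j') (fun _ _ => Nat.zero_le _)
      (Finset.mem_univ j)
  have h5 : 1 ≤ c i j := Nat.one_le_iff_ne_zero.mpr hj
  have h6 : 1 ≤ c i' j := Nat.one_le_iff_ne_zero.mpr hj'
  have h7 : b j ≤ c i j * b j := by
    calc b j = 1 * b j := (one_mul _).symm
      _ ≤ c i j * b j := Nat.mul_le_mul_right _ h5
  have h8 : a i ≤ a i * c i j := by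
    calc a i = a i * 1 := (mul_one _).symm
      _ ≤ a i * c i j := Nat.mul_le_mul_left _ h5
  have h9 : a i' ≤ a i' * c i' j := by
    calc a i' = a i' * 1 := (mul_one _).symm
      _ ≤ a i' * c i' j := Nat.mul_le_mul_left _ h6
  have : 0 < a i' := Nat.pos_of_ne_zero hi'
  omega

/-- Combinatorial core: surjectivity. -/
theorem comb_surj (h2 : ∀ j, b j = ∑ i, a i * c i j) (j : J) (hj : b j ≠ 0) :
    ∃ i, a i ≠ 0 ∧ c i j ≠ 0 := by
  classical
  by_contra hcon
  push Not at hcon
  apply hj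
  rw [h2 j]
  apply Finset.sum_eq_zero
  intro i _
  by_cases hi : a i = 0
  · rw [hi, zero_mul]
  · rw [hcon i hi, mul_zero]

end Comb

section RB

variable {G : Type u} [Group G] [Finite G]

/-- A sum over `N` of a function vanishing off `L ≤ N` is the sum over `L`. -/
theorem sum_eq_sum_of_le {L N : Subgroup G} (hLN : L ≤ N) [Fintype L] [Fintype N] (f : N → ℂ)
    (h0 : ∀ x : N, (x : G) ∉ L → f x = 0) :
    ∑ x : N, f x = ∑ l : L, f ⟨l, hLN l.2⟩ := by
  classical
  have hinj : Function.Injective (fun l : L => (⟨l, hLN l.2⟩ : N)) := by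
    intro x y hxy
    apply Subtype.ext
    exact congrArg (fun z : N => (z : G)) hxy
  have h1 : ∑ x ∈ (Finset.univ : Finset L).map ⟨_, hinj⟩, f x = ∑ x : N, f x := by
    apply Finset.sum_subset (Finset.subset_univ _)
    intro x _ hx
    apply h0
    intro hxL
    apply hx
    rw [Finset.mem_map]
    exact ⟨⟨x, hxL⟩, Finset.mem_univ _, rfl⟩
  rw [← h1, Finset.sum_map]
  rfl

/-- `|G : K| |L| = |N|` when `G = K N` and `K ∩ N = L`. -/
theorem index_mul_card_eq (K N L : Subgroup G) [hK : K.Normal] (hsup : K ⊔ N = ⊤)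
    (hinf : K ⊓ N = L) : K.index * Nat.card L = Nat.card N := by
  have h1 : K.relIndex (K ⊔ N) = K.relIndex N := Subgroup.relIndex_sup_left N K
  have h2 : (K ⊓ N).relIndex N = K.relIndex N := Subgroup.inf_relIndex_right K N
  rw [hsup, Subgroup.relIndex_top_right] at h1
  rw [hinf] at h2
  rw [h1, ← h2]
  have hLN : L ≤ N := hinf ▸ inf_le_right
  have h3 := Subgroup.card_mul_index (L.subgroupOf N)
  rw [Nat.card_congr (Subgroup.subgroupOfEquivOfLe hLN).toEquiv] at h3
  rw [mul_comm]
  exact h3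

/-- The multiplicity data of the restriction bijection. -/
theorem restrict_data (K N L : Subgroup G) [hK : K.Normal] (hLK : L ≤ K) (hLN : L ≤ N)
    (hsup : K ⊔ N = ⊤) (hinf : K ⊓ N = L)
    (η₀ : IrrCharacter K) (hinv : ∀ g : G, Helper5.conjFun K g η₀.1 = η₀.1)
    (ν : IrrCharacter L) (hres : resFun hLK η₀.1 = ν.1) :
    letI : Fintype G := Fintype.ofFinite G
    letI : Fintype K := Fintype.ofFinite K
    letI : Fintype L := Fintype.ofFinite L
    letI : Fintype N := Fintype.ofFinite N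
    letI : Fintype (IrrCharacter G) := irrFintype
    letI : Fintype (IrrCharacter N) := irrFintype
    ∃ (a : IrrCharacter G → ℕ) (b : IrrCharacter N → ℕ)
      (c : IrrCharacter G → IrrCharacter N → ℕ),
      (∀ χ, classInner (fun k : K => χ.1 k) η₀.1 = a χ) ∧
      (∀ ξ, classInner (resFun hLN ξ.1) ν.1 = b ξ) ∧
      (∀ χ ξ, classInner (fun n : N => χ.1 n) ξ.1 = c χ ξ) ∧
      (∀ χ, a χ ≠ 0 → a χ = ∑ ξ, c χ ξ * b ξ) ∧
      (∀ ξ, b ξ = ∑ χ, a χ * c χ ξ) := by
  classical
  letI : Fintype G := Fintype.ofFinite G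
  letI : Fintype K := Fintype.ofFinite K
  letI : Fintype L := Fintype.ofFinite L
  letI : Fintype N := Fintype.ofFinite N
  letI : Fintype (IrrCharacter G) := irrFintype
  letI : Fintype (IrrCharacter N) := irrFintype
  letI : Fintype (IrrCharacter K) := irrFintype
  letI : Fintype (IrrCharacter L) := irrFintype
  have hη₀c := isCharacter_of_isIrrCharacter η₀.2
  have hνc := isCharacter_of_isIrrCharacter ν.2
  have ha : ∀ χ : IrrCharacter G, ∃ n : ℕ, classInner (fun k : K => χ.1 k) η₀.1 = n := fun χ =>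
    classInner_char_nat (isCharacter_restrict K (isCharacter_of_isIrrCharacter χ.2)) hη₀c
  have hb : ∀ ξ : IrrCharacter N, ∃ n : ℕ, classInner (resFun hLN ξ.1) ν.1 = n := fun ξ =>
    classInner_char_nat (isCharacter_resFun hLN (isCharacter_of_isIrrCharacter ξ.2)) hνc
  have hc : ∀ (χ : IrrCharacter G) (ξ : IrrCharacter N), ∃ n : ℕ,
      classInner (fun n : N => χ.1 n) ξ.1 = n := fun χ ξ =>
    classInner_char_nat (isCharacter_restrict N (isCharacter_of_isIrrCharacter χ.2))
      (isCharacter_of_isIrrCharacter ξ.2)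
  choose a ha using ha
  choose b hb using hb
  choose c hc using hc
  refine ⟨a, b, c, ha, hb, hc, ?_, ?_⟩
  · -- first identity
    intro χ hχ
    have hcon : classInner (fun k : K => χ.1 k) η₀.1 ≠ 0 := by
      rw [ha χ]
      exact_mod_cast hχ
    obtain ⟨e, -, he1, he2⟩ := restrict_eq_smul_of_invariant K χ.2 η₀.2 hinv hcon
    have hea : e = a χ := by
      have := he1.symm.trans (ha χ)
      exact_mod_cast this
    subst hea
    have hχL : (fun l : L => χ.1 l) = ((a χ : ℕ) : ℂ) • ν.1 := by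
      funext l
      have h1 := congrFun he2 ⟨l, hLK l.2⟩
      have h2 := congrFun hres l
      rw [Pi.smul_apply, smul_eq_mul] at h1 ⊢
      rw [← h2]
      exact h1
    obtain ⟨-, hdec⟩ := isCharacter_decomp
      (isCharacter_restrict N (isCharacter_of_isIrrCharacter χ.2))
    have hχL' : (fun l : L => χ.1 l) = ∑ ξ : IrrCharacter N, ((c χ ξ : ℕ) : ℂ) • resFun hLN ξ.1 := by
      funext l
      have h1 := congrFun hdec ⟨l, hLN l.2⟩
      rw [Finset.sum_apply] at h1 ⊢
      refine h1.trans ?_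
      refine Finset.sum_congr rfl fun ξ _ => ?_
      rw [Pi.smul_apply, Pi.smul_apply, hc χ ξ]
      rfl
    have h3 : classInner (fun l : L => χ.1 l) ν.1 = (a χ : ℂ) := by
      rw [hχL, classInner_smul_left, irr_orthogonality ν.2 ν.2, if_pos rfl, mul_one]
    have h4 : classInner (fun l : L => χ.1 l) ν.1 = ∑ ξ : IrrCharacter N, (c χ ξ : ℂ) * (b ξ : ℂ) := by
      rw [hχL', classInner_sum_left]
      refine Finset.sum_congr rfl fun ξ _ => ?_
      rw [classInner_smul_left, hb ξ]
    have h5 : ((a χ : ℕ) : ℂ) = ((∑ ξ : IrrCharacter N, c χ ξ * b ξ : ℕ) : ℂ) := by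
      rw [← h3, h4]
      push_cast
      rfl
    exact_mod_cast h5
  · -- second identity
    intro ξ
    set Θ : G → ℂ := indFun K η₀.1 with hΘ
    have hΘcf : IsClassFunction G Θ := isClassFunction_indFun K η₀.1
    have hcoef : ∀ χ : IrrCharacter G, classInner Θ χ.1 = (a χ : ℂ) := by
      intro χ
      rw [hΘ, frobenius_reciprocity K η₀.1 (isClassFunction_of_isIrrCharacter χ.2),
        ← classInner_conj_symm, ha χ, Complex.conj_natCast]
    have hexp : Θ = ∑ χ : IrrCharacter G, ((a χ : ℕ) : ℂ) • χ.1 := by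
      conv_lhs => rw [classFunction_expansion hΘcf]
      refine Finset.sum_congr rfl fun χ _ => ?_
      rw [hcoef χ]
    -- first computation
    have h1 : classInner (fun n : N => Θ n) ξ.1 = ∑ χ : IrrCharacter G, (a χ : ℂ) * (c χ ξ : ℂ) := by
      have : (fun n : N => Θ n) = ∑ χ : IrrCharacter G, ((a χ : ℕ) : ℂ) • (fun n : N => χ.1 n) := by
        funext n
        rw [hexp, Finset.sum_apply, Finset.sum_apply]
        rfl
      rw [this, classInner_sum_left]
      refine Finset.sum_congr rfl fun χ _ => ?_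
      rw [classInner_smul_left, hc χ ξ]
    -- second computation
    have hval : ∀ n : N, Θ n = if h : (n : G) ∈ L then (K.index : ℂ) * ν.1 ⟨n, h⟩ else 0 := by
      intro n
      by_cases h : (n : G) ∈ L
      · rw [dif_pos h]
        have h1 := congrFun (indFun_normal_restrict_of_invariant K η₀.1 hinv) ⟨n, hLK h⟩
        rw [Pi.smul_apply, smul_eq_mul] at h1
        have h2 := congrFun hres ⟨n, h⟩
        rw [← h2]
        exact h1
      · rw [dif_neg h]
        apply indFun_normal_of_not_mem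
        intro hK'
        apply h
        rw [← hinf]
        exact ⟨hK', n.2⟩
    have h2 : classInner (fun n : N => Θ n) ξ.1 = (b ξ : ℂ) := by
      unfold classInner
      rw [sum_eq_sum_of_le hLN]
      · have h3 : ∀ l : L, (fun n : N => Θ n) ⟨l, hLN l.2⟩ * conj (ξ.1 ⟨l, hLN l.2⟩) =
            (K.index : ℂ) * (ν.1 l * conj (resFun hLN ξ.1 l)) := by
          intro l
          show Θ (l : G) * _ = _
          have := hval ⟨l, hLN l.2⟩
          rw [dif_pos l.2] at this
          rw [this]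
          show (K.index : ℂ) * ν.1 l * _ = _
          rw [mul_assoc]
          rfl
        rw [Finset.sum_congr rfl (fun l _ => h3 l), ← Finset.mul_sum]
        have h4 : classInner ν.1 (resFun hLN ξ.1) = (b ξ : ℂ) := by
          rw [← classInner_conj_symm, hb ξ, Complex.conj_natCast]
        unfold classInner at h4
        have hidx := index_mul_card_eq K N L hsup hinf
        have hL0 : (Nat.card L : ℂ) ≠ 0 := by
          have : Nat.card L ≠ 0 := Nat.card_pos.ne'
          exact_mod_cast this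
        have hN0 : (Nat.card N : ℂ) ≠ 0 := by
          have : Nat.card N ≠ 0 := Nat.card_pos.ne'
          exact_mod_cast this
        have h5 : ∑ l : L, ν.1 l * conj (resFun hLN ξ.1 l) = (Nat.card L : ℂ) * (b ξ : ℂ) := by
          rw [← h4]
          field_simp
        rw [h5, ← hidx]
        push_cast
        have hK0 : (K.index : ℂ) ≠ 0 := by
          have : K.index ≠ 0 := Subgroup.index_ne_zero_of_finite
          exact_mod_cast this
        field_simp
      · intro x hx
        show Θ (x : G) * _ = 0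
        have := hval x
        rw [dif_neg hx] at this
        rw [this, zero_mul]
    have h6 : ((b ξ : ℕ) : ℂ) = ((∑ χ : IrrCharacter G, a χ * c χ ξ : ℕ) : ℂ) := by
      rw [← h2, h1]
      push_cast
      rfl
    exact_mod_cast h6

/-- **The restriction bijection.** -/
theorem restrict_bij (K N L : Subgroup G) [hK : K.Normal] (hLK : L ≤ K) (hLN : L ≤ N)
    (hsup : K ⊔ N = ⊤) (hinf : K ⊓ N = L)
    (η₀ : IrrCharacter K) (hinv : ∀ g : G, Helper5.conjFun K g η₀.1 = η₀.1)
    (ν : IrrCharacter L) (hres : resFun hLK η₀.1 = ν.1) :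
    letI : Fintype K := Fintype.ofFinite K
    letI : Fintype L := Fintype.ofFinite L
    (∀ χ : IrrCharacter G, classInner (fun k : K => χ.1 k) η₀.1 ≠ 0 →
        IsIrrCharacter N (fun n : N => χ.1 n) ∧
          classInner (resFun hLN (fun n : N => χ.1 n)) ν.1 ≠ 0) ∧
    (∀ χ χ' : IrrCharacter G, classInner (fun k : K => χ.1 k) η₀.1 ≠ 0 →
        classInner (fun k : K => χ'.1 k) η₀.1 ≠ 0 →
        (fun n : N => χ.1 n) = (fun n : N => χ'.1 n) → χ = χ') ∧
    (∀ ξ : IrrCharacter N, classInner (resFun hLN ξ.1) ν.1 ≠ 0 →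
        ∃ χ : IrrCharacter G, classInner (fun k : K => χ.1 k) η₀.1 ≠ 0 ∧
          (fun n : N => χ.1 n) = ξ.1) := by
  classical
  letI : Fintype G := Fintype.ofFinite G
  letI : Fintype K := Fintype.ofFinite K
  letI : Fintype L := Fintype.ofFinite L
  letI : Fintype N := Fintype.ofFinite N
  letI : Fintype (IrrCharacter G) := irrFintype
  letI : Fintype (IrrCharacter N) := irrFintype
  obtain ⟨a, b, c, ha, hb, hc, h1, h2⟩ := restrict_data K N L hLK hLN hsup hinf η₀ hinv ν hres
  have ha0 : ∀ χ : IrrCharacter G, classInner (fun k : K => χ.1 k) η₀.1 ≠ 0 ↔ a χ ≠ 0 := by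
    intro χ
    rw [ha χ]
    exact Nat.cast_ne_zero
  have hb0 : ∀ ξ : IrrCharacter N, classInner (resFun hLN ξ.1) ν.1 ≠ 0 ↔ b ξ ≠ 0 := by
    intro ξ
    rw [hb ξ]
    exact Nat.cast_ne_zero
  -- claim A
  have hA : ∀ χ : IrrCharacter G, a χ ≠ 0 →
      ∃ ξ : IrrCharacter N, (fun n : N => χ.1 n) = ξ.1 ∧ c χ ξ = 1 := by
    intro χ hχ
    have hχN : IsCharacter N (fun n : N => χ.1 n) :=
      isCharacter_restrict N (isCharacter_of_isIrrCharacter χ.2)
    have hne : (fun n : N => χ.1 n) ≠ 0 := by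
      intro h
      have h1 := congrFun h 1
      have h2 : χ.1 1 ≠ 0 := by
        rw [irr_one_eq_charDegree χ.2]
        exact_mod_cast (charDegree_pos χ.2).ne'
      exact h2 h1
    obtain ⟨ξ₀, hξ₀, hcon⟩ := exists_constituent hχN hne
    have hc0 : c χ ⟨ξ₀, hξ₀⟩ ≠ 0 := by
      have := hc χ ⟨ξ₀, hξ₀⟩
      rw [this] at hcon
      exact_mod_cast hcon
    have hone := comb_one a b c h1 h2 χ hχ ⟨ξ₀, hξ₀⟩ hc0
    refine ⟨⟨ξ₀, hξ₀⟩, ?_, hone⟩
    obtain ⟨-, hdec⟩ := isCharacter_decomp hχN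
    rw [hdec]
    rw [Finset.sum_eq_single (⟨ξ₀, hξ₀⟩ : IrrCharacter N)]
    · rw [hc χ, hone, Nat.cast_one, one_smul]
    · intro ξ _ hξ
      have : c χ ξ = 0 := by
        by_contra h0
        exact hξ (comb_unique a b c h1 h2 χ hχ ξ ⟨ξ₀, hξ₀⟩ h0 hc0)
      rw [hc χ, this, Nat.cast_zero, zero_smul]
    · intro h
      exact absurd (Finset.mem_univ _) h
  refine ⟨?_, ?_, ?_⟩
  · intro χ hχ
    have hχ' := (ha0 χ).mp hχ
    obtain ⟨ξ, hξ, hone⟩ := hA χ hχ'
    refine ⟨hξ ▸ ξ.2, ?_⟩
    rw [hξ, hb0]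
    intro hb'
    have := h2 ξ
    rw [hb'] at this
    have h3 := (Finset.sum_eq_zero_iff.mp this.symm) χ (Finset.mem_univ _)
    rw [hone, mul_one] at h3
    exact hχ' h3
  · intro χ χ' hχ hχ' heq
    have hχa := (ha0 χ).mp hχ
    have hχ'a := (ha0 χ').mp hχ'
    obtain ⟨ξ, hξ, hone⟩ := hA χ hχa
    have hc' : c χ' ξ ≠ 0 := by
      have h3 := hc χ' ξ
      rw [← heq, hξ, irr_orthogonality ξ.2 ξ.2, if_pos rfl] at h3
      intro h0
      rw [h0] at h3
      simp at h3
    have hc1 : c χ ξ ≠ 0 := by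
      rw [hone]
      exact one_ne_zero
    exact comb_inj a b c h1 h2 χ χ' hχa hχ'a ξ hc1 hc'
  · intro ξ hξ
    have hξb := (hb0 ξ).mp hξ
    obtain ⟨χ, hχa, hcχ⟩ := comb_surj a b c h2 ξ hξb
    refine ⟨χ, (ha0 χ).mpr hχa, ?_⟩
    obtain ⟨ξ', hξ', -⟩ := hA χ hχa
    have h3 := hc χ ξ
    rw [hξ', irr_orthogonality ξ'.2 ξ.2] at h3
    by_cases h4 : ξ'.1 = ξ.1
    · rw [hξ', h4]
    · rw [if_neg h4] at h3
      exfalso
      apply hcχ
      exact_mod_cast h3.symm

/-- **The count over `η₀` in `G` equals the count over `ν` in `N`.** -/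
theorem cntTop_eq_cnt_of_restrict (s : Sig.{u}) (K N L : Subgroup G) [hK : K.Normal]
    (hLK : L ≤ K) (hLN : L ≤ N) (hsup : K ⊔ N = ⊤) (hinf : K ⊓ N = L)
    (η₀ : IrrCharacter K) (hinv : ∀ g : G, Helper5.conjFun K g η₀.1 = η₀.1)
    (ν : IrrCharacter L) (hres : resFun hLK η₀.1 = ν.1) (hfix : IsFix s η₀.1) :
    cntTop s K η₀.1 = cnt s L N hLN ν.1 := by
  classical
  letI : Fintype G := Fintype.ofFinite G
  letI : Fintype K := Fintype.ofFinite K
  letI : Fintype L := Fintype.ofFinite L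
  letI : Fintype N := Fintype.ofFinite N
  obtain ⟨hB1, hB2, hB3⟩ := restrict_bij K N L hLK hLN hsup hinf η₀ hinv ν hres
  unfold cntTop cnt
  let f : {χ : IrrCharacter G // GoodTop s K η₀.1 χ.1} →
      {ξ : IrrCharacter N // Good s L N hLN ν.1 ξ.1} := fun χ =>
    ⟨⟨fun n : N => χ.1.1 n, (hB1 χ.1 χ.2.2.2).1⟩, by
      refine ⟨?_, ?_, (hB1 χ.1 χ.2.2.2).2⟩
      · funext n
        exact congrFun χ.2.1 n
      · exact χ.2.2.1⟩
  apply Nat.card_congr
  refine Equiv.ofBijective f ⟨?_, ?_⟩
  · intro χ χ' h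
    apply Subtype.ext
    apply hB2 χ.1 χ'.1 χ.2.2.2 χ'.2.2.2
    have := congrArg (fun x : {ξ : IrrCharacter N // Good s L N hLN ν.1 ξ.1} => x.1.1) h
    exact this
  · intro ξ
    obtain ⟨χ, hχ, hχξ⟩ := hB3 ξ.1 ξ.2.2.2
    have hfixχ : IsFix s χ.1 := by
      have hover : classInner (fun k : K => (s.apIrr χ).1 k) η₀.1 ≠ 0 := by
        have h1 : (fun k : K => (s.apIrr χ).1 k) = s.ap (fun k : K => χ.1 k) := rfl
        rw [h1]
        conv_lhs => rw [← hfix]
        rw [s.classInner_ap]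
        intro h0
        apply hχ
        apply s.σ_injective
        rw [h0, map_zero]
      have hres' : (fun n : N => (s.apIrr χ).1 n) = (fun n : N => χ.1 n) := by
        have h1 : (fun n : N => (s.apIrr χ).1 n) = s.ap (fun n : N => χ.1 n) := rfl
        rw [h1, hχξ]
        exact ξ.2.1
      have := hB2 (s.apIrr χ) χ hover hχ hres'
      exact congrArg Subtype.val this
    refine ⟨⟨χ, hfixχ, ?_, hχ⟩, ?_⟩
    · have h1 : charDegree χ.1 = charDegree ξ.1.1 := by
        rw [← hχξ]
        rfl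
      rw [h1]
      exact ξ.2.2.1
    · apply Subtype.ext
      apply Subtype.ext
      exact hχξ

end RB

end Cfsg.Agent.Helper24.OddMcKay
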