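import Mathlib
import Cfsg.Prelude.Def_Blocks
import Cfsg.Agent.Lib.Helper24.OddMcKayF

/-!
# Odd-degree characters and Sylow `2`-normalizers in solvable groups, part G
(helper24's shared library)

The real hard case: `K / L` of odd order, `G = K N`, `K ∩ N = L`, `ν` real and `G`-invariant.
-/

set_option autoImplicit false
set_option linter.style.haveILetI false
set_option linter.unusedSectionVars false

namespace Cfsg.Agent.Helper24.OddMcKay

open Cfsg Cfsg.Agent.Helper5 Cfsg.Agent.Helper18
open scoped ComplexConjugate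

universe u

section Unique

variable {G : Type u} [Group G] [Finite G]

/-- If `η₀` is the only possible `σ`-fixed `S`-invariant odd-degree character of `K` over `ν`, the
count over `ν` is the count over `η₀`. -/
theorem cnt_eq_of_unique (s : Sig.{u}) (L K : Subgroup G) [hL : L.Normal] [hK : K.Normal]
    (hLK : L ≤ K) (S U : Subgroup G) (hS : IsPGroup 2 S) (hKU : K ≤ U) (hSU : S ≤ U)
    (ν : IrrCharacter L) (hinv : ∀ u ∈ U, Helper5.conjFun L u ν.1 = ν.1)
    (η₀ : IrrCharacter K) (hη₀ : Under hLK η₀.1 ν.1)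
    (huniq : ∀ η : IrrCharacter K, Om s L K hLK S ν.1 η.1 → Odd (charDegree η.1) → η = η₀) :
    cnt s L U (hLK.trans hKU) ν.1 = cnt s K U hKU η₀.1 := by
  classical
  letI : Fintype G := Fintype.ofFinite G
  letI : Fintype K := Fintype.ofFinite K
  letI : Fintype L := Fintype.ofFinite L
  letI : Fintype U := Fintype.ofFinite U
  letI : Fintype (IrrCharacter K) := irrFintype
  unfold cnt
  apply Nat.card_congr
  refine Equiv.subtypeEquivRight ?_
  intro ξ
  constructor
  · intro hξ
    obtain ⟨η, hη, hu⟩ := part_exists s L K hLK S U hS hKU hSU ν hinv ξ hξ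
    have hoddη : Odd (charDegree η.1) := by
      have hd := degree_eq_of_constituent_rel K U hKU η.2 ξ.2 hu
      obtain ⟨e, he⟩ := classInner_char_nat
        (isCharacter_resFun hKU (isCharacter_of_isIrrCharacter ξ.2))
        (isCharacter_of_isIrrCharacter η.2)
      rw [he, irr_one_eq_charDegree ξ.2, irr_one_eq_charDegree η.2] at hd
      have hd' : charDegree ξ.1 = e * (inertia K η.1).relIndex U * charDegree η.1 := by
        exact_mod_cast hd
      have := hξ.2.1
      rw [hd'] at this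
      exact (Nat.odd_mul.mp this).2
    have := huniq η hη hoddη
    subst this
    exact ⟨hξ.1, hξ.2.1, hu⟩
  · intro hξ
    exact ⟨hξ.1, hξ.2.1, over_trans hLK hKU (isCharacter_of_isIrrCharacter ξ.2) η₀.2
      (isCharacter_of_isIrrCharacter ν.2) hξ.2.2 hη₀⟩

end Unique

section RealExt

variable {G : Type u} [Group G] [Finite G]

/-- The unique real extension to `K` of a real `K`-invariant character of `L`, `K / L` of odd
order. -/
theorem exists_real_ext (L K : Subgroup G) [hL : L.Normal] [hK : K.Normal] (hLK : L ≤ K)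
    (hodd : Odd (L.relIndex K)) (ν : IrrCharacter L) (hreal : IsFix Sig.conj ν.1)
    (hinvK : ∀ k ∈ K, Helper5.conjFun L k ν.1 = ν.1) :
    ∃ η₀ : IrrCharacter K, IsFix Sig.conj η₀.1 ∧ resFun hLK η₀.1 = ν.1 ∧
      ∀ η : IrrCharacter K, IsFix Sig.conj η.1 → Under hLK η.1 ν.1 → η = η₀ := by
  classical
  letI : Fintype G := Fintype.ofFinite G
  letI : Fintype K := Fintype.ofFinite K
  letI : Fintype L := Fintype.ofFinite L
  letI : Fintype (L.subgroupOf K) := Fintype.ofFinite _
  haveI hL'n : (L.subgroupOf K).Normal := Subgroup.normal_subgroupOf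
  set L' : Subgroup K := L.subgroupOf K with hL'
  set θ : L' → ℂ := thetaSub L K hLK ν.1 with hθ
  have hθirr : IsIrrCharacter L' θ := isIrrCharacter_comp_equiv _ ν.2
  have hodd' : Odd L'.index := hodd
  have hθreal : Cfsg.Agent.Helper24.Glaub.IsRealFun θ := by
    intro x
    exact (isFix_conj_iff ν.1).mp hreal _
  have hinv' : ∀ k : K, Helper5.conjFun L' k θ = θ := by
    intro k
    funext n
    rw [Helper5.conjFun_apply, hθ, thetaSub_apply, thetaSub_apply]
    have h1 := congrFun (hinvK k k.2) ⟨((n : K) : G), Subgroup.mem_subgroupOf.mp n.2⟩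
    rw [Helper5.conjFun_apply] at h1
    exact h1
  obtain ⟨η₀, hη₀real, hη₀ov⟩ :=
    Cfsg.Agent.Helper24.RealNorm.exists_real_over L' hodd' ⟨θ, hθirr⟩ hθreal
  have hone := Cfsg.Agent.Helper24.RealNorm.inner_eq_one_of_real L' hodd' η₀ hη₀real ⟨θ, hθirr⟩
    hθreal hη₀ov
  obtain ⟨e, -, he1, he2⟩ := restrict_eq_smul_of_invariant L' η₀.2 hθirr hinv' hη₀ov
  have he : e = 1 := by
    have := he1.symm.trans hone
    exact_mod_cast this
  subst he
  rw [Nat.cast_one, one_smul] at he2
  refine ⟨η₀, (isFix_conj_iff η₀.1).mpr hη₀real, ?_, ?_⟩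
  · funext l
    have := congrFun he2 ⟨⟨l, hLK l.2⟩, Subgroup.mem_subgroupOf.mpr l.2⟩
    exact this
  · intro η hηreal hηov
    have hηov' : classInner (fun n : L' => η.1 n) θ ≠ 0 := by
      rw [hθ, classInner_thetaSub]
      exact hηov
    exact (Cfsg.Agent.Helper24.RealNorm.real_over_unique L' hodd').2 η η₀
      ((isFix_conj_iff η.1).mp hηreal) hη₀real ⟨θ, hθirr⟩ hθreal hηov' hη₀ov

end RealExt

section RealHard

variable {G : Type u} [Group G] [Finite G]

theorem resFun_conjFun {L K : Subgroup G} [hL : L.Normal] [hK : K.Normal] (hLK : L ≤ K) (g : G)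
    (η : K → ℂ) : resFun hLK (Helper5.conjFun K g η) = Helper5.conjFun L g (resFun hLK η) := rfl

/-- **The real hard case.** -/
theorem real_hard (L K N : Subgroup G) [hL : L.Normal] [hK : K.Normal] (hLK : L ≤ K)
    (hLN : L ≤ N) (hsup : K ⊔ N = ⊤) (hinf : K ⊓ N = L) (hodd : Odd (L.relIndex K))
    (ν : IrrCharacter L) (hreal : IsFix Sig.conj ν.1)
    (hinv : ∀ g : G, Helper5.conjFun L g ν.1 = ν.1) :
    cnt Sig.conj L ⊤ le_top ν.1 = cnt Sig.conj L N hLN ν.1 := by
  classical
  letI : Fintype G := Fintype.ofFinite G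
  letI : Fintype K := Fintype.ofFinite K
  letI : Fintype L := Fintype.ofFinite L
  obtain ⟨η₀, hη₀real, hη₀res, hη₀uniq⟩ :=
    exists_real_ext L K hLK hodd ν hreal (fun k _ => hinv k)
  have hη₀ov : Under hLK η₀.1 ν.1 := by
    unfold Under
    rw [hη₀res, irr_orthogonality ν.2 ν.2, if_pos rfl]
    exact one_ne_zero
  -- invariance
  have hη₀inv : ∀ g : G, Helper5.conjFun K g η₀.1 = η₀.1 := by
    intro g
    have h1 : IsFix Sig.conj (Helper5.conjFun K g η₀.1) := by
      funext k
      exact congrFun hη₀real _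
    have h2 : Under hLK (Helper5.conjFun K g η₀.1) ν.1 := by
      unfold Under
      rw [resFun_conjFun, hη₀res, hinv g, irr_orthogonality ν.2 ν.2, if_pos rfl]
      exact one_ne_zero
    have := hη₀uniq ⟨_, Helper5.isIrrCharacter_conjFun K g η₀.2⟩ h1 h2
    exact congrArg Subtype.val this
  have h1 : cnt Sig.conj L ⊤ le_top ν.1 = cnt Sig.conj K ⊤ le_top η₀.1 :=
    cnt_eq_of_unique Sig.conj L K hLK ⊥ ⊤ (IsPGroup.of_bot) le_top bot_le ν
      (fun u _ => hinv u) η₀ hη₀ov (fun η hη _ => hη₀uniq η hη.1 hη.2.2)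
  rw [h1, cnt_top]
  exact cntTop_eq_cnt_of_restrict Sig.conj K N L hLK hLN hsup hinf η₀ hη₀inv ν hη₀res hη₀real

end RealHard

end Cfsg.Agent.Helper24.OddMcKay
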