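import Mathlib
import Cfsg.Prelude.Def_Blocks
import Cfsg.Agent.Lib.Helper24.OddMcKayG
import Cfsg.Agent.Lib.Helper24.CharLinear
import Cfsg.Agent.Lib.Helper5.ExtUnique
import Cfsg.Agent.Lib.Helper5.DetChar
import Cfsg.Agent.S0856

/-!
# Odd-degree characters and Sylow `2`-normalizers in solvable groups, part H
(helper24's shared library)

Tools for the self-normalizing hard case: odd-degree constituents, the number of extensions of an
invariant character (Gallagher), and linear characters of `G / K` when `G = K P`.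
-/

set_option autoImplicit false
set_option linter.style.haveILetI false
set_option linter.unusedSectionVars false

namespace Cfsg.Agent.Helper24.OddMcKay

open Cfsg Cfsg.Agent.Helper5 Cfsg.Agent.Helper18
open scoped ComplexConjugate

universe u

section OddConstituent

variable {A : Type u} [Group A] [Finite A]

/-- A character of odd degree has an irreducible constituent of odd degree. -/
theorem exists_odd_constituent {Θ : A → ℂ} (hΘ : IsCharacter A Θ) (hodd : Odd (charDegree Θ)) :
    letI : Fintype A := Fintype.ofFinite A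
    ∃ χ : IrrCharacter A, Odd (charDegree χ.1) ∧ classInner Θ χ.1 ≠ 0 := by
  classical
  letI : Fintype A := Fintype.ofFinite A
  letI : Fintype (IrrCharacter A) := irrFintype
  obtain ⟨hm, hdec⟩ := isCharacter_decomp hΘ
  choose m hm using hm
  by_contra hcon
  push Not at hcon
  have h1 : Θ 1 = ((∑ χ : IrrCharacter A, m χ * charDegree χ.1 : ℕ) : ℂ) := by
    conv_lhs => rw [hdec]
    rw [Finset.sum_apply]
    push_cast
    refine Finset.sum_congr rfl fun χ _ => ?_
    rw [Pi.smul_apply, hm χ, irr_one_eq_charDegree χ.2, smul_eq_mul]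
  have h2 : charDegree Θ = ∑ χ : IrrCharacter A, m χ * charDegree χ.1 :=
    charDegree_natCast _ h1
  rw [h2] at hodd
  have h3 : Even (∑ χ : IrrCharacter A, m χ * charDegree χ.1) := by
    apply Finset.even_sum
    intro χ _
    by_cases hχ : Odd (charDegree χ.1)
    · have := hcon χ hχ
      rw [hm χ] at this
      have h0 : m χ = 0 := by exact_mod_cast this
      rw [h0, zero_mul]
      exact Even.zero
    · exact (Nat.not_odd_iff_even.mp hχ).mul_left _
  exact (Nat.not_even_iff_odd.mpr hodd) h3

end OddConstituent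

section OverTop

variable {G : Type u} [Group G] [Finite G]

/-- Transitivity of "lying over", for a function on the whole group. -/
theorem over_trans_top {L P : Subgroup G} (hLP : L ≤ P) {χ : G → ℂ} (hχ : IsCharacter G χ)
    {ξ : P → ℂ} (hξ : IsIrrCharacter P ξ) {ν : L → ℂ} (hν : IsCharacter L ν) :
    letI : Fintype P := Fintype.ofFinite P
    letI : Fintype L := Fintype.ofFinite L
    classInner (fun p : P => χ p) ξ ≠ 0 → classInner (resFun hLP ξ) ν ≠ 0 →
      classInner (fun l : L => χ l) ν ≠ 0 := by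
  letI : Fintype P := Fintype.ofFinite P
  letI : Fintype L := Fintype.ofFinite L
  intro h1 h2
  obtain ⟨ρ, hρ, hdec⟩ := exists_add_of_constituent (isCharacter_restrict P hχ) hξ h1
  have e : (fun l : L => χ l) = resFun hLP ξ + resFun hLP ρ := by
    have : (fun l : L => χ l) = resFun hLP (fun p : P => χ p) := rfl
    rw [this, hdec]
    rfl
  rw [e]
  exact classInner_add_ne_zero (isCharacter_resFun hLP (isCharacter_of_isIrrCharacter hξ))
    (isCharacter_resFun hLP hρ) hν h2

end OverTop

section Gallagher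

variable {A : Type u} [Group A] [Finite A]

/-- **Gallagher count**: if the irreducible character `θ` of the normal subgroup `M` extends to
`A`, the number of its extensions is the number of linear characters of `A / M`. -/
theorem card_ext_eq_card_hom (M : Subgroup A) [hM : M.Normal] (θ : M → ℂ)
    (hθ : IsIrrCharacter M θ) (χ₀ : IrrCharacter A) (h₀ : (fun m : M => χ₀.1 m) = θ) :
    Nat.card {χ : IrrCharacter A // (fun m : M => χ.1 m) = θ} =
      Nat.card {f : A →* ℂˣ // ∀ m ∈ M, f m = 1} := by
  classical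
  letI : Fintype A := Fintype.ofFinite A
  letI : Fintype M := Fintype.ofFinite M
  symm
  apply Nat.card_congr
  let Φ : {f : A →* ℂˣ // ∀ m ∈ M, f m = 1} →
      {χ : IrrCharacter A // (fun m : M => χ.1 m) = θ} := fun f =>
    ⟨⟨fun g => ((f.1 g : ℂˣ) : ℂ) * χ₀.1 g, isIrrCharacter_twist f.1 χ₀.2⟩, by
      funext m
      show ((f.1 (m : A) : ℂˣ) : ℂ) * χ₀.1 (m : A) = θ m
      rw [f.2 m m.2, Units.val_one, one_mul]
      exact congrFun h₀ m⟩
  refine Equiv.ofBijective Φ ⟨?_, ?_⟩
  · intro f₁ f₂ h
    have h' : (fun g => ((f₁.1 g : ℂˣ) : ℂ) * χ₀.1 g) = (fun g => ((f₂.1 g : ℂˣ) : ℂ) * χ₀.1 g) :=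
      congrArg (fun x : {χ : IrrCharacter A // (fun m : M => χ.1 m) = θ} => x.1.1) h
    have hθinv : ∀ (g : A) (n : M), θ ⟨g * n * g⁻¹, hM.conj_mem (n : A) n.2 g⟩ = θ n := by
      intro g n
      rw [← h₀]
      exact isClassFunction_of_isIrrCharacter χ₀.2 (n : A) g
    have hprod : IsIrrCharacter M ((fun _ : M => (1 : ℂ)) * θ) := by
      have : ((fun _ : M => (1 : ℂ)) * θ) = θ := by
        funext m
        simp
      rw [this]
      exact hθ
    have hbij := Cfsg.Agent.S0856.result M (fun _ => (1 : ℂ)) θ isIrrCharacter_one hθ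
      (fun _ _ => rfl) hθinv hprod χ₀.1 χ₀.2 (fun n => congrFun h₀ n)
    have hmem : ∀ f : {f : A →* ℂˣ // ∀ m ∈ M, f m = 1},
        (fun g => ((f.1 g : ℂˣ) : ℂ)) ∈ {β : A → ℂ | IsIrrCharacter A β ∧
          classInner (indFun M (fun _ => (1 : ℂ))) β ≠ 0} := by
      intro f
      refine ⟨isIrrCharacter_of_monoidHom f.1, ?_⟩
      apply constituent_ind_one_of_ntrivial M (isIrrCharacter_of_monoidHom f.1)
      intro n hn
      rw [f.2 n hn, map_one]
    have := hbij.injOn (hmem f₁) (hmem f₂) h'
    apply Subtype.ext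
    apply MonoidHom.ext
    intro g
    apply Units.ext
    exact congrFun this g
  · intro χ
    have hres : ∀ n : M, χ.1.1 n = χ₀.1 n := by
      intro n
      have h1 := congrFun χ.2 n
      have h2 := congrFun h₀ n
      exact h1.trans h2.symm
    have hirr : IsIrrCharacter M (fun n : M => χ₀.1 n) := by
      rw [h₀]
      exact hθ
    obtain ⟨β, hβ1, hβ2⟩ := exists_hom_of_extensions_char M χ₀.2 χ.1.2 hirr hres
    refine ⟨⟨β, fun m hm => hβ1 ⟨m, hm⟩⟩, ?_⟩
    apply Subtype.ext
    apply Subtype.ext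
    exact hβ2.symm

end Gallagher

section HomRestrict

variable {G : Type u} [Group G]

/-- When `G = K P` and `K ∩ P = L`, the linear characters of `G` trivial on `K` restrict
bijectively to the linear characters of `P` trivial on `L`. -/
theorem card_hom_eq_of_sup (K P L : Subgroup G) [hK : K.Normal] (hsup : K ⊔ P = ⊤)
    (hinf : K ⊓ P = L) :
    Nat.card {f : G →* ℂˣ // ∀ k ∈ K, f k = 1} =
      Nat.card {f : P →* ℂˣ // ∀ x : P, (x : G) ∈ L → f x = 1} := by
  classical
  -- the surjection `P → G / K`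
  let φ : P →* G ⧸ K := (QuotientGroup.mk' K).comp P.subtype
  have hφsurj : Function.Surjective φ := by
    intro q
    induction q using QuotientGroup.induction_on with
    | H g =>
      have hg : g ∈ K ⊔ P := by
        rw [hsup]
        exact Subgroup.mem_top g
      have hg' : g ∈ ((K ⊔ P : Subgroup G) : Set G) := hg
      rw [Subgroup.normal_mul] at hg'
      obtain ⟨k, hk, p, hp, rfl⟩ := Set.mem_mul.mp hg'
      refine ⟨⟨p, hp⟩, ?_⟩
      show (QuotientGroup.mk (p : G) : G ⧸ K) = QuotientGroup.mk (k * p)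
      rw [QuotientGroup.eq]
      have : p⁻¹ * (k * p) = p⁻¹ * k * p⁻¹⁻¹ := by group
      rw [this]
      exact hK.conj_mem k hk p⁻¹
  have hφker : ∀ x : P, φ x = 1 ↔ (x : G) ∈ L := by
    intro x
    show (QuotientGroup.mk (x : G) : G ⧸ K) = 1 ↔ _
    rw [QuotientGroup.eq_one_iff, ← hinf]
    constructor
    · intro h
      exact ⟨h, x.2⟩
    · intro h
      exact h.1
  apply Nat.card_congr
  let Ψ : {f : G →* ℂˣ // ∀ k ∈ K, f k = 1} →
      {f : P →* ℂˣ // ∀ x : P, (x : G) ∈ L → f x = 1} := fun f =>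
    ⟨f.1.comp P.subtype, fun x hx => f.2 x (by rw [← hinf] at hx; exact hx.1)⟩
  refine Equiv.ofBijective Ψ ⟨?_, ?_⟩
  · intro f₁ f₂ h
    apply Subtype.ext
    apply MonoidHom.ext
    intro g
    have hg : g ∈ ((K ⊔ P : Subgroup G) : Set G) := by
      show g ∈ K ⊔ P
      rw [hsup]
      exact Subgroup.mem_top g
    rw [Subgroup.normal_mul] at hg
    obtain ⟨k, hk, p, hp, rfl⟩ := Set.mem_mul.mp hg
    rw [map_mul, map_mul, f₁.2 k hk, f₂.2 k hk]
    have := congrArg (fun x : {f : P →* ℂˣ // ∀ x : P, (x : G) ∈ L → f x = 1} => x.1 ⟨p, hp⟩) h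
    have h' : f₁.1 p = f₂.1 p := this
    rw [h']
  · intro f'
    -- factor `f'` through `φ`
    have hker : φ.ker ≤ f'.1.ker := by
      intro x hx
      rw [MonoidHom.mem_ker] at hx ⊢
      exact f'.2 x ((hφker x).mp hx)
    let e : P ⧸ φ.ker ≃* G ⧸ K := QuotientGroup.quotientKerEquivOfSurjective φ hφsurj
    let F : G ⧸ K →* ℂˣ := (QuotientGroup.lift φ.ker f'.1 hker).comp e.symm.toMonoidHom
    refine ⟨⟨F.comp (QuotientGroup.mk' K), ?_⟩, ?_⟩
    · intro k hk
      show F (QuotientGroup.mk k) = 1
      rw [(QuotientGroup.eq_one_iff k).mpr hk, map_one]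
    · apply Subtype.ext
      apply MonoidHom.ext
      intro p
      show F (QuotientGroup.mk (p : G)) = f'.1 p
      have h1 : e (QuotientGroup.mk p) = (QuotientGroup.mk (p : G) : G ⧸ K) := rfl
      show (QuotientGroup.lift φ.ker f'.1 hker) (e.symm (QuotientGroup.mk (p : G))) = f'.1 p
      rw [← h1, MulEquiv.symm_apply_apply]
      rfl

end HomRestrict

end Cfsg.Agent.Helper24.OddMcKay
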