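import Mathlib
import Cfsg.Prelude.Def_Blocks
import Cfsg.Agent.Lib.Helper24.OddMcKayH
import Cfsg.Agent.Lib.Helper24.OddMcKayE

/-!
# Odd-degree characters and Sylow `2`-normalizers in solvable groups, part I
(helper24's shared library)

The self-normalizing hard case: `G = K S`, `K / L` of odd order, no fixed points of `S` on the
linear characters of `K / L`.
-/

set_option autoImplicit false
set_option linter.style.haveILetI false
set_option linter.unusedSectionVars false

namespace Cfsg.Agent.Helper24.OddMcKay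

open Cfsg Cfsg.Agent.Helper5 Cfsg.Agent.Helper18
open scoped ComplexConjugate

universe u

section Basic

variable {G : Type u} [Group G] [Finite G]

/-- The degree of a constituent on a normal subgroup divides the degree; in particular it is odd
if the degree is odd. -/
theorem odd_of_under {K U : Subgroup G} [hK : K.Normal] (hKU : K ≤ U) {ξ : U → ℂ}
    (hξ : IsIrrCharacter U ξ) {η : K → ℂ} (hη : IsIrrCharacter K η) (hu : Under hKU ξ η)
    (hodd : Odd (charDegree ξ)) : Odd (charDegree η) := by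
  classical
  letI : Fintype G := Fintype.ofFinite G
  letI : Fintype K := Fintype.ofFinite K
  letI : Fintype U := Fintype.ofFinite U
  letI : Fintype (IrrCharacter K) := irrFintype
  have hd := degree_eq_of_constituent_rel K U hKU hη hξ hu
  obtain ⟨e, he⟩ := classInner_char_nat
    (isCharacter_resFun hKU (isCharacter_of_isIrrCharacter hξ))
    (isCharacter_of_isIrrCharacter hη)
  rw [he, irr_one_eq_charDegree hξ, irr_one_eq_charDegree hη] at hd
  have hd' : charDegree ξ = e * (inertia K η).relIndex U * charDegree η := by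
    exact_mod_cast hd
  rw [hd'] at hodd
  exact (Nat.odd_mul.mp hodd).2

/-- No good characters over a character of even degree. -/
theorem cnt_eq_zero_of_not_odd (s : Sig.{u}) (L U : Subgroup G) [hL : L.Normal] (hLU : L ≤ U)
    (ν : IrrCharacter L) (hν : ¬ Odd (charDegree ν.1)) : cnt s L U hLU ν.1 = 0 := by
  unfold cnt
  haveI : IsEmpty {ξ : IrrCharacter U // Good s L U hLU ν.1 ξ.1} := by
    constructor
    rintro ⟨ξ, hξ⟩
    exact hν (odd_of_under hLU ξ.2 ν.2 hξ.2.2 hξ.2.1)
  exact Nat.card_of_isEmpty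

/-- Over a character of odd degree and below a subgroup of `2`-power index, the good characters
(for the identity signature) are the extensions. -/
theorem good_one_iff (L U : Subgroup G) [hL : L.Normal] (hLU : L ≤ U)
    (hidx : ∃ k : ℕ, L.relIndex U = 2 ^ k) (ν : IrrCharacter L) (hν : Odd (charDegree ν.1))
    (ξ : IrrCharacter U) : Good Sig.one L U hLU ν.1 ξ.1 ↔ resFun hLU ξ.1 = ν.1 := by
  classical
  letI : Fintype L := Fintype.ofFinite L
  constructor
  · rintro ⟨-, hodd, hov⟩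
    have hirr := restrict_irr_of_odd_rel L U hLU hidx ξ.2 hodd
    rw [irr_orthogonality hirr ν.2] at hov
    by_contra hne
    rw [if_neg hne] at hov
    exact hov rfl
  · intro h
    refine ⟨isFix_one _, ?_, ?_⟩
    · have : charDegree ξ.1 = charDegree ν.1 := by
        rw [← h]
        rfl
      rw [this]
      exact hν
    · rw [h, irr_orthogonality ν.2 ν.2, if_pos rfl]
      exact one_ne_zero

/-- `L ⊔ S` has `2`-power index over `L`. -/
theorem two_pow_relIndex_sup (L S : Subgroup G) [hL : L.Normal] (hS : IsPGroup 2 S) :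
    ∃ k : ℕ, L.relIndex (L ⊔ S) = 2 ^ k := by
  haveI : Fact (Nat.Prime 2) := ⟨Nat.prime_two⟩
  rw [Subgroup.relIndex_sup_left S L]
  obtain ⟨n, hn⟩ := IsPGroup.iff_card.mp hS
  have h1 : L.relIndex S ∣ Nat.card S := Subgroup.relIndex_dvd_card L S
  rw [hn] at h1
  obtain ⟨k, -, hk⟩ := (Nat.dvd_prime_pow Nat.prime_two).mp h1
  exact ⟨k, hk⟩

/-- `K` has `2`-power index when `G = K S`. -/
theorem two_pow_index_of_sup (K S : Subgroup G) [hK : K.Normal] (hS : IsPGroup 2 S)
    (hsup : K ⊔ S = ⊤) : ∃ k : ℕ, K.index = 2 ^ k := by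
  obtain ⟨k, hk⟩ := two_pow_relIndex_sup K S hS
  rw [hsup, Subgroup.relIndex_top_right] at hk
  exact ⟨k, hk⟩

/-- `|G : P| = |K : L|` when `G = K P` and `K ∩ P = L`. -/
theorem index_eq_relIndex_of_sup (K P L : Subgroup G) [hK : K.Normal] (hsup : K ⊔ P = ⊤)
    (hinf : K ⊓ P = L) : P.index = L.relIndex K := by
  have hLK : L ≤ K := hinf ▸ inf_le_left
  have h1 := index_mul_card_eq K P L hsup hinf
  have h2 := Subgroup.card_mul_index K
  have h3 := Subgroup.card_mul_index P
  have h4 := Subgroup.card_mul_index (L.subgroupOf K)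
  rw [Nat.card_congr (Subgroup.subgroupOfEquivOfLe hLK).toEquiv] at h4
  have h5 : (L.subgroupOf K).index = L.relIndex K := rfl
  rw [h5] at h4
  have hL0 : 0 < Nat.card L := Nat.card_pos
  have hK0 : 0 < K.index := Nat.pos_of_ne_zero Subgroup.index_ne_zero_of_finite
  -- |G| = |K| K.index = |L| rel K.index ; |G| = |P| P.index = K.index |L| P.index
  have h6 : K.index * Nat.card L * P.index = K.index * Nat.card L * L.relIndex K := by
    calc K.index * Nat.card L * P.index = Nat.card P * P.index := by rw [h1]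
      _ = Nat.card G := h3
      _ = Nat.card K * K.index := h2.symm
      _ = Nat.card L * L.relIndex K * K.index := by rw [h4]
      _ = K.index * Nat.card L * L.relIndex K := by ring
  exact Nat.eq_of_mul_eq_mul_left (Nat.mul_pos hK0 hL0) h6

end Basic

section IdHard

variable {G : Type u} [Group G] [Finite G]

/-- Extensions seen on `L` or on `L.subgroupOf P`. -/
theorem resFun_eq_iff_thetaSub {L P : Subgroup G} (hLP : L ≤ P) (ξ : P → ℂ) (ν : L → ℂ) :
    resFun hLP ξ = ν ↔ (fun m : L.subgroupOf P => ξ m) = thetaSub L P hLP ν := by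
  constructor
  · intro h
    funext m
    have := congrFun h ⟨((m : P) : G), Subgroup.mem_subgroupOf.mp m.2⟩
    exact this
  · intro h
    funext l
    have := congrFun h ⟨⟨l, hLP l.2⟩, Subgroup.mem_subgroupOf.mpr l.2⟩
    exact this

/-- **The self-normalizing hard case.** -/
theorem id_hard (L K S : Subgroup G) [hL : L.Normal] [hK : K.Normal] (hLK : L ≤ K)
    (hS : IsPGroup 2 S) (hsup : K ⊔ S = ⊤) (hinf : K ⊓ (L ⊔ S) = L)
    (hodd : Odd (L.relIndex K))
    (hab : ∀ a ∈ K, ∀ b ∈ K, a * b * a⁻¹ * b⁻¹ ∈ L)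
    (ν : IrrCharacter L) (hinv : ∀ g : G, Helper5.conjFun L g ν.1 = ν.1)
    (hH3 : ∀ lam : K →* ℂˣ, (∀ k : K, (k : G) ∈ L → lam k = 1) →
      (∀ x ∈ S, ∀ k : K, lam ((MulAut.conjNormal x : MulAut K) k) = lam k) → lam = 1) :
    cnt Sig.one L ⊤ le_top ν.1 = cnt Sig.one L (L ⊔ S) le_sup_left ν.1 := by
  classical
  letI : Fintype G := Fintype.ofFinite G
  letI : Fintype K := Fintype.ofFinite K
  letI : Fintype L := Fintype.ofFinite L
  set P₀ : Subgroup G := L ⊔ S with hP₀
  letI : Fintype P₀ := Fintype.ofFinite P₀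
  letI : Fintype (IrrCharacter P₀) := irrFintype
  letI : Fintype (IrrCharacter G) := irrFintype
  have hLP₀ : L ≤ P₀ := le_sup_left
  have hSP₀ : S ≤ P₀ := le_sup_right
  by_cases hνodd : Odd (charDegree ν.1)
  swap
  · rw [cnt_eq_zero_of_not_odd Sig.one L ⊤ le_top ν hνodd,
      cnt_eq_zero_of_not_odd Sig.one L P₀ hLP₀ ν hνodd]
  have hsup' : K ⊔ P₀ = ⊤ := by
    apply top_le_iff.mp
    rw [← hsup]
    exact sup_le_sup_left hSP₀ K
  have hidxK := two_pow_index_of_sup K S hS hsup
  have hidxL := two_pow_relIndex_sup L S hS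
  have hP₀idx : P₀.index = L.relIndex K := index_eq_relIndex_of_sup K P₀ L hsup' hinf
  have hgoodP := good_one_iff L P₀ hLP₀ hidxL ν hνodd
  have hcntP : cnt Sig.one L P₀ hLP₀ ν.1 =
      Nat.card {ξ : IrrCharacter P₀ // resFun hLP₀ ξ.1 = ν.1} := by
    unfold cnt
    exact Nat.card_congr (Equiv.subtypeEquivRight hgoodP)
  by_cases hext : ∃ ξ' : IrrCharacter P₀, resFun hLP₀ ξ'.1 = ν.1
  · -- Case A
    obtain ⟨ξ', hξ'⟩ := hext
    -- B1: an odd-degree constituent of the induced character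
    have hΘ : IsCharacter G (indFun P₀ ξ'.1) :=
      isCharacter_indFun P₀ (isCharacter_of_isIrrCharacter ξ'.2)
    have hΘodd : Odd (charDegree (indFun P₀ ξ'.1)) := by
      have h1 : indFun P₀ ξ'.1 1 = ((P₀.index * charDegree ν.1 : ℕ) : ℂ) := by
        rw [Cfsg.Agent.Helper24.indFun_one]
        have : ξ'.1 1 = ν.1 1 := by
          rw [← hξ']
          rfl
        rw [this, irr_one_eq_charDegree ν.2]
        push_cast
        rfl
      rw [charDegree_natCast _ h1, hP₀idx]
      exact hodd.mul hνodd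
    obtain ⟨χ₀, hχ₀odd, hχ₀Θ⟩ := exists_odd_constituent hΘ hΘodd
    have hχ₀c := isCharacter_of_isIrrCharacter χ₀.2
    have hχ₀ξ' : classInner (fun p : P₀ => χ₀.1 p) ξ'.1 ≠ 0 := by
      rw [frobenius_reciprocity P₀ ξ'.1 (isClassFunction_of_isIrrCharacter χ₀.2)] at hχ₀Θ
      rw [classInner_char_comm (isCharacter_restrict P₀ hχ₀c)
        (isCharacter_of_isIrrCharacter ξ'.2)]
      exact hχ₀Θ
    have hχ₀ν : classInner (fun l : L => χ₀.1 l) ν.1 ≠ 0 := by
      apply over_trans_top hLP₀ hχ₀c ξ'.2 (isCharacter_of_isIrrCharacter ν.2) hχ₀ξ'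
      rw [hξ', irr_orthogonality ν.2 ν.2, if_pos rfl]
      exact one_ne_zero
    -- view `χ₀` on `⊤`
    set ξ₀ : IrrCharacter (⊤ : Subgroup G) := irrCongr (Subgroup.topEquiv (G := G)) χ₀ with hξ₀
    have hξ₀good : Good Sig.one L ⊤ le_top ν.1 ξ₀.1 :=
      ⟨isFix_one _, hχ₀odd, hχ₀ν⟩
    obtain ⟨η₀, hη₀Om, hη₀u⟩ := part_exists Sig.one L K hLK S ⊤ hS le_top le_top ν
      (fun u _ => hinv u) ξ₀ hξ₀good
    have hη₀odd : Odd (charDegree η₀.1) := odd_of_under le_top ξ₀.2 η₀.2 hη₀u hχ₀odd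
    have huniq : ∀ η : IrrCharacter K, Om Sig.one L K hLK S ν.1 η.1 → Odd (charDegree η.1) →
        η = η₀ := by
      intro η hη hηodd
      exact unique_invariant L K hLK S hS hab ν (fun k _ => hinv k) hH3 η η₀ hηodd hη₀odd
        hη.2.1 hη₀Om.2.1 hη.2.2 hη₀Om.2.2
    have h1 : cnt Sig.one L ⊤ le_top ν.1 = cntTop Sig.one K η₀.1 := by
      rw [cnt_eq_of_unique Sig.one L K hLK S ⊤ hS le_top le_top ν (fun u _ => hinv u) η₀
        hη₀Om.2.2 huniq, cnt_top]
    -- good characters of `G` over `η₀` are the extensions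
    have hgoodG : ∀ χ : IrrCharacter G, GoodTop Sig.one K η₀.1 χ.1 ↔
        (fun k : K => χ.1 k) = η₀.1 := by
      intro χ
      constructor
      · rintro ⟨-, hoddχ, hov⟩
        have hirr := restrict_irr_of_odd K hidxK χ.2 hoddχ
        rw [irr_orthogonality hirr η₀.2] at hov
        by_contra hne
        rw [if_neg hne] at hov
        exact hov rfl
      · intro h
        refine ⟨isFix_one _, ?_, ?_⟩
        · have : charDegree χ.1 = charDegree η₀.1 := by
            rw [← h]
            rfl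
          rw [this]
          exact hη₀odd
        · rw [h, irr_orthogonality η₀.2 η₀.2, if_pos rfl]
          exact one_ne_zero
    have hχ₀η₀ : (fun k : K => χ₀.1 k) = η₀.1 :=
      (hgoodG χ₀).mp ⟨isFix_one _, hχ₀odd, hη₀u⟩
    have h2 : cntTop Sig.one K η₀.1 =
        Nat.card {χ : IrrCharacter G // (fun k : K => χ.1 k) = η₀.1} := by
      unfold cntTop
      exact Nat.card_congr (Equiv.subtypeEquivRight hgoodG)
    have h3 := card_ext_eq_card_hom K η₀.1 η₀.2 χ₀ hχ₀η₀
    have h4 := card_hom_eq_of_sup K P₀ L hsup' hinf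
    -- the `P₀` side
    haveI : (L.subgroupOf P₀).Normal := Subgroup.normal_subgroupOf
    have hθirr : IsIrrCharacter (L.subgroupOf P₀) (thetaSub L P₀ hLP₀ ν.1) :=
      isIrrCharacter_comp_equiv _ ν.2
    have h5 := card_ext_eq_card_hom (A := P₀) (L.subgroupOf P₀) (thetaSub L P₀ hLP₀ ν.1) hθirr ξ'
      ((resFun_eq_iff_thetaSub hLP₀ ξ'.1 ν.1).mp hξ')
    have h6 : Nat.card {ξ : IrrCharacter P₀ // resFun hLP₀ ξ.1 = ν.1} =
        Nat.card {ξ : IrrCharacter P₀ //
          (fun m : L.subgroupOf P₀ => ξ.1 m) = thetaSub L P₀ hLP₀ ν.1} :=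
      Nat.card_congr (Equiv.subtypeEquivRight
        (fun ξ => resFun_eq_iff_thetaSub hLP₀ ξ.1 ν.1))
    have h7 : Nat.card {f : P₀ →* ℂˣ // ∀ m ∈ L.subgroupOf P₀, f m = 1} =
        Nat.card {f : P₀ →* ℂˣ // ∀ x : P₀, (x : G) ∈ L → f x = 1} :=
      Nat.card_congr (Equiv.subtypeEquivRight (fun f => Iff.rfl))
    rw [h1, h2, h3, h4, hcntP, h6, h5, h7]
  · -- Case B
    push Not at hext
    have hzeroP : cnt Sig.one L P₀ hLP₀ ν.1 = 0 := by
      rw [hcntP]
      haveI : IsEmpty {ξ : IrrCharacter P₀ // resFun hLP₀ ξ.1 = ν.1} :=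
        ⟨fun ξ => hext ξ.1 ξ.2⟩
      exact Nat.card_of_isEmpty
    rw [hzeroP]
    unfold cnt
    haveI : IsEmpty {ξ : IrrCharacter (⊤ : Subgroup G) // Good Sig.one L ⊤ le_top ν.1 ξ.1} := by
      constructor
      rintro ⟨ξ₀, -, hξ₀odd, hξ₀ov⟩
      letI : Fintype (⊤ : Subgroup G) := Fintype.ofFinite _
      have hξ₀c := isCharacter_of_isIrrCharacter ξ₀.2
      have hresc : IsCharacter P₀ (resFun (le_top : P₀ ≤ ⊤) ξ₀.1) := isCharacter_resFun le_top hξ₀c
      have hresodd : Odd (charDegree (resFun (le_top : P₀ ≤ ⊤) ξ₀.1)) := hξ₀odd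
      obtain ⟨ξ', hξ'odd, hξ'con⟩ := exists_odd_constituent hresc hresodd
      -- `ξ'` lies over `ν`
      have hresL : IsCharacter L (resFun hLP₀ ξ'.1) :=
        isCharacter_resFun hLP₀ (isCharacter_of_isIrrCharacter ξ'.2)
      have hne : resFun hLP₀ ξ'.1 ≠ 0 := by
        intro h
        exact odd_charDegree_ne_zero hξ'odd (congrFun h 1)
      obtain ⟨ν', hν', hcon⟩ := exists_constituent hresL hne
      have h1 : classInner (resFun (hLP₀.trans le_top) ξ₀.1) ν' ≠ 0 :=
        over_trans hLP₀ le_top hξ₀c ξ'.2 (isCharacter_of_isIrrCharacter hν') hξ'con hcon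
      obtain ⟨y, -, hconj⟩ := clifford_conj_rel L ⊤ le_top ξ₀.2 ν.2 hν' hξ₀ov h1
      rw [hinv y] at hconj
      rw [← hconj] at hcon
      have hgood : Good Sig.one L P₀ hLP₀ ν.1 ξ'.1 := ⟨isFix_one _, hξ'odd, hcon⟩
      exact hext ξ' ((hgoodP ξ').mp hgood)
    exact Nat.card_of_isEmpty

end IdHard

end Cfsg.Agent.Helper24.OddMcKay
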