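import Mathlib
import Cfsg.Agent.Lib.Helper3.PrimSolv
import Cfsg.Agent.Lib.Helper24.SylIn
import Cfsg.Agent.Lib.Helper24.RealNormA

/-!
# Odd-degree characters and Sylow `2`-normalizers in solvable groups, part J
(helper24's shared library)

Group theory for the main induction: chief factors over a normal subgroup, the Frattini argument
relative to a normal subgroup, and the consequences of minimality in the hard case.
-/

set_option autoImplicit false
set_option linter.style.haveILetI false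
set_option linter.unusedSectionVars false

namespace Cfsg.Agent.Helper24.OddMcKay

universe u

section Chief

variable {G : Type u} [Group G] [Finite G]

/-- A chief factor over a proper normal subgroup of a finite solvable group. -/
theorem exists_chief [Group.IsSolvable G] (L : Subgroup G) [hL : L.Normal] (hLtop : L ≠ ⊤) :
    ∃ K : Subgroup G, K.Normal ∧ L ≤ K ∧ L ≠ K ∧
      (∀ a ∈ K, ∀ b ∈ K, a * b * a⁻¹ * b⁻¹ ∈ L) ∧
      (∃ r m : ℕ, r.Prime ∧ L.relIndex K = r ^ m) ∧
      (∀ D : Subgroup G, D.Normal → L ≤ D → D ≤ K → D = L ∨ D = K) := by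
  classical
  have hQnt : (⊤ : Subgroup (G ⧸ L)) ≠ ⊥ := by
    intro h
    apply hLtop
    rw [← QuotientGroup.ker_mk' L]
    rw [eq_top_iff]
    intro g _
    rw [MonoidHom.mem_ker]
    have : (QuotientGroup.mk' L g) ∈ (⊤ : Subgroup (G ⧸ L)) := Subgroup.mem_top _
    rw [h] at this
    exact Subgroup.mem_bot.mp this
  obtain ⟨M, ⟨hMn, hM⟩, hmin'⟩ := WellFounded.has_min
    (measure (fun M : Subgroup (G ⧸ L) => Nat.card M)).wf
    {M : Subgroup (G ⧸ L) | M.Normal ∧ M ≠ ⊥} ⟨⊤, inferInstance, hQnt⟩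
  have hmin : ∀ K' : Subgroup (G ⧸ L), K'.Normal → K' ≤ M → K' = ⊥ ∨ K' = M := by
    intro K' hK'n hK'M
    by_cases hK' : K' = ⊥
    · exact Or.inl hK'
    · right
      have h1 := hmin' K' ⟨hK'n, hK'⟩
      have h2 : Nat.card M ≤ Nat.card K' := not_lt.mp h1
      exact Subgroup.eq_of_le_of_card_ge hK'M h2
  haveI := hMn
  have hcomm := Cfsg.Agent.Helper3.commute_of_minimal_normal M hM hmin
  obtain ⟨r, d, hr, -, hcard, -⟩ :=
    Cfsg.Agent.Helper3.card_eq_prime_pow_of_minimal_normal M hM hmin hcomm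
  have hsurj : Function.Surjective (QuotientGroup.mk' L) := QuotientGroup.mk'_surjective L
  refine ⟨M.comap (QuotientGroup.mk' L), inferInstance, ?_, ?_, ?_, ⟨r, d, hr, ?_⟩, ?_⟩
  · intro x hx
    rw [Subgroup.mem_comap]
    have : QuotientGroup.mk' L x = 1 := (QuotientGroup.eq_one_iff x).mpr hx
    rw [this]
    exact M.one_mem
  · intro h
    apply hM
    rw [eq_bot_iff]
    intro q hq
    obtain ⟨g, rfl⟩ := hsurj q
    have hg : g ∈ M.comap (QuotientGroup.mk' L) := hq
    rw [← h] at hg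
    rw [Subgroup.mem_bot]
    exact (QuotientGroup.eq_one_iff g).mpr hg
  · intro a ha b hb
    have h1 := hcomm _ (Subgroup.mem_comap.mp ha) _ (Subgroup.mem_comap.mp hb)
    rw [← QuotientGroup.eq_one_iff]
    have : ((a * b * a⁻¹ * b⁻¹ : G) : G ⧸ L) =
        (QuotientGroup.mk' L a) * (QuotientGroup.mk' L b) * (QuotientGroup.mk' L a)⁻¹ *
          (QuotientGroup.mk' L b)⁻¹ := rfl
    rw [this, h1]
    group
  · have h1 := Subgroup.relIndex_ker (K := M.comap (QuotientGroup.mk' L)) (QuotientGroup.mk' L)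
    rw [QuotientGroup.ker_mk', Subgroup.map_comap_eq_self_of_surjective hsurj] at h1
    rw [h1, hcard]
  · intro D hDn hLD hDK
    haveI := hDn
    have hDmap : (D.map (QuotientGroup.mk' L)).Normal := hDn.map _ hsurj
    have hle : D.map (QuotientGroup.mk' L) ≤ M := by
      rw [Subgroup.map_le_iff_le_comap]
      exact hDK
    have hcm : (D.map (QuotientGroup.mk' L)).comap (QuotientGroup.mk' L) = D := by
      rw [Subgroup.comap_map_eq, QuotientGroup.ker_mk']
      exact sup_eq_left.mpr hLD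
    rcases hmin _ hDmap hle with h | h
    · left
      apply le_antisymm _ hLD
      intro x hx
      have : QuotientGroup.mk' L x ∈ D.map (QuotientGroup.mk' L) := Subgroup.mem_map_of_mem _ hx
      rw [h, Subgroup.mem_bot] at this
      exact (QuotientGroup.eq_one_iff x).mp this
    · right
      rw [← hcm, h]

end Chief

section Sylow

variable {G : Type u} [Group G] [Finite G]

open Cfsg.Agent.Helper24.SylIn

/-- `K ⊔ S` has `2`-power index over the normal subgroup `K`, for a `2`-group `S`. -/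
theorem relIndex_sup_two_pow (K S : Subgroup G) [hK : K.Normal] (hS : IsPGroup 2 S) :
    ∃ k : ℕ, K.relIndex (K ⊔ S) = 2 ^ k := by
  haveI : Fact (Nat.Prime 2) := ⟨Nat.prime_two⟩
  rw [Subgroup.relIndex_sup_left S K]
  obtain ⟨n, hn⟩ := IsPGroup.iff_card.mp hS
  have h1 : K.relIndex S ∣ Nat.card S := Subgroup.relIndex_dvd_card K S
  rw [hn] at h1
  obtain ⟨k, -, hk⟩ := (Nat.dvd_prime_pow Nat.prime_two).mp h1
  exact ⟨k, hk⟩

/-- A `2`-subgroup of odd index is a Sylow subgroup of every subgroup containing it. -/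
theorem isSylIn_of_odd_index (S A : Subgroup G) (hS : IsPGroup 2 S) (hodd : Odd S.index)
    (hSA : S ≤ A) : IsSylIn 2 A S := by
  haveI : Fact (Nat.Prime 2) := ⟨Nat.prime_two⟩
  obtain ⟨R, hR, hle⟩ := exists_isSylIn_ge (r := 2) hSA hS
  have hnd : ¬ 2 ∣ S.index := by
    intro h
    exact (Nat.not_even_iff_odd.mpr hodd) (even_iff_two_dvd.mpr h)
  have h1 := (hS.toSylow hnd).is_maximal' hR.isPGroup (by
    intro x hx
    exact hle hx)
  have h2 : R = S := h1
  rw [h2] at hR
  exact hR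

/-- If `K / L` is a `2`-group then `K ≤ L S`. -/
theorem sup_eq_of_two_pow (L K S : Subgroup G) [hL : L.Normal] [hK : K.Normal] (hLK : L ≤ K)
    (hS : IsPGroup 2 S) (hodd : Odd S.index) (m : ℕ) (hm : L.relIndex K = 2 ^ m) :
    K ⊔ S = L ⊔ S := by
  have hle : L ⊔ S ≤ K ⊔ S := sup_le_sup_right hLK S
  apply le_antisymm _ hle
  rw [← Subgroup.relIndex_eq_one]
  set a := (L ⊔ S).relIndex (K ⊔ S) with ha
  have h1 : S.relIndex (L ⊔ S) * a = S.relIndex (K ⊔ S) :=
    Subgroup.relIndex_mul_relIndex S (L ⊔ S) (K ⊔ S) le_sup_right hle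
  have h2 : S.relIndex (K ⊔ S) ∣ S.index := Subgroup.relIndex_dvd_index_of_le le_sup_right
  have haodd : Odd a := by
    have h3 : a ∣ S.index := (Dvd.intro_left _ h1).trans h2
    exact Odd.of_dvd_nat hodd h3
  have h4 : L.relIndex (L ⊔ S) * a = L.relIndex (K ⊔ S) :=
    Subgroup.relIndex_mul_relIndex L (L ⊔ S) (K ⊔ S) le_sup_left hle
  have h5 : L.relIndex K * K.relIndex (K ⊔ S) = L.relIndex (K ⊔ S) :=
    Subgroup.relIndex_mul_relIndex L K (K ⊔ S) hLK le_sup_left
  obtain ⟨j, hj⟩ := relIndex_sup_two_pow K S hS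
  have h6 : a ∣ 2 ^ (m + j) := by
    rw [pow_add, ← hm, ← hj, h5, ← h4]
    exact Dvd.intro_left _ rfl
  obtain ⟨i, -, hi⟩ := (Nat.dvd_prime_pow Nat.prime_two).mp h6
  rw [hi] at haodd ⊢
  rcases Nat.eq_zero_or_pos i with h0 | h0
  · rw [h0, pow_zero]
  · exfalso
    have : Even (2 ^ i) := (Nat.even_pow' h0.ne').mpr even_two
    exact (Nat.not_even_iff_odd.mpr haodd) this

/-- The normalizer of `S` normalizes `L S`. -/
theorem normalizer_le_normalizer_sup (L S : Subgroup G) [hL : L.Normal] :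
    Subgroup.normalizer (S : Set G) ≤ Subgroup.normalizer ((L ⊔ S : Subgroup G) : Set G) := by
  intro g hg
  apply Cfsg.Agent.Helper24.RealNorm.mem_normalizer_of_conj_mem
  intro x hx
  have hx' : x ∈ ((L ⊔ S : Subgroup G) : Set G) := hx
  rw [Subgroup.normal_mul] at hx'
  obtain ⟨k, hk, y, hy, rfl⟩ := Set.mem_mul.mp hx'
  have e : g * (k * y) * g⁻¹ = (g * k * g⁻¹) * (g * y * g⁻¹) := by group
  rw [e]
  apply Subgroup.mul_mem
  · exact (le_sup_left : L ≤ L ⊔ S) (hL.conj_mem k hk g)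
  · exact (le_sup_right : S ≤ L ⊔ S) ((Subgroup.mem_normalizer_iff.mp hg y).mp hy)

/-- **The relative Frattini argument.** -/
theorem normalizer_sup_le (K L S : Subgroup G) [hK : K.Normal] [hL : L.Normal]
    (hS : IsPGroup 2 S) (hodd : Odd S.index) :
    Subgroup.normalizer ((K ⊔ S : Subgroup G) : Set G) ≤
      K ⊔ Subgroup.normalizer ((L ⊔ S : Subgroup G) : Set G) := by
  haveI : Fact (Nat.Prime 2) := ⟨Nat.prime_two⟩
  intro g hg
  have hsyl : IsSylIn 2 (K ⊔ S) S := isSylIn_of_odd_index S (K ⊔ S) hS hodd le_sup_right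
  set T : Subgroup G := S.map (MulAut.conj g).toMonoidHom with hT
  have hTle : T ≤ K ⊔ S := by
    rintro _ ⟨s, hs, rfl⟩
    exact (Subgroup.mem_normalizer_iff.mp hg s).mp (le_sup_right (a := K) hs)
  have hTp : IsPGroup 2 T := hS.map _
  obtain ⟨a, haA, ha⟩ := hsyl.exists_conj_le hTle hTp
  have hag : a * g ∈ Subgroup.normalizer (S : Set G) := by
    apply Cfsg.Agent.Helper24.RealNorm.mem_normalizer_of_conj_mem
    intro s hs
    have h1 : g * s * g⁻¹ ∈ T := ⟨s, hs, rfl⟩
    have h2 := ha _ h1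
    have e : a * g * s * (a * g)⁻¹ = a * (g * s * g⁻¹) * a⁻¹ := by group
    rw [e]
    exact h2
  have hSN : S ≤ Subgroup.normalizer ((L ⊔ S : Subgroup G) : Set G) :=
    (le_sup_right : S ≤ L ⊔ S).trans Subgroup.le_normalizer
  have hAle : K ⊔ S ≤ K ⊔ Subgroup.normalizer ((L ⊔ S : Subgroup G) : Set G) :=
    sup_le_sup_left hSN K
  have e : g = a⁻¹ * (a * g) := by group
  rw [e]
  apply Subgroup.mul_mem
  · exact hAle (Subgroup.inv_mem _ haA)
  · exact le_sup_right (a := K) (normalizer_le_normalizer_sup L S hag)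

end Sylow

section Minimal

variable {G : Type u} [Group G] [Finite G]

/-- In the hard case `K ∩ N = L`. -/
theorem inf_eq_of_minimal (L K N : Subgroup G) [hL : L.Normal] [hK : K.Normal] (hLK : L ≤ K)
    (hLN : L ≤ N) (hsup : K ⊔ N = ⊤) (hN : N ≠ ⊤)
    (hab : ∀ a ∈ K, ∀ b ∈ K, a * b * a⁻¹ * b⁻¹ ∈ L)
    (hmin : ∀ D : Subgroup G, D.Normal → L ≤ D → D ≤ K → D = L ∨ D = K) :
    K ⊓ N = L := by
  have hDn : (K ⊓ N).Normal := by
    constructor
    intro d hd g
    have hg : g ∈ ((K ⊔ N : Subgroup G) : Set G) := by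
      show g ∈ K ⊔ N
      rw [hsup]
      exact Subgroup.mem_top g
    rw [Subgroup.normal_mul] at hg
    obtain ⟨k, hk, n, hn, rfl⟩ := Set.mem_mul.mp hg
    have h1 : n * d * n⁻¹ ∈ K ⊓ N :=
      ⟨hK.conj_mem d hd.1 n, N.mul_mem (N.mul_mem hn hd.2) (N.inv_mem hn)⟩
    set d' := n * d * n⁻¹ with hd'
    have e : k * n * d * (k * n)⁻¹ = (k * d' * k⁻¹ * d'⁻¹) * d' := by
      rw [hd']
      group
    rw [e]
    refine ⟨K.mul_mem (hLK (hab k hk d' h1.1)) h1.1, N.mul_mem (hLN (hab k hk d' h1.1)) h1.2⟩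
  rcases hmin (K ⊓ N) hDn (le_inf hLK hLN) inf_le_left with h | h
  · exact h
  · exfalso
    apply hN
    rw [← hsup]
    exact (sup_eq_right.mpr (inf_eq_left.mp h)).symm

/-- In the hard case `S` fixes no nontrivial linear character of `K / L`. -/
theorem h3_of_minimal (L K S : Subgroup G) [hL : L.Normal] [hK : K.Normal] (hLK : L ≤ K)
    (hKS : Subgroup.normalizer ((K ⊔ S : Subgroup G) : Set G) = ⊤)
    (hnot : ¬ K ≤ Subgroup.normalizer ((L ⊔ S : Subgroup G) : Set G))
    (hmin : ∀ D : Subgroup G, D.Normal → L ≤ D → D ≤ K → D = L ∨ D = K) :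
    ∀ lam : K →* ℂˣ, (∀ k : K, (k : G) ∈ L → lam k = 1) →
      (∀ x ∈ S, ∀ k : K, lam ((MulAut.conjNormal x : MulAut K) k) = lam k) → lam = 1 := by
  -- invariance under `K ⊔ S`
  have hinvA : ∀ lam : K →* ℂˣ,
      (∀ x ∈ S, ∀ k : K, lam ((MulAut.conjNormal x : MulAut K) k) = lam k) →
      ∀ x ∈ K ⊔ S, ∀ k : K, lam ((MulAut.conjNormal x : MulAut K) k) = lam k := by
    intro lam hlam x hx k
    have hx' : x ∈ ((K ⊔ S : Subgroup G) : Set G) := hx
    rw [Subgroup.normal_mul] at hx'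
    obtain ⟨k', hk', s, hs, rfl⟩ := Set.mem_mul.mp hx'
    rw [map_mul, MulAut.mul_apply]
    have h1 : (MulAut.conjNormal k' : MulAut K) ((MulAut.conjNormal s : MulAut K) k) =
        ⟨k', hk'⟩ * ((MulAut.conjNormal s : MulAut K) k) * ⟨k', hk'⟩⁻¹ := by
      apply Subtype.ext
      simp [MulAut.conjNormal_apply]
    rw [h1, map_mul, map_mul, map_inv, mul_comm, ← mul_assoc, inv_mul_cancel, one_mul]
    exact hlam s hs k
  -- the common kernel
  let D : Subgroup G :=
    { carrier := {g | ∃ hg : g ∈ K, ∀ lam : K →* ℂˣ, (∀ k : K, (k : G) ∈ L → lam k = 1) →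
        (∀ x ∈ S, ∀ k : K, lam ((MulAut.conjNormal x : MulAut K) k) = lam k) → lam ⟨g, hg⟩ = 1}
      mul_mem' := by
        rintro a b ⟨ha, ha'⟩ ⟨hb, hb'⟩
        refine ⟨K.mul_mem ha hb, fun lam h1 h2 => ?_⟩
        have : (⟨a * b, K.mul_mem ha hb⟩ : K) = ⟨a, ha⟩ * ⟨b, hb⟩ := rfl
        rw [this, map_mul, ha' lam h1 h2, hb' lam h1 h2, one_mul]
      one_mem' := ⟨K.one_mem, fun lam _ _ => map_one lam⟩
      inv_mem' := by
        rintro a ⟨ha, ha'⟩
        refine ⟨K.inv_mem ha, fun lam h1 h2 => ?_⟩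
        have : (⟨a⁻¹, K.inv_mem ha⟩ : K) = (⟨a, ha⟩ : K)⁻¹ := rfl
        rw [this, map_inv, ha' lam h1 h2, inv_one] }
  have hDK : D ≤ K := fun g hg => hg.1
  have hLD : L ≤ D := fun g hg => ⟨hLK hg, fun lam h1 _ => h1 ⟨g, hLK hg⟩ hg⟩
  have hDn : D.Normal := by
    constructor
    rintro d ⟨hd, hd'⟩ g
    refine ⟨hK.conj_mem d hd g, fun lam h1 h2 => ?_⟩
    -- the conjugate character
    let lam' : K →* ℂˣ := lam.comp ((MulAut.conjNormal g : MulAut K) : K →* K)
    have h1' : ∀ k : K, (k : G) ∈ L → lam' k = 1 := by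
      intro k hk
      apply h1
      show ((MulAut.conjNormal g : MulAut K) k : G) ∈ L
      rw [MulAut.conjNormal_apply]
      exact hL.conj_mem _ hk g
    have h2' : ∀ x ∈ S, ∀ k : K, lam' ((MulAut.conjNormal x : MulAut K) k) = lam' k := by
      intro x hx k
      show lam ((MulAut.conjNormal g : MulAut K) ((MulAut.conjNormal x : MulAut K) k)) =
        lam ((MulAut.conjNormal g : MulAut K) k)
      have hgx : g * x * g⁻¹ ∈ K ⊔ S := by
        have hgn : g ∈ Subgroup.normalizer ((K ⊔ S : Subgroup G) : Set G) := by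
          rw [hKS]
          exact Subgroup.mem_top g
        exact (Subgroup.mem_normalizer_iff.mp hgn x).mp (le_sup_right (a := K) hx)
      have h3 := hinvA lam h2 _ hgx ((MulAut.conjNormal g : MulAut K) k)
      rw [← h3]
      congr 1
      apply Subtype.ext
      simp only [MulAut.conjNormal_apply]
      group
    have := hd' lam' h1' h2'
    have e : (⟨g * d * g⁻¹, hK.conj_mem d hd g⟩ : K) = (MulAut.conjNormal g : MulAut K) ⟨d, hd⟩ := by
      apply Subtype.ext
      rw [MulAut.conjNormal_apply]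
    rw [e]
    exact this
  intro lam h1 h2
  rcases hmin D hDn hLD hDK with h | h
  · exfalso
    apply hnot
    intro k hk
    apply Cfsg.Agent.Helper24.RealNorm.mem_normalizer_of_conj_mem
    intro x hx
    have hx' : x ∈ ((L ⊔ S : Subgroup G) : Set G) := hx
    rw [Subgroup.normal_mul] at hx'
    obtain ⟨l, hl, s, hs, rfl⟩ := Set.mem_mul.mp hx'
    have hcomm : k * s * k⁻¹ * s⁻¹ ∈ D := by
      have hmem : k * s * k⁻¹ * s⁻¹ ∈ K := by
        have : k * s * k⁻¹ * s⁻¹ = k * (s * k⁻¹ * s⁻¹) := by group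
        rw [this]
        exact K.mul_mem hk (hK.conj_mem _ (K.inv_mem hk) s)
      refine ⟨hmem, fun lam' h1' h2' => ?_⟩
      have e : (⟨k * s * k⁻¹ * s⁻¹, hmem⟩ : K) =
          ⟨k, hk⟩ * (MulAut.conjNormal s : MulAut K) (⟨k, hk⟩ : K)⁻¹ := by
        apply Subtype.ext
        simp only [MulAut.conjNormal_apply, Subgroup.coe_mul, Subgroup.coe_inv]
        group
      rw [e, map_mul, h2' s hs, map_inv, mul_inv_cancel]
    rw [h] at hcomm
    have e : k * (l * s) * k⁻¹ = (k * l * k⁻¹) * ((k * s * k⁻¹ * s⁻¹) * s) := by group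
    rw [e]
    apply Subgroup.mul_mem
    · exact (le_sup_left : L ≤ L ⊔ S) (hL.conj_mem l hl k)
    · exact Subgroup.mul_mem _ ((le_sup_left : L ≤ L ⊔ S) hcomm) ((le_sup_right : S ≤ L ⊔ S) hs)
  · apply MonoidHom.ext
    intro k
    have hk : (k : G) ∈ D := by
      rw [h]
      exact k.2
    obtain ⟨hk', hk''⟩ := hk
    exact hk'' lam h1 h2

end Minimal

end Cfsg.Agent.Helper24.OddMcKay
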