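import Mathlib
import Cfsg.Prelude.Def_Blocks
import Cfsg.Agent.Lib.Helper24.OddMcKayI
import Cfsg.Agent.Lib.Helper24.OddMcKayJ
import Cfsg.Agent.Lib.Helper24.OddMcKayC

/-!
# Odd-degree characters and Sylow `2`-normalizers in solvable groups, part K
(helper24's shared library)

The main induction.
-/

set_option autoImplicit false
set_option linter.style.haveILetI false
set_option linter.unusedSectionVars false

namespace Cfsg.Agent.Helper24.OddMcKay

open Cfsg Cfsg.Agent.Helper5 Cfsg.Agent.Helper18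
open scoped ComplexConjugate

universe u

section Transport

variable {G : Type u} [Group G] [Finite G]

theorem le_normalizer_sup (L S : Subgroup G) :
    L ≤ Subgroup.normalizer ((L ⊔ S : Subgroup G) : Set G) :=
  le_sup_left.trans Subgroup.le_normalizer

theorem normalizer_subgroupOf_sup (L S T : Subgroup G) (hLT : L ≤ T) (hST : S ≤ T) :
    Subgroup.normalizer ((L.subgroupOf T ⊔ S.subgroupOf T : Subgroup T) : Set T) =
      (Subgroup.normalizer ((L ⊔ S : Subgroup G) : Set G)).subgroupOf T := by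
  rw [← Subgroup.subgroupOf_sup hLT hST, Subgroup.subgroupOf_normalizer_eq (sup_le hLT hST)]

/-- Pass to a subgroup `T ⊇ L, S`, viewed as a group. -/
theorem transport_sub (s : Sig.{u}) (L S T : Subgroup G) [hL : L.Normal] (hLT : L ≤ T)
    (hST : S ≤ T) (ν : IrrCharacter L)
    (h : cnt (G := T) s (L.subgroupOf T) ⊤ le_top (thetaSub L T hLT ν.1) =
      cnt (G := T) s (L.subgroupOf T)
        (Subgroup.normalizer ((L.subgroupOf T ⊔ S.subgroupOf T : Subgroup T) : Set T))
        (le_normalizer_sup _ _) (thetaSub L T hLT ν.1)) :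
    cnt s L T hLT ν.1 = cnt s L (Subgroup.normalizer ((L ⊔ S : Subgroup G) : Set G) ⊓ T)
      (le_inf (le_normalizer_sup L S) hLT) ν.1 := by
  rw [cnt_top, cntTop_subgroupOf] at h
  rw [h]
  have hV := normalizer_subgroupOf_sup L S T hLT hST
  have hmap : (Subgroup.normalizer ((L.subgroupOf T ⊔ S.subgroupOf T : Subgroup T) : Set T)).map
      T.subtype = Subgroup.normalizer ((L ⊔ S : Subgroup G) : Set G) ⊓ T := by
    rw [hV, Subgroup.subgroupOf_map_subtype]
  have hLV : L ≤ (Subgroup.normalizer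
      ((L.subgroupOf T ⊔ S.subgroupOf T : Subgroup T) : Set T)).map T.subtype := by
    rw [hmap]
    exact le_inf (le_normalizer_sup L S) hLT
  rw [cnt_subgroupOf s L T hLT ν.1 _ (le_normalizer_sup _ _) hLV]
  exact cnt_congr s L hmap _ _ ν.1

end Transport

section Main

/-- The hard case, as a hypothesis of the main induction. -/
def HardCase (s : Sig.{u}) (c : Prop) : Prop :=
  ∀ (G : Type u) [Group G] [Finite G] (L K S : Subgroup G) [L.Normal] [K.Normal], L ≤ K →
    IsPGroup 2 S → Odd S.index →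
    (c → Subgroup.normalizer ((L ⊔ S : Subgroup G) : Set G) ≤ L ⊔ S) →
    (∀ a ∈ K, ∀ b ∈ K, a * b * a⁻¹ * b⁻¹ ∈ L) →
    Odd (L.relIndex K) →
    (∀ D : Subgroup G, D.Normal → L ≤ D → D ≤ K → D = L ∨ D = K) →
    L ≠ K →
    Subgroup.normalizer ((K ⊔ S : Subgroup G) : Set G) = ⊤ →
    Subgroup.normalizer ((L ⊔ S : Subgroup G) : Set G) ≠ ⊤ →
    ∀ (ν : IrrCharacter L), IsFix s ν.1 → (∀ g : G, Helper5.conjFun L g ν.1 = ν.1) →
    cnt s L ⊤ le_top ν.1 =
      cnt s L (Subgroup.normalizer ((L ⊔ S : Subgroup G) : Set G)) (le_normalizer_sup L S) ν.1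

/-- **The main induction.** -/
theorem main_ind (s : Sig.{u}) (c : Prop) (hhard : HardCase s c) :
    ∀ (n : ℕ) (G : Type u) [Group G] [Finite G] [Group.IsSolvable G] (L S : Subgroup G)
      [L.Normal], IsPGroup 2 S → Odd S.index →
      (c → Subgroup.normalizer ((L ⊔ S : Subgroup G) : Set G) ≤ L ⊔ S) →
      ∀ (ν : IrrCharacter L), IsFix s ν.1 → (∀ x ∈ S, Helper5.conjFun L x ν.1 = ν.1) →
      L.index = n →
      cnt s L ⊤ le_top ν.1 =
        cnt s L (Subgroup.normalizer ((L ⊔ S : Subgroup G) : Set G)) (le_normalizer_sup L S)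
          ν.1 := by
  intro n
  induction n using Nat.strong_induction_on with
  | _ n ih =>
  intro G _ _ _ L S hL hS hodd hc ν hfix hSinv hn
  classical
  letI : Fintype G := Fintype.ofFinite G
  set N : Subgroup G := Subgroup.normalizer ((L ⊔ S : Subgroup G) : Set G) with hNdef
  have hLN : L ≤ N := le_normalizer_sup L S
  have hSN : S ≤ N := (le_sup_right : S ≤ L ⊔ S).trans Subgroup.le_normalizer
  by_cases hNtop : N = ⊤
  · exact cnt_congr s L hNtop.symm _ _ ν.1
  -- Step 0: the inertia group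
  set T : Subgroup G := inertia L ν.1 with hTdef
  have hLT : L ≤ T := le_inertia L (isClassFunction_of_isIrrCharacter ν.2)
  have hST : S ≤ T := fun x hx => (mem_inertia L ν.1 x).mpr (hSinv x hx)
  have hidx0 : L.index ≠ 0 := Subgroup.index_ne_zero_of_finite
  -- a general transport: apply the induction hypothesis inside a proper subgroup
  have sub_ih : ∀ (U : Subgroup G) (hLU : L ≤ U) (hSU : S ≤ U), U ≠ ⊤ →
      cnt s L U hLU ν.1 = cnt s L (N ⊓ U) (le_inf hLN hLU) ν.1 := by
    intro U hLU hSU hUtop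
    haveI : (L.subgroupOf U).Normal := Subgroup.normal_subgroupOf
    apply transport_sub s L S U hLU hSU ν
    have hlt : (L.subgroupOf U).index < n := by
      have h1 : (L.subgroupOf U).index = L.relIndex U := rfl
      have h2 := Subgroup.relIndex_mul_index hLU
      rw [h1, ← hn, ← h2]
      have h3 : U.index ≠ 1 := fun h => hUtop (Subgroup.index_eq_one.mp h)
      have h4 : U.index ≠ 0 := Subgroup.index_ne_zero_of_finite
      have h5 : L.relIndex U ≠ 0 := by
        intro h
        rw [h, zero_mul] at h2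
        exact hidx0 h2.symm
      have h6 : 2 ≤ U.index := by omega
      have h7 : 0 < L.relIndex U := Nat.pos_of_ne_zero h5
      nlinarith
    refine ih _ hlt U (L.subgroupOf U) (S.subgroupOf U)
      (hS.comap_of_injective _ (Subgroup.subtype_injective U)) ?_ ?_
      ⟨thetaSub L U hLU ν.1, isIrrCharacter_comp_equiv _ ν.2⟩ ?_ ?_ rfl
    · have h1 : (S.subgroupOf U).index = S.relIndex U := rfl
      rw [h1]
      exact Odd.of_dvd_nat hodd (Subgroup.relIndex_dvd_index_of_le hSU)
    · intro hcc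
      rw [normalizer_subgroupOf_sup L S U hLU hSU, ← Subgroup.subgroupOf_sup hLU hSU]
      exact Subgroup.comap_mono (hc hcc)
    · show IsFix s (ν.1 ∘ (Subgroup.subgroupOfEquivOfLe hLU))
      funext x
      exact congrFun hfix _
    · intro x hx
      have h1 : (x : G) ∈ inertia L ν.1 := hST (Subgroup.mem_subgroupOf.mp hx)
      have h2 : x ∈ (inertia L ν.1).subgroupOf U := Subgroup.mem_subgroupOf.mpr h1
      rw [← inertia_thetaSub L U hLU ν.1] at h2
      exact (mem_inertia _ _ x).mp h2
  by_cases hTtop : T = ⊤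
  swap
  · -- reduce to the inertia group
    have hToddidx : Odd T.index := Odd.of_dvd_nat hodd (Subgroup.index_dvd_of_le hST)
    have h1 : cnt s L ⊤ le_top ν.1 = cnt s L T hLT ν.1 := by
      rw [cnt_inertia s L ⊤ le_top ν hfix (by rw [Subgroup.relIndex_top_right]; exact hToddidx)
        (le_inf hLT le_top)]
      exact cnt_congr s L (inf_top_eq T) _ _ ν.1
    have h2 : cnt s L N hLN ν.1 = cnt s L (T ⊓ N) (le_inf hLT hLN) ν.1 := by
      apply cnt_inertia s L N hLN ν hfix
      have h3 : T.relIndex N ∣ S.relIndex N := Subgroup.relIndex_dvd_of_le_left N hST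
      have h4 : S.relIndex N ∣ S.index := Subgroup.relIndex_dvd_index_of_le hSN
      exact Odd.of_dvd_nat hodd (h3.trans h4)
    rw [h1, h2, sub_ih T hLT hST hTtop]
    exact cnt_congr s L (inf_comm N T) _ _ ν.1
  -- `ν` is invariant
  have hinv : ∀ g : G, Helper5.conjFun L g ν.1 = ν.1 := by
    intro g
    have : g ∈ T := by
      rw [hTtop]
      exact Subgroup.mem_top g
    exact (mem_inertia L ν.1 g).mp this
  have hLtop : L ≠ ⊤ := by
    intro h
    apply hNtop
    rw [eq_top_iff, ← h]
    exact hLN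
  obtain ⟨K, hKn, hLK, hLneK, hab, ⟨r, m, hr, hrel⟩, hmin⟩ := exists_chief L hLtop
  haveI := hKn
  set N₁ : Subgroup G := Subgroup.normalizer ((K ⊔ S : Subgroup G) : Set G) with hN₁def
  have hKN₁ : K ≤ N₁ := le_normalizer_sup K S
  have hSN₁ : S ≤ N₁ := (le_sup_right : S ≤ K ⊔ S).trans Subgroup.le_normalizer
  have hKS : K ⊔ (L ⊔ S) = K ⊔ S := by
    rw [← sup_assoc, sup_eq_left.mpr hLK]
  have hNN₁ : N ≤ N₁ := by
    intro g hg
    apply Cfsg.Agent.Helper24.RealNorm.mem_normalizer_of_conj_mem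
    intro x hx
    rw [← hKS] at hx ⊢
    have hx' : x ∈ ((K ⊔ (L ⊔ S) : Subgroup G) : Set G) := hx
    rw [Subgroup.normal_mul] at hx'
    obtain ⟨k, hk, y, hy, rfl⟩ := Set.mem_mul.mp hx'
    have e : g * (k * y) * g⁻¹ = (g * k * g⁻¹) * (g * y * g⁻¹) := by group
    rw [e]
    apply Subgroup.mul_mem
    · exact (le_sup_left : K ≤ K ⊔ (L ⊔ S)) (hKn.conj_mem k hk g)
    · exact (le_sup_right : L ⊔ S ≤ K ⊔ (L ⊔ S)) ((Subgroup.mem_normalizer_iff.mp hg y).mp hy)
  have hKlt : K.index < n := by
    have h2 := Subgroup.relIndex_mul_index hLK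
    rw [← hn, ← h2]
    have h3 : L.relIndex K ≠ 1 := by
      intro h
      exact hLneK (le_antisymm hLK (Subgroup.relIndex_eq_one.mp h))
    have h4 : K.index ≠ 0 := Subgroup.index_ne_zero_of_finite
    have h5 : L.relIndex K ≠ 0 := by
      intro h
      rw [h, zero_mul] at h2
      exact hidx0 h2.symm
    have h6 : 2 ≤ L.relIndex K := by omega
    have h7 : 0 < K.index := Nat.pos_of_ne_zero h4
    nlinarith
  -- the partition step
  have hP : cnt s L ⊤ le_top ν.1 = cnt s L N₁ (hLK.trans hKN₁) ν.1 := by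
    apply partition s L K hLK S hS ν ⊤ N₁ le_top hKN₁ le_top hSN₁
    · rw [Subgroup.relIndex_top_right]
      exact hodd
    · exact Odd.of_dvd_nat hodd (Subgroup.relIndex_dvd_index_of_le hSN₁)
    · exact le_top
    · exact le_refl _
    · exact fun u _ => hinv u
    · exact fun u _ => hinv u
    · intro η hη
      refine ih _ hKlt G K S hS hodd ?_ η hη.1 hη.2.1 rfl
      intro hcc
      have h1 := normalizer_sup_le K L S hS hodd
      refine h1.trans ?_
      rw [← hKS]
      exact sup_le_sup_left (hc hcc) K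
  by_cases hr2 : r = 2
  · -- `K / L` is a `2`-group
    rw [hr2] at hrel
    have h1 := sup_eq_of_two_pow L K S hLK hS hodd m hrel
    have h2 : N₁ = N := by
      rw [hN₁def, hNdef, h1]
    rw [hP]
    exact cnt_congr s L h2 _ _ ν.1
  · -- `K / L` has odd order
    have hoddKL : Odd (L.relIndex K) := by
      rw [hrel]
      exact (hr.eq_two_or_odd'.resolve_left hr2).pow
    by_cases hN₁top : N₁ = ⊤
    · exact hhard G L K S hLK hS hodd hc hab hoddKL hmin hLneK hN₁top hNtop ν hfix hinv
    · rw [hP, sub_ih N₁ (hLK.trans hKN₁) hSN₁ hN₁top]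
      exact cnt_congr s L (inf_eq_left.mpr hNN₁) _ _ ν.1

end Main

end Cfsg.Agent.Helper24.OddMcKay
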