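import Mathlib
import Cfsg.Prelude.Def_Blocks
import Cfsg.Agent.Lib.Helper24.OddMcKayK

/-!
# Odd-degree characters and Sylow `2`-normalizers in solvable groups, part L
(helper24's shared library)

The two hard cases feed the main induction; the resulting counts for a Sylow `2`-subgroup.
-/

set_option autoImplicit false
set_option linter.style.haveILetI false
set_option linter.unusedSectionVars false

namespace Cfsg.Agent.Helper24.OddMcKay

open Cfsg Cfsg.Agent.Helper5 Cfsg.Agent.Helper18
open scoped ComplexConjugate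

universe u

section Hard

theorem hardCase_conj : HardCase Sig.conj.{u} False := by
  intro G _ _ L K S _ _ hLK hS hodd _ hab hoddKL hmin _ hKS hN ν hfix hinv
  have hLN := le_normalizer_sup L S
  have hsup : K ⊔ Subgroup.normalizer ((L ⊔ S : Subgroup G) : Set G) = ⊤ := by
    apply top_le_iff.mp
    rw [← hKS]
    exact normalizer_sup_le K L S hS hodd
  have hinf := inf_eq_of_minimal L K _ hLK hLN hsup hN hab hmin
  exact real_hard L K _ hLK hLN hsup hinf hoddKL ν hfix hinv

theorem hardCase_one : HardCase Sig.one.{u} True := by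
  intro G _ _ L K S _ _ hLK hS hodd hc hab hoddKL hmin _ hKS hN ν _ hinv
  have hLN := le_normalizer_sup L S
  have hsup : K ⊔ Subgroup.normalizer ((L ⊔ S : Subgroup G) : Set G) = ⊤ := by
    apply top_le_iff.mp
    rw [← hKS]
    exact normalizer_sup_le K L S hS hodd
  have hinf := inf_eq_of_minimal L K _ hLK hLN hsup hN hab hmin
  have hNeq : Subgroup.normalizer ((L ⊔ S : Subgroup G) : Set G) = L ⊔ S :=
    le_antisymm (hc trivial) Subgroup.le_normalizer
  have hnot : ¬ K ≤ Subgroup.normalizer ((L ⊔ S : Subgroup G) : Set G) := by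
    intro h
    apply hN
    rw [← hsup]
    exact (sup_eq_right.mpr h).symm
  have hH3 := h3_of_minimal L K S hLK hKS hnot hmin
  have hsupS : K ⊔ S = ⊤ := by
    rw [← hsup, hNeq, ← sup_assoc, sup_eq_left.mpr hLK]
  have hinf' : K ⊓ (L ⊔ S) = L := by
    rw [← hNeq]
    exact hinf
  rw [id_hard L K S hLK hS hsupS hinf' hoddKL hab ν hinv hH3]
  exact cnt_congr Sig.one L hNeq.symm _ _ ν.1

end Hard

section Count

variable {G : Type u} [Group G] [Finite G]

/-- Everything lies over the trivial character of the trivial subgroup. -/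
theorem classInner_bot_ne_zero {U : Subgroup G} {ξ : U → ℂ} (hξ : IsIrrCharacter U ξ) :
    letI : Fintype (⊥ : Subgroup G) := Fintype.ofFinite _
    classInner (resFun (bot_le : (⊥ : Subgroup G) ≤ U) ξ) (fun _ => (1 : ℂ)) ≠ 0 := by
  letI : Fintype (⊥ : Subgroup G) := Fintype.ofFinite _
  letI : Fintype U := Fintype.ofFinite U
  unfold classInner
  rw [Fintype.sum_subsingleton _ (1 : (⊥ : Subgroup G))]
  have h1 : Nat.card (⊥ : Subgroup G) = 1 := Subgroup.card_bot
  rw [h1]
  have h2 : resFun (bot_le : (⊥ : Subgroup G) ≤ U) ξ 1 = ξ 1 := rfl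
  rw [h2, irr_one_eq_charDegree hξ]
  simp only [Nat.cast_one, inv_one, map_one, mul_one, one_mul]
  exact_mod_cast (charDegree_pos hξ).ne'

/-- The trivial character of the trivial subgroup. -/
noncomputable def trivBot (G : Type u) [Group G] : IrrCharacter (⊥ : Subgroup G) :=
  ⟨fun _ => (1 : ℂ), Cfsg.Agent.Helper24.isIrrCharacter_one⟩

theorem good_bot_iff (s : Sig.{u}) (U : Subgroup G) (ξ : IrrCharacter U) :
    Good s ⊥ U bot_le (trivBot G).1 ξ.1 ↔ IsFix s ξ.1 ∧ Odd (charDegree ξ.1) := by
  constructor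
  · rintro ⟨h1, h2, -⟩
    exact ⟨h1, h2⟩
  · rintro ⟨h1, h2⟩
    exact ⟨h1, h2, classInner_bot_ne_zero ξ.2⟩

theorem cnt_bot (s : Sig.{u}) (U : Subgroup G) :
    cnt s ⊥ U bot_le (trivBot G).1 =
      Nat.card {ξ : IrrCharacter U // IsFix s ξ.1 ∧ Odd (charDegree ξ.1)} := by
  unfold cnt
  exact Nat.card_congr (Equiv.subtypeEquivRight (good_bot_iff s U))

/-- **The count of `σ`-fixed odd-degree characters of `G` and of the Sylow normalizer.** -/
theorem count_eq (s : Sig.{u}) (c : Prop) (hhard : HardCase s c) [Group.IsSolvable G]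
    (P : Sylow 2 G)
    (hc : c → Subgroup.normalizer ((P : Subgroup G) : Set G) ≤ (P : Subgroup G)) :
    Nat.card {χ : IrrCharacter G // IsFix s χ.1 ∧ Odd (charDegree χ.1)} =
      Nat.card {ψ : IrrCharacter (Subgroup.normalizer ((P : Subgroup G) : Set G)) //
        IsFix s ψ.1 ∧ Odd (charDegree ψ.1)} := by
  classical
  have hbs : (⊥ : Subgroup G) ⊔ (P : Subgroup G) = (P : Subgroup G) := bot_sup_eq _
  have hoddP : Odd (P : Subgroup G).index := by
    rw [← Nat.not_even_iff_odd]
    intro h
    exact P.not_dvd_index (even_iff_two_dvd.mp h)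
  have hfix : IsFix s (trivBot G).1 := by
    funext x
    show s.σ 1 = 1
    exact map_one _
  have hmain := main_ind s c hhard _ G ⊥ (P : Subgroup G) P.isPGroup' hoddP
    (by
      intro hcc
      rw [hbs]
      exact hc hcc)
    (trivBot G) hfix (fun _ _ => rfl) rfl
  have h1 : cnt s ⊥ ⊤ bot_le (trivBot G).1 =
      Nat.card {χ : IrrCharacter G // IsFix s χ.1 ∧ Odd (charDegree χ.1)} := by
    rw [cnt_bot]
    apply Nat.card_congr
    refine Equiv.subtypeEquiv (irrCongr (Subgroup.topEquiv (G := G))).symm ?_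
    intro ξ
    rw [show ((irrCongr (Subgroup.topEquiv (G := G))).symm ξ).1 =
      ξ.1 ∘ (Subgroup.topEquiv (G := G)).symm from rfl, isFix_comp_equiv, charDegree_comp_equiv]
  have h2 : cnt s ⊥ (Subgroup.normalizer (((⊥ : Subgroup G) ⊔ (P : Subgroup G) : Subgroup G) : Set G))
      (le_normalizer_sup ⊥ (P : Subgroup G)) (trivBot G).1 =
      cnt s ⊥ (Subgroup.normalizer ((P : Subgroup G) : Set G)) bot_le (trivBot G).1 :=
    cnt_congr s ⊥ (by rw [hbs]) _ _ _
  rw [← h1, hmain, h2, cnt_bot]

/-- The real count. -/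
theorem real_count [Group.IsSolvable G] (P : Sylow 2 G) :
    Nat.card {χ : IrrCharacter G // (∀ g : G, (χ.1 g).im = 0) ∧ Odd (charDegree χ.1)} =
      Nat.card {ψ : IrrCharacter (Subgroup.normalizer ((P : Subgroup G) : Set G)) //
        (∀ g, (ψ.1 g).im = 0) ∧ Odd (charDegree ψ.1)} := by
  have h := count_eq Sig.conj False hardCase_conj P (fun h => h.elim)
  have e1 : Nat.card {χ : IrrCharacter G // (∀ g : G, (χ.1 g).im = 0) ∧ Odd (charDegree χ.1)} =
      Nat.card {χ : IrrCharacter G // IsFix Sig.conj χ.1 ∧ Odd (charDegree χ.1)} :=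
    Nat.card_congr (Equiv.subtypeEquivRight (fun χ => by rw [isFix_conj_iff]))
  have e2 : Nat.card {ψ : IrrCharacter (Subgroup.normalizer ((P : Subgroup G) : Set G)) //
        (∀ g, (ψ.1 g).im = 0) ∧ Odd (charDegree ψ.1)} =
      Nat.card {ψ : IrrCharacter (Subgroup.normalizer ((P : Subgroup G) : Set G)) //
        IsFix Sig.conj ψ.1 ∧ Odd (charDegree ψ.1)} :=
    Nat.card_congr (Equiv.subtypeEquivRight (fun χ => by rw [isFix_conj_iff]))
  rw [e1, e2, h]

/-- The full count, for a self-normalizing Sylow `2`-subgroup. -/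
theorem id_count [Group.IsSolvable G] (P : Sylow 2 G)
    (hself : Subgroup.normalizer ((P : Subgroup G) : Set G) = (P : Subgroup G)) :
    Nat.card {χ : IrrCharacter G // Odd (charDegree χ.1)} =
      Nat.card {ψ : IrrCharacter (Subgroup.normalizer ((P : Subgroup G) : Set G)) //
        Odd (charDegree ψ.1)} := by
  have h := count_eq Sig.one True hardCase_one P (fun _ => hself.le)
  have e1 : Nat.card {χ : IrrCharacter G // Odd (charDegree χ.1)} =
      Nat.card {χ : IrrCharacter G // IsFix Sig.one χ.1 ∧ Odd (charDegree χ.1)} :=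
    Nat.card_congr (Equiv.subtypeEquivRight (fun χ =>
      ⟨fun h => ⟨isFix_one _, h⟩, fun h => h.2⟩))
  have e2 : Nat.card {ψ : IrrCharacter (Subgroup.normalizer ((P : Subgroup G) : Set G)) //
        Odd (charDegree ψ.1)} =
      Nat.card {ψ : IrrCharacter (Subgroup.normalizer ((P : Subgroup G) : Set G)) //
        IsFix Sig.one ψ.1 ∧ Odd (charDegree ψ.1)} :=
    Nat.card_congr (Equiv.subtypeEquivRight (fun χ =>
      ⟨fun h => ⟨isFix_one _, h⟩, fun h => h.2⟩))
  rw [e1, e2, h]

end Count

end Cfsg.Agent.Helper24.OddMcKay
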