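import Mathlib
import Cfsg.Prelude.Def_Blocks
import Cfsg.Agent.Lib.Helper24.OddMcKayL
import Cfsg.Agent.Lib.Helper24.CharAbelian
import Cfsg.Agent.Lib.Helper24.CharHom
import Cfsg.Agent.Lib.Helper5.Gallagher

/-!
# Odd-degree characters and Sylow `2`-normalizers in solvable groups, part M
(helper24's shared library)

If the Sylow `2`-subgroup `P` of the solvable group `G` is not self-normalizing, then `G` has an
irreducible character of odd degree that is not real.
-/

set_option autoImplicit false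
set_option linter.style.haveILetI false
set_option linter.unusedSectionVars false

namespace Cfsg.Agent.Helper24.OddMcKay

open Cfsg Cfsg.Agent.Helper5 Cfsg.Agent.Helper18
open scoped ComplexConjugate

universe u

section NonReal

variable {G : Type u} [Group G] [Finite G]

/-- A nontrivial finite solvable group has a nontrivial linear character. -/
theorem exists_hom_ne_one (Q : Type u) [Group Q] [Finite Q] [Group.IsSolvable Q] [Nontrivial Q] :
    ∃ f : Q →* ℂˣ, f ≠ 1 := by
  have h1 : commutator Q ≠ ⊤ := (IsSolvable.commutator_lt_top_of_nontrivial Q).ne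
  have h2 : (commutator Q).index ≠ 1 := fun h => h1 (Subgroup.index_eq_one.mp h)
  rw [← Cfsg.Agent.Helper24.card_monoidHom_units] at h2
  by_contra hcon
  push Not at hcon
  apply h2
  haveI : Subsingleton (Q →* ℂˣ) := ⟨fun a b => (hcon a).trans (hcon b).symm⟩
  exact Nat.card_unique

/-- The trivial character of a subgroup. -/
noncomputable def trivIrr (R : Subgroup G) : IrrCharacter R :=
  ⟨fun _ => (1 : ℂ), Cfsg.Agent.Helper24.isIrrCharacter_one⟩

/-- **A non-real character of odd degree** when the Sylow `2`-subgroup is not self-normalizing. -/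
theorem exists_nonreal_of_ne [Group.IsSolvable G] (P : Sylow 2 G)
    (hne : Subgroup.normalizer ((P : Subgroup G) : Set G) ≠ (P : Subgroup G)) :
    ∃ χ : IrrCharacter G, Odd (charDegree χ.1) ∧ ¬ IsFix Sig.conj χ.1 := by
  classical
  letI : Fintype G := Fintype.ofFinite G
  have hPp : IsPGroup 2 (P : Subgroup G) := P.isPGroup'
  have hoddP : Odd (P : Subgroup G).index := by
    rw [← Nat.not_even_iff_odd]
    intro h
    exact P.not_dvd_index (even_iff_two_dvd.mp h)
  -- a maximal normal subgroup `R` with `N(R P) ≠ R P`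
  let 𝓡 : Set (Subgroup G) := {R | R.Normal ∧
    Subgroup.normalizer ((R ⊔ (P : Subgroup G) : Subgroup G) : Set G) ≠ R ⊔ (P : Subgroup G)}
  have hfin : 𝓡.Finite := Set.toFinite _
  have hbot : (⊥ : Subgroup G) ∈ 𝓡 := by
    refine ⟨inferInstance, ?_⟩
    rw [bot_sup_eq]
    exact hne
  obtain ⟨R, -, ⟨⟨hRn, hRne⟩, hRmax⟩⟩ := hfin.exists_le_maximal hbot
  haveI := hRn
  set A : Subgroup G := R ⊔ (P : Subgroup G) with hA
  set NR : Subgroup G := Subgroup.normalizer (A : Set G) with hNR
  have hANR : A ≤ NR := Subgroup.le_normalizer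
  have hPNR : (P : Subgroup G) ≤ NR := (le_sup_right : (P : Subgroup G) ≤ A).trans hANR
  have hRtop : R ≠ ⊤ := by
    intro h
    apply hRne
    have hAtop : A = ⊤ := by rw [hA, h, top_sup_eq]
    apply le_antisymm _ hANR
    rw [hAtop]
    exact le_top
  obtain ⟨M, hMn, hRM, hRneM, hab, ⟨r, m, hr, hrel⟩, hmin⟩ := exists_chief R hRtop
  haveI := hMn
  have hMself : Subgroup.normalizer ((M ⊔ (P : Subgroup G) : Subgroup G) : Set G) =
      M ⊔ (P : Subgroup G) := by
    by_contra hcon
    have : M ≤ R := hRmax ⟨hMn, hcon⟩ hRM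
    exact hRneM (le_antisymm hRM this)
  have hr2 : r ≠ 2 := by
    intro h
    rw [h] at hrel
    have h1 := sup_eq_of_two_pow R M (P : Subgroup G) hRM hPp hoddP m hrel
    apply hRne
    rw [hNR, hA, ← h1]
    exact hMself
  have hoddRM : Odd (R.relIndex M) := by
    rw [hrel]
    exact (hr.eq_two_or_odd'.resolve_left hr2).pow
  -- `N(R P) ≤ M P`
  have hMA : M ⊔ A = M ⊔ (P : Subgroup G) := by
    rw [hA, ← sup_assoc, sup_eq_left.mpr hRM]
  have hNRle : NR ≤ M ⊔ (P : Subgroup G) := by
    rw [← hMself]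
    intro g hg
    apply Cfsg.Agent.Helper24.RealNorm.mem_normalizer_of_conj_mem
    intro x hx
    rw [← hMA] at hx ⊢
    have hx' : x ∈ ((M ⊔ A : Subgroup G) : Set G) := hx
    rw [Subgroup.normal_mul] at hx'
    obtain ⟨k, hk, y, hy, rfl⟩ := Set.mem_mul.mp hx'
    have e : g * (k * y) * g⁻¹ = (g * k * g⁻¹) * (g * y * g⁻¹) := by group
    rw [e]
    apply Subgroup.mul_mem
    · exact (le_sup_left : M ≤ M ⊔ A) (hMn.conj_mem k hk g)
    · exact (le_sup_right : A ≤ M ⊔ A) ((Subgroup.mem_normalizer_iff.mp hg y).mp hy)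
  -- a nontrivial linear character of `N(R P) / R P`
  haveI hAn : (A.subgroupOf NR).Normal := Subgroup.normal_in_normalizer
  haveI : Nontrivial (NR ⧸ A.subgroupOf NR) := by
    rw [← not_subsingleton_iff_nontrivial]
    intro h
    apply hRne
    have h0 := QuotientGroup.subgroup_eq_top_of_subsingleton (A.subgroupOf NR) h
    have h1 : NR ≤ A := Subgroup.subgroupOf_eq_top.mp h0
    exact le_antisymm h1 hANR
  obtain ⟨f, hf⟩ := exists_hom_ne_one (NR ⧸ A.subgroupOf NR)
  let ψ : NR →* ℂˣ := f.comp (QuotientGroup.mk' (A.subgroupOf NR))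
  have hψA : ∀ x : NR, (x : G) ∈ A → ψ x = 1 := by
    intro x hx
    show f (QuotientGroup.mk x) = 1
    rw [(QuotientGroup.eq_one_iff x).mpr (Subgroup.mem_subgroupOf.mpr hx), map_one]
  have hψne : ∃ x : NR, ψ x ≠ 1 := by
    by_contra hcon
    push Not at hcon
    apply hf
    apply MonoidHom.ext
    intro q
    obtain ⟨x, rfl⟩ := QuotientGroup.mk'_surjective (A.subgroupOf NR) q
    exact hcon x
  -- an element of `M ∩ N(R P)` not in the kernel
  obtain ⟨x, hx⟩ := hψne
  have hxMP : (x : G) ∈ ((M ⊔ (P : Subgroup G) : Subgroup G) : Set G) := hNRle x.2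
  rw [Subgroup.normal_mul] at hxMP
  obtain ⟨c, hcM, p, hpP, hcp⟩ := Set.mem_mul.mp hxMP
  have hpNR : p ∈ NR := hPNR hpP
  have hcNR : c ∈ NR := by
    have : c = (x : G) * p⁻¹ := by rw [← hcp]; group
    rw [this]
    exact NR.mul_mem x.2 (NR.inv_mem hpNR)
  have hψc : ψ ⟨c, hcNR⟩ ≠ 1 := by
    intro h
    apply hx
    have e : x = ⟨c, hcNR⟩ * ⟨p, hpNR⟩ := Subtype.ext hcp.symm
    rw [e, map_mul, h, one_mul]
    exact hψA _ ((le_sup_right : (P : Subgroup G) ≤ A) hpP)
  -- the induced character and an odd-degree constituent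
  set ψ' : NR → ℂ := fun n => ((ψ n : ℂˣ) : ℂ) with hψ'
  have hψ'irr : IsIrrCharacter NR ψ' := Cfsg.Agent.Helper24.isIrrCharacter_of_monoidHom ψ
  have hΘ : IsCharacter G (indFun NR ψ') :=
    isCharacter_indFun NR (isCharacter_of_isIrrCharacter hψ'irr)
  have hΘodd : Odd (charDegree (indFun NR ψ')) := by
    have h1 : indFun NR ψ' 1 = ((NR.index : ℕ) : ℂ) := by
      rw [Cfsg.Agent.Helper24.indFun_one]
      have : ψ' 1 = 1 := by
        show ((ψ 1 : ℂˣ) : ℂ) = 1
        rw [map_one, Units.val_one]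
      rw [this, mul_one]
    rw [charDegree_natCast _ h1]
    exact Odd.of_dvd_nat hoddP (Subgroup.index_dvd_of_le hPNR)
  obtain ⟨χ, hχodd, hχΘ⟩ := exists_odd_constituent hΘ hΘodd
  refine ⟨χ, hχodd, ?_⟩
  intro hχreal
  letI : Fintype NR := Fintype.ofFinite NR
  letI : Fintype R := Fintype.ofFinite R
  letI : Fintype M := Fintype.ofFinite M
  letI : Fintype (IrrCharacter NR) := irrFintype
  have hχc := isCharacter_of_isIrrCharacter χ.2
  have hχψ : classInner (fun n : NR => χ.1 n) ψ' ≠ 0 := by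
    rw [frobenius_reciprocity NR ψ' (isClassFunction_of_isIrrCharacter χ.2)] at hχΘ
    rw [classInner_char_comm (isCharacter_restrict NR hχc)
      (isCharacter_of_isIrrCharacter hψ'irr)]
    exact hχΘ
  -- `χ` lies over the trivial character of `R`
  have hRNR : R ≤ NR := (le_sup_left : R ≤ A).trans hANR
  have hχR : classInner (fun x : R => χ.1 x) (trivIrr R).1 ≠ 0 := by
    apply over_trans_top hRNR hχc hψ'irr (isCharacter_of_isIrrCharacter (trivIrr R).2) hχψ
    have : resFun hRNR ψ' = (trivIrr R).1 := by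
      funext x
      show ((ψ ⟨x, hRNR x.2⟩ : ℂˣ) : ℂ) = 1
      rw [hψA _ ((le_sup_left : R ≤ A) x.2), Units.val_one]
    rw [this, irr_orthogonality (trivIrr R).2 (trivIrr R).2, if_pos rfl]
    exact one_ne_zero
  -- a real constituent on `M`, which must be trivial
  set ξ₀ : IrrCharacter (⊤ : Subgroup G) := irrCongr (Subgroup.topEquiv (G := G)) χ with hξ₀
  have hξ₀good : Good Sig.conj R ⊤ le_top (trivIrr R).1 ξ₀.1 := ⟨by
    funext x
    exact congrFun hχreal _, hχodd, hχR⟩
  obtain ⟨η, hηOm, hηu⟩ := part_exists Sig.conj R M hRM ⊥ ⊤ IsPGroup.of_bot le_top bot_le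
    (trivIrr R) (fun _ _ => rfl) ξ₀ hξ₀good
  have htrivreal : IsFix Sig.conj (trivIrr R).1 := by
    funext x
    show (starRingEnd ℂ) 1 = 1
    exact map_one _
  obtain ⟨η₀, -, -, hη₀uniq⟩ := exists_real_ext R M hRM hoddRM (trivIrr R) htrivreal
    (fun _ _ => rfl)
  have h1 : η = η₀ := hη₀uniq η hηOm.1 hηOm.2.2
  have h2 : trivIrr M = η₀ := by
    apply hη₀uniq (trivIrr M)
    · funext x
      show (starRingEnd ℂ) 1 = 1
      exact map_one _
    · unfold Under
      have : resFun hRM (trivIrr M).1 = (trivIrr R).1 := rfl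
      rw [this, irr_orthogonality (trivIrr R).2 (trivIrr R).2, if_pos rfl]
      exact one_ne_zero
  have hηtriv : η = trivIrr M := h1.trans h2.symm
  have hχM : classInner (fun x : M => χ.1 x) (trivIrr M).1 ≠ 0 := by
    rw [← hηtriv]
    exact hηu
  obtain ⟨e, -, -, he2⟩ := restrict_eq_smul_of_invariant M χ.2 (trivIrr M).2 (fun _ => rfl) hχM
  have hMker : ∀ x ∈ M, χ.1 x = χ.1 1 := by
    intro x hx
    have h3 := congrFun he2 ⟨x, hx⟩
    have h4 := congrFun he2 1
    show χ.1 x = χ.1 ((1 : M) : G)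
    exact h3.trans h4.symm
  -- contradiction
  haveI : (M.subgroupOf NR).Normal := Subgroup.normal_subgroupOf
  have hzero : classInner (fun n : NR => χ.1 n) ψ' = 0 := by
    apply classInner_eq_zero_of_right_invariant (M.subgroupOf NR) _ hψ'irr
    · refine ⟨⟨c, hcNR⟩, Subgroup.mem_subgroupOf.mpr hcM, ?_⟩
      show ((ψ ⟨c, hcNR⟩ : ℂˣ) : ℂ) ≠ ((ψ 1 : ℂˣ) : ℂ)
      rw [map_one]
      intro h
      exact hψc (Units.ext h)
    · intro g x hx
      show χ.1 ((g : G) * (x : G)) = χ.1 (g : G)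
      exact Cfsg.Agent.Helper24.char_mul_of_mem_charKer hχc
        ((Cfsg.Agent.Helper24.mem_charKer hχc _).mpr (hMker _ (Subgroup.mem_subgroupOf.mp hx))) _
  exact hχψ hzero

end NonReal

end Cfsg.Agent.Helper24.OddMcKay
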