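import Mathlib
import Cfsg.Prelude.Def_Blocks
import Cfsg.Agent.Lib.Helper24.OddMcKayM
import Cfsg.Agent.Lib.Helper22.ClassTwo
import Cfsg.Agent.Lib.Helper9.FrattiniElem
import Cfsg.Agent.Lib.Helper1.PGroupCoatom

/-!
# Odd-degree characters and Sylow `2`-normalizers in solvable groups, part N
(helper24's shared library)

For a finite `2`-group `Q`: all irreducible characters of odd degree (that is, all linear
characters) are real if and only if `Q' = Φ(Q)`.  A counting lemma.
-/

set_option autoImplicit false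
set_option linter.style.haveILetI false
set_option linter.unusedSectionVars false

namespace Cfsg.Agent.Helper24.OddMcKay

open Cfsg Cfsg.Agent.Helper5 Cfsg.Agent.Helper18
open scoped ComplexConjugate

universe u

section Counting

/-- If the subtype of `q ∧ p` has as many elements as the subtype of `p`, then `p` implies `q`. -/
theorem forall_of_card_eq {X : Type*} [Finite X] (p q : X → Prop)
    (h : Nat.card {x // q x ∧ p x} = Nat.card {x // p x}) : ∀ x, p x → q x := by
  let f : {x // q x ∧ p x} → {x // p x} := fun x => ⟨x.1, x.2.2⟩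
  have hinj : Function.Injective f := by
    intro a b hab
    apply Subtype.ext
    have : (f a).1 = (f b).1 := congrArg Subtype.val hab
    exact this
  have hbij := hinj.bijective_of_nat_card_le h.symm.le
  intro x hx
  obtain ⟨y, hy⟩ := hbij.2 ⟨x, hx⟩
  have : y.1 = x := congrArg Subtype.val hy
  rw [← this]
  exact y.2.1

end Counting

section TwoGroup

variable {Q : Type u} [Group Q] [Finite Q]

/-- An odd-degree irreducible character of a `2`-group is linear. -/
theorem degree_one_of_odd (hQ : IsPGroup 2 Q) (ψ : IrrCharacter Q) (hodd : Odd (charDegree ψ.1)) :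
    ψ.1 1 = 1 := by
  classical
  haveI : Fact (Nat.Prime 2) := ⟨Nat.prime_two⟩
  letI : Fintype Q := Fintype.ofFinite Q
  have hidx : ∃ k : ℕ, (⊥ : Subgroup Q).index = 2 ^ k := by
    rw [Subgroup.index_bot]
    exact IsPGroup.iff_card.mp hQ
  have hirr := restrict_irr_of_odd (⊥ : Subgroup Q) hidx ψ.2 hodd
  letI : Fintype (⊥ : Subgroup Q) := Fintype.ofFinite _
  letI : Fintype (IrrCharacter (⊥ : Subgroup Q)) := irrFintype
  have h1 := Cfsg.Agent.Helper24.charDegree_eq_one_of_comm
    (G := (⊥ : Subgroup Q)) (fun a b => by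
      have ha : a = 1 := Subsingleton.elim _ _
      have hb : b = 1 := Subsingleton.elim _ _
      rw [ha, hb]) hirr
  have h2 : charDegree (fun n : (⊥ : Subgroup Q) => ψ.1 n) = charDegree ψ.1 := rfl
  rw [h2] at h1
  rw [irr_one_eq_charDegree ψ.2, h1, Nat.cast_one]

/-- If `Q' = Φ(Q)`, every odd-degree irreducible character of the `2`-group `Q` is real. -/
theorem real_of_comm_eq_frattini (hQ : IsPGroup 2 Q) (h : commutator Q = frattini Q)
    (ψ : IrrCharacter Q) (hodd : Odd (charDegree ψ.1)) : ∀ g : Q, (ψ.1 g).im = 0 := by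
  haveI : Fact (Nat.Prime 2) := ⟨Nat.prime_two⟩
  have h1 := degree_one_of_odd hQ ψ hodd
  have hψc := isCharacter_of_isIrrCharacter ψ.2
  set lam : Q →* ℂˣ := Cfsg.Agent.Helper24.linHom hψc h1 with hlam
  intro g
  have hg2 : g ^ 2 ∈ commutator Q := by
    rw [h]
    exact Cfsg.Agent.Helper22.pow_prime_mem_frattini hQ g
  have h2 : lam (g ^ 2) = 1 := by
    have := Abelianization.commutator_subset_ker lam hg2
    exact MonoidHom.mem_ker.mp this
  have h3 : ψ.1 g * ψ.1 g = 1 := by
    have h4 : ((lam (g ^ 2) : ℂˣ) : ℂ) = 1 := by rw [h2, Units.val_one]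
    rw [map_pow, Units.val_pow_eq_pow_val, pow_two] at h4
    exact h4
  rcases mul_self_eq_one_iff.mp h3 with h5 | h5
  · rw [h5]
    simp
  · rw [h5]
    simp

/-- If every odd-degree irreducible character of the `2`-group `Q` is real, then `Q' = Φ(Q)`. -/
theorem comm_eq_frattini_of_real (hQ : IsPGroup 2 Q)
    (h : ∀ ψ : IrrCharacter Q, Odd (charDegree ψ.1) → ∀ g : Q, (ψ.1 g).im = 0) :
    commutator Q = frattini Q := by
  classical
  haveI : Fact (Nat.Prime 2) := ⟨Nat.prime_two⟩
  apply le_antisymm
  · -- `Q' ≤ Φ(Q)`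
    unfold frattini Order.radical
    rw [le_iInf_iff]
    intro M
    rw [le_iInf_iff]
    intro hM
    obtain ⟨hn, hi⟩ := Cfsg.Agent.Helper1.coatom_normal_index_of_isPGroup hQ M hM
    haveI := hn
    rw [← Subgroup.Normal.quotient_commutative_iff_commutator_le]
    have hcard : Nat.card (Q ⧸ M) = 2 := by
      rw [← Subgroup.index_eq_card]
      exact hi
    haveI : IsCyclic (Q ⧸ M) := isCyclic_of_prime_card hcard
    exact ⟨⟨fun a b => (IsCyclic.commGroup (α := Q ⧸ M)).mul_comm a b⟩⟩
  · -- `Φ(Q) ≤ Q'`
    have hsq : ∀ (lam : Q →* ℂˣ) (g : Q), lam (g ^ 2) = 1 := by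
      intro lam g
      have hirr := Cfsg.Agent.Helper24.isIrrCharacter_of_monoidHom lam
      have hodd : Odd (charDegree (fun g => ((lam g : ℂˣ) : ℂ))) := by
        have h1 : (fun g => ((lam g : ℂˣ) : ℂ)) 1 = ((1 : ℕ) : ℂ) := by
          show ((lam 1 : ℂˣ) : ℂ) = ((1 : ℕ) : ℂ)
          rw [map_one, Units.val_one, Nat.cast_one]
        rw [charDegree_natCast _ h1]
        exact odd_one
      have him := h ⟨_, hirr⟩ hodd g
      have him' : ((lam g : ℂˣ) : ℂ).im = 0 := him
      -- finite order
      have hpow : ((lam g : ℂˣ) : ℂ) ^ (Nat.card Q) = 1 := by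
        rw [← Units.val_pow_eq_pow_val, ← map_pow, pow_card_eq_one', map_one, Units.val_one]
      have hcard0 : Nat.card Q ≠ 0 := Nat.card_pos.ne'
      set z : ℂ := ((lam g : ℂˣ) : ℂ) with hz
      have hzre : z = ((z.re : ℝ) : ℂ) := by
        apply Complex.ext
        · simp
        · simp [him']
      have hre : z.re ^ (Nat.card Q) = 1 := by
        have h1 : (((z.re : ℝ) : ℂ)) ^ (Nat.card Q) = 1 := by rw [← hzre]; exact hpow
        have h2 : ((z.re ^ (Nat.card Q) : ℝ) : ℂ) = ((1 : ℝ) : ℂ) := by
          push_cast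
          exact h1
        exact_mod_cast h2
      have habs : |z.re| = 1 := by
        have h1 : |z.re| ^ (Nat.card Q) = 1 := by rw [← abs_pow, hre, abs_one]
        exact (pow_eq_one_iff_of_nonneg (abs_nonneg _) hcard0).mp h1
      have hsq : z.re ^ 2 = 1 := by
        rw [← sq_abs, habs, one_pow]
      have hz2 : z ^ 2 = 1 := by
        rw [hzre]
        have : ((z.re ^ 2 : ℝ) : ℂ) = ((1 : ℝ) : ℂ) := by rw [hsq]
        push_cast at this
        exact this
      apply Units.ext
      rw [map_pow, Units.val_pow_eq_pow_val, Units.val_one]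
      exact hz2
    have hker := Cfsg.Agent.Helper9.frattini_le_ker_of_elementary (p := 2)
      (Abelianization.of : Q →* Abelianization Q) (fun a b => mul_comm a b) (by
        intro a
        obtain ⟨g, rfl⟩ := QuotientGroup.mk_surjective (s := commutator Q) a
        by_contra hne
        have hne' : (Abelianization.of (g ^ 2) : Abelianization Q) ≠ 1 := hne
        obtain ⟨φ, hφ⟩ := CommGroup.exists_apply_ne_one_of_hasEnoughRootsOfUnity
          (Abelianization Q) ℂ hne'
        exact hφ (hsq (φ.comp Abelianization.of) g))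
    rw [Abelianization.ker_of] at hker
    exact hker

end TwoGroup

end Cfsg.Agent.Helper24.OddMcKay
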