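import Mathlib
import Cfsg.Prelude.Def_Blocks
import Cfsg.Agent.Lib.Helper24.CoprimeDegree
import Cfsg.Agent.Lib.Helper24.CoprimeOver
import Cfsg.Agent.Lib.Helper24.CharQuotient

/-!
# Groups with a normal `p`-complement and one character of degree divisible by `p`:
the character side (helper24's shared library)

`N ⊲ G` a normal `p`-complement (`p ∤ |N|`, `[G : N] = p ^ k`), `G` not nilpotent, exactly one
irreducible character of degree divisible by `p`.  Then `G ⧸ N` is abelian and
`|Irr(G)| = f · [G : N] + 1`, `f` the number of `G`-invariant irreducible characters of `N`.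
-/

set_option autoImplicit false
set_option linter.style.haveILetI false
set_option linter.unusedSectionVars false

namespace Cfsg.Agent.Helper24.OneDeg

open Cfsg Cfsg.Agent.Helper24 Cfsg.Agent.Helper5 Cfsg.Agent.Helper18
open scoped ComplexConjugate

universe u

variable {G : Type u} [Group G] [Finite G] (p : ℕ) [hp : Fact p.Prime] (N : Subgroup G)
  [hNn : N.Normal]

/-- The degree of a product of characters. -/
theorem charDegree_mul_of {β χ : G → ℂ} (hβ : IsIrrCharacter G β) (hχ : IsIrrCharacter G χ) :
    charDegree (β * χ) = charDegree β * charDegree χ := by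
  apply charDegree_natCast
  rw [Pi.mul_apply, irr_one_eq_charDegree hβ, irr_one_eq_charDegree hχ]
  push_cast
  rfl

/-- `G ⧸ N` is abelian. -/
theorem quotient_comm (hN : (Nat.card N).Coprime p) (k : ℕ) (hidx : N.index = p ^ k)
    (hnil : ¬ Group.IsNilpotent G)
    (hone : Nat.card {χ : IrrCharacter G // p ∣ charDegree (χ : G → ℂ)} = 1) :
    ∀ a b : G ⧸ N, a * b = b * a := by
  classical
  letI : Fintype G := Fintype.ofFinite G
  letI : Fintype N := Fintype.ofFinite N
  letI : Fintype (G ⧸ N) := Fintype.ofFinite _
  letI := irrFintype (G := G ⧸ N)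
  letI := irrFintype (G := N)
  by_contra hcon
  have h1 : ¬ ∀ ψ : IrrCharacter (G ⧸ N), charDegree (ψ : G ⧸ N → ℂ) = 1 :=
    fun h => hcon (comm_of_forall_charDegree_eq_one h)
  push Not at h1
  obtain ⟨ψ, hψ⟩ := h1
  set β : G → ℂ := (ψ : G ⧸ N → ℂ) ∘ (QuotientGroup.mk : G → G ⧸ N) with hβdef
  have hβ : IsIrrCharacter G β := isIrrCharacter_inflate N ψ.2
  have hβdeg : charDegree β = charDegree (ψ : G ⧸ N → ℂ) := charDegree_inflate N _
  have hpβ : p ∣ charDegree β := by
    rw [hβdeg]
    have hd : charDegree (ψ : G ⧸ N → ℂ) ∣ Nat.card (G ⧸ N) := charDegree_dvd_card ψ.2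
    rw [← Subgroup.index_eq_card, hidx] at hd
    obtain ⟨i, -, hi⟩ := (Nat.dvd_prime_pow hp.out).mp hd
    rw [hi]
    have : i ≠ 0 := by
      rintro rfl
      exact hψ (by rw [hi, pow_zero])
    exact dvd_pow_self p this
  have hsub : Subsingleton {χ : IrrCharacter G // p ∣ charDegree (χ : G → ℂ)} :=
    (Nat.card_eq_one_iff_unique.mp hone).1
  have huniq : ∀ χ : G → ℂ, IsIrrCharacter G χ → p ∣ charDegree χ → χ = β := by
    intro χ hχ hpχ
    have := hsub.elim ⟨⟨χ, hχ⟩, hpχ⟩ ⟨⟨β, hβ⟩, hpβ⟩
    exact congrArg (fun x => ((x.1 : IrrCharacter G) : G → ℂ)) this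
  have hβN : ∀ n ∈ N, β n = β 1 := by
    intro n hn
    show (ψ : G ⧸ N → ℂ) ((n : G) : G ⧸ N) = (ψ : G ⧸ N → ℂ) ((1 : G) : G ⧸ N)
    rw [(QuotientGroup.eq_one_iff n).mpr hn, QuotientGroup.mk_one]
  have hβ1 : β 1 ≠ 0 := by
    rw [irr_one_eq_charDegree hβ]
    exact_mod_cast (charDegree_pos hβ).ne'
  have hcop : (Nat.card N).Coprime N.index := by
    rw [hidx]
    exact Nat.Coprime.pow_right k hN
  -- every irreducible character of `N` is trivial
  have htriv : ∀ θ : N → ℂ, IsIrrCharacter N θ → θ = fun _ => (1 : ℂ) := by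
    intro θ hθ
    by_cases hinv : CopDeg.Inv N θ
    · obtain ⟨χ, hχ, hext⟩ := CopDeg.exists_ext N hcop hθ hinv
      have hone' : IsIrrCharacter N (fun _ : N => (1 : ℂ)) := isIrrCharacter_one
      have hprodeq : (fun _ : N => (1 : ℂ)) * θ = θ := by
        funext n
        simp
      have hbij := Cfsg.Agent.S0856.result N (fun _ : N => (1 : ℂ)) θ hone' hθ (fun g n => rfl)
        hinv (by rw [hprodeq]; exact hθ) χ hχ hext
      have hmem : β ∈ {β : G → ℂ | IsIrrCharacter G β ∧
          classInner (indFun N (fun _ => (1 : ℂ))) β ≠ 0} :=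
        ⟨hβ, constituent_ind_one_of_ntrivial N hβ hβN⟩
      have hirr : IsIrrCharacter G (β * χ) := (hbij.mapsTo hmem).1
      have hdeg : p ∣ charDegree (β * χ) := by
        rw [charDegree_mul_of hβ hχ]
        exact Dvd.dvd.mul_right hpβ _
      have heq := huniq _ hirr hdeg
      funext n
      have h2 := congrFun heq n
      rw [Pi.mul_apply, hβN n n.2, hext n] at h2
      have h3 : β 1 * (θ n - 1) = 0 := by linear_combination h2
      rcases mul_eq_zero.mp h3 with h4 | h4
      · exact absurd h4 hβ1
      · linear_combination h4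
    · obtain ⟨χ, hχ, hconst⟩ := exists_irr_over N hθ
      have hdeg := degree_eq_of_constituent N hχ hθ hconst
      have hχN : IsCharacter N (fun n : N => χ n) :=
        isCharacter_restrict N (isCharacter_of_isIrrCharacter hχ)
      obtain ⟨e, he⟩ := classInner_char_nat hχN (isCharacter_of_isIrrCharacter hθ)
      have hidxI : p ∣ (inertia N θ).index := by
        have hle : N ≤ inertia N θ := le_inertia N (isClassFunction_of_isIrrCharacter hθ)
        have hd : (inertia N θ).index ∣ N.index := Subgroup.index_dvd_of_le hle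
        rw [hidx] at hd
        obtain ⟨i, -, hi⟩ := (Nat.dvd_prime_pow hp.out).mp hd
        rw [hi]
        have : i ≠ 0 := by
          rintro rfl
          rw [pow_zero, Subgroup.index_eq_one] at hi
          apply hinv
          intro g n
          have hg : g ∈ inertia N θ := by rw [hi]; exact Subgroup.mem_top g
          rw [mem_inertia] at hg
          have := congrFun hg n
          rw [conjFun_apply] at this
          exact this
        exact dvd_pow_self p this
      have hpχ : p ∣ charDegree χ := by
        have h5 : charDegree χ = e * (inertia N θ).index * charDegree θ := by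
          apply charDegree_natCast
          rw [hdeg, he, irr_one_eq_charDegree hθ]
          push_cast
          rfl
        rw [h5]
        exact Dvd.dvd.mul_right (Dvd.dvd.mul_left hidxI _) _
      have heq := huniq χ hχ hpχ
      rw [heq] at hconst
      have h6 : (fun n : N => β n) = (β 1) • (fun _ : N => (1 : ℂ)) := by
        funext n
        rw [Pi.smul_apply, smul_eq_mul, mul_one]
        exact hβN n n.2
      rw [h6, classInner_smul_left, irr_orthogonality isIrrCharacter_one hθ] at hconst
      by_contra hne
      rw [if_neg (fun h => hne h.symm), mul_zero] at hconst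
      exact hconst rfl
  -- so `N` is trivial
  have hsubN : Subsingleton (IrrCharacter N) := by
    constructor
    intro a b
    apply Subtype.ext
    rw [htriv a.1 a.2, htriv b.1 b.2]
  have hcardN : Nat.card N = 1 := by
    rw [← sum_charDegree_sq (G := N)]
    have hne : Nonempty (IrrCharacter N) := ⟨⟨_, isIrrCharacter_one⟩⟩
    have huniv : (Finset.univ : Finset (IrrCharacter N)) = {⟨_, isIrrCharacter_one⟩} := by
      ext x
      simp only [Finset.mem_univ, Finset.mem_singleton, true_iff]
      exact Subsingleton.elim _ _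
    rw [huniv, Finset.sum_singleton]
    have : charDegree (fun _ : N => (1 : ℂ)) = 1 := charDegree_natCast 1 (by simp)
    rw [this, one_pow]
  have hcardG : Nat.card G = p ^ k := by
    rw [← N.card_mul_index, hcardN, one_mul, hidx]
  exact hnil (IsPGroup.of_card hcardG).isNilpotent

/-- The number of irreducible characters. -/
theorem card_irr (hN : (Nat.card N).Coprime p) (k : ℕ) (hidx : N.index = p ^ k)
    (hab : ∀ a b : G ⧸ N, a * b = b * a)
    (hone : Nat.card {χ : IrrCharacter G // p ∣ charDegree (χ : G → ℂ)} = 1) :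
    Nat.card (IrrCharacter G) =
      Nat.card {θ : IrrCharacter N // CopDeg.Inv N (θ : N → ℂ)} * N.index + 1 := by
  classical
  letI : Fintype G := Fintype.ofFinite G
  letI := irrFintype (G := G)
  have hk : k ≠ 0 := by
    rintro rfl
    rw [pow_zero] at hidx
    obtain ⟨χ⟩ := (Nat.card_eq_one_iff_unique.mp hone).2
    have h1 : p ∣ Nat.card G := χ.2.trans (charDegree_dvd_card χ.1.2)
    rw [← N.card_mul_index, hidx, mul_one] at h1
    exact (Nat.Prime.coprime_iff_not_dvd hp.out).mp hN.symm h1
  have hcop : (Nat.card N).Coprime N.index := by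
    rw [hidx]
    exact Nat.Coprime.pow_right k hN
  have h1 := CopDeg.card_coprime_degree N hcop
  have h2 : Nat.card (G ⧸ N →* ℂˣ) = N.index := by
    rw [card_monoidHom_units]
    have hbot : commutator (G ⧸ N) = ⊥ := by
      rw [commutator_eq_bot_iff_center_eq_top, Subgroup.eq_top_iff']
      intro z
      rw [Subgroup.mem_center_iff]
      intro g
      exact hab g z
    rw [hbot, Subgroup.index_bot, Subgroup.index_eq_card]
  rw [h2] at h1
  have h3 : Nat.card {χ : IrrCharacter G // (charDegree (χ : G → ℂ)).Coprime N.index} =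
      Nat.card {χ : IrrCharacter G // ¬ p ∣ charDegree (χ : G → ℂ)} := by
    apply Nat.card_congr
    apply Equiv.subtypeEquivRight
    intro χ
    rw [hidx, Nat.coprime_pow_right_iff (Nat.pos_of_ne_zero hk), Nat.coprime_comm,
      Nat.Prime.coprime_iff_not_dvd hp.out]
  rw [h3] at h1
  have h4 := Nat.card_congr (Equiv.sumCompl (fun χ : IrrCharacter G => p ∣ charDegree (χ : G → ℂ)))
  rw [Nat.card_sum, hone, h1] at h4
  rw [← h4]
  ring

end Cfsg.Agent.Helper24.OneDeg
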