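import Mathlib
import Cfsg.Prelude.Def_Blocks
import Cfsg.Agent.Lib.Helper24.GlaubCount
import Cfsg.Agent.Lib.Helper24.GlaubTransfer
import Cfsg.Agent.Lib.Helper20.Basic

/-!
# Classes of `p'`-size in a group with a normal `p`-complement and abelian Sylow `p`-subgroup
(helper24's shared library)

`N ⊲ G` a `p'`-group, `P` an abelian `p`-subgroup with `G = N P` (and `G ⧸ N` abelian).  The
conjugacy classes of `G` of size prime to `p` are parametrised by pairs (class of `C_N(P)`,
element of `P`).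
-/

set_option autoImplicit false
set_option linter.style.haveILetI false
set_option linter.unusedSectionVars false

namespace Cfsg.Agent.Helper24.OneDeg

open Cfsg Cfsg.Agent.Helper24 Cfsg.Agent.Helper24.Glaub

universe u

variable {G : Type u} [Group G] (p : ℕ) [hp : Fact p.Prime] (N : Subgroup G)
  [hNn : N.Normal] (P : Subgroup G)

theorem le_normalizer_of_normal : P ≤ Subgroup.normalizer (N : Set G) := by
  rw [Subgroup.normalizer_eq_top]
  exact le_top

/-- The conjugation action of `P` on `N`. -/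
noncomputable abbrev actP : P →* MulAut N := conjHom N P (le_normalizer_of_normal N P)

/-- Elements of the fixed subgroup commute with `P`. -/
theorem fixed_comm (c : fixedSub (actP N P)) {y : G} (hy : y ∈ P) :
    y * ((c : N) : G) = ((c : N) : G) * y := by
  have := (mem_fixedSub_conjHom_iff N P (le_normalizer_of_normal N P) (c : N)).mp c.2
  rw [Subgroup.mem_centralizer_iff] at this
  exact this y hy

section

variable (hab : ∀ a b : G ⧸ N, a * b = b * a) (hdisj : ∀ x ∈ N, x ∈ P → x = 1)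

include hab hdisj in
/-- `P` is abelian. -/
theorem comm_P {x y : G} (hx : x ∈ P) (hy : y ∈ P) : x * y = y * x := by
  have h1 : ((x * y : G) : G ⧸ N) = ((y * x : G) : G ⧸ N) := by
    rw [QuotientGroup.mk_mul, QuotientGroup.mk_mul]
    exact hab _ _
  rw [QuotientGroup.eq] at h1
  have h2 := hdisj _ h1 (P.mul_mem (P.inv_mem (P.mul_mem hx hy)) (P.mul_mem hy hx))
  calc x * y = x * y * ((x * y)⁻¹ * (y * x)) := by rw [h2, mul_one]
    _ = y * x := by group

/-- The parametrisation of the classes of `p'`-size. -/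
noncomputable def theta0 (x : ConjClasses (fixedSub (actP N P)) × P) : ConjClasses G :=
  Quotient.liftOn x.1 (fun c => ConjClasses.mk (((c : N) : G) * (x.2 : G))) (by
    intro c c' h
    have h' : IsConj c c' := h
    obtain ⟨m, hm⟩ := isConj_iff.mp h'
    apply ConjClasses.mk_eq_mk_iff_isConj.mpr
    refine isConj_iff.mpr ⟨((m : N) : G), ?_⟩
    have hm' : ((m : N) : G) * ((c : N) : G) * ((m : N) : G)⁻¹ = ((c' : N) : G) := by
      have := congrArg (fun z : fixedSub (actP N P) => ((z : N) : G)) hm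
      simpa using this
    have hmy := fixed_comm N P m x.2.2
    have hmy' : (x.2 : G) * ((m : N) : G)⁻¹ = ((m : N) : G)⁻¹ * (x.2 : G) := by
      calc (x.2 : G) * ((m : N) : G)⁻¹
          = ((m : N) : G)⁻¹ * (((m : N) : G) * (x.2 : G)) * ((m : N) : G)⁻¹ := by group
        _ = ((m : N) : G)⁻¹ * ((x.2 : G) * ((m : N) : G)) * ((m : N) : G)⁻¹ := by rw [hmy]
        _ = ((m : N) : G)⁻¹ * (x.2 : G) := by group
    calc ((m : N) : G) * (((c : N) : G) * (x.2 : G)) * ((m : N) : G)⁻¹
        = ((m : N) : G) * ((c : N) : G) * ((x.2 : G) * ((m : N) : G)⁻¹) := by group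
      _ = ((m : N) : G) * ((c : N) : G) * (((m : N) : G)⁻¹ * (x.2 : G)) := by rw [hmy']
      _ = (((m : N) : G) * ((c : N) : G) * ((m : N) : G)⁻¹) * (x.2 : G) := by group
      _ = ((c' : N) : G) * (x.2 : G) := by rw [hm'])

theorem theta0_mk (c : fixedSub (actP N P)) (y : P) :
    theta0 N P (ConjClasses.mk c, y) = ConjClasses.mk (((c : N) : G) * (y : G)) := rfl

end

section Count

variable [Finite G] (hNp : ¬ p ∣ Nat.card N) (hP : IsPGroup p P) (hPidx : ¬ p ∣ P.index)
  (hdec : ∀ g : G, ∃ n ∈ N, ∃ y ∈ P, g = n * y)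
  (hab : ∀ a b : G ⧸ N, a * b = b * a) (hdisj : ∀ x ∈ N, x ∈ P → x = 1)

include hPidx hab hdisj in
/-- The classes in the image have size prime to `p`. -/
theorem not_dvd_card_theta0 (x : ConjClasses (fixedSub (actP N P)) × P) :
    ¬ p ∣ Nat.card (theta0 N P x).carrier := by
  obtain ⟨κ, y⟩ := x
  obtain ⟨c, rfl⟩ := ConjClasses.exists_rep κ
  rw [theta0_mk, Nat.card_coe_set_eq, Cfsg.Agent.Helper20.ncard_carrier_eq_index]
  intro hd
  apply hPidx
  refine hd.trans (Subgroup.index_dvd_of_le ?_)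
  intro z hz
  rw [Subgroup.mem_centralizer_singleton_iff]
  rw [← mul_assoc, fixed_comm N P c hz, mul_assoc, comm_P N P hab hdisj hz y.2, ← mul_assoc]

include hP hdec hab hdisj in
/-- Every class of size prime to `p` is in the image. -/
theorem exists_theta0_eq (C : ConjClasses G) (hC : ¬ p ∣ Nat.card C.carrier) :
    ∃ x, theta0 N P x = C := by
  obtain ⟨g, rfl⟩ := ConjClasses.exists_rep C
  rw [Nat.card_coe_set_eq, Cfsg.Agent.Helper20.ncard_carrier_eq_index] at hC
  set H := Subgroup.centralizer ({g} : Set G) with hH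
  have hcard : ¬ p ∣ Nat.card (G ⧸ H) := by rwa [← Subgroup.index_eq_card]
  obtain ⟨q, hq⟩ := hP.nonempty_fixed_point_of_prime_not_dvd_card (G ⧸ H) hcard
  obtain ⟨x, rfl⟩ := QuotientGroup.mk_surjective q
  have hfix : ∀ y ∈ P, x⁻¹ * y * x ∈ H := by
    intro y hy
    have h2 : ((y * x : G) : G ⧸ H) = (x : G ⧸ H) := hq ⟨y, hy⟩
    rw [QuotientGroup.eq] at h2
    have h3 := H.inv_mem h2
    convert h3 using 1
    group
  set h := x * g * x⁻¹ with hh
  have hcomm : ∀ y ∈ P, y * h = h * y := by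
    intro y hy
    have := hfix y hy
    rw [hH, Subgroup.mem_centralizer_singleton_iff] at this
    calc y * h = x * ((x⁻¹ * y * x) * g) * x⁻¹ := by rw [hh]; group
      _ = x * (g * (x⁻¹ * y * x)) * x⁻¹ := by rw [this]
      _ = h * y := by rw [hh]; group
  obtain ⟨n, hn, y, hy, hny⟩ := hdec h
  have hncomm : ∀ z ∈ P, z * n = n * z := by
    intro z hz
    have h1 : n = h * y⁻¹ := by rw [hny]; group
    have hzy : z * y⁻¹ = y⁻¹ * z := by
      have := comm_P N P hab hdisj hz hy
      calc z * y⁻¹ = y⁻¹ * (y * z) * y⁻¹ := by group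
        _ = y⁻¹ * (z * y) * y⁻¹ := by rw [this]
        _ = y⁻¹ * z := by group
    rw [h1, ← mul_assoc, hcomm z hz, mul_assoc, hzy, ← mul_assoc]
  let c : fixedSub (actP N P) := ⟨⟨n, hn⟩, by
    rw [mem_fixedSub_conjHom_iff, Subgroup.mem_centralizer_iff]
    exact hncomm⟩
  refine ⟨(ConjClasses.mk c, ⟨y, hy⟩), ?_⟩
  rw [theta0_mk]
  apply ConjClasses.mk_eq_mk_iff_isConj.mpr
  show IsConj (n * y) g
  rw [← hny, isConj_comm]
  exact isConj_iff.mpr ⟨x, rfl⟩

include hNp hP hdec hab hdisj in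
/-- The parametrisation is injective. -/
theorem theta0_injective : Function.Injective (theta0 N P) := by
  rintro ⟨κ, y⟩ ⟨κ', y'⟩ h
  obtain ⟨c, rfl⟩ := ConjClasses.exists_rep κ
  obtain ⟨c', rfl⟩ := ConjClasses.exists_rep κ'
  rw [theta0_mk, theta0_mk, ConjClasses.mk_eq_mk_iff_isConj, isConj_iff] at h
  obtain ⟨g, hg⟩ := h
  have hy : y = y' := by
    have h1 := congrArg (QuotientGroup.mk : G → G ⧸ N) hg
    simp only [QuotientGroup.mk_mul, QuotientGroup.mk_inv] at h1
    have hc1 : ((((c : N) : G) : G) : G ⧸ N) = 1 := (QuotientGroup.eq_one_iff _).mpr (c : N).2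
    have hc'1 : ((((c' : N) : G) : G) : G ⧸ N) = 1 := (QuotientGroup.eq_one_iff _).mpr (c' : N).2
    rw [hc1, hc'1, one_mul, one_mul, hab (g : G ⧸ N) _, mul_inv_cancel_right] at h1
    rw [QuotientGroup.eq] at h1
    have := hdisj _ h1 (P.mul_mem (P.inv_mem y.2) y'.2)
    apply Subtype.ext
    exact inv_mul_eq_one.mp this
  subst hy
  have hyc : Commute ((c : N) : G) (y : G) := (fixed_comm N P c y.2).symm
  have hyc' : Commute ((c' : N) : G) (y : G) := (fixed_comm N P c' y.2).symm
  have hy1 : (y : G) ^ Nat.card P = 1 := by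
    have : y ^ Nat.card P = 1 := pow_card_eq_one'
    exact_mod_cast congrArg (fun z : P => (z : G)) this
  have hpow : (g * ((c : N) : G) * g⁻¹) ^ Nat.card P = ((c' : N) : G) ^ Nat.card P := by
    have e1 : (((c : N) : G) * (y : G)) ^ Nat.card P = ((c : N) : G) ^ Nat.card P := by
      rw [hyc.mul_pow, hy1, mul_one]
    have e2 : (((c' : N) : G) * (y : G)) ^ Nat.card P = ((c' : N) : G) ^ Nat.card P := by
      rw [hyc'.mul_pow, hy1, mul_one]
    rw [conj_pow, ← e1, ← conj_pow, hg, e2]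
  have hcN : g * ((c : N) : G) * g⁻¹ ∈ N := hNn.conj_mem _ (c : N).2 g
  have hcop : (Nat.card N).Coprime (Nat.card P) := by
    obtain ⟨j, hj⟩ := hP.exists_card_eq
    rw [hj]
    apply Nat.Coprime.pow_right
    exact ((Nat.Prime.coprime_iff_not_dvd hp.out).mpr hNp).symm
  have hinj := (powCoprime hcop).injective
  have heq : (⟨g * ((c : N) : G) * g⁻¹, hcN⟩ : N) = (c' : N) := by
    apply hinj
    apply Subtype.ext
    simpa using hpow
  obtain ⟨n, hn, z, hz, hnz⟩ := hdec g
  have hconjN : IsConj (c : N) (c' : N) := by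
    rw [isConj_iff]
    refine ⟨⟨n, hn⟩, ?_⟩
    apply Subtype.ext
    show n * ((c : N) : G) * n⁻¹ = ((c' : N) : G)
    have h5 : g * ((c : N) : G) * g⁻¹ = n * ((c : N) : G) * n⁻¹ := by
      rw [hnz]
      have hzc := fixed_comm N P c hz
      calc n * z * ((c : N) : G) * (n * z)⁻¹ = n * (z * ((c : N) : G)) * z⁻¹ * n⁻¹ := by group
        _ = n * (((c : N) : G) * z) * z⁻¹ * n⁻¹ := by rw [hzc]
        _ = n * ((c : N) : G) * n⁻¹ := by group
    rw [← h5]
    exact congrArg Subtype.val heq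
  obtain ⟨m, hm, hmc⟩ := fusion (actP N P) hP hNp c.2 c'.2 hconjN
  have hmk : ConjClasses.mk c = ConjClasses.mk c' := by
    apply ConjClasses.mk_eq_mk_iff_isConj.mpr
    exact isConj_iff.mpr ⟨⟨m, hm⟩, Subtype.ext hmc⟩
  rw [hmk]

include hNp hP hPidx hdec hab hdisj in
/-- **Counting** the classes of size prime to `p`. -/
theorem card_classes_not_dvd :
    Nat.card {C : ConjClasses G // ¬ p ∣ Nat.card C.carrier} =
      Nat.card (ConjClasses (fixedSub (actP N P))) * Nat.card P := by
  rw [← Nat.card_prod]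
  symm
  apply Nat.card_congr
  refine Equiv.ofBijective (fun x => ⟨theta0 N P x, not_dvd_card_theta0 p N P hPidx hab hdisj x⟩)
    ⟨fun a b h => theta0_injective p N P hNp hP hdec hab hdisj (congrArg Subtype.val h), ?_⟩
  rintro ⟨C, hC⟩
  obtain ⟨x, hx⟩ := exists_theta0_eq p N P hP hdec hab hdisj C hC
  exact ⟨x, Subtype.ext hx⟩

end Count

end Cfsg.Agent.Helper24.OneDeg
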