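import Mathlib

/-!
# S4274 (order 175560), piece ORD7980 (helper24): the arithmetic core

`no_simple_7980_core`: the conclusion of `klein_formula` (piece KLEIN) is contradictory for `|G| = 7980`.
`Ord7980.klein_ineq` (the inequality `64 N cP^2 ≤ 648 cJ^3 ≤ 100 N cP^2` from degrees `≥ 9`) is reusable for 87780.
-/

set_option autoImplicit false
set_option linter.unusedSectionVars false
set_option linter.unusedVariables false

namespace Cfsg.Agent.Helper3.SmallOrd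

namespace Ord7980

/-- the two bounds on `A = (a+1)(b+ε)(c-1)` against `X = abc` when `a, b, c ≥ 9` -/
theorem klein_bounds (a b c ε : ℤ) (hε : ε = 1 ∨ ε = -1) (ha : 9 ≤ a) (hb : 9 ≤ b) (hc : 9 ≤ c) :
    64 * (a * b * c) ≤ 81 * ((a + 1) * (b + ε) * (c - 1)) ∧
      81 * ((a + 1) * (b + ε) * (c - 1)) ≤ 100 * (a * b * c) := by
  have hβ1 : b - 1 ≤ b + ε := by rcases hε with rfl | rfl <;> linarith
  have hβ2 : b + ε ≤ b + 1 := by rcases hε with rfl | rfl <;> linarith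
  constructor
  · -- lower bound
    have h1 : a ≤ a + 1 := by linarith
    have h2 : 8 * b ≤ 9 * (b + ε) := by linarith
    have h3 : 8 * c ≤ 9 * (c - 1) := by linarith
    have h4 : a * (8 * b) ≤ (a + 1) * (9 * (b + ε)) :=
      mul_le_mul h1 h2 (by linarith) (by linarith)
    have h5 : a * (8 * b) * (8 * c) ≤ (a + 1) * (9 * (b + ε)) * (9 * (c - 1)) :=
      mul_le_mul h4 h3 (by linarith) (by nlinarith)
    calc 64 * (a * b * c) = a * (8 * b) * (8 * c) := by ring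
      _ ≤ (a + 1) * (9 * (b + ε)) * (9 * (c - 1)) := h5
      _ = 81 * ((a + 1) * (b + ε) * (c - 1)) := by ring
  · -- upper bound
    have h1 : 9 * (a + 1) ≤ 10 * a := by linarith
    have h2 : 9 * (b + ε) ≤ 10 * b := by linarith
    have h3 : c - 1 ≤ c := by linarith
    have h4 : 9 * (a + 1) * (9 * (b + ε)) ≤ 10 * a * (10 * b) :=
      mul_le_mul h1 h2 (by linarith) (by linarith)
    have h5 : 9 * (a + 1) * (9 * (b + ε)) * (c - 1) ≤ 10 * a * (10 * b) * c :=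
      mul_le_mul h4 h3 (by linarith) (by nlinarith)
    calc 81 * ((a + 1) * (b + ε) * (c - 1)) = 9 * (a + 1) * (9 * (b + ε)) * (c - 1) := by ring
      _ ≤ 10 * a * (10 * b) * c := h5
      _ = 100 * (a * b * c) := by ring

/-- the Brauer order formula with all three degrees `≥ 9` pins `cJ^3 / cP^2` -/
theorem klein_ineq (N cP cJ x₁ x₂ x₃ : ℕ) (ε : ℤ) (hε : ε = 1 ∨ ε = -1)
    (hx1 : 9 ≤ x₁) (hx2 : 9 ≤ x₂) (hx3 : 9 ≤ x₃)
    (hrel : (N : ℤ) * (cP : ℤ) ^ 2 * (((x₁ : ℤ) + 1) * ((x₂ : ℤ) + ε) * ((x₃ : ℤ) - 1)) =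
      8 * ((x₁ : ℤ) * x₂ * x₃) * (cJ : ℤ) ^ 3) :
    64 * N * cP ^ 2 ≤ 648 * cJ ^ 3 ∧ 648 * cJ ^ 3 ≤ 100 * N * cP ^ 2 := by
  have ha : (9 : ℤ) ≤ x₁ := by exact_mod_cast hx1
  have hb : (9 : ℤ) ≤ x₂ := by exact_mod_cast hx2
  have hc : (9 : ℤ) ≤ x₃ := by exact_mod_cast hx3
  obtain ⟨hlo, hup⟩ := klein_bounds (x₁ : ℤ) x₂ x₃ ε hε ha hb hc
  have hXpos : (0 : ℤ) < (x₁ : ℤ) * x₂ * x₃ := by positivity
  have hNP : (0 : ℤ) ≤ (N : ℤ) * (cP : ℤ) ^ 2 := by positivity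
  have h81 : (648 : ℤ) * (cJ : ℤ) ^ 3 * ((x₁ : ℤ) * x₂ * x₃) =
      (N : ℤ) * (cP : ℤ) ^ 2 * (81 * (((x₁ : ℤ) + 1) * ((x₂ : ℤ) + ε) * ((x₃ : ℤ) - 1))) := by
    linear_combination (-81 : ℤ) * hrel
  constructor
  · have h1 : (64 * (N : ℤ) * (cP : ℤ) ^ 2) * ((x₁ : ℤ) * x₂ * x₃) ≤
        (648 : ℤ) * (cJ : ℤ) ^ 3 * ((x₁ : ℤ) * x₂ * x₃) := by
      rw [h81]
      calc (64 * (N : ℤ) * (cP : ℤ) ^ 2) * ((x₁ : ℤ) * x₂ * x₃)
          = (N : ℤ) * (cP : ℤ) ^ 2 * (64 * ((x₁ : ℤ) * x₂ * x₃)) := by ring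
        _ ≤ _ := mul_le_mul_of_nonneg_left hlo hNP
    have h2 := le_of_mul_le_mul_right h1 hXpos
    exact_mod_cast h2
  · have h1 : (648 : ℤ) * (cJ : ℤ) ^ 3 * ((x₁ : ℤ) * x₂ * x₃) ≤
        (100 * (N : ℤ) * (cP : ℤ) ^ 2) * ((x₁ : ℤ) * x₂ * x₃) := by
      rw [h81]
      calc (N : ℤ) * (cP : ℤ) ^ 2 * (81 * (((x₁ : ℤ) + 1) * ((x₂ : ℤ) + ε) * ((x₃ : ℤ) - 1)))
          ≤ (N : ℤ) * (cP : ℤ) ^ 2 * (100 * ((x₁ : ℤ) * x₂ * x₃)) :=
            mul_le_mul_of_nonneg_left hup hNP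
        _ = _ := by ring
    have h2 := le_of_mul_le_mul_right h1 hXpos
    exact_mod_cast h2

/-- the finite check for `7980` -/
theorem check : ∀ c ∈ Finset.range 666, ∀ m ∈ Finset.range 7, c ∣ 665 → 4 * c * m ∣ 7980 →
    ¬ (64 * 7980 ≤ 648 * (4 * c) * m ^ 3 ∧ 648 * (4 * c) * m ^ 3 ≤ 100 * 7980) := by
  decide +kernel

/-- no pair `(cP, cJ)` for `7980` -/
theorem no_pair (cP cJ : ℕ) (h4 : 4 ∣ cP) (h3 : 3 * cP ∣ 7980) (hPJ : cP ∣ cJ) (hJ : cJ ∣ 7980)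
    (hlo : 64 * 7980 * cP ^ 2 ≤ 648 * cJ ^ 3) (hup : 648 * cJ ^ 3 ≤ 100 * 7980 * cP ^ 2) : False := by
  obtain ⟨c, rfl⟩ := h4
  obtain ⟨m, rfl⟩ := hPJ
  have hc665 : c ∣ 665 := by
    have h1 : 12 * c ∣ 12 * 665 := by
      have : 3 * (4 * c) = 12 * c := by ring
      rw [this] at h3
      exact h3
    exact (Nat.mul_dvd_mul_iff_left (by norm_num)).1 h1
  have hcpos : 0 < c := Nat.pos_of_dvd_of_pos hc665 (by norm_num)
  have hcle : c ≤ 665 := Nat.le_of_dvd (by norm_num) hc665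
  have hP2 : 0 < (4 * c) ^ 2 := by positivity
  have e1 : 648 * (4 * c * m) ^ 3 = (648 * (4 * c) * m ^ 3) * (4 * c) ^ 2 := by ring
  have hlo' : 64 * 7980 ≤ 648 * (4 * c) * m ^ 3 := by
    rw [e1] at hlo
    exact Nat.le_of_mul_le_mul_right hlo hP2
  have hup' : 648 * (4 * c) * m ^ 3 ≤ 100 * 7980 := by
    rw [e1] at hup
    exact Nat.le_of_mul_le_mul_right hup hP2
  have hm : m < 7 := by
    by_contra hc7
    push Not at hc7
    have h7 : 7 ^ 3 ≤ m ^ 3 := Nat.pow_le_pow_left hc7 3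
    have : 648 * (4 * 1) * 7 ^ 3 ≤ 648 * (4 * c) * m ^ 3 :=
      Nat.mul_le_mul (Nat.mul_le_mul_left _ (Nat.mul_le_mul_left _ hcpos)) h7
    omega
  exact check c (Finset.mem_range.2 (by omega)) m (Finset.mem_range.2 hm) hc665 hJ ⟨hlo', hup'⟩

end Ord7980

/-- piece ORD7980, core: the conclusion of `klein_formula` is contradictory for order `7980`. -/
theorem no_simple_7980_core {G : Type*} [Group G] [Finite G] (h : Nat.card G = 7980)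
    (hK : ∃ (T : Sylow 2 G) (J : G) (x₁ x₂ x₃ : ℕ) (ε : ℤ),
      J ∈ (T : Subgroup G) ∧ orderOf J = 2 ∧ (ε = 1 ∨ ε = -1) ∧
      Nat.card (Subgroup.normalizer ((T : Subgroup G) : Set G)) =
        3 * Nat.card (Subgroup.centralizer ((T : Subgroup G) : Set G)) ∧
      4 ∣ Nat.card (Subgroup.centralizer ((T : Subgroup G) : Set G)) ∧
      Nat.card (Subgroup.centralizer ((T : Subgroup G) : Set G)) ∣
        Nat.card (Subgroup.centralizer ({J} : Set G)) ∧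
      x₁ ∣ Nat.card G ∧ x₂ ∣ Nat.card G ∧ x₃ ∣ Nat.card G ∧
      (4 : ℤ) ∣ (x₁ : ℤ) - 1 ∧ (4 : ℤ) ∣ (x₂ : ℤ) - ε ∧ (4 : ℤ) ∣ (x₃ : ℤ) + 1 ∧
      (1 : ℤ) + x₁ + ε * x₂ - x₃ = 0 ∧
      (∀ p : ℕ, p.Prime → p ∣ Nat.card G → ¬ p ^ 2 ∣ Nat.card G →
        p ≤ 2 * x₁ + 1 ∧ p ≤ 2 * x₂ + 1 ∧ p ≤ 2 * x₃ + 1) ∧
      (Nat.card G : ℤ) * (Nat.card (Subgroup.centralizer ((T : Subgroup G) : Set G)) : ℤ) ^ 2 *
          (((x₁ : ℤ) + 1) * ((x₂ : ℤ) + ε) * ((x₃ : ℤ) - 1)) =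
        8 * ((x₁ : ℤ) * x₂ * x₃) *
          (Nat.card (Subgroup.centralizer ({J} : Set G)) : ℤ) ^ 3) : False := by
  obtain ⟨T, J, x₁, x₂, x₃, ε, hJT, hJ2, hε, hN, h4, hPJ, hd1, hd2, hd3, hm1, hm2, hm3, hsum,
    hbound, hrel⟩ := hK
  have h19 := hbound 19 (by norm_num) (by rw [h]; norm_num) (by rw [h]; norm_num)
  have hx1 : 9 ≤ x₁ := by omega
  have hx2 : 9 ≤ x₂ := by omega
  have hx3 : 9 ≤ x₃ := by omega
  rw [h] at hrel
  obtain ⟨hlo, hup⟩ := Ord7980.klein_ineq 7980 _ _ x₁ x₂ x₃ ε hε hx1 hx2 hx3 (by exact_mod_cast hrel)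
  have h3 : 3 * Nat.card (Subgroup.centralizer ((T : Subgroup G) : Set G)) ∣ 7980 := by
    rw [← hN, ← h]
    exact Subgroup.card_subgroup_dvd_card _
  have hJd : Nat.card (Subgroup.centralizer ({J} : Set G)) ∣ 7980 := by
    rw [← h]
    exact Subgroup.card_subgroup_dvd_card _
  exact Ord7980.no_pair _ _ h4 h3 hPJ hJd hlo hup

end Cfsg.Agent.Helper3.SmallOrd
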