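import Mathlib
import Cfsg.Prelude.Def_Blocks
import Cfsg.Agent.Lib.Helper24.OverInvB
import Cfsg.Agent.Lib.Helper24.GlaubOver
import Cfsg.Agent.Lib.Helper24.CoprimeOver
import Cfsg.Agent.Lib.Helper24.CharHom

/-!
# Invariant characters over a central subgroup (helper24's shared library)

`central_case`: `Z ≤ Z(Γ)`, `Z ≤ G ⊴ Γ`, `([Γ:G],[G:Z]) = 1`, `Γ/G` solvable; then every linear
character of `Z` lies under a `Γ`-invariant irreducible character of `G`.
-/

set_option autoImplicit false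
set_option linter.style.haveILetI false

namespace Cfsg.Agent.Helper24.OverInv

open Cfsg Cfsg.Agent.Helper24

universe u

variable {Γ : Type u} [Group Γ]

section TransferPart

variable [Finite Γ] (G Z : Subgroup Γ) (hZG : Z ≤ G) (hZc : Z ≤ Subgroup.center Γ)

include hZG hZc in
/-- **Transfer into the central subgroup**: there is a homomorphism `ψ : G → Z`,
`g ↦ g ^ (n * v)`, invariant under conjugation by `Γ`, where `n * v` is coprime to `u` and
`u` is a number all of whose prime factors divide `a`, while `z ^ v` is killed by `u` for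
`z ∈ Z`. -/
theorem exists_transfer (a : ℕ) (hcop : a.Coprime (Z.relIndex G)) :
    ∃ (e u v : ℕ) (ψ : G →* Z), u ≠ 0 ∧ e.Coprime u ∧ v.Coprime a ∧
      (∀ g : G, ((ψ g : Z) : Γ) = (g : Γ) ^ e) ∧ (∀ g : G, (ψ g) ^ u = 1) ∧
      (∀ z : Z, ((z : Γ) ^ v) ^ u = 1) := by
  classical
  have hZC : Z.subgroupOf G ≤ Subgroup.center G := by
    intro g hg
    rw [Subgroup.mem_center_iff]
    intro h
    apply Subtype.ext
    exact Subgroup.mem_center_iff.mp (hZc hg) (h : Γ)
  set n := (Subgroup.center G).index with hn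
  have hnm : n ∣ Z.relIndex G := Subgroup.index_dvd_of_le hZC
  set cc := Nat.card (Subgroup.center G) with hcc
  set v := copPart cc a with hv
  set u := piPart cc a with hu
  have huv : u * v = cc := piPart_mul_copPart Nat.card_pos.ne' a
  have hu0 : u ≠ 0 := by
    intro h0
    rw [h0, zero_mul] at huv
    exact Nat.card_pos.ne' huv.symm
  have hva : v.Coprime a := copPart_coprime cc a
  have hna : n.Coprime a := Nat.Coprime.coprime_dvd_left hnm hcop.symm
  have hnvu : (n * v).Coprime u := (piPart_coprime (Nat.Coprime.mul_left hna hva)).symm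
  -- the power homomorphism into the centre
  let ψv : G →* Subgroup.center G :=
    { toFun := fun g => (MonoidHom.transferCenterPow G g) ^ v
      map_one' := by rw [map_one, one_pow]
      map_mul' := by
        intro x y
        rw [map_mul]
        have hc : Commute (MonoidHom.transferCenterPow G x) (MonoidHom.transferCenterPow G y) := by
          apply Subtype.ext
          exact ((MonoidHom.transferCenterPow G y).2.comm _).symm
        exact hc.mul_pow v }
  have hψv : ∀ g : G, ((ψv g : Subgroup.center G) : G) = (g ^ n) ^ v := by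
    intro g
    show (((MonoidHom.transferCenterPow G g) ^ v : Subgroup.center G) : G) = _
    rw [Subgroup.coe_pow, MonoidHom.transferCenterPow_apply]
  have hψvu : ∀ g : G, (ψv g) ^ u = 1 := by
    intro g
    show ((MonoidHom.transferCenterPow G g) ^ v) ^ u = 1
    rw [← pow_mul, mul_comm, huv, hcc, pow_card_eq_one']
  -- elements of the centre killed by `u` lie in `Z`
  have hmemZ : ∀ c : Subgroup.center G, c ^ u = 1 → ((c : G) : Γ) ∈ Z := by
    intro c hc
    let H : Subgroup (Subgroup.center G) := (Z.subgroupOf G).subgroupOf (Subgroup.center G)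
    haveI : H.Normal := Subgroup.normal_of_isMulCommutative H
    have hr : H.index ∣ Z.relIndex G := by
      have h1 : (Z.subgroupOf G).relIndex (Subgroup.center G) * (Subgroup.center G).index
          = (Z.subgroupOf G).index := Subgroup.relIndex_mul_index hZC
      exact Dvd.intro _ h1
    have hra : (H.index).Coprime a := Nat.Coprime.coprime_dvd_left hr hcop.symm
    have hur : (H.index).Coprime u := (piPart_coprime hra).symm
    obtain ⟨t, -, ht⟩ := Nat.exists_mul_mod_eq_of_coprime 1 hur hu0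
    have h2 : c ^ H.index ∈ H := Subgroup.pow_index_mem H c
    have h3 : (c ^ H.index) ^ t = c := by
      rw [← pow_mul, pow_eq_pow_mod _ hc, ht, ← pow_eq_pow_mod _ hc, pow_one]
    have h4 : c ∈ H := by
      rw [← h3]
      exact H.pow_mem h2 t
    exact h4
  let f : G →* Γ := G.subtype.comp ((Subgroup.center G).subtype.comp ψv)
  have hf : ∀ g : G, f g = ((g : Γ) ^ n) ^ v := by
    intro g
    show (((ψv g : Subgroup.center G) : G) : Γ) = _
    rw [hψv]
    rfl
  let ψ : G →* Z := f.codRestrict Z (fun g => hmemZ (ψv g) (hψvu g))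
  refine ⟨n * v, u, v, ψ, hu0, hnvu, hva, ?_, ?_, ?_⟩
  · intro g
    show f g = _
    rw [hf, pow_mul]
  · intro g
    apply Subtype.ext
    show (f g) ^ u = 1
    have h1 := congrArg (fun c : Subgroup.center G => ((c : G) : Γ)) (hψvu g)
    exact h1
  · intro z
    have hzC : (⟨(z : Γ), hZG z.2⟩ : G) ∈ Subgroup.center G := hZC (by
      rw [Subgroup.mem_subgroupOf]
      exact z.2)
    have h1 : (⟨⟨(z : Γ), hZG z.2⟩, hzC⟩ : Subgroup.center G) ^ cc = 1 := by
      rw [hcc, pow_card_eq_one']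
    have h2 := congrArg (fun c : Subgroup.center G => ((c : G) : Γ)) h1
    simp only [Subgroup.coe_pow, Subgroup.coe_one] at h2
    rw [← pow_mul, mul_comm, huv]
    exact h2

end TransferPart

section Main

variable [Fintype Γ]

/-- **Central case.** -/
theorem central_case (G Z : Subgroup Γ) [hG : G.Normal] [Fintype G] [Fintype Z]
    (hZG : Z ≤ G) (hZc : Z ≤ Subgroup.center Γ) (hcop : (G.index).Coprime (Z.relIndex G))
    (hsolv : Group.IsSolvable (Γ ⧸ G)) (lam : Z →* ℂˣ) :
    ∃ β : G → ℂ, IsIrrCharacter G β ∧ stabSub G β = ⊤ ∧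
      ∀ z : Z, β ⟨z, hZG z.2⟩ = β 1 * ((lam z : ℂˣ) : ℂ) := by
  classical
  set a := G.index with ha
  obtain ⟨e, u, v, ψ, hu0, heu, hva, hψ, hψu, hzv⟩ := exists_transfer G Z hZG hZc a hcop
  -- equivariance of ψ
  have hψinv : ∀ (x : Γ) (g g' : G), (g' : Γ) = x * g * x⁻¹ → ψ g' = ψ g := by
    intro x g g' h
    apply Subtype.ext
    rw [hψ, hψ, h, conj_pow]
    have hc : (g : Γ) ^ e ∈ Subgroup.center Γ := by
      rw [← hψ]; exact hZc (ψ g).2
    rw [Subgroup.mem_center_iff] at hc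
    rw [hc x, mul_inv_cancel_right]
  -- the twisting linear character
  obtain ⟨w, -, hw⟩ := Nat.exists_mul_mod_eq_of_coprime 1 heu hu0
  let τ : G →* ℂˣ := (powMonoidHom w).comp (lam.comp ψ)
  have hτ : ∀ g : G, τ g = (lam (ψ g)) ^ w := fun _ => rfl
  have hτinv : ∀ (x : Γ) (g g' : G), (g' : Γ) = x * g * x⁻¹ → τ g' = τ g := by
    intro x g g' h
    rw [hτ, hτ, hψinv x g g' h]
  have hτZ : ∀ z : Z, (z : Γ) ^ u = 1 → τ ⟨z, hZG z.2⟩ = lam z := by
    intro z hz
    have h1 : ψ ⟨z, hZG z.2⟩ = z ^ e := by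
      apply Subtype.ext
      rw [hψ, Subgroup.coe_pow]
    have h2 : (lam z) ^ u = 1 := by
      rw [← map_pow]
      have : z ^ u = 1 := Subtype.ext (by rw [Subgroup.coe_pow, hz]; rfl)
      rw [this, map_one]
    rw [hτ, h1, map_pow, ← pow_mul, pow_eq_pow_mod _ h2, hw, ← pow_eq_pow_mod _ h2, pow_one]
  -- the subgroup of `Z` killed by `u`
  let Zu : Subgroup Γ :=
    { carrier := {z | z ∈ Z ∧ z ^ u = 1}
      one_mem' := ⟨Z.one_mem, one_pow u⟩
      mul_mem' := by
        rintro x y ⟨hx, hxu⟩ ⟨hy, hyu⟩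
        refine ⟨Z.mul_mem hx hy, ?_⟩
        have hc : Commute x y := (Subgroup.mem_center_iff.mp (hZc hx) y).symm
        rw [hc.mul_pow, hxu, hyu, one_mul]
      inv_mem' := by
        rintro x ⟨hx, hxu⟩
        exact ⟨Z.inv_mem hx, by rw [inv_pow, hxu, inv_one]⟩ }
  have hZu : ∀ z, z ∈ Zu ↔ z ∈ Z ∧ z ^ u = 1 := fun _ => Iff.rfl
  have hZuZ : Zu ≤ Z := fun z hz => hz.1
  haveI hZun : Zu.Normal := by
    constructor
    intro n hn g
    have hc := Subgroup.mem_center_iff.mp (hZc hn.1) g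
    rw [hc, mul_inv_cancel_right]
    exact hn
  -- the modified linear character of `Z`
  let lam' : Z →* ℂˣ := lam * (τ.comp (Subgroup.inclusion hZG))⁻¹
  have hlam' : ∀ z : Z, lam' z = lam z * (τ ⟨z, hZG z.2⟩)⁻¹ := fun _ => rfl
  have hlam'1 : ∀ z : Z, (z : Γ) ∈ Zu → lam' z = 1 := by
    intro z hz
    rw [hlam', hτZ z hz.2, mul_inv_cancel]
  -- the quotient
  let π := QuotientGroup.mk' Zu
  have hπs : Function.Surjective π := QuotientGroup.mk'_surjective Zu
  have hπk : π.ker = Zu := QuotientGroup.ker_mk' Zu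
  set Gb : Subgroup (Γ ⧸ Zu) := G.map π with hGb
  set Zb : Subgroup (Γ ⧸ Zu) := Z.map π with hZb
  haveI hGbn : Gb.Normal := hG.map π hπs
  have hZbGb : Zb ≤ Gb := Subgroup.map_mono hZG
  have hZbc : Zb ≤ Subgroup.center (Γ ⧸ Zu) := by
    rintro _ ⟨z, hz, rfl⟩
    rw [Subgroup.mem_center_iff]
    intro y
    obtain ⟨x, rfl⟩ := hπs y
    rw [← map_mul, ← map_mul, Subgroup.mem_center_iff.mp (hZc hz) x]
  have hGbidx : Gb.index = a := by
    rw [hGb, Subgroup.index_map_eq G hπs (by rw [hπk]; exact hZuZ.trans hZG)]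
  have hGbcard : (Nat.card Gb).Coprime a := by
    have h1 : Nat.card Gb = Zu.relIndex G := by
      rw [hGb, ← Subgroup.relIndex_ker, hπk]
    have h2 : Zu.relIndex Z * Z.relIndex G = Zu.relIndex G :=
      Subgroup.relIndex_mul_relIndex Zu Z G hZuZ hZG
    rw [h1, ← h2]
    apply Nat.Coprime.mul_left _ hcop.symm
    have h3 : Zu.relIndex Z = Nat.card (Z ⧸ Zu.subgroupOf Z) := by
      rw [Subgroup.relIndex, Subgroup.index_eq_card]
    rw [h3]
    haveI : (Zu.subgroupOf Z).Normal := inferInstance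
    apply coprime_card_of_forall_pow_eq_one v a hva
    intro q
    obtain ⟨z, rfl⟩ := QuotientGroup.mk_surjective q
    rw [← QuotientGroup.mk_pow, QuotientGroup.eq_one_iff, Subgroup.mem_subgroupOf, hZu,
      Subgroup.coe_pow]
    exact ⟨Z.pow_mem z.2 v, hzv z⟩
  -- the complement
  obtain ⟨Ab, hcompl⟩ := Subgroup.exists_right_complement'_of_coprime (N := Gb)
    (by rw [hGbidx]; exact hGbcard)
  have hAbcard : Nat.card Ab = a := by
    rw [← hGbidx]
    exact (hcompl.symm.index_eq_card).symm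
  haveI hAbsolv : Group.IsSolvable Ab := by
    have hle : G ≤ Gb.comap π := Subgroup.le_comap_map π G
    let q : Γ ⧸ G →* (Γ ⧸ Zu) ⧸ Gb := QuotientGroup.map G Gb π hle
    have hq : Function.Surjective q := by
      intro y
      obtain ⟨y', rfl⟩ := QuotientGroup.mk_surjective y
      obtain ⟨x, rfl⟩ := hπs y'
      exact ⟨QuotientGroup.mk x, rfl⟩
    haveI : Group.IsSolvable ((Γ ⧸ Zu) ⧸ Gb) := Group.isSolvable_of_surjective hq
    exact Group.isSolvable_of_surjective (f := (hcompl.symm.QuotientMulEquiv).toMonoidHom)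
      (hcompl.symm.QuotientMulEquiv).surjective
  -- the actions
  let φG : Ab →* MulAut Gb := (MulAut.conjNormal (H := Gb)).comp Ab.subtype
  let φN : Ab →* MulAut Zb := 1
  let ι : Zb →* Gb := Subgroup.inclusion hZbGb
  have hι : Function.Injective ι := Subgroup.inclusion_injective hZbGb
  have compat : ∀ (x : Ab) (n : Zb), ι (φN x n) = φG x (ι n) := by
    intro x n
    apply Subtype.ext
    show (n : Γ ⧸ Zu) = (x : Γ ⧸ Zu) * n * (x : Γ ⧸ Zu)⁻¹
    have hc := Subgroup.mem_center_iff.mp (hZbc n.2) (x : Γ ⧸ Zu)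
    rw [hc, mul_inv_cancel_right]
  have hnorm : ι.range.Normal := by
    constructor
    rintro _ ⟨n, rfl⟩ g
    refine ⟨n, ?_⟩
    apply Subtype.ext
    show (n : Γ ⧸ Zu) = (g : Γ ⧸ Zu) * n * (g : Γ ⧸ Zu)⁻¹
    have hc := Subgroup.mem_center_iff.mp (hZbc n.2) (g : Γ ⧸ Zu)
    rw [hc, mul_inv_cancel_right]
  have hcopA : (Nat.card Ab).Coprime (Nat.card Gb) := by
    rw [hAbcard]; exact hGbcard.symm
  -- the linear character of `Zb`
  let sm : Z →* Zb := π.subgroupMap Z
  have hsm : Function.Surjective sm := π.subgroupMap_surjective Z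
  have hker : sm.ker ≤ lam'.ker := by
    intro z hz
    rw [MonoidHom.mem_ker] at hz ⊢
    apply hlam'1
    have h1 : π (z : Γ) = 1 := congrArg Subtype.val hz
    rw [← MonoidHom.mem_ker, hπk] at h1
    exact h1
  let lamb : Zb →* ℂˣ := sm.liftOfSurjective hsm ⟨lam', hker⟩
  have hlamb : ∀ z : Z, lamb (sm z) = lam' z := by
    intro z
    exact MonoidHom.liftOfRightInverse_comp_apply sm _ _ ⟨lam', hker⟩ z
  letI : Fintype Gb := Fintype.ofFinite _
  letI : Fintype Zb := Fintype.ofFinite _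
  let θb : IrrCharacter Zb := ⟨fun z => ((lamb z : ℂˣ) : ℂ), isIrrCharacter_of_monoidHom lamb⟩
  have hθb : Glaub.IsInv φN (θb : Zb → ℂ) := by
    intro x n
    rfl
  obtain ⟨βb, hβinv, hβover⟩ := Glaub.over_solvable φN φG ι hι compat hnorm hcopA θb hθb
  -- values of βb on the centre
  have hβZ : ∀ n : Zb, (βb : Gb → ℂ) (ι n) = (βb : Gb → ℂ) 1 * ((lamb n : ℂˣ) : ℂ) := by
    intro n
    apply central_over ι _ βb.2 lamb hβover n
    intro n'
    rw [Subgroup.mem_center_iff]
    intro g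
    apply Subtype.ext
    exact Subgroup.mem_center_iff.mp (hZbc n'.2) (g : Γ ⧸ Zu)
  -- invariance of βb under the whole quotient group
  have hstab : stabSub Gb (βb : Gb → ℂ) = ⊤ := by
    rw [eq_top_iff, ← hcompl.sup_eq_top]
    apply sup_le
    · exact le_stabSub Gb (isClassFunction_of_isIrrCharacter βb.2)
    · intro x hx g g' h
      have h1 := hβinv ⟨x, hx⟩ g
      rw [← h1]
      apply congrArg (βb : Gb → ℂ)
      apply Subtype.ext
      rw [h]
      rfl
  -- the final character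
  let πG : G →* Gb := π.subgroupMap G
  have hπG : Function.Surjective πG := π.subgroupMap_surjective G
  have hβ1 : IsIrrCharacter G ((βb : Gb → ℂ) ∘ πG) :=
    isIrrCharacter_comp_of_surjective πG hπG βb.2
  have hτc : IsCharacter G (fun g => ((τ g : ℂˣ) : ℂ)) :=
    isCharacter_of_isIrrCharacter (isIrrCharacter_of_monoidHom τ)
  letI : Fintype (IrrCharacter G) := irrFintype
  have hβ2 := isIrrCharacter_mul_linear hβ1 hτc (by simp)
  refine ⟨((βb : Gb → ℂ) ∘ πG) * fun g => ((τ g : ℂˣ) : ℂ), hβ2, ?_, ?_⟩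
  · rw [eq_top_iff]
    intro x _ g g' h
    show (βb : Gb → ℂ) (πG g') * ((τ g' : ℂˣ) : ℂ) = (βb : Gb → ℂ) (πG g) * ((τ g : ℂˣ) : ℂ)
    rw [hτinv x g g' h]
    congr 1
    have hx : π x ∈ stabSub Gb (βb : Gb → ℂ) := by rw [hstab]; exact Subgroup.mem_top _
    apply hx (πG g) (πG g')
    show π (g' : Γ) = π x * π (g : Γ) * (π x)⁻¹
    rw [h, map_mul, map_mul, map_inv]
  · intro z
    show (βb : Gb → ℂ) (πG ⟨z, hZG z.2⟩) * ((τ ⟨z, hZG z.2⟩ : ℂˣ) : ℂ) =
      ((βb : Gb → ℂ) (πG 1) * ((τ 1 : ℂˣ) : ℂ)) * ((lam z : ℂˣ) : ℂ)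
    have h1 : πG ⟨z, hZG z.2⟩ = ι (sm z) := by
      apply Subtype.ext
      rfl
    rw [h1, hβZ, hlamb, hlam', map_one, map_one, Units.val_one, mul_one, Units.val_mul,
      Units.val_inv_eq_inv_val]
    have h2 : ((τ ⟨z, hZG z.2⟩ : ℂˣ) : ℂ) ≠ 0 := Units.ne_zero _
    field_simp

end Main

end Cfsg.Agent.Helper24.OverInv
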