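import Mathlib
import Cfsg.Prelude.Def_Blocks
import Cfsg.Agent.Lib.Helper5.RepExtend
import Cfsg.Agent.Lib.Helper24.CharBasic
import Cfsg.Agent.Lib.Helper24.CharComplete

/-!
# The finite central extension attached to an invariant irreducible representation
(helper24's shared library)

For `N ⊴ Γ` and an irreducible representation `ρ` of `N` on `V` with `Γ`-invariant character, the
group `Gt N ρ` consists of the pairs `(x, A)` with `A` an invertible operator realizing conjugation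
by `x` on `ρ` and `det A ^ |N| = 1`.  It is a finite group with a surjection `p1` onto `Γ` whose
kernel is central, a lift `iotaT` of `N` with normal image, and a tautological representation
`repT` on `V` extending `ρ`.
-/

set_option autoImplicit false
set_option linter.style.haveILetI false

namespace Cfsg.Agent.Helper24.OverInv

open Cfsg Cfsg.Agent.Helper24 Cfsg.Agent.Helper5 Module

universe u v

section UnitsPart

variable {V : Type v} [AddCommGroup V] [Module ℂ V]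

/-- The determinant on the units of the endomorphism ring. -/
noncomputable def detU : (V →ₗ[ℂ] V)ˣ →* ℂˣ := Units.map (LinearMap.det : (V →ₗ[ℂ] V) →* ℂ)

/-- The scalar units. -/
noncomputable def scU : ℂˣ →* (V →ₗ[ℂ] V)ˣ :=
  Units.map ((algebraMap ℂ (V →ₗ[ℂ] V)) : ℂ →* (V →ₗ[ℂ] V))

theorem scU_val (c : ℂˣ) :
    ((scU c : (V →ₗ[ℂ] V)ˣ) : V →ₗ[ℂ] V) = (c : ℂ) • (1 : V →ₗ[ℂ] V) := by
  show algebraMap ℂ (V →ₗ[ℂ] V) c = _
  rw [Algebra.algebraMap_eq_smul_one]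

theorem scU_comm (c : ℂˣ) (B : (V →ₗ[ℂ] V)ˣ) : (scU c : (V →ₗ[ℂ] V)ˣ) * B = B * scU c := by
  apply Units.ext
  rw [Units.val_mul, Units.val_mul, scU_val]
  simp

theorem detU_scU [FiniteDimensional ℂ V] (c : ℂˣ) :
    detU (scU c : (V →ₗ[ℂ] V)ˣ) = c ^ finrank ℂ V := by
  apply Units.ext
  show LinearMap.det ((scU c : (V →ₗ[ℂ] V)ˣ) : V →ₗ[ℂ] V) = _
  rw [scU_val, LinearMap.det_smul, Units.val_pow_eq_pow_val, map_one, mul_one]

end UnitsPart

section Construction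

variable {Γ : Type u} [Group Γ]
variable {V : Type v} [AddCommGroup V] [Module ℂ V]

/-- The finite central extension. -/
noncomputable def Gt (N : Subgroup Γ) [N.Normal] (ρ : Representation ℂ N V) :
    Subgroup (Γ × (V →ₗ[ℂ] V)ˣ) :=
  intertwinerGroup N ρ ⊓
    ((powMonoidHom (Nat.card N) : ℂˣ →* ℂˣ).comp
      (detU.comp (MonoidHom.snd Γ (V →ₗ[ℂ] V)ˣ))).ker

theorem mem_Gt (N : Subgroup Γ) [N.Normal] (ρ : Representation ℂ N V)
    (x : Γ × (V →ₗ[ℂ] V)ˣ) :
    x ∈ Gt N ρ ↔ x ∈ intertwinerGroup N ρ ∧ (detU x.2) ^ Nat.card N = 1 := by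
  unfold Gt
  rw [Subgroup.mem_inf, MonoidHom.mem_ker]
  rfl

/-- The projection to `Γ`. -/
noncomputable def p1 (N : Subgroup Γ) [N.Normal] (ρ : Representation ℂ N V) : ↥(Gt N ρ) →* Γ :=
  (MonoidHom.fst Γ (V →ₗ[ℂ] V)ˣ).comp (Gt N ρ).subtype

theorem p1_apply (N : Subgroup Γ) [N.Normal] (ρ : Representation ℂ N V) (t : ↥(Gt N ρ)) :
    p1 N ρ t = t.1.1 := rfl

/-- The lift of `N`. -/
noncomputable def iotaT (N : Subgroup Γ) [N.Normal] (ρ : Representation ℂ N V) : N →* ↥(Gt N ρ) :=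
  (MonoidHom.prod N.subtype ρ.asGroupHom).codRestrict (Gt N ρ) (by
    intro n
    rw [mem_Gt]
    refine ⟨mem_intertwinerGroup_of_mem N ρ n, ?_⟩
    show (detU (ρ.asGroupHom n)) ^ Nat.card N = 1
    rw [← map_pow, ← map_pow, pow_card_eq_one', map_one, map_one])

theorem iotaT_val (N : Subgroup Γ) [N.Normal] (ρ : Representation ℂ N V) (n : N) :
    (iotaT N ρ n : Γ × (V →ₗ[ℂ] V)ˣ) = ((n : Γ), ρ.asGroupHom n) := rfl

theorem p1_iotaT (N : Subgroup Γ) [N.Normal] (ρ : Representation ℂ N V) (n : N) :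
    p1 N ρ (iotaT N ρ n) = n := rfl

/-- The tautological representation. -/
noncomputable def repT (N : Subgroup Γ) [N.Normal] (ρ : Representation ℂ N V) :
    Representation ℂ ↥(Gt N ρ) V :=
  (Units.coeHom (V →ₗ[ℂ] V)).comp ((MonoidHom.snd Γ (V →ₗ[ℂ] V)ˣ).comp (Gt N ρ).subtype)

theorem repT_apply (N : Subgroup Γ) [N.Normal] (ρ : Representation ℂ N V) (t : ↥(Gt N ρ)) :
    repT N ρ t = ((t.1.2 : (V →ₗ[ℂ] V)ˣ) : V →ₗ[ℂ] V) := rfl

theorem repT_iotaT (N : Subgroup Γ) [N.Normal] (ρ : Representation ℂ N V) (n : N) :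
    repT N ρ (iotaT N ρ n) = ρ n := by
  rw [repT_apply, iotaT_val]
  exact Representation.asGroupHom_apply ρ n

theorem iotaT_injective (N : Subgroup Γ) [N.Normal] (ρ : Representation ℂ N V) :
    Function.Injective (iotaT N ρ) := by
  intro a b h
  have := congrArg (p1 N ρ) h
  rw [p1_iotaT, p1_iotaT] at this
  exact Subtype.ext this

/-- Conjugation in `Gt` preserves the lift of `N`. -/
theorem conj_iotaT (N : Subgroup Γ) [N.Normal] (ρ : Representation ℂ N V) (t : ↥(Gt N ρ))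
    (n : N) : t * iotaT N ρ n * t⁻¹ = iotaT N ρ (MulAut.conjNormal t.1.1 n) := by
  apply Subtype.ext
  have ht := ((mem_Gt N ρ t.1).mp t.2).1 n
  apply Prod.ext
  · rfl
  · exact ht

theorem iotaT_range_normal (N : Subgroup Γ) [N.Normal] (ρ : Representation ℂ N V) :
    (iotaT N ρ).range.Normal := by
  constructor
  rintro _ ⟨n, rfl⟩ t
  exact ⟨_, (conj_iotaT N ρ t n).symm⟩

theorem iotaT_range_inf_ker (N : Subgroup Γ) [N.Normal] (ρ : Representation ℂ N V) :
    (iotaT N ρ).range ⊓ (p1 N ρ).ker = ⊥ := by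
  rw [eq_bot_iff]
  rintro _ ⟨⟨n, rfl⟩, h2⟩
  have h2' : p1 N ρ (iotaT N ρ n) = 1 := h2
  rw [p1_iotaT] at h2'
  have : n = 1 := Subtype.ext h2'
  rw [this, map_one]
  exact Subgroup.mem_bot.mpr rfl

theorem comap_p1 (N : Subgroup Γ) [N.Normal] (ρ : Representation ℂ N V) :
    N.comap (p1 N ρ) = (iotaT N ρ).range ⊔ (p1 N ρ).ker := by
  apply le_antisymm
  · intro t ht
    have ht' : p1 N ρ t ∈ N := ht
    have h1 : t = iotaT N ρ ⟨_, ht'⟩ * ((iotaT N ρ ⟨_, ht'⟩)⁻¹ * t) := by group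
    rw [h1]
    refine Subgroup.mul_mem_sup (MonoidHom.mem_range.mpr ⟨_, rfl⟩) ?_
    rw [MonoidHom.mem_ker, map_mul, map_inv, p1_iotaT, inv_mul_cancel]
  · apply sup_le
    · rintro _ ⟨n, rfl⟩
      show p1 N ρ (iotaT N ρ n) ∈ N
      rw [p1_iotaT]
      exact n.2
    · intro t ht
      show p1 N ρ t ∈ N
      rw [MonoidHom.mem_ker.mp ht]
      exact N.one_mem

theorem repT_irreducible (N : Subgroup Γ) [N.Normal] (ρ : Representation ℂ N V)
    (hρ : ρ.IsIrreducible) : (repT N ρ).IsIrreducible := by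
  rw [isIrreducible_iff] at hρ ⊢
  refine ⟨hρ.1, ?_⟩
  intro U hU
  apply hρ.2 U
  intro n v hv
  rw [← repT_iotaT N ρ n]
  exact hU (iotaT N ρ n) v hv

variable [FiniteDimensional ℂ V]

/-- Elements of the kernel of the projection are scalars of bounded order. -/
theorem ker_p1_scalar (N : Subgroup Γ) [N.Normal] [Fintype N] (ρ : Representation ℂ N V)
    (hρ : ρ.IsIrreducible) (t : ↥(Gt N ρ)) (ht : t ∈ (p1 N ρ).ker) :
    ∃ c : ℂˣ, t.1.2 = scU c ∧ c ^ (finrank ℂ V * Nat.card N) = 1 := by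
  have hnt : Nontrivial V := ((isIrreducible_iff ρ).mp hρ).1
  have hmem := (mem_Gt N ρ t.1).mp t.2
  have h1 : t.1.1 = 1 := ht
  have hcomm : ∀ n : N, ((t.1.2 : (V →ₗ[ℂ] V)ˣ) : V →ₗ[ℂ] V) ∘ₗ ρ n =
      ρ n ∘ₗ ((t.1.2 : (V →ₗ[ℂ] V)ˣ) : V →ₗ[ℂ] V) := by
    intro n
    have h2 := hmem.1 n
    rw [h1, map_one, MulAut.one_apply, mul_inv_eq_iff_eq_mul] at h2
    have h3 := congrArg Units.val h2
    rw [Units.val_mul, Units.val_mul, Representation.asGroupHom_apply] at h3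
    exact h3
  obtain ⟨c, hc⟩ := exists_scalar_of_comm ρ hρ _ hcomm
  have hc0 : c ≠ 0 := by
    rintro rfl
    rw [zero_smul] at hc
    exact Units.ne_zero _ hc
  have heq : t.1.2 = scU (Units.mk0 c hc0) := by
    apply Units.ext
    rw [hc, scU_val]
    rfl
  refine ⟨Units.mk0 c hc0, heq, ?_⟩
  have h4 := hmem.2
  rw [heq, detU_scU, ← pow_mul] at h4
  exact h4

theorem ker_p1_le_center (N : Subgroup Γ) [N.Normal] [Fintype N] (ρ : Representation ℂ N V)
    (hρ : ρ.IsIrreducible) : (p1 N ρ).ker ≤ Subgroup.center ↥(Gt N ρ) := by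
  intro t ht
  obtain ⟨c, hc, -⟩ := ker_p1_scalar N ρ hρ t ht
  have h1 : t.1.1 = 1 := ht
  rw [Subgroup.mem_center_iff]
  intro s
  apply Subtype.ext
  apply Prod.ext
  · show s.1.1 * t.1.1 = t.1.1 * s.1.1
    rw [h1, one_mul, mul_one]
  · show s.1.2 * t.1.2 = t.1.2 * s.1.2
    rw [hc, scU_comm]

theorem p1_surjective (N : Subgroup Γ) [hN : N.Normal] [Fintype N] (ρ : Representation ℂ N V)
    (hρ : ρ.IsIrreducible)
    (hinv : ∀ (x : Γ) (n : N), ρ.character (MulAut.conjNormal x n) = ρ.character n) :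
    Function.Surjective (p1 N ρ) := by
  intro x
  obtain ⟨M, hM⟩ := exists_intertwiner N ρ hρ x (hinv x)
  have hnt : Nontrivial V := ((isIrreducible_iff ρ).mp hρ).1
  have hd : 0 < finrank ℂ V := Module.finrank_pos
  set e := Nat.card N with he
  have he0 : 0 < e := Nat.card_pos
  set D : ℂˣ := detU M with hD
  obtain ⟨s, hs⟩ := IsAlgClosed.exists_pow_nat_eq ((((D ^ e)⁻¹ : ℂˣ)) : ℂ) (Nat.mul_pos hd he0)
  have hs0 : s ≠ 0 := by
    rintro rfl
    rw [zero_pow (Nat.mul_pos hd he0).ne'] at hs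
    exact Units.ne_zero _ hs.symm
  have hsu : (Units.mk0 s hs0) ^ (finrank ℂ V * e) = (D ^ e)⁻¹ := by
    apply Units.ext
    rw [Units.val_pow_eq_pow_val]
    exact hs
  have hmem : (x, scU (Units.mk0 s hs0) * M) ∈ Gt N ρ := by
    rw [mem_Gt]
    refine ⟨mem_intertwinerGroup_mul_central N ρ hM (scU (Units.mk0 s hs0))
      (scU_comm (Units.mk0 s hs0)), ?_⟩
    show (detU (scU (Units.mk0 s hs0) * M)) ^ e = 1
    rw [map_mul, detU_scU, mul_pow, ← pow_mul, hsu, ← hD, inv_mul_cancel]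
  exact ⟨⟨_, hmem⟩, rfl⟩

theorem finite_ker_p1 (N : Subgroup Γ) [N.Normal] [Fintype N] (ρ : Representation ℂ N V)
    (hρ : ρ.IsIrreducible) : Finite (p1 N ρ).ker := by
  have hnt : Nontrivial V := ((isIrreducible_iff ρ).mp hρ).1
  have hd : 0 < finrank ℂ V := Module.finrank_pos
  have hk : finrank ℂ V * Nat.card N ≠ 0 := (Nat.mul_pos hd Nat.card_pos).ne'
  haveI : NeZero (finrank ℂ V * Nat.card N) := ⟨hk⟩
  have hex : ∀ t : (p1 N ρ).ker, ∃ c : rootsOfUnity (finrank ℂ V * Nat.card N) ℂ,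
      (t : ↥(Gt N ρ)).1.2 = scU (c : ℂˣ) := by
    intro t
    obtain ⟨c, hc, hc1⟩ := ker_p1_scalar N ρ hρ t.1 t.2
    exact ⟨⟨c, (mem_rootsOfUnity _ _).mpr hc1⟩, hc⟩
  choose f hf using hex
  apply Finite.of_injective f
  intro a b hab
  apply Subtype.ext
  apply Subtype.ext
  apply Prod.ext
  · have ha : (a : ↥(Gt N ρ)).1.1 = 1 := a.2
    have hb : (b : ↥(Gt N ρ)).1.1 = 1 := b.2
    rw [ha, hb]
  · rw [hf a, hf b, hab]

theorem finite_Gt [Finite Γ] (N : Subgroup Γ) [N.Normal] [Fintype N] (ρ : Representation ℂ N V)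
    (hρ : ρ.IsIrreducible) : Finite ↥(Gt N ρ) := by
  rw [finite_iff_subgroup_quotient (p1 N ρ).ker]
  refine ⟨finite_ker_p1 N ρ hρ, ?_⟩
  exact Finite.of_injective _ (QuotientGroup.kerLift_injective (p1 N ρ))

end Construction

end Cfsg.Agent.Helper24.OverInv
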