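import Mathlib
import Cfsg.Prelude.Def_Blocks
import Cfsg.Agent.Lib.Helper24.OverInvC
import Cfsg.Agent.Lib.Helper24.OverInvD
import Cfsg.Agent.Lib.Helper24.OverInvE

/-!
# Invariant characters: the case of a solvable upper quotient (helper24's shared library)
-/

set_option autoImplicit false
set_option linter.style.haveILetI false
set_option maxHeartbeats 1000000

namespace Cfsg.Agent.Helper24.OverInv

open Cfsg Cfsg.Agent.Helper24 Cfsg.Agent.Helper5 Module

universe u v w

/-- **Transfer through a central extension**: given a finite group `T` with a surjection `p` onto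
`Γ` with central kernel, a lift `ι` of `N` with normal image and a representation `τ` of `T`
extending the irreducible representation `ρ` of `N`, there is a `Γ`-invariant irreducible
character of `G` over the character of `ρ`. -/
theorem transfer_step {Γ : Type u} [Group Γ] [Fintype Γ] {T : Type w} [Group T] [Fintype T]
    (G N : Subgroup Γ) [hG : G.Normal] [N.Normal] [Fintype G] [Fintype N] (hNG : N ≤ G)
    (hcop : (G.index).Coprime (N.relIndex G)) (hsolv : Group.IsSolvable (Γ ⧸ G))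
    (p : T →* Γ) (hps : Function.Surjective p) (hZc : p.ker ≤ Subgroup.center T)
    (ι : N →* T) (hpι : ∀ n : N, p (ι n) = n) (hιn : ι.range.Normal)
    {V : Type v} [AddCommGroup V] [Module ℂ V] [FiniteDimensional ℂ V]
    (τ : Representation ℂ T V) (ρ : Representation ℂ N V) (hρ : ρ.IsIrreducible)
    (hτι : ∀ n : N, τ (ι n) = ρ n) :
    ∃ χ : IrrCharacter G,
      classInner (fun n : N => (χ : G → ℂ) ⟨n, hNG n.2⟩) ρ.character ≠ 0 ∧
      stabSub G (χ : G → ℂ) = ⊤ := by
  classical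
  -- basic structure
  have hinf : ι.range ⊓ p.ker = ⊥ := by
    rw [eq_bot_iff]
    rintro _ ⟨⟨n, rfl⟩, h2⟩
    have h2' : p (ι n) = 1 := h2
    rw [hpι] at h2'
    have : n = 1 := Subtype.ext h2'
    rw [this, map_one]
    exact Subgroup.mem_bot.mpr rfl
  have hcomap : N.comap p = ι.range ⊔ p.ker := by
    apply le_antisymm
    · intro t ht
      have ht' : p t ∈ N := ht
      have h1 : t = ι ⟨_, ht'⟩ * ((ι ⟨_, ht'⟩)⁻¹ * t) := by group
      rw [h1]
      refine Subgroup.mul_mem_sup (MonoidHom.mem_range.mpr ⟨_, rfl⟩) ?_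
      rw [MonoidHom.mem_ker, map_mul, map_inv, hpι, inv_mul_cancel]
    · apply sup_le
      · rintro _ ⟨n, rfl⟩
        show p (ι n) ∈ N
        rw [hpι]
        exact n.2
      · intro t ht
        show p t ∈ N
        rw [MonoidHom.mem_ker.mp ht]
        exact N.one_mem
  set Zt : Subgroup T := p.ker with hZt
  set Gt' : Subgroup T := G.comap p with hGt'
  haveI hGt'n : Gt'.Normal := hG.comap p
  have hZtG : Zt ≤ Gt' := MonoidHom.ker_le_comap p G
  have hιG : ι.range ≤ Gt' := by
    rintro _ ⟨n, rfl⟩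
    show p (ι n) ∈ G
    rw [hpι]
    exact hNG n.2
  -- the character of `T`
  have hτ : τ.IsIrreducible := irr_of_factor ι τ ρ hτι hρ
  set θt : T → ℂ := τ.character with hθt'
  have hθt : IsIrrCharacter T θt := isIrrCharacter_of_rep τ hτ
  have hθtι : ∀ n : N, θt (ι n) = ρ.character n := by
    intro n
    show LinearMap.trace ℂ V (τ (ι n)) = LinearMap.trace ℂ V (ρ n)
    rw [hτι]
  obtain ⟨μ, hμ⟩ := exists_centralHom hθt Zt hZc
  -- the quotient
  let mk : T →* T ⧸ ι.range := QuotientGroup.mk' ι.range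
  have hmks : Function.Surjective mk := QuotientGroup.mk'_surjective ι.range
  have hmkk : mk.ker = ι.range := QuotientGroup.ker_mk' ι.range
  letI : Fintype (T ⧸ ι.range) := Fintype.ofFinite _
  set Gs : Subgroup (T ⧸ ι.range) := Gt'.map mk with hGs
  set Zs : Subgroup (T ⧸ ι.range) := Zt.map mk with hZs
  haveI hGsn : Gs.Normal := hGt'n.map mk hmks
  have hZG : Zs ≤ Gs := Subgroup.map_mono hZtG
  have hZsc : Zs ≤ Subgroup.center (T ⧸ ι.range) := by
    rintro _ ⟨z, hz, rfl⟩
    rw [Subgroup.mem_center_iff]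
    intro y
    obtain ⟨x, rfl⟩ := hmks y
    rw [← map_mul, ← map_mul, Subgroup.mem_center_iff.mp (hZc hz) x]
  have hidx : Gs.index = G.index := by
    rw [hGs, Subgroup.index_map_eq Gt' hmks (by rw [hmkk]; exact hιG), hGt',
      Subgroup.index_comap_of_surjective G hps]
  have hrel : Zs.relIndex Gs = N.relIndex G := by
    rw [hGs, ← Subgroup.relIndex_comap Zs mk Gt', hZs, Subgroup.comap_map_eq, hmkk, sup_comm,
      ← hcomap, Subgroup.relIndex_comap N p Gt', hGt',
      Subgroup.map_comap_eq_self_of_surjective hps]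
  have hsolv' : Group.IsSolvable ((T ⧸ ι.range) ⧸ Gs) := by
    let f1 : T →* Γ ⧸ G := (QuotientGroup.mk' G).comp p
    have hf1 : Function.Surjective f1 := (QuotientGroup.mk'_surjective G).comp hps
    let f2 : T →* (T ⧸ ι.range) ⧸ Gs := (QuotientGroup.mk' Gs).comp mk
    have hf2 : Function.Surjective f2 := (QuotientGroup.mk'_surjective Gs).comp hmks
    have hker : f1.ker ≤ f2.ker := by
      intro t ht
      rw [MonoidHom.mem_ker] at ht ⊢
      have h1 : p t ∈ G := (QuotientGroup.eq_one_iff _).mp ht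
      show QuotientGroup.mk' Gs (mk t) = 1
      rw [QuotientGroup.mk'_apply, QuotientGroup.eq_one_iff]
      exact Subgroup.mem_map_of_mem mk h1
    let g := f1.liftOfSurjective hf1 ⟨f2, hker⟩
    have hg : Function.Surjective g := by
      intro y
      obtain ⟨t, rfl⟩ := hf2 y
      exact ⟨f1 t, MonoidHom.liftOfRightInverse_comp_apply f1 _ _ ⟨f2, hker⟩ t⟩
    exact Group.isSolvable_of_surjective hg
  -- the linear character of `Zs`
  let sm : Zt →* Zs := mk.subgroupMap Zt
  have hsm : Function.Surjective sm := mk.subgroupMap_surjective Zt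
  have hker : sm.ker ≤ (μ⁻¹).ker := by
    intro z hz
    rw [MonoidHom.mem_ker] at hz
    have h1 : mk (z : T) = 1 := congrArg Subtype.val hz
    have h2 : (z : T) ∈ ι.range := by
      rw [← hmkk]
      exact h1
    have h3 : (z : T) ∈ ι.range ⊓ p.ker := ⟨h2, z.2⟩
    rw [hinf, Subgroup.mem_bot] at h3
    have : z = 1 := Subtype.ext h3
    rw [this]
    exact Subgroup.one_mem _
  let lam : Zs →* ℂˣ := sm.liftOfSurjective hsm ⟨μ⁻¹, hker⟩
  have hlam : ∀ z : Zt, lam (sm z) = (μ z)⁻¹ := by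
    intro z
    exact MonoidHom.liftOfRightInverse_comp_apply sm _ _ ⟨μ⁻¹, hker⟩ z
  obtain ⟨βs, hβs, hβstab, hβZ⟩ := central_case Gs Zs hZG hZsc
    (by rw [hidx, hrel]; exact hcop) hsolv' lam
  -- characters of `Gt'`
  letI : Fintype Gt' := Fintype.ofFinite _
  let q : Gt' →* Gs := mk.subgroupMap Gt'
  have hq : Function.Surjective q := mk.subgroupMap_surjective Gt'
  have hβ : IsIrrCharacter Gt' (βs ∘ q) := isIrrCharacter_comp_of_surjective q hq hβs
  let ιG : N →* Gt' := ι.codRestrict Gt' (fun n => hιG ⟨n, rfl⟩)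
  let τG : Representation ℂ Gt' V := τ.comp Gt'.subtype
  have hτG : τG.IsIrreducible := irr_of_factor ιG τG ρ (fun n => hτι n) hρ
  have hχ₀ : IsIrrCharacter Gt' (fun g : Gt' => θt g) := isIrrCharacter_of_rep τG hτG
  let Nt : Subgroup Gt' := ι.range.subgroupOf Gt'
  haveI hNtn : Nt.Normal := Subgroup.normal_subgroupOf
  let ιN : N →* Nt := ιG.codRestrict Nt (fun n => by
    show ((ιG n : Gt') : T) ∈ ι.range
    exact ⟨n, rfl⟩)
  let τN : Representation ℂ Nt V := τG.comp Nt.subtype
  have hτN : τN.IsIrreducible := irr_of_factor ιN τN ρ (fun n => hτι n) hρ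
  have hres : IsIrrCharacter Nt (fun n : Nt => (fun g : Gt' => θt g) n) :=
    isIrrCharacter_of_rep τN hτN
  have hqN : ∀ n : Gt', n ∈ Nt → q n = 1 := by
    intro n hn
    apply Subtype.ext
    show mk (n : T) = 1
    rw [← MonoidHom.mem_ker, hmkk]
    exact hn
  have hk : ∀ n ∈ Nt, (βs ∘ q) n = (βs ∘ q) 1 := by
    intro n hn
    rw [Function.comp_apply, Function.comp_apply, hqN n hn, map_one]
  set ψ : Gt' → ℂ := (βs ∘ q) * fun g : Gt' => θt g with hψdef
  have hψ : IsIrrCharacter Gt' ψ := gallagher_mul Nt hχ₀ hres hβ hk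
  have hψapp : ∀ g : Gt', ψ g = βs (q g) * θt g := fun g => rfl
  -- `Zt` acts trivially
  have hβs1 : βs 1 ≠ 0 := Cfsg.Agent.Helper23.irr_one_ne_zero βs hβs
  have hψZ : ∀ (z g : Gt'), (z : T) ∈ Zt → ψ (z * g) = ψ g := by
    intro z g hz
    rw [hψapp, hψapp, map_mul]
    have hqz : q z ∈ Subgroup.center Gs := by
      rw [Subgroup.mem_center_iff]
      intro y
      apply Subtype.ext
      have hc : ((q z : Gs) : T ⧸ ι.range) ∈ Subgroup.center (T ⧸ ι.range) :=
        hZsc (Subgroup.mem_map_of_mem mk hz)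
      exact Subgroup.mem_center_iff.mp hc (y : T ⧸ ι.range)
    rw [Cfsg.Agent.Helper23.irr_central_mul βs hβs (q z) hqz (q g)]
    have h1 : q z = Subgroup.inclusion hZG (sm ⟨z, hz⟩) := by
      apply Subtype.ext
      rfl
    have h2 : βs (q z) = βs 1 * ((lam (sm ⟨z, hz⟩) : ℂˣ) : ℂ) := by
      rw [h1]
      exact hβZ (sm ⟨z, hz⟩)
    have h3 : θt ((z : T) * (g : T)) = ((μ ⟨z, hz⟩ : ℂˣ) : ℂ) * θt g := hμ ⟨z, hz⟩ g
    rw [Subgroup.coe_mul, h3, h2, hlam, Units.val_inv_eq_inv_val]
    have h4 : ((μ ⟨z, hz⟩ : ℂˣ) : ℂ) ≠ 0 := Units.ne_zero _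
    field_simp
  -- deflation to `G`
  let pG : Gt' →* G := p.subgroupComap G
  have hpG : Function.Surjective pG := p.subgroupComap_surjective_of_surjective G hps
  have hpGapp : ∀ g : Gt', ((pG g : G) : Γ) = p (g : T) := fun g => rfl
  obtain ⟨χ, hχ, hχψ⟩ := exists_deflate_surj pG hpG hψ (by
    intro k hk
    have hk' : (k : T) ∈ Zt := by
      rw [MonoidHom.mem_ker] at hk
      have := congrArg Subtype.val hk
      rw [hpGapp] at this
      exact this
    have := hψZ k 1 hk'
    rw [mul_one] at this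
    exact this)
  refine ⟨⟨χ, hχ⟩, ?_, ?_⟩
  · have hfun : (fun n : N => χ ⟨n, hNG n.2⟩) = fun n => βs 1 * ρ.character n := by
      funext n
      have h1 : (⟨n, hNG n.2⟩ : G) = pG (ιG n) := by
        apply Subtype.ext
        rw [hpGapp]
        exact (hpι n).symm
      rw [h1, hχψ, hψapp]
      have h2 : q (ιG n) = 1 := hqN _ ⟨n, rfl⟩
      rw [h2]
      congr 1
      exact hθtι n
    show classInner (fun n : N => χ ⟨n, hNG n.2⟩) ρ.character ≠ 0
    rw [hfun]
    have hρc : IsIrrCharacter N ρ.character := isIrrCharacter_of_rep ρ hρ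
    have h3 : classInner (fun n => βs 1 * ρ.character n) ρ.character =
        βs 1 * classInner ρ.character ρ.character := by
      unfold classInner
      rw [Finset.mul_sum, Finset.mul_sum, Finset.mul_sum]
      refine Finset.sum_congr rfl fun n _ => ?_
      ring
    rw [h3, irr_orthogonality hρc hρc, if_pos rfl, mul_one]
    exact hβs1
  · rw [eq_top_iff]
    intro x _ g g' h
    show χ g' = χ g
    obtain ⟨t, rfl⟩ := hps x
    obtain ⟨gt, rfl⟩ := hpG g
    have hmem : t * (gt : T) * t⁻¹ ∈ Gt' := hGt'n.conj_mem gt gt.2 t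
    have hg' : g' = pG ⟨t * (gt : T) * t⁻¹, hmem⟩ := by
      apply Subtype.ext
      rw [h, hpGapp, hpGapp, map_mul, map_mul, map_inv]
    rw [hg', hχψ, hχψ, hψapp, hψapp]
    have h1 : θt (t * (gt : T) * t⁻¹) = θt gt := Cfsg.Agent.Helper23.irr_conj θt hθt gt t
    have h2 : βs (q ⟨t * (gt : T) * t⁻¹, hmem⟩) = βs (q gt) := by
      have hx : mk t ∈ stabSub Gs βs := by
        rw [hβstab]
        exact Subgroup.mem_top _
      apply hx (q gt) (q ⟨t * (gt : T) * t⁻¹, hmem⟩)
      show mk (t * (gt : T) * t⁻¹) = mk t * mk (gt : T) * (mk t)⁻¹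
      rw [map_mul, map_mul, map_inv]
    show βs (q ⟨t * (gt : T) * t⁻¹, hmem⟩) * θt (t * (gt : T) * t⁻¹) = βs (q gt) * θt gt
    rw [h1, h2]

/-- **The case of a solvable upper quotient**. -/
theorem case_upper_solvable {Γ : Type u} [Group Γ] [Fintype Γ] (G N : Subgroup Γ) [hG : G.Normal]
    [hN : N.Normal] [Fintype G] [Fintype N] (hNG : N ≤ G)
    (hcop : (G.index).Coprime (N.relIndex G)) (hsolv : Group.IsSolvable (Γ ⧸ G))
    (θ : IrrCharacter N) (hinv : stabSub N (θ : N → ℂ) = ⊤) :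
    ∃ χ : IrrCharacter G, classInner (fun n : N => (χ : G → ℂ) ⟨n, hNG n.2⟩) (θ : N → ℂ) ≠ 0 ∧
      stabSub G (χ : G → ℂ) = ⊤ := by
  classical
  obtain ⟨θ, d, ρ, hρ, rfl⟩ := θ
  have hinvρ : ∀ (x : Γ) (n : N), ρ.character (MulAut.conjNormal x n) = ρ.character n := by
    intro x n
    have hx : x ∈ stabSub N ρ.character := by
      rw [hinv]
      exact Subgroup.mem_top _
    exact hx n (MulAut.conjNormal x n) (MulAut.conjNormal_apply x n)
  haveI : Finite ↥(Gt N ρ) := finite_Gt N ρ hρ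
  letI : Fintype ↥(Gt N ρ) := Fintype.ofFinite _
  exact transfer_step G N hNG hcop hsolv (p1 N ρ) (p1_surjective N ρ hρ hinvρ)
    (ker_p1_le_center N ρ hρ) (iotaT N ρ) (p1_iotaT N ρ) (iotaT_range_normal N ρ)
    (repT N ρ) ρ hρ (repT_iotaT N ρ)

end Cfsg.Agent.Helper24.OverInv
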