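import Mathlib

/-!
# Weighted fixed-point congruence for `p`-group actions (helper24's library)

If a `p`-group `P` acts on a finite set and `f` is a `ℕ`-valued function constant on orbits, then
`∑ a, f a ≡ ∑_{a fixed} f a (mod p)`.
-/

set_option autoImplicit false

namespace Cfsg.Agent.Helper24.PSum

open Classical in
/-- For an invariant predicate `S` on a finite `P`-set (`P` a `p`-group), the number of points
satisfying `S` is congruent mod `p` to the number of fixed points satisfying `S`. -/
theorem card_filter_modEq {P α : Type*} [Group P] [MulAction P α] [Fintype α] {p : ℕ}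
    [Fact p.Prime] (hP : IsPGroup p P) (S : α → Prop) (hS : ∀ (x : P) (a : α), S a → S (x • a)) :
    (Finset.univ.filter S).card ≡
      (Finset.univ.filter (fun a : α => S a ∧ ∀ x : P, x • a = a)).card [MOD p] := by
  classical
  let T : SubMulAction P α := ⟨{a | S a}, fun x a ha => hS x a ha⟩
  have h1 := hP.card_modEq_card_fixedPoints T
  have h2 : Nat.card T = (Finset.univ.filter S).card := by
    rw [Nat.card_eq_fintype_card, ← Fintype.card_subtype]
    rfl
  have h3 : Nat.card (MulAction.fixedPoints P T) =
      (Finset.univ.filter (fun a : α => S a ∧ ∀ x : P, x • a = a)).card := by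
    rw [← Fintype.card_subtype, ← Nat.card_eq_fintype_card]
    apply Nat.card_congr
    refine
      { toFun := fun a => ⟨a.1.1, a.1.2, fun x => congrArg Subtype.val (a.2 x)⟩
        invFun := fun a => ⟨⟨a.1, a.2.1⟩, fun x => Subtype.ext (a.2.2 x)⟩
        left_inv := fun a => rfl
        right_inv := fun a => rfl }
  rw [h2, h3] at h1
  exact h1

open Classical in
/-- Weighted version of the fixed point congruence for `p`-group actions. -/
theorem sum_modEq_sum_fixed {P α : Type*} [Group P] [MulAction P α] [Fintype α] {p : ℕ}
    [Fact p.Prime] (hP : IsPGroup p P) (f : α → ℕ) (hf : ∀ (x : P) (a : α), f (x • a) = f a) :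
    ∑ a, f a ≡ ∑ a ∈ Finset.univ.filter (fun a : α => ∀ x : P, x • a = a), f a [MOD p] := by
  classical
  set N := (∑ a, f a) + 1 with hN
  have hle : ∀ a, f a < N := by
    intro a
    have := Finset.single_le_sum (f := f) (fun i _ => Nat.zero_le _) (Finset.mem_univ a)
    omega
  have key : ∀ s : Finset α, ∑ a ∈ s, f a =
      ∑ i ∈ Finset.range N, (s.filter (fun a => i < f a)).card := by
    intro s
    have h1 : ∀ a ∈ s, f a = ∑ i ∈ Finset.range N, if i < f a then 1 else 0 := by
      intro a _
      rw [Finset.sum_boole]
      have : (Finset.range N).filter (fun i => i < f a) = Finset.range (f a) := by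
        ext i
        simp only [Finset.mem_filter, Finset.mem_range]
        have := hle a
        omega
      rw [this, Finset.card_range, Nat.cast_id]
    rw [Finset.sum_congr rfl h1, Finset.sum_comm]
    apply Finset.sum_congr rfl
    intro i _
    rw [Finset.sum_boole, Nat.cast_id]
  rw [key Finset.univ, key (Finset.univ.filter (fun a : α => ∀ x : P, x • a = a))]
  apply Nat.ModEq.sum
  intro i _
  have h := card_filter_modEq hP (fun a : α => i < f a) (fun x a ha => by rw [hf]; exact ha)
  have h2 : (Finset.univ.filter (fun a : α => ∀ x : P, x • a = a)).filter (fun a => i < f a) =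
      Finset.univ.filter (fun a : α => i < f a ∧ ∀ x : P, x • a = a) := by
    ext a
    simp only [Finset.mem_filter, Finset.mem_univ, true_and]
    tauto
  rw [h2]
  convert h

end Cfsg.Agent.Helper24.PSum
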