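import Mathlib
import Cfsg.Prelude.Def_Blocks
import Cfsg.Prelude.Def_Transfer
import Cfsg.Agent.Lib.Helper24.CharAlgebra
import Cfsg.Agent.Lib.Helper24.CharLinear
import Cfsg.Agent.Lib.Helper23.BlockDim

/-!
# Linear characters of a group generated by its `p'`-elements; block dimension (helper24)
-/

set_option autoImplicit false
set_option linter.style.haveILetI false
set_option linter.unusedSectionVars false

namespace Cfsg.Agent.Helper24.PNilB0

open Cfsg Cfsg.Agent.Helper24 Cfsg.Agent.Helper23.Blk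

universe u

section Linear

variable {K : Type u} [Group K] [Finite K] {p : ℕ} [Fact p.Prime]

/-- A homomorphism to `ℂˣ` of exponent `p` is trivial on a group generated by `p'`-elements. -/
theorem hom_eq_one_of_pow (hK : Cfsg.pResidual p K = ⊤) (φ : K →* ℂˣ) (hφ : ∀ k, φ k ^ p = 1) :
    φ = 1 := by
  have hp : p.Prime := Fact.out
  have hker : Cfsg.pResidual p K ≤ φ.ker := by
    unfold Cfsg.pResidual
    rw [Subgroup.closure_le]
    intro g hg
    change Nat.Coprime (orderOf g) p at hg
    rw [SetLike.mem_coe, MonoidHom.mem_ker]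
    have h1 : φ g ^ orderOf g = 1 := by rw [← map_pow, pow_orderOf_eq_one, map_one]
    have h2 : orderOf (φ g) ∣ Nat.gcd (orderOf g) p :=
      Nat.dvd_gcd (orderOf_dvd_of_pow_eq_one h1) (orderOf_dvd_of_pow_eq_one (hφ g))
    rw [hg, Nat.dvd_one, orderOf_eq_one_iff] at h2
    exact h2
  rw [hK, top_le_iff] at hker
  exact MonoidHom.ker_eq_top_iff.mp hker

/-- The order of a degree one character of a group generated by `p'`-elements is prime to `p`. -/
theorem not_dvd_orderOf_linear (hK : Cfsg.pResidual p K = ⊤) {lam : K → ℂ}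
    (hlam : IsCharacter K lam) (h1 : lam 1 = 1) : ¬ p ∣ orderOf lam := by
  have hp : p.Prime := Fact.out
  intro hdvd
  set L : K →* ℂˣ := linHom hlam h1 with hL
  have hLval : ∀ k, ((L k : ℂˣ) : ℂ) = lam k := fun k => rfl
  -- `lam` has finite order
  have hfin : lam ^ Nat.card K = 1 := by
    funext k
    rw [Pi.pow_apply, Pi.one_apply, ← hLval, ← Units.val_pow_eq_pow_val, ← map_pow,
      pow_card_eq_one', map_one, Units.val_one]
  have hm0 : 0 < orderOf lam := by
    apply Nat.pos_of_ne_zero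
    intro h0
    have := orderOf_dvd_of_pow_eq_one hfin
    rw [h0, Nat.zero_dvd] at this
    exact (Nat.card_pos (α := K)).ne' this
  obtain ⟨m, hm⟩ := hdvd
  have hmpos : 0 < m := by
    rcases Nat.eq_zero_or_pos m with h | h
    · rw [h, mul_zero] at hm; omega
    · exact h
  have hφ : ∀ k, (L ^ m) k ^ p = 1 := by
    intro k
    rw [MonoidHom.pow_apply, ← pow_mul, mul_comm, ← hm]
    apply Units.ext
    rw [Units.val_pow_eq_pow_val, hLval, Units.val_one]
    have := congrFun (pow_orderOf_eq_one lam) k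
    rwa [Pi.pow_apply, Pi.one_apply] at this
  have h2 := hom_eq_one_of_pow hK (L ^ m) hφ
  have h3 : lam ^ m = 1 := by
    funext k
    rw [Pi.pow_apply, Pi.one_apply, ← hLval, ← Units.val_pow_eq_pow_val, ← MonoidHom.pow_apply, h2,
      MonoidHom.one_apply, Units.val_one]
  have h4 := orderOf_dvd_of_pow_eq_one h3
  have h5 := Nat.le_of_dvd hmpos h4
  have : 2 ≤ p := hp.two_le
  nlinarith

end Linear

section Dim

variable {G : Type u} [Group G] [Finite G] {p : ℕ} {M : Ideal AlgInt}

/-- If `p` divides the group order, it divides the dimension of every `p`-block. -/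
theorem dvd_sum_sq_of_dvd_card (hM : IsPModular p M) {B : Set (IrrCharacter G)}
    (hB : IsPBlock M B) (h : p ∣ Nat.card G) :
    p ∣ ∑ᶠ χ ∈ B, charDegree (χ : G → ℂ) ^ 2 := by
  classical
  haveI : Fintype G := Fintype.ofFinite G
  letI : Fintype (IrrCharacter G) := irrFintype
  haveI hMp : M.IsPrime := isPrime_of_isPModular hM
  have h1 := memLocalRing_blockCoeff hMp hB (1 : G)
  have h2 := blockReg_eq_conj_blockCoeff B (1 : G)
  rw [blockReg_one] at h2
  have hG0 : (Nat.card G : ℂ) ≠ 0 := by exact_mod_cast (Nat.card_pos (α := G)).ne'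
  -- the coefficient is real
  have h3 : blockCoeff B (1 : G) =
      (Nat.card G : ℂ)⁻¹ * ((∑ᶠ χ ∈ B, charDegree (χ : G → ℂ) ^ 2 : ℕ) : ℂ) := by
    have h4 : (starRingEnd ℂ) (blockCoeff B (1 : G)) =
        (Nat.card G : ℂ)⁻¹ * ((∑ᶠ χ ∈ B, charDegree (χ : G → ℂ) ^ 2 : ℕ) : ℂ) := by
      rw [h2, ← mul_assoc, inv_mul_cancel₀ hG0, one_mul]
    have h5 := congrArg (starRingEnd ℂ) h4
    rw [Complex.conj_conj] at h5
    rw [h5, map_mul, map_inv₀, Complex.conj_natCast, Complex.conj_natCast]
  rw [← memLocalIdeal_natCast_iff hM]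
  have h6 : ((∑ᶠ χ ∈ B, charDegree (χ : G → ℂ) ^ 2 : ℕ) : ℂ) =
      (Nat.card G : ℂ) * blockCoeff B (1 : G) := by
    rw [h3, ← mul_assoc, mul_inv_cancel₀ hG0, one_mul]
  rw [h6]
  exact memLocalIdeal_mul_right ((memLocalIdeal_natCast_iff hM _).mpr h) h1

end Dim

end Cfsg.Agent.Helper24.PNilB0
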