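import Mathlib
import Cfsg.Agent.Lib.Helper24.PNilB0a
import Cfsg.Agent.Lib.Helper18.BlockCover
import Cfsg.Agent.Lib.Helper5.DetChar
import Cfsg.Agent.S0865
import Cfsg.Agent.S0866
import Cfsg.Agent.S0966

/-!
# Conjugation action on the principal block of a normal subgroup of `p`-power index (helper24)
-/

set_option autoImplicit false
set_option linter.style.haveILetI false
set_option linter.unusedSectionVars false

namespace Cfsg.Agent.Helper24.PNilB0

open Cfsg Cfsg.Agent.Helper24 Cfsg.Agent.Helper23.Blk Cfsg.Agent.Helper18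

universe u

section Action

variable {G : Type u} [Group G] (K : Subgroup G) [hK : K.Normal] {M : Ideal AlgInt} {p : ℕ}

/-- The left action of `G` on the irreducible characters of a normal subgroup. -/
@[instance_reducible] noncomputable def conjAct : MulAction G (IrrCharacter K) where
  smul g θ := Helper18.conjIrr K g⁻¹ θ
  one_smul θ := by
    show Helper18.conjIrr K (1 : G)⁻¹ θ = θ
    rw [inv_one, Helper18.conjIrr_one]
  mul_smul g h θ := by
    show Helper18.conjIrr K (g * h)⁻¹ θ = Helper18.conjIrr K g⁻¹ (Helper18.conjIrr K h⁻¹ θ)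
    rw [mul_inv_rev, Helper18.conjIrr_mul]

theorem cIrr_of_mem {k : G} (hk : k ∈ K) (θ : IrrCharacter K) : Helper18.conjIrr K k θ = θ :=
by
  apply Subtype.ext
  funext m
  rw [Helper18.conjIrr_coe, Cfsg.Agent.Helper5.conjFun_apply]
  have := isClassFunction_of_isIrrCharacter θ.2 m ⟨k, hk⟩
  rw [← this]
  congr 1

/-- A character fixed by a subgroup `P` with `P ⊔ K = ⊤` is `G`-invariant. -/
theorem invariant_of_fixed (P : Subgroup G) (hsup : P ⊔ K = ⊤) (θ : IrrCharacter K)
    (hfix : ∀ x ∈ P, Helper18.conjIrr K x θ = θ) : ∀ g : G, Helper18.conjIrr K g θ = θ := by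
  let T : Subgroup G :=
    { carrier := {g | Helper18.conjIrr K g θ = θ}
      mul_mem' := by
        intro a b ha hb
        show Helper18.conjIrr K (a * b) θ = θ
        rw [Helper18.conjIrr_mul]
        rw [show Helper18.conjIrr K a θ = θ from ha]
        exact hb
      one_mem' := Helper18.conjIrr_one K θ
      inv_mem' := by
        intro a ha
        show Helper18.conjIrr K a⁻¹ θ = θ
        have h1 : Helper18.conjIrr K a θ = θ := ha
        conv_lhs => rw [← h1]
        exact Helper18.conjIrr_inv_conjIrr K a θ }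
  have h1 : P ≤ T := fun x hx => hfix x hx
  have h2 : K ≤ T := fun k hk => cIrr_of_mem K hk θ
  have h3 : T = ⊤ := by
    rw [eq_top_iff, ← hsup]
    exact sup_le h1 h2
  intro g
  have : g ∈ T := by rw [h3]; exact Subgroup.mem_top g
  exact this

theorem cIrr_mem_principalBlock (g : G) {θ : IrrCharacter K} (hθ : θ ∈ principalBlock M K) :
    Helper18.conjIrr K g θ ∈ principalBlock M K := by
  have h := sameBlock_conjFun K (M := M) g hθ
  exact h

theorem charDegree_cIrr (g : G) (θ : IrrCharacter K) :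
    charDegree ((Helper18.conjIrr K g θ : IrrCharacter K) : K → ℂ) = charDegree (θ : K → ℂ) := by
  unfold charDegree
  rw [Helper18.conjIrr_apply_one]

theorem invariant_apply {θ : IrrCharacter K} (hinv : ∀ g : G, Helper18.conjIrr K g θ = θ) (g : G) (n : K) :
    (θ : K → ℂ) ⟨g * n * g⁻¹, hK.conj_mem (n : G) n.2 g⟩ = (θ : K → ℂ) n := by
  have h1 := congrArg (fun φ : IrrCharacter K => (φ : K → ℂ) n) (hinv g)
  simp only [Helper18.conjIrr_coe, Cfsg.Agent.Helper5.conjFun_apply] at h1
  exact h1

end Action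

section Extend

variable {G : Type u} [Group G] [Finite G] (K : Subgroup G) [hK : K.Normal] {M : Ideal AlgInt}
  {p : ℕ} [Fact p.Prime]

/-- A `G`-invariant character of `p'`-degree in the principal block of `K = O^p(K)`, where `K`
has `p`-power index, extends to a character in the principal block of `G`. -/
theorem exists_extension_principal (hM : IsPModular p M) (hidx : ∃ k : ℕ, K.index = p ^ k)
    (hres : Cfsg.pResidual p K = ⊤) (θ : IrrCharacter K)
    (hinv : ∀ g : G, Helper18.conjIrr K g θ = θ) (hθ : θ ∈ principalBlock M K)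
    (hdeg : ¬ p ∣ charDegree (θ : K → ℂ)) :
    ∃ χ : IrrCharacter G, χ ∈ principalBlock M G ∧ ∀ n : K, (χ : G → ℂ) n = (θ : K → ℂ) n := by
  classical
  have hp : p.Prime := Fact.out
  haveI : Fintype G := Fintype.ofFinite G
  haveI : Fintype K := Fintype.ofFinite K
  haveI hMp : M.IsPrime := isPrime_of_isPModular hM
  have hinv' := invariant_apply K hinv
  have hθc : IsCharacter K (θ : K → ℂ) := isCharacter_of_isIrrCharacter θ.2
  obtain ⟨k, hk⟩ := hidx
  have hd : (θ : K → ℂ) 1 = (charDegree (θ : K → ℂ) : ℂ) := irr_one_eq_charDegree θ.2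
  have hcop : Nat.Coprime K.index (charDegree (θ : K → ℂ)) := by
    rw [hk]
    exact Nat.Coprime.pow_left _ ((Nat.Prime.coprime_iff_not_dvd hp).mpr hdeg)
  have hlam : IsCharacter K (detChar (θ : K → ℂ)) ∧ detChar (θ : K → ℂ) 1 = 1 :=
    ⟨isCharacter_of_isIrrCharacter (Cfsg.Agent.Helper5.isIrrCharacter_detChar hθc),
      Cfsg.Agent.Helper5.detChar_one hθc⟩
  have hinvlam : ∀ (g : G) (n : K),
      detChar (θ : K → ℂ) ⟨g * n * g⁻¹, hK.conj_mem (n : G) n.2 g⟩ = detChar (θ : K → ℂ) n := by
    intro g n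
    have hcomp : (θ : K → ℂ) ∘ ((MulAut.conjNormal g : MulAut K).toMonoidHom) = (θ : K → ℂ) := by
      funext m
      rw [Function.comp_apply]
      exact hinv' g m
    have h1 := Cfsg.Agent.Helper5.detChar_comp ((MulAut.conjNormal g : MulAut K).toMonoidHom)
      θ.2 (by rw [hcomp]; exact θ.2) n
    rw [hcomp] at h1
    rw [h1]
    rfl
  have hcop2 : Nat.Coprime K.index (orderOf (detChar (θ : K → ℂ))) := by
    rw [hk]
    exact Nat.Coprime.pow_left _ ((Nat.Prime.coprime_iff_not_dvd hp).mpr
      (not_dvd_orderOf_linear hres hlam.1 hlam.2))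
  obtain ⟨μ, ⟨hμ, hμ1, hμN, -⟩, -⟩ :=
    Cfsg.Agent.S0865.result K (detChar (θ : K → ℂ)) hlam hinvlam hcop2
  obtain ⟨χ, hχ, hχres⟩ := (Cfsg.Agent.S0866.result K (θ : K → ℂ) θ.2 hinv'
    (charDegree (θ : K → ℂ)) hd hcop).mpr ⟨μ, hμ, hμ1, hμN⟩
  refine ⟨⟨χ, hχ⟩, ?_, hχres⟩
  obtain ⟨B, -, huniq⟩ := Cfsg.Agent.S0966.result p M hM K ⟨k, hk⟩ (principalBlock M K)
    isPBlock_principalBlock
  have h1 : principalBlock M G = B := by
    apply huniq
    refine ⟨isPBlock_principalBlock, principalChar G, principalChar_mem_principalBlock,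
      principalChar K, principalChar_mem_principalBlock, ?_⟩
    have : (fun n : K => ((principalChar G : IrrCharacter G) : G → ℂ) n) =
        ((principalChar K : IrrCharacter K) : K → ℂ) := rfl
    rw [this, irr_orthogonality', if_pos rfl]
    exact one_ne_zero
  have h2 : blockOf M (((⟨χ, hχ⟩ : IrrCharacter G)) : G → ℂ) = B := by
    apply huniq
    refine ⟨⟨⟨χ, hχ⟩, rfl⟩, ⟨χ, hχ⟩, mem_blockOf_self _, θ, hθ, ?_⟩
    have : (fun n : K => (((⟨χ, hχ⟩ : IrrCharacter G)) : G → ℂ) n) = (θ : K → ℂ) := by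
      funext n
      exact hχres n
    rw [this, irr_orthogonality', if_pos rfl]
    exact one_ne_zero
  rw [h1, ← h2]
  exact mem_blockOf_self _

end Extend

end Cfsg.Agent.Helper24.PNilB0
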