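import Mathlib
import Cfsg.Agent.Lib.Helper24.PNilB0b
import Cfsg.Agent.Lib.Helper24.PGroupSum

/-!
# Invariant linear characters in the principal block, and the counting argument (helper24)
-/

set_option autoImplicit false
set_option linter.style.haveILetI false
set_option linter.unusedSectionVars false

namespace Cfsg.Agent.Helper24.PNilB0

open Cfsg Cfsg.Agent.Helper24 Cfsg.Agent.Helper23.Blk Cfsg.Agent.Helper18

universe u

section Hom

variable {H : Type u} [Group H] {M : Ideal AlgInt}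

/-- The irreducible character attached to a homomorphism to `ℂˣ`. -/
noncomputable def ofHom (φ : H →* ℂˣ) : IrrCharacter H :=
  ⟨fun k => ((φ k : ℂˣ) : ℂ), isIrrCharacter_of_monoidHom φ⟩

theorem ofHom_apply (φ : H →* ℂˣ) (k : H) : (ofHom φ : H → ℂ) k = ((φ k : ℂˣ) : ℂ) := rfl

theorem ofHom_injective : Function.Injective (ofHom (H := H)) := by
  intro φ ψ h
  apply MonoidHom.ext
  intro k
  apply Units.ext
  have := congrArg (fun θ : IrrCharacter H => (θ : H → ℂ) k) h
  exact this

theorem isIntegral_hom [Finite H] (φ : H →* ℂˣ) (k : H) : IsIntegral ℤ ((φ k : ℂˣ) : ℂ) := by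
  have h1 : ((φ k : ℂˣ) : ℂ) ^ orderOf k = 1 := by
    rw [← Units.val_pow_eq_pow_val, ← map_pow, pow_orderOf_eq_one, map_one, Units.val_one]
  apply IsIntegral.of_pow (orderOf_pos k)
  rw [h1]
  exact isIntegral_one

/-- Multiplying by a linear character preserves the block relation. -/
theorem sameBlock_mul_hom [Finite H] [hMp : M.IsPrime] (φ : H →* ℂˣ) {χ ψ : H → ℂ}
    (h : SameBlock M χ ψ) :
    SameBlock M (fun k => ((φ k : ℂˣ) : ℂ) * χ k) (fun k => ((φ k : ℂˣ) : ℂ) * ψ k) := by
  intro g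
  have h1 : ∀ ξ : H → ℂ, centralChar (fun k => ((φ k : ℂˣ) : ℂ) * ξ k) g =
      ((φ g : ℂˣ) : ℂ) * centralChar ξ g := by
    intro ξ
    unfold centralChar
    simp only [map_one, Units.val_one, one_mul]
    ring
  rw [h1, h1, ← mul_sub]
  exact memLocalIdeal_mul_left (memLocalRing_of_isIntegral (isIntegral_hom φ g) ne_top) (h g)

end Hom

section Lambda

variable {G : Type u} [Group G] [Finite G] (K : Subgroup G) [hK : K.Normal] (M : Ideal AlgInt)
  {p : ℕ} [Fact p.Prime]

theorem invariant_ofHom_iff (φ : K →* ℂˣ) :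
    (∀ g : G, Helper18.conjIrr K g (ofHom φ) = ofHom φ) ↔
      ∀ (g : G) (n : K), φ ⟨g * n * g⁻¹, hK.conj_mem (n : G) n.2 g⟩ = φ n := by
  constructor
  · intro h g n
    apply Units.ext
    exact invariant_apply K h g n
  · intro h g
    apply Subtype.ext
    funext n
    rw [Helper18.conjIrr_coe, Cfsg.Agent.Helper5.conjFun_apply, ofHom_apply, ofHom_apply, h g n]

theorem mem_principalBlock_ofHom_iff (φ : K →* ℂˣ) :
    ofHom φ ∈ principalBlock M K ↔
      SameBlock M (fun _ : K => (1 : ℂ)) (fun k : K => ((φ k : ℂˣ) : ℂ)) := Iff.rfl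

/-- The group of `G`-invariant linear characters of `K` in the principal block. -/
noncomputable def lamSub [hMp : M.IsPrime] : Subgroup (K →* ℂˣ) where
  carrier := {φ | ofHom φ ∈ principalBlock M K ∧
    ∀ g : G, Helper18.conjIrr K g (ofHom φ) = ofHom φ}
  one_mem' := by
    haveI : Fintype K := Fintype.ofFinite K
    refine ⟨?_, ?_⟩
    · rw [mem_principalBlock_ofHom_iff]
      have : (fun k : K => (((1 : K →* ℂˣ) k : ℂˣ) : ℂ)) = fun _ : K => (1 : ℂ) := by
        funext k
        simp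
      rw [this]
      exact sameBlock_refl _
    · rw [invariant_ofHom_iff]
      intro g n
      rfl
  mul_mem' := by
    rintro φ ψ ⟨hφ1, hφ2⟩ ⟨hψ1, hψ2⟩
    haveI : Fintype K := Fintype.ofFinite K
    refine ⟨?_, ?_⟩
    · rw [mem_principalBlock_ofHom_iff] at hφ1 hψ1 ⊢
      have h1 := sameBlock_mul_hom φ hψ1
      have e1 : (fun k : K => ((φ k : ℂˣ) : ℂ) * (1 : ℂ)) = fun k : K => ((φ k : ℂˣ) : ℂ) := by
        funext k
        rw [mul_one]
      have e2 : (fun k : K => ((φ k : ℂˣ) : ℂ) * ((ψ k : ℂˣ) : ℂ)) =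
          fun k : K => (((φ * ψ) k : ℂˣ) : ℂ) := by
        funext k
        rw [MonoidHom.mul_apply, Units.val_mul]
      rw [e1, e2] at h1
      exact sameBlock_trans hφ1 h1
    · rw [invariant_ofHom_iff] at hφ2 hψ2 ⊢
      intro g n
      rw [MonoidHom.mul_apply, MonoidHom.mul_apply, hφ2 g n, hψ2 g n]
  inv_mem' := by
    rintro φ ⟨hφ1, hφ2⟩
    haveI : Fintype K := Fintype.ofFinite K
    refine ⟨?_, ?_⟩
    · rw [mem_principalBlock_ofHom_iff] at hφ1 ⊢
      have h1 := sameBlock_mul_hom φ⁻¹ hφ1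
      have e1 : (fun k : K => (((φ⁻¹ : K →* ℂˣ) k : ℂˣ) : ℂ) * (1 : ℂ)) =
          fun k : K => (((φ⁻¹ : K →* ℂˣ) k : ℂˣ) : ℂ) := by
        funext k
        rw [mul_one]
      have e2 : (fun k : K => (((φ⁻¹ : K →* ℂˣ) k : ℂˣ) : ℂ) * ((φ k : ℂˣ) : ℂ)) =
          fun _ : K => (1 : ℂ) := by
        funext k
        rw [MonoidHom.inv_apply, ← Units.val_mul, inv_mul_cancel, Units.val_one]
      rw [e1, e2] at h1
      exact sameBlock_symm h1
    · rw [invariant_ofHom_iff] at hφ2 ⊢
      intro g n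
      rw [MonoidHom.inv_apply, MonoidHom.inv_apply, hφ2 g n]

theorem mem_lamSub_iff [hMp : M.IsPrime] (φ : K →* ℂˣ) :
    φ ∈ lamSub K M ↔ ofHom φ ∈ principalBlock M K ∧
      ∀ g : G, Helper18.conjIrr K g (ofHom φ) = ofHom φ := Iff.rfl

instance finite_lamSub [hMp : M.IsPrime] : Finite (lamSub K M) := by
  classical
  haveI : Fintype K := Fintype.ofFinite K
  letI : Fintype (IrrCharacter K) := irrFintype
  apply Finite.of_injective (fun φ : lamSub K M => ofHom φ.1)
  intro φ ψ h
  exact Subtype.ext (ofHom_injective h)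

/-- The group of invariant linear characters in the principal block has order prime to `p` when
`K` is generated by its `p'`-elements. -/
theorem not_dvd_card_lamSub [hMp : M.IsPrime] (hres : Cfsg.pResidual p K = ⊤) :
    ¬ p ∣ Nat.card (lamSub K M) := by
  have hp : p.Prime := Fact.out
  intro hdvd
  obtain ⟨x, hx⟩ := exists_prime_orderOf_dvd_card' p hdvd
  have h1 : x ^ p = 1 := by rw [← hx]; exact pow_orderOf_eq_one x
  have h2 : (x : K →* ℂˣ) ^ p = 1 := by
    have := congrArg (fun y : lamSub K M => (y : K →* ℂˣ)) h1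
    simpa using this
  have h3 : (x : K →* ℂˣ) = 1 := by
    apply hom_eq_one_of_pow hres
    intro k
    rw [← MonoidHom.pow_apply, h2, MonoidHom.one_apply]
  have h4 : x = 1 := Subtype.ext h3
  rw [h4, orderOf_one] at hx
  exact hp.one_lt.ne hx

/-- The set of invariant linear characters in the principal block is in bijection with
`lamSub`. -/
theorem card_lamSub_eq [hMp : M.IsPrime] :
    Nat.card (lamSub K M) = Nat.card {θ : IrrCharacter K // θ ∈ principalBlock M K ∧
      (∀ g : G, Helper18.conjIrr K g θ = θ) ∧ charDegree (θ : K → ℂ) = 1} := by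
  apply Nat.card_congr
  refine Equiv.ofBijective (fun φ => ⟨ofHom φ.1, φ.2.1, φ.2.2, ?_⟩) ⟨?_, ?_⟩
  · unfold charDegree
    rw [ofHom_apply, map_one, Units.val_one]
    simp
  · intro φ ψ h
    have := congrArg Subtype.val h
    exact Subtype.ext (ofHom_injective this)
  · rintro ⟨θ, hθ1, hθ2, hθ3⟩
    have h1 : (θ : K → ℂ) 1 = 1 := by
      rw [irr_one_eq_charDegree θ.2, hθ3, Nat.cast_one]
    have hc := isCharacter_of_isIrrCharacter θ.2
    have he : ofHom (linHom hc h1) = θ := Subtype.ext rfl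
    refine ⟨⟨linHom hc h1, ?_, ?_⟩, ?_⟩
    · rw [he]; exact hθ1
    · rw [he]; exact hθ2
    · apply Subtype.ext
      exact he

end Lambda

end Cfsg.Agent.Helper24.PNilB0
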