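import Mathlib
import Cfsg.Agent.Lib.Helper24.PNilB0c

/-!
# The counting argument: `O^p(G)` is a `p'`-group when all `p'`-degree characters of the
principal block are linear (helper24)
-/

set_option autoImplicit false
set_option linter.style.haveILetI false
set_option linter.unusedSectionVars false

namespace Cfsg.Agent.Helper24.PNilB0

open Cfsg Cfsg.Agent.Helper24 Cfsg.Agent.Helper23.Blk Cfsg.Agent.Helper18

universe u

variable {G : Type u} [Group G] [Finite G] {M : Ideal AlgInt} {p : ℕ} [Fact p.Prime]

/-- If every character of `p'`-degree in the principal block of `G` is linear, and `K = O^p(K)`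
is a normal subgroup of `p`-power index, then `K` is a `p'`-group. -/
theorem not_dvd_card_of_hyp (hM : IsPModular p M) (K : Subgroup G) [hK : K.Normal]
    (P : Sylow p G) (hsup : (P : Subgroup G) ⊔ K = ⊤) (hidx : ∃ k : ℕ, K.index = p ^ k)
    (hres : Cfsg.pResidual p K = ⊤)
    (H : ∀ χ : IrrCharacter G, χ ∈ principalBlock M G → ¬ p ∣ charDegree (χ : G → ℂ) →
      charDegree (χ : G → ℂ) = 1) : ¬ p ∣ Nat.card K := by
  classical
  have hp : p.Prime := Fact.out
  haveI : Fintype K := Fintype.ofFinite K
  letI : Fintype (IrrCharacter K) := irrFintype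
  haveI hMp : M.IsPrime := isPrime_of_isPModular hM
  intro hdvd
  have hA := dvd_sum_sq_of_dvd_card hM (isPBlock_principalBlock (M := M) (G := K)) hdvd
  set f : IrrCharacter K → ℕ := fun θ =>
    if θ ∈ principalBlock M K then charDegree (θ : K → ℂ) ^ 2 else 0 with hf
  have hS : ∑ᶠ θ ∈ principalBlock M K, charDegree (θ : K → ℂ) ^ 2 = ∑ θ, f θ := by
    rw [finsum_mem_def, finsum_eq_sum_of_fintype]
    apply Finset.sum_congr rfl
    intro θ _
    rw [Set.indicator_apply]
  rw [hS] at hA
  letI actG : MulAction G (IrrCharacter K) := conjAct K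
  have hsmul : ∀ (x : (P : Subgroup G)) (θ : IrrCharacter K),
      x • θ = Helper18.conjIrr K ((x : G)⁻¹) θ := fun x θ => rfl
  have hmem : ∀ (g : G) (θ : IrrCharacter K),
      Helper18.conjIrr K g θ ∈ principalBlock M K ↔ θ ∈ principalBlock M K := by
    intro g θ
    constructor
    · intro h
      have := cIrr_mem_principalBlock K (M := M) g⁻¹ h
      rwa [Helper18.conjIrr_inv_conjIrr] at this
    · exact cIrr_mem_principalBlock K g
  have hfinv : ∀ (x : (P : Subgroup G)) (θ : IrrCharacter K), f (x • θ) = f θ := by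
    intro x θ
    rw [hsmul]
    simp only [hf]
    by_cases hθ : θ ∈ principalBlock M K
    · rw [if_pos hθ, if_pos ((hmem _ θ).mpr hθ), charDegree_cIrr]
    · rw [if_neg hθ, if_neg (fun h => hθ ((hmem _ θ).mp h))]
  have hsum := PSum.sum_modEq_sum_fixed (P.2 : IsPGroup p (P : Subgroup G)) f hfinv
  -- the set of invariant linear characters in the principal block
  set Lam : IrrCharacter K → Prop := fun θ => θ ∈ principalBlock M K ∧
    (∀ g : G, Helper18.conjIrr K g θ = θ) ∧ charDegree (θ : K → ℂ) = 1 with hLam
  have hfixinv : ∀ θ : IrrCharacter K, (∀ x : (P : Subgroup G), x • θ = θ) →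
      ∀ g : G, Helper18.conjIrr K g θ = θ := by
    intro θ hθ
    apply invariant_of_fixed K (P : Subgroup G) hsup θ
    intro x hx
    have h1 := hθ ⟨x, hx⟩⁻¹
    rw [hsmul] at h1
    simpa using h1
  have hterm : ∀ θ ∈ Finset.univ.filter (fun θ : IrrCharacter K =>
      ∀ x : (P : Subgroup G), x • θ = θ), f θ ≡ (if Lam θ then 1 else 0) [MOD p] := by
    intro θ hθ
    rw [Finset.mem_filter] at hθ
    have hinv := hfixinv θ hθ.2
    simp only [hf, hLam]
    by_cases hB : θ ∈ principalBlock M K
    · rw [if_pos hB]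
      by_cases hdeg : p ∣ charDegree (θ : K → ℂ)
      · have hne : charDegree (θ : K → ℂ) ≠ 1 := by
          intro h1
          rw [h1] at hdeg
          exact hp.one_lt.ne' (Nat.dvd_one.mp hdeg)
        rw [if_neg (fun h => hne h.2.2)]
        exact (Nat.modEq_zero_iff_dvd.mpr (dvd_pow hdeg two_ne_zero))
      · obtain ⟨χ, hχB, hχres⟩ := exists_extension_principal K hM hidx hres θ hinv hB hdeg
        have hdegeq : charDegree (χ : G → ℂ) = charDegree (θ : K → ℂ) := by
          unfold charDegree
          have := hχres 1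
          rw [OneMemClass.coe_one] at this
          rw [this]
        have h1 := H χ hχB (by rw [hdegeq]; exact hdeg)
        rw [hdegeq] at h1
        rw [if_pos ⟨hB, hinv, h1⟩, h1, one_pow]
    · rw [if_neg hB, if_neg (fun h => hB h.1)]
  have hsum2 := Nat.ModEq.sum hterm
  have hcount : ∑ θ ∈ Finset.univ.filter (fun θ : IrrCharacter K =>
      ∀ x : (P : Subgroup G), x • θ = θ), (if Lam θ then 1 else 0) =
      Nat.card (lamSub K M) := by
    rw [card_lamSub_eq, Finset.sum_boole, Nat.cast_id, Finset.filter_filter,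
      Nat.card_eq_fintype_card, Fintype.card_subtype]
    congr 1
    ext θ
    simp only [Finset.mem_filter, Finset.mem_univ, true_and]
    constructor
    · intro h
      exact h.2
    · intro h
      refine ⟨?_, h⟩
      intro x
      rw [hsmul]
      exact h.2.1 _
  rw [hcount] at hsum2
  have hfinal := hsum.trans hsum2
  have h0 : (∑ θ, f θ) ≡ 0 [MOD p] := Nat.modEq_zero_iff_dvd.mpr hA
  have := (Nat.modEq_zero_iff_dvd.mp (hfinal.symm.trans h0))
  exact not_dvd_card_lamSub K M hres this

end Cfsg.Agent.Helper24.PNilB0
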