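import Mathlib
import Cfsg.Agent.Lib.Helper24.RUDefs
import Cfsg.Agent.Lib.Helper24.IPCen

/-!
# S4751: piece ABL (helper24): on an abelian subgroup, `[ψ_A, ψ_A] ≥ ψ(1)`
-/

set_option autoImplicit false
set_option linter.style.haveILetI false

namespace Cfsg.Agent.Helper24.RU

open Cfsg Cfsg.Agent.Helper24
open scoped ComplexConjugate

universe u

variable {G : Type u} [Group G] [Fintype G]

/-- PIECE ABL. -/
theorem abelian_lower_bound {ψ : G → ℂ} (hψ : IsCharacter G ψ) (A : Subgroup G) [Fintype A]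
    (hA : ∀ x ∈ A, ∀ y ∈ A, x * y = y * x) :
    (Nat.card A : ℝ) * (ψ 1).re ≤ ∑ a : A, Complex.normSq (ψ a) := by
  classical
  letI := irrFintype (G := A)
  have hφ : IsCharacter A (fun a : A => ψ a) := isCharacter_restrict A hψ
  have hcomm : ∀ a b : A, a * b = b * a := fun a b => Subtype.ext (hA a a.2 b b.2)
  obtain ⟨hm, hdec⟩ := isCharacter_decomp hφ
  choose m hm using hm
  -- the degree
  have h1 : ψ 1 = ((∑ χ : IrrCharacter A, m χ : ℕ) : ℂ) := by
    have := congrFun hdec 1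
    simp only [Subgroup.coe_one, Finset.sum_apply, Pi.smul_apply, smul_eq_mul] at this
    rw [this]
    push_cast
    refine Finset.sum_congr rfl fun χ _ => ?_
    rw [hm χ, irr_one_eq_charDegree χ.2, charDegree_eq_one_of_comm hcomm χ.2]
    simp
  -- the norm
  have h2 : classInner (fun a : A => ψ a) (fun a : A => ψ a) =
      ((∑ χ : IrrCharacter A, m χ * m χ : ℕ) : ℂ) := by
    rw [classInner_eq_sum_mul (isClassFunction_of_isCharacter hφ)]
    push_cast
    refine Finset.sum_congr rfl fun χ _ => ?_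
    rw [hm χ, Complex.conj_natCast]
  rw [Cfsg.Agent.Helper24.IP.classInner_self_eq_real] at h2
  have h3 : ((Nat.card A : ℝ)⁻¹ * ∑ a : A, Complex.normSq (ψ a)) =
      ((∑ χ : IrrCharacter A, m χ * m χ : ℕ) : ℝ) := by
    exact_mod_cast h2
  have h4 : (∑ χ : IrrCharacter A, m χ) ≤ ∑ χ : IrrCharacter A, m χ * m χ := by
    apply Finset.sum_le_sum
    intro χ _
    nlinarith [Nat.zero_le (m χ)]
  have h5 : (ψ 1).re = ((∑ χ : IrrCharacter A, m χ : ℕ) : ℝ) := by
    rw [h1]
    exact Complex.natCast_re _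
  have hpos : (0 : ℝ) < (Nat.card A : ℝ) := by exact_mod_cast Nat.card_pos
  have h6 : ∑ a : A, Complex.normSq (ψ a) =
      (Nat.card A : ℝ) * ((∑ χ : IrrCharacter A, m χ * m χ : ℕ) : ℝ) := by
    rw [← h3]
    field_simp
  rw [h6, h5]
  apply mul_le_mul_of_nonneg_left _ hpos.le
  exact_mod_cast h4

end Cfsg.Agent.Helper24.RU
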