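import Mathlib
import Cfsg.Agent.Lib.Helper24.RUDefs

/-!
# S4751: piece ZC (helper24): `|χ(g)| = χ(1)` forces `g` central for a faithful character
-/

set_option autoImplicit false
set_option linter.style.haveILetI false

namespace Cfsg.Agent.Helper24.RU

open Cfsg Cfsg.Agent.Helper24
open scoped ComplexConjugate

universe u

variable {G : Type u} [Group G] [Fintype G]

/-- PIECE ZC. -/
theorem mem_center_of_normSq_eq {χ : G → ℂ} (hχ : IsCharacter G χ)
    (hfaith : ∀ g : G, χ g = χ 1 → g = 1) {g : G}
    (h : Complex.normSq (χ g) = Complex.normSq (χ 1)) : g ∈ Subgroup.center G := by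
  obtain ⟨n, ρ, rfl⟩ := hχ
  have h1 : ρ.character 1 = (Module.finrank ℂ (Fin n → ℂ) : ℂ) := Representation.char_one ρ
  obtain ⟨m, b, μ, hμ, hb⟩ := exists_eigenbasis ρ g
  have hm : Module.finrank ℂ (Fin n → ℂ) = m := finrank_eq_of_basis b
  have htr : ρ.character g = ∑ i, μ i := trace_eq_sum_of_eigenbasis b μ (ρ g) hb
  have hnorm : ∀ i, ‖μ i‖ = 1 := fun i =>
    Complex.norm_eq_one_of_pow_eq_one (hμ i) Nat.card_pos.ne'
  have hscal : ∃ c : ℂ, ρ g = c • (1 : Module.End ℂ (Fin n → ℂ)) := by
    rcases Nat.eq_zero_or_pos m with h0 | hpos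
    · subst h0
      refine ⟨1, ?_⟩
      apply b.ext
      intro i
      exact i.elim0
    · have hm0 : (m : ℂ) ≠ 0 := by exact_mod_cast hpos.ne'
      set c : ℂ := ρ.character g / m with hcdef
      have hχg : ρ.character g = m * c := by rw [hcdef]; field_simp
      have hc : Complex.normSq c = 1 := by
        rw [h1, hm, hχg, Complex.normSq_mul] at h
        have h2 : Complex.normSq (m : ℂ) ≠ 0 := by
          rw [Ne, Complex.normSq_eq_zero]; exact hm0
        have h3 : Complex.normSq (m : ℂ) * Complex.normSq c = Complex.normSq (m : ℂ) * 1 := by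
          rw [h, mul_one]
        exact mul_left_cancel₀ h2 h3
      have hcn : ‖c‖ = 1 := by
        have h2 := Complex.sq_norm c
        rw [hc] at h2
        have h3 : 0 ≤ ‖c‖ := norm_nonneg c
        nlinarith
      have hcc : c * conj c = 1 := by
        rw [Complex.mul_conj, hc]; simp
      have hre_le : ∀ i, (μ i * conj c).re ≤ 1 := by
        intro i
        refine le_trans (Complex.re_le_norm _) ?_
        rw [norm_mul, hnorm i, Complex.norm_conj, hcn, one_mul]
      have hsum : ∑ i, (μ i * conj c).re = ∑ _i : Fin m, (1 : ℝ) := by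
        rw [← Complex.re_sum, ← Finset.sum_mul, ← htr, hχg, mul_assoc, hcc, mul_one]
        simp
      have hre : ∀ i, (μ i * conj c).re = 1 := by
        intro i
        exact (Finset.sum_eq_sum_iff_of_le (fun i _ => hre_le i)).mp hsum i (Finset.mem_univ i)
      have hone : ∀ i, μ i = c := by
        intro i
        have h2 : ‖μ i * conj c‖ = 1 := by
          rw [norm_mul, hnorm i, Complex.norm_conj, hcn, one_mul]
        have h3 := hre i
        have h4 : (μ i * conj c).im = 0 := by
          have := Complex.sq_norm (μ i * conj c)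
          rw [h2, Complex.normSq_apply, h3] at this
          nlinarith
        have h5 : μ i * conj c = 1 := by
          apply Complex.ext <;> simp [h3, h4]
        calc μ i = μ i * (conj c * c) := by rw [mul_comm (conj c) c, hcc, mul_one]
          _ = (μ i * conj c) * c := by ring
          _ = c := by rw [h5, one_mul]
      refine ⟨c, ?_⟩
      apply b.ext
      intro i
      rw [hb i, hone i]
      simp
  obtain ⟨c, hc⟩ := hscal
  rw [Subgroup.mem_center_iff]
  intro x
  have hcomm : ρ (x * g) = ρ (g * x) := by
    rw [map_mul, map_mul, hc]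
    ext v
    simp
  have h2 : ρ (x * g * (g * x)⁻¹) = 1 := by
    rw [map_mul, hcomm, ← map_mul, mul_inv_cancel, map_one]
  have h3 : ρ.character (x * g * (g * x)⁻¹) = ρ.character 1 := by
    rw [h1]
    exact (char_eq_finrank_iff ρ _).mpr h2
  have h4 := hfaith _ h3
  exact mul_inv_eq_one.mp h4

end Cfsg.Agent.Helper24.RU
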