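import Mathlib
import Cfsg.Agent.Lib.Helper24.RUDefs
import Cfsg.Agent.Lib.Helper24.RUABL
import Cfsg.Agent.Lib.Helper24.RUZC

/-!
# S4751: pieces BI and BII (helper24)
-/

set_option autoImplicit false
set_option linter.style.haveILetI false

namespace Cfsg.Agent.Helper24.RU

open Cfsg Cfsg.Agent.Helper24
open scoped ComplexConjugate

universe u

variable {G : Type u} [Group G]

/-- For `y` centralizing the abelian normal subgroup `P`, the subgroup `P ⊔ ⟨y⟩` is abelian. -/
theorem sup_zpowers_comm (P : Subgroup G) [P.Normal] (hcomm : ∀ x ∈ P, ∀ y ∈ P, x * y = y * x)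
    {y : G} (hy : y ∈ Subgroup.centralizer (P : Set G)) :
    ∀ a ∈ P ⊔ Subgroup.zpowers y, ∀ b ∈ P ⊔ Subgroup.zpowers y, a * b = b * a := by
  intro a ha b hb
  obtain ⟨u, hu, z, hz, rfl⟩ := Subgroup.mem_sup_of_normal_left.mp ha
  obtain ⟨u', hu', z', hz', rfl⟩ := Subgroup.mem_sup_of_normal_left.mp hb
  have hzc : ∀ z ∈ Subgroup.zpowers y, ∀ w ∈ P, z * w = w * z := by
    intro z hz w hw
    have : z ∈ Subgroup.centralizer (P : Set G) := by
      obtain ⟨i, rfl⟩ := Subgroup.mem_zpowers_iff.mp hz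
      exact Subgroup.zpow_mem _ hy i
    exact (this w hw).symm
  have hzz : z * z' = z' * z := by
    obtain ⟨i, rfl⟩ := Subgroup.mem_zpowers_iff.mp hz
    obtain ⟨j, rfl⟩ := Subgroup.mem_zpowers_iff.mp hz'
    rw [← zpow_add, ← zpow_add, add_comm]
  calc u * z * (u' * z') = u * (z * u') * z' := by group
    _ = u * (u' * z) * z' := by rw [hzc z hz u' hu']
    _ = (u * u') * (z * z') := by group
    _ = (u' * u) * (z' * z) := by rw [hcomm u hu u' hu', hzz]
    _ = u' * (u * z') * z := by group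
    _ = u' * (z' * u) * z := by rw [hzc z' hz' u hu]
    _ = u' * z' * (u * z) := by group

variable [Fintype G]

/-- The degree as a real number. -/
theorem Res.normSq_one {χ : G → ℂ} {P : Subgroup G} (hres : Res χ P) :
    Complex.normSq (χ 1) = ((Nat.card P : ℝ) - 1) ^ 2 := by
  rw [hres.deg]
  have : ((Nat.card P : ℂ) - 1) = (((Nat.card P : ℝ) - 1 : ℝ) : ℂ) := by push_cast; ring
  rw [this, Complex.normSq_ofReal]; ring

theorem Res.one_re {χ : G → ℂ} {P : Subgroup G} (hres : Res χ P) :
    (χ 1).re = (Nat.card P : ℝ) - 1 := by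
  rw [hres.deg]
  simp

/-- PIECE BII. -/
theorem mem_of_pElement {p : ℕ} [Fact p.Prime] {χ : G → ℂ} (h : Hyp G p χ)
    (P : Subgroup G) [P.Normal] (hP : IsPGroup p P) (hres : Res χ P) {v : G}
    (hv : v ∈ Subgroup.centralizer (P : Set G)) {k : ℕ} (hk : v ^ p ^ k = 1) : v ∈ P := by
  classical
  set A : Subgroup G := P ⊔ Subgroup.zpowers v with hA
  letI : Fintype A := Fintype.ofFinite A
  have hχc : IsCharacter G χ := isCharacter_of_isIrrCharacter h.irr
  have hAcomm := sup_zpowers_comm P hres.comm hv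
  have hvp : IsPGroup p (Subgroup.zpowers v) := by
    intro g
    refine ⟨k, ?_⟩
    obtain ⟨i, hi⟩ := Subgroup.mem_zpowers_iff.mp g.2
    apply Subtype.ext
    rw [Subgroup.coe_pow, Subgroup.coe_one, ← hi, ← zpow_natCast, ← zpow_mul, mul_comm, zpow_mul,
      zpow_natCast, hk, one_zpow]
  have hAp : IsPGroup p A := IsPGroup.to_sup_of_normal_left hP hvp
  have habl := abelian_lower_bound hχc A hAcomm
  have hsum : ∑ a : A, Complex.normSq (χ a) =
      ((Nat.card P : ℝ) - 1) ^ 2 + ((Nat.card A : ℝ) - 1) := by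
    rw [← Finset.add_sum_erase Finset.univ _ (Finset.mem_univ (1 : A))]
    have h2 : ∀ b ∈ Finset.univ.erase (1 : A), Complex.normSq (χ (b : G)) = 1 := by
      intro b hb
      have hb1 : b ≠ 1 := Finset.ne_of_mem_erase hb
      apply h.normSq_eq_one
      exact dvd_orderOf_of_isPGroup hAp b.2 (fun hh => hb1 (Subtype.ext hh))
    rw [Finset.sum_congr rfl h2, Finset.sum_const, Subgroup.coe_one, hres.normSq_one,
      Finset.card_erase_of_mem (Finset.mem_univ _), Finset.card_univ, ← Nat.card_eq_fintype_card,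
      nsmul_eq_mul, mul_one]
    have hpos : 1 ≤ Nat.card A := Nat.card_pos
    rw [Nat.cast_sub hpos]
    push_cast
    ring
  rw [hsum, hres.one_re] at habl
  have h3 : (3 : ℝ) ≤ (Nat.card P : ℝ) := by exact_mod_cast hres.three_le
  have hle : (Nat.card A : ℝ) ≤ (Nat.card P : ℝ) := by
    by_contra hcon
    push Not at hcon
    nlinarith
  have hle' : Nat.card A ≤ Nat.card P := by exact_mod_cast hle
  have hPA : P ≤ A := le_sup_left
  have heq : P = A := Subgroup.eq_of_le_of_card_ge hPA hle'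
  rw [heq]
  exact Subgroup.mem_sup_right (Subgroup.mem_zpowers v)

/-- PIECE BI. -/
theorem mem_center_of_coprime {p : ℕ} [Fact p.Prime] {χ : G → ℂ} (h : Hyp G p χ)
    (P : Subgroup G) [P.Normal] (hP : IsPGroup p P) (hres : Res χ P) {w : G}
    (hw : w ∈ Subgroup.centralizer (P : Set G)) (hcop : (orderOf w).Coprime p) :
    w ∈ Subgroup.center G := by
  classical
  have hpp : p.Prime := Fact.out
  set W : Subgroup G := Subgroup.zpowers w with hW
  set A : Subgroup G := P ⊔ W with hA
  letI : Fintype A := Fintype.ofFinite A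
  have hχc : IsCharacter G χ := isCharacter_of_isIrrCharacter h.irr
  have hAcomm := sup_zpowers_comm P hres.comm hw
  have habl := abelian_lower_bound hχc A hAcomm
  set m := orderOf w with hm
  set q := Nat.card P with hq
  have hmpos : 0 < m := orderOf_pos w
  have hWcard : Nat.card W = m := Nat.card_zpowers w
  have hPA : P ≤ A := le_sup_left
  have hWA : W ≤ A := le_sup_right
  -- `q * m ∣ |A|`
  obtain ⟨k, hk⟩ := IsPGroup.iff_card.mp hP
  have hqm : Nat.Coprime q m := by
    rw [hq, hk]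
    exact Nat.Coprime.pow_left k hcop.symm
  have hdvd : q * m ∣ Nat.card A :=
    Nat.Coprime.mul_dvd_of_dvd_of_dvd hqm (Subgroup.card_dvd_of_le hPA)
      (hWcard ▸ Subgroup.card_dvd_of_le hWA)
  have hAge : q * m ≤ Nat.card A := Nat.le_of_dvd Nat.card_pos hdvd
  -- the elements outside `W` are `p`-singular
  have hsing : ∀ a : A, (a : G) ∉ W → Complex.normSq (χ a) = 1 := by
    intro a haW
    apply h.normSq_eq_one
    obtain ⟨u, hu, z, hz, huz⟩ := Subgroup.mem_sup_of_normal_left.mp a.2
    have hu1 : u ≠ 1 := by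
      intro h1
      apply haW
      rw [← huz, h1, one_mul]
      exact hz
    have hzc : z * u = u * z := by
      have : z ∈ Subgroup.centralizer (P : Set G) := by
        obtain ⟨i, rfl⟩ := Subgroup.mem_zpowers_iff.mp hz
        exact Subgroup.zpow_mem _ hw i
      exact (this u hu).symm
    have hzm : z ^ m = 1 := by
      obtain ⟨i, rfl⟩ := Subgroup.mem_zpowers_iff.mp hz
      rw [← zpow_natCast, ← zpow_mul, mul_comm, zpow_mul, zpow_natCast, hm, pow_orderOf_eq_one,
        one_zpow]
    have ham : (a : G) ^ m = u ^ m := by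
      rw [← huz, (Commute.mul_pow (show Commute u z from hzc.symm) m), hzm, mul_one]
    have hum1 : u ^ m ≠ 1 := by
      intro h1
      have hd : orderOf u ∣ m := orderOf_dvd_of_pow_eq_one h1
      have hpu : p ∣ orderOf u := dvd_orderOf_of_isPGroup hP hu hu1
      have hpm : p ∣ m := dvd_trans hpu hd
      have := Nat.Coprime.eq_one_of_dvd hcop.symm hpm
      exact hpp.one_lt.ne' this
    have hpam : p ∣ orderOf ((a : G) ^ m) := by
      rw [ham]
      exact dvd_orderOf_of_isPGroup hP (Subgroup.pow_mem _ hu m) hum1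
    exact dvd_trans hpam (orderOf_pow_dvd m)
  -- split the sum
  have hsplit : ∑ a : A, Complex.normSq (χ a) =
      ∑ a ∈ Finset.univ.filter (fun a : A => (a : G) ∈ W), Complex.normSq (χ a) +
      ∑ a ∈ Finset.univ.filter (fun a : A => ¬ (a : G) ∈ W), Complex.normSq (χ a) :=
    (Finset.sum_filter_add_sum_filter_not _ _ _).symm
  have hcardF : (Finset.univ.filter (fun a : A => (a : G) ∈ W)).card = m := by
    rw [← hWcard]
    have e : W.subgroupOf A ≃ W := (Subgroup.subgroupOfEquivOfLe hWA).toEquiv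
    rw [← Nat.card_congr e, Nat.card_eq_fintype_card, Fintype.card_subtype]
    rfl
  have hcardN : (Finset.univ.filter (fun a : A => ¬ (a : G) ∈ W)).card = Nat.card A - m := by
    have := Finset.card_filter_add_card_filter_not (s := (Finset.univ : Finset A))
      (fun a : A => (a : G) ∈ W)
    rw [hcardF, Finset.card_univ, ← Nat.card_eq_fintype_card] at this
    omega
  have hsecond : ∑ a ∈ Finset.univ.filter (fun a : A => ¬ (a : G) ∈ W), Complex.normSq (χ a) =
      (Nat.card A : ℝ) - m := by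
    rw [Finset.sum_congr rfl (fun a ha => hsing a (Finset.mem_filter.mp ha).2), Finset.sum_const,
      hcardN, nsmul_eq_mul, mul_one]
    have : m ≤ Nat.card A := by nlinarith [Nat.card_pos (α := P)]
    rw [Nat.cast_sub this]
  rw [hsplit, hsecond, hres.one_re] at habl
  -- each term of the first sum is at most `(q-1)²`
  have h3 : (3 : ℝ) ≤ (q : ℝ) := by exact_mod_cast hres.three_le
  have hterm : ∀ a ∈ Finset.univ.filter (fun a : A => (a : G) ∈ W),
      Complex.normSq (χ a) ≤ ((q : ℝ) - 1) ^ 2 := by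
    intro a _
    have h1 := norm_le_charDegree hχc (a : G)
    have h2 : (charDegree χ : ℝ) = (q : ℝ) - 1 := by
      have e1 := char_one_eq_charDegree hχc
      rw [hres.deg] at e1
      have e2 : (((q : ℝ) - 1 : ℝ) : ℂ) = ((charDegree χ : ℝ) : ℂ) := by
        push_cast
        exact e1
      exact_mod_cast e2.symm
    rw [h2] at h1
    rw [Complex.normSq_eq_norm_sq]
    have h0 : 0 ≤ ‖χ a‖ := norm_nonneg _
    nlinarith
  have hAge' : ((q * m : ℕ) : ℝ) ≤ (Nat.card A : ℝ) := by exact_mod_cast hAge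
  push_cast at hAge'
  have hlower : (m : ℝ) * ((q : ℝ) - 1) ^ 2 ≤
      ∑ a ∈ Finset.univ.filter (fun a : A => (a : G) ∈ W), Complex.normSq (χ a) := by
    have hm0 : (0 : ℝ) < m := by exact_mod_cast hmpos
    nlinarith
  have hupper : ∑ a ∈ Finset.univ.filter (fun a : A => (a : G) ∈ W), Complex.normSq (χ a) ≤
      ∑ _a ∈ Finset.univ.filter (fun a : A => (a : G) ∈ W), ((q : ℝ) - 1) ^ 2 :=
    Finset.sum_le_sum hterm
  have hconst : ∑ _a ∈ Finset.univ.filter (fun a : A => (a : G) ∈ W), ((q : ℝ) - 1) ^ 2 =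
      (m : ℝ) * ((q : ℝ) - 1) ^ 2 := by
    rw [Finset.sum_const, hcardF, nsmul_eq_mul]
  have heq : ∑ a ∈ Finset.univ.filter (fun a : A => (a : G) ∈ W), Complex.normSq (χ a) =
      ∑ _a ∈ Finset.univ.filter (fun a : A => (a : G) ∈ W), ((q : ℝ) - 1) ^ 2 := by
    apply le_antisymm hupper
    rw [hconst]
    exact hlower
  have hall := (Finset.sum_eq_sum_iff_of_le hterm).mp heq
  have hwA : w ∈ A := hWA (Subgroup.mem_zpowers w)
  have hwval := hall ⟨w, hwA⟩ (Finset.mem_filter.mpr ⟨Finset.mem_univ _, Subgroup.mem_zpowers w⟩)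
  apply mem_center_of_normSq_eq hχc h.faith
  rw [hres.normSq_one]
  exact hwval

end Cfsg.Agent.Helper24.RU
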