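import Mathlib
import Cfsg.Agent.Lib.Helper24.RUDefs
import Cfsg.Agent.Lib.Helper24.IPCen
import Cfsg.Agent.Lib.Helper5.CenterDvd

/-!
# S4751: pieces C1 and BASM (helper24)
-/

set_option autoImplicit false
set_option linter.style.haveILetI false

namespace Cfsg.Agent.Helper24.RU

open Cfsg Cfsg.Agent.Helper24 Cfsg.Agent.Helper5 Cfsg.Agent.Helper18
open scoped ComplexConjugate

universe u

variable {G : Type u} [Group G] [Fintype G]

/-- PIECE C1: a `p`-subgroup of order `p * |P|` forces `p = 2`. -/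
theorem two_of_card {p : ℕ} [Fact p.Prime] {χ : G → ℂ} (h : Hyp G p χ) (P : Subgroup G)
    (hres : Res χ P) (B : Subgroup G) (hB : IsPGroup p B)
    (hcard : Nat.card B = p * Nat.card P) : p = 2 := by
  classical
  letI : Fintype B := Fintype.ofFinite B
  letI := irrFintype (G := B)
  have hpp : p.Prime := Fact.out
  have h3 := hres.three_le
  have hχc : IsCharacter G χ := isCharacter_of_isIrrCharacter h.irr
  have hψ : IsCharacter B (fun b : B => χ b) := isCharacter_restrict B hχc
  obtain ⟨n, hn⟩ := classInner_char_nat hψ hψ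
  rw [Cfsg.Agent.Helper24.IP.classInner_self_eq_real] at hn
  set q := Nat.card P with hq
  have hsum : ∑ b : B, Complex.normSq (χ b) = ((q : ℝ) - 1) ^ 2 + ((p : ℝ) * q - 1) := by
    rw [← Finset.add_sum_erase Finset.univ _ (Finset.mem_univ (1 : B))]
    have h1 : Complex.normSq (χ ((1 : B) : G)) = ((q : ℝ) - 1) ^ 2 := by
      rw [Subgroup.coe_one, hres.deg]
      have : ((q : ℂ) - 1) = (((q : ℝ) - 1 : ℝ) : ℂ) := by push_cast; ring
      rw [this, Complex.normSq_ofReal]; ring
    have h2 : ∀ b ∈ Finset.univ.erase (1 : B), Complex.normSq (χ (b : G)) = 1 := by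
      intro b hb
      have hb1 : b ≠ 1 := Finset.ne_of_mem_erase hb
      apply h.normSq_eq_one
      exact dvd_orderOf_of_isPGroup hB b.2 (fun hh => hb1 (Subtype.ext hh))
    rw [Finset.sum_congr rfl h2, Finset.sum_const, h1,
      Finset.card_erase_of_mem (Finset.mem_univ _), Finset.card_univ, ← Nat.card_eq_fintype_card,
      hcard, nsmul_eq_mul, mul_one]
    have hpos : 1 ≤ p * q := by
      have := hpp.pos
      nlinarith
    rw [Nat.cast_sub hpos]
    push_cast
    ring
  rw [hsum, hcard] at hn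
  have hn' : ((((p * q : ℕ) : ℝ))⁻¹ * (((q : ℝ) - 1) ^ 2 + ((p : ℝ) * q - 1))) = (n : ℝ) := by
    have := hn
    exact_mod_cast this
  have hpq0 : ((p * q : ℕ) : ℝ) ≠ 0 := by
    have := hpp.pos
    have : 0 < p * q := by nlinarith
    exact_mod_cast this.ne'
  have hreal : ((q : ℝ) - 1) ^ 2 + ((p : ℝ) * q - 1) = (n : ℝ) * ((p * q : ℕ) : ℝ) := by
    rw [← hn']
    field_simp
  have hnat : q * q + p * q = n * (p * q) + 2 * q := by
    have : ((q * q + p * q : ℕ) : ℝ) = ((n * (p * q) + 2 * q : ℕ) : ℝ) := by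
      push_cast
      push_cast at hreal
      nlinarith
    exact_mod_cast this
  have hq0 : 0 < q := by omega
  have hnat2 : q + p = n * p + 2 := by
    have : q * (q + p) = q * (n * p + 2) := by nlinarith
    exact Nat.eq_of_mul_eq_mul_left hq0 this
  -- p ∣ q
  obtain ⟨j, hj⟩ := IsPGroup.iff_card.mp hB
  have hpq : p ∣ q := by
    rw [hcard] at hj
    rcases Nat.eq_zero_or_pos j with h0 | hpos
    · rw [h0, pow_zero] at hj
      have := hpp.two_le
      nlinarith
    · obtain ⟨i, rfl⟩ : ∃ i, j = i + 1 := ⟨j - 1, by omega⟩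
      rw [pow_succ, mul_comm] at hj
      have hqi : q = p ^ i := Nat.eq_of_mul_eq_mul_right hpp.pos hj
      rcases Nat.eq_zero_or_pos i with h0 | hpos'
      · rw [h0, pow_zero] at hqi
        omega
      · rw [hqi]
        exact dvd_pow_self p hpos'.ne'
  have hp2 : p ∣ 2 := by
    have h1 : p ∣ q + p := dvd_add hpq dvd_rfl
    rw [hnat2] at h1
    exact (Nat.dvd_add_right (dvd_mul_left p n)).mp h1
  exact (Nat.prime_dvd_prime_iff_eq hpp Nat.prime_two).mp hp2

/-- PIECE BASM, relative to the two membership lemmas BI and BII. -/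
theorem centralizer_eq_of {p : ℕ} [Fact p.Prime] {χ : G → ℂ} (h : Hyp G p χ)
    (P : Subgroup G) [P.Normal] (hres : Res χ P)
    (hI : ∀ w ∈ Subgroup.centralizer (P : Set G), (orderOf w).Coprime p →
      w ∈ Subgroup.center G)
    (hII : ∀ v ∈ Subgroup.centralizer (P : Set G), ∀ k : ℕ, v ^ p ^ k = 1 → v ∈ P) :
    Subgroup.centralizer (P : Set G) = P ⊔ Subgroup.center G ∧
      P ⊓ Subgroup.center G = ⊥ := by
  have hpp : p.Prime := Fact.out
  have h3 := hres.three_le
  refine ⟨le_antisymm ?_ ?_, ?_⟩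
  · intro y hy
    have hy0 : 0 < orderOf y := orderOf_pos y
    obtain ⟨a, m, hm, hn⟩ := Nat.exists_eq_pow_mul_and_not_dvd hy0.ne' p hpp.ne_one
    have hv : y ^ m ∈ P := by
      apply hII _ (Subgroup.pow_mem _ hy m) a
      rw [← pow_mul, mul_comm, ← hn, pow_orderOf_eq_one]
    have hcop : Nat.Coprime m p := (Nat.Prime.coprime_iff_not_dvd hpp).mpr hm |>.symm
    have hw : y ^ p ^ a ∈ Subgroup.center G := by
      apply hI _ (Subgroup.pow_mem _ hy _)
      have hd : orderOf (y ^ p ^ a) ∣ m := by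
        apply orderOf_dvd_of_pow_eq_one
        rw [← pow_mul, ← hn, pow_orderOf_eq_one]
      exact Nat.Coprime.coprime_dvd_left hd hcop
    have hcop2 : IsCoprime (m : ℤ) ((p ^ a : ℕ) : ℤ) := by
      rw [Nat.isCoprime_iff_coprime]
      exact Nat.Coprime.pow_right a hcop
    obtain ⟨s, t, hst⟩ := hcop2
    have hy1 : y = (y ^ m) ^ s * (y ^ p ^ a) ^ t := by
      rw [← zpow_natCast y m, ← zpow_natCast y (p ^ a), ← zpow_mul, ← zpow_mul, ← zpow_add,
        mul_comm (m : ℤ) s, mul_comm ((p ^ a : ℕ) : ℤ) t, hst, zpow_one]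
    rw [hy1]
    exact Subgroup.mul_mem _ (Subgroup.mem_sup_left (Subgroup.zpow_mem _ hv s))
      (Subgroup.mem_sup_right (Subgroup.zpow_mem _ hw t))
  · rw [sup_le_iff]
    constructor
    · intro x hx
      rw [Subgroup.mem_centralizer_iff]
      intro y hy
      exact hres.comm y hy x hx
    · exact Subgroup.center_le_centralizer _
  · rw [eq_bot_iff]
    intro z hz
    rw [Subgroup.mem_bot]
    by_contra hz1
    have h1 := irr_central_normSq h.irr z hz.2
    rw [hres.val z hz.1 hz1, hres.deg] at h1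
    have h2 : ((Nat.card P : ℂ) - 1) * ((Nat.card P : ℂ) - 1) = 1 := by
      rw [← h1]
      simp
    have h3' : (((Nat.card P : ℝ) - 1) * ((Nat.card P : ℝ) - 1) : ℝ) = 1 := by
      have : ((((Nat.card P : ℝ) - 1) * ((Nat.card P : ℝ) - 1) : ℝ) : ℂ) = ((1 : ℝ) : ℂ) := by
        push_cast
        exact h2
      exact_mod_cast this
    have h4 : (3 : ℝ) ≤ (Nat.card P : ℝ) := by exact_mod_cast h3
    nlinarith

end Cfsg.Agent.Helper24.RU
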