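import Mathlib
import Cfsg.Agent.Lib.Helper24.RUCen
import Cfsg.Agent.Lib.Helper24.RUBI
import Cfsg.Agent.Lib.Helper18.RUA2
import Cfsg.Agent.Lib.Helper18.RUA3
import Cfsg.Agent.Lib.Helper18.RUNAB
import Cfsg.Agent.Lib.Helper2.RUC2A
import Cfsg.Agent.Lib.Helper2.RUC2B
import Cfsg.Agent.Lib.Helper20.RUA1
import Cfsg.Agent.Lib.Helper15.RUD6
import Cfsg.Agent.Lib.Helper17.RUD
import Cfsg.Prelude.Def_Transfer

/-!
# S4751: assembly (helper24)
-/

set_option autoImplicit false
set_option linter.style.haveILetI false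

namespace Cfsg.Agent.Helper24.RU

open Cfsg Cfsg.Agent.Helper24 Cfsg.Agent.Helper5 Cfsg.Agent.Helper18
open scoped ComplexConjugate

universe u

variable {G : Type u} [Group G]

/-- The centralizer of a normal subgroup fixes every function on it. -/
theorem centralizer_le_inertia (P : Subgroup G) [P.Normal] (θ : P → ℂ) :
    Subgroup.centralizer (P : Set G) ≤ inertia P θ := by
  intro g hg
  rw [mem_inertia]
  funext n
  rw [conjFun_apply]
  congr 1
  apply Subtype.ext
  show g * (n : G) * g⁻¹ = n
  have h1 : (n : G) * g = g * n := hg n n.2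
  rw [← h1, mul_inv_cancel_right]

/-- The centre has odd order when `O_2(G)` meets it trivially. -/
theorem odd_card_center [Finite G] (hPZ : pCore 2 G ⊓ Subgroup.center G = ⊥) :
    Odd (Nat.card (Subgroup.center G)) := by
  by_contra hodd
  rw [Nat.not_odd_iff_even] at hodd
  have h2 : 2 ∣ Nat.card (Subgroup.center G) := hodd.two_dvd
  haveI : Fact (Nat.Prime 2) := ⟨Nat.prime_two⟩
  obtain ⟨z, hz⟩ := exists_prime_orderOf_dvd_card' 2 h2
  have hz' : orderOf (z : G) = 2 := by
    rw [Subgroup.orderOf_coe]; exact hz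
  have hn : (Subgroup.zpowers (z : G)).Normal := by
    constructor
    intro n hn g
    obtain ⟨i, rfl⟩ := Subgroup.mem_zpowers_iff.mp hn
    have hc : g * (z : G) ^ i * g⁻¹ = (z : G) ^ i := by
      have h1 : (z : G) ^ i ∈ Subgroup.center G := Subgroup.zpow_mem _ z.2 i
      rw [Subgroup.mem_center_iff] at h1
      rw [h1 g, mul_inv_cancel_right]
    rw [hc]
    exact Subgroup.zpow_mem_zpowers _ i
  have hp : IsPGroup 2 (Subgroup.zpowers (z : G)) := by
    apply IsPGroup.of_card (n := 1)
    rw [Nat.card_zpowers, hz', pow_one]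
  have hle : Subgroup.zpowers (z : G) ≤ pCore 2 G := le_pCore hn hp
  have hzP : (z : G) ∈ pCore 2 G ⊓ Subgroup.center G :=
    ⟨hle (Subgroup.mem_zpowers _), z.2⟩
  rw [hPZ, Subgroup.mem_bot] at hzP
  rw [hzP, orderOf_one] at hz'
  omega

theorem main [Finite G] (p : ℕ) [Fact p.Prime] (χ : G → ℂ) (h : Hyp G p χ)
    (hP : pCore p G ≠ ⊥) :
    ((Nat.card ↥(pCore p G)).factorization p = (Nat.card G).factorization p ∧
      IsElementaryAbelian p (pCore p G) ∧
      Subgroup.centralizer ((pCore p G : Subgroup G) : Set G) = pCore p G ⊔ Subgroup.center G ∧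
      pCore p G ⊓ Subgroup.center G = ⊥ ∧ Trans (G := G) (pCore p G) ∧
      χ 1 = (Nat.card ↥(pCore p G) : ℂ) - 1) ∨
    (p = 2 ∧ Odd (Nat.card ↥(Subgroup.center G)) ∧
      ∃ H : Subgroup G, Nonempty (↥H ≃* Equiv.Perm (Fin 4)) ∧ H ⊓ Subgroup.center G = ⊥ ∧
        H ⊔ Subgroup.center G = ⊤) := by
  classical
  letI : Fintype G := Fintype.ofFinite G
  haveI hPn : (pCore p G).Normal := pCore_normal p G
  letI : Fintype (pCore p G) := Fintype.ofFinite _
  have hPp := pCore_isPGroup p G
  have hpp : p.Prime := Fact.out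
  obtain ⟨θ, hθ, hθ1, hcon, hidx, hdeg, h3⟩ := exists_theta h (pCore p G) hPp hP
  obtain ⟨hres, htrans⟩ := res_of_theta h.irr (pCore p G) hθ hθ1 hcon hidx hdeg h3
  have hexp := exponent_of_trans (pCore p G) hPp hres.comm htrans
  obtain ⟨hC, hPZ⟩ := centralizer_eq_of h (pCore p G) hres
    (fun w hw hcop => mem_center_of_coprime h (pCore p G) hPp hres hw hcop)
    (fun v hv k hk => mem_of_pElement h (pCore p G) hPp hres hv hk)
  by_cases hsyl : (Nat.card ↥(pCore p G)).factorization p = (Nat.card G).factorization p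
  · left
    refine ⟨hsyl, ⟨?_, hexp⟩, hC, hPZ, htrans, hres.deg⟩
    exact ⟨⟨fun a b => Subtype.ext (hres.comm a a.2 b b.2)⟩⟩
  · right
    obtain ⟨k, hk⟩ := IsPGroup.iff_card.mp hPp
    have hGpos : Nat.card G ≠ 0 := Nat.card_pos.ne'
    have hfk : (Nat.card ↥(pCore p G)).factorization p = k := by
      rw [hk, Nat.Prime.factorization_pow hpp]
      simp only [Finsupp.single_eq_same, mul_one]
    have hle : k ≤ (Nat.card G).factorization p := by
      have hd : p ^ k ∣ Nat.card G := by
        rw [← hk]; exact Subgroup.card_subgroup_dvd_card _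
      exact (Nat.Prime.pow_dvd_iff_le_factorization hpp hGpos).mp hd
    have hlt : k + 1 ≤ (Nat.card G).factorization p := by
      rw [hfk] at hsyl
      omega
    have hdvd : p ^ (k + 1) ∣ Nat.card G :=
      (Nat.Prime.pow_dvd_iff_le_factorization hpp hGpos).mpr hlt
    obtain ⟨B, hBcard, hPB⟩ := Sylow.exists_subgroup_card_pow_succ hdvd hk
    have hBp : IsPGroup p B := IsPGroup.of_card hBcard
    have hBcard' : Nat.card B = p * Nat.card ↥(pCore p G) := by
      rw [hBcard, hk, pow_succ]; ring
    have hp2 : p = 2 := two_of_card h _ hres B hBp hBcard'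
    subst hp2
    have hq4 : Nat.card ↥(pCore 2 G) = 4 := by
      have h1 := card_le_two_mul_commutator h _ hres B hBp hPB hBcard'
      have hcq : Nat.card ((pCore 2 G).subgroupOf B) = Nat.card ↥(pCore 2 G) :=
        Nat.card_congr (Subgroup.subgroupOfEquivOfLe hPB).toEquiv
      have hidx2 : ((pCore 2 G).subgroupOf B).index = 2 := by
        have e1 := Subgroup.card_mul_index ((pCore 2 G).subgroupOf B)
        rw [hcq, hBcard'] at e1
        have hpos : 0 < Nat.card ↥(pCore 2 G) := Nat.card_pos
        nlinarith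
      have h2 := commutator_sq_le (X := B) ((pCore 2 G).subgroupOf B) hidx2
        (fun x hx y hy => Subtype.ext (hres.comm x hx y hy))
        (fun x hx => Subtype.ext (by
          have := hexp x hx
          simpa using this))
      rw [hcq] at h2
      have h4 : Nat.card ↥(pCore 2 G) ≤ 4 := by
        by_contra hcon
        push Not at hcon
        nlinarith
      -- q = 2^k, 3 ≤ q ≤ 4
      have hk2 : k = 2 := by
        rw [hk] at h4 h3
        rcases Nat.lt_or_ge k 2 with hk' | hk'
        · interval_cases k <;> omega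
        · rcases Nat.lt_or_ge 2 k with hk'' | hk''
          · have : 2 ^ 3 ≤ 2 ^ k := Nat.pow_le_pow_right (by norm_num) hk''
            omega
          · omega
      rw [hk, hk2]
      norm_num
    have hk2 : k = 2 := by
      rw [hq4] at hk
      have : (2 : ℕ) ^ 2 = 2 ^ k := by rw [← hk]; norm_num
      exact (Nat.pow_right_injective (le_refl 2) this).symm
    have h8 : 8 ∣ Nat.card G := by
      rw [hk2] at hdvd
      exact hdvd
    have hodd : Odd (Nat.card ↥(Subgroup.center G)) := odd_card_center hPZ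
    have hidx6 := index_centralizer_eq_six (pCore 2 G) hq4 hC hPZ hodd h8 (inertia (pCore 2 G) θ)
      (by rw [hidx, hq4]) (centralizer_le_inertia _ θ)
    have hnab := quotient_not_comm (pCore 2 G) rfl hq4 h8
    exact ⟨rfl, hodd, exists_s4 (pCore 2 G) hq4 hC hPZ hodd hidx6 hnab⟩

end Cfsg.Agent.Helper24.RU
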