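import Mathlib
import Cfsg.Prelude.Def_Blocks
import Cfsg.Agent.S0868
import Cfsg.Agent.S0886
import Cfsg.Agent.Lib.Helper24.RamifiedCyc
import Cfsg.Agent.Lib.Helper24.FrobCoset
import Cfsg.Agent.Lib.Helper24.CharInduced
import Cfsg.Agent.Lib.Helper5.Clifford

/-!
# Fully ramified characters under a Frobenius-like action (helper24's shared library)
-/

set_option autoImplicit false
set_option linter.style.haveILetI false
set_option linter.unusedSectionVars false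

namespace Cfsg.Agent.Helper24.RamFrob

open Cfsg Cfsg.Agent.Helper24 Cfsg.Agent.Helper5
open scoped ComplexConjugate

universe u

variable {Γ : Type u} [Group Γ] [Fintype Γ] (G N : Subgroup Γ) [hG : G.Normal] [hN : N.Normal]
  [Fintype G] [Fintype N]

/-- If `ϑ^G = e χ` with `ϑ` invariant, then `χ_N = e ϑ` and `χ` is `Γ`-invariant. -/
theorem ram_facts (hNG : N ≤ G) (θ : IrrCharacter N)
    (hinv : ∀ (x : Γ) (n : N), (θ : N → ℂ) ⟨x * n * x⁻¹, hN.conj_mem n n.2 x⟩ = (θ : N → ℂ) n)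
    (χ : IrrCharacter G) (e : ℕ)
    (hram : indFun (N.subgroupOf G) (fun n : N.subgroupOf G => (θ : N → ℂ) ⟨(n : G), n.2⟩) =
      fun g => (e : ℂ) * (χ : G → ℂ) g) :
    (∀ n : N, (χ : G → ℂ) ⟨n, hNG n.2⟩ = (e : ℂ) * (θ : N → ℂ) n) ∧
    (∀ (γ : Γ) (g : G), (χ : G → ℂ) ⟨γ * g * γ⁻¹, hG.conj_mem g g.2 γ⟩ = (χ : G → ℂ) g) := by
  classical
  set N' : Subgroup G := N.subgroupOf G with hN'
  set ϑ' : N' → ℂ := fun n : N' => (θ : N → ℂ) ⟨(n : G), n.2⟩ with hϑ'
  letI : Fintype N' := Fintype.ofFinite _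
  have hϑ'irr : IsIrrCharacter N' ϑ' := by
    have := isIrrCharacter_comp_equiv (Subgroup.subgroupOfEquivOfLe hNG) θ.2
    exact this
  have hinv' : ∀ g : G, conjFun N' g ϑ' = ϑ' := by
    intro g
    funext n
    rw [conjFun_apply]
    have := hinv (g : Γ) ⟨((n : G) : Γ), n.2⟩
    exact this
  have h1 := indFun_normal_restrict_of_invariant N' ϑ' hinv'
  rw [hram] at h1
  have h1' : ∀ n : N', (e : ℂ) * (χ : G → ℂ) n = (N'.index : ℂ) * ϑ' n := by
    intro n
    have := congrFun h1 n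
    rwa [Pi.smul_apply, smul_eq_mul] at this
  have hidx0 : (N'.index : ℂ) ≠ 0 := by
    rw [Nat.cast_ne_zero]
    exact Subgroup.index_ne_zero_of_finite
  have hθ1 : ϑ' 1 ≠ 0 := by
    obtain ⟨d, hd, hd1⟩ := irr_one_eq hϑ'irr
    rw [hd1]
    exact_mod_cast hd.ne'
  have he0 : (e : ℂ) ≠ 0 := by
    intro h
    have := h1' 1
    rw [h, zero_mul] at this
    exact (mul_ne_zero hidx0 hθ1) this.symm
  -- Frobenius reciprocity
  have hχcf := isClassFunction_of_isIrrCharacter χ.2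
  have h2 := frobenius_reciprocity N' ϑ' hχcf
  rw [hram] at h2
  have h3 : (fun g : G => (e : ℂ) * (χ : G → ℂ) g) = (e : ℂ) • (χ : G → ℂ) := rfl
  rw [h3, classInner_smul_left, irr_orthogonality χ.2 χ.2, if_pos rfl, mul_one] at h2
  have h4 : (fun h : N' => (χ : G → ℂ) h) = ((N'.index : ℂ) / (e : ℂ)) • ϑ' := by
    funext n
    rw [Pi.smul_apply, smul_eq_mul]
    have := h1' n
    field_simp
    rw [mul_comm]
    exact this
  rw [h4, classInner_smul_right, irr_orthogonality hϑ'irr hϑ'irr, if_pos rfl, mul_one] at h2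
  have h5 : (N'.index : ℂ) / (e : ℂ) = (e : ℂ) := by
    have : conj ((N'.index : ℂ) / (e : ℂ)) = (N'.index : ℂ) / (e : ℂ) := by
      rw [map_div₀, Complex.conj_natCast, Complex.conj_natCast]
    rw [this] at h2
    exact h2.symm
  rw [h5] at h4
  have hpart1 : ∀ n : N, (χ : G → ℂ) ⟨n, hNG n.2⟩ = (e : ℂ) * (θ : N → ℂ) n := by
    intro n
    have := congrFun h4 (⟨⟨n, hNG n.2⟩, n.2⟩ : N')
    rwa [Pi.smul_apply, smul_eq_mul] at this
  refine ⟨hpart1, ?_⟩
  intro γ g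
  set cγ : MulAut G := MulAut.conjNormal γ with hcγ
  have hcγ_apply : ∀ z : G, ((cγ z : G) : Γ) = γ * (z : Γ) * γ⁻¹ := fun z =>
    MulAut.conjNormal_apply γ z
  have hext : ∀ z : G, extendByZero N' ϑ' (cγ z) = extendByZero N' ϑ' z := by
    intro z
    by_cases hz : z ∈ N'
    · have hz' : cγ z ∈ N' := by
        show ((cγ z : G) : Γ) ∈ N
        rw [hcγ_apply]
        exact hN.conj_mem _ hz γ
      rw [extendByZero_of_mem N' ϑ' hz, extendByZero_of_mem N' ϑ' hz']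
      have := hinv γ ⟨(z : Γ), hz⟩
      show (θ : N → ℂ) ⟨((cγ z : G) : Γ), _⟩ = (θ : N → ℂ) ⟨(z : Γ), _⟩
      rw [← this]
      congr 1
    · have hz' : cγ z ∉ N' := by
        intro h
        apply hz
        have h' : ((cγ z : G) : Γ) ∈ N := h
        rw [hcγ_apply] at h'
        have := hN.conj_mem _ h' γ⁻¹
        show (z : Γ) ∈ N
        have e1 : γ⁻¹ * (γ * (z : Γ) * γ⁻¹) * γ⁻¹⁻¹ = (z : Γ) := by group
        rwa [e1] at this
      rw [extendByZero_of_not_mem N' ϑ' hz, extendByZero_of_not_mem N' ϑ' hz']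
  have hind : indFun N' ϑ' (cγ g) = indFun N' ϑ' g := by
    rw [indFun_apply, indFun_apply]
    congr 1
    rw [← Equiv.sum_comp cγ.toEquiv]
    apply Finset.sum_congr rfl
    intro x _
    have : (cγ.toEquiv x)⁻¹ * cγ g * cγ.toEquiv x = cγ (x⁻¹ * g * x) := by
      show (cγ x)⁻¹ * cγ g * cγ x = cγ (x⁻¹ * g * x)
      rw [map_mul, map_mul, map_inv]
    rw [this, hext]
  rw [hram] at hind
  have hind' : (e : ℂ) * (χ : G → ℂ) (cγ g) = (e : ℂ) * (χ : G → ℂ) g := hind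
  have h6 := mul_left_cancel₀ he0 hind'
  have h7 : cγ g = ⟨γ * g * γ⁻¹, hG.conj_mem g g.2 γ⟩ := Subtype.ext (hcγ_apply g)
  rw [← h7]
  exact h6

/-- Coset norm of an extension over a coset of `N` outside `G`. -/
theorem coset_norm (hNG : N ≤ G) {χh : Γ → ℂ} (hχh : IsIrrCharacter Γ χh)
    (hres : IsIrrCharacter G (fun g : G => χh g)) (y : Γ)
    (hfrob : ∀ g : Γ, g ∈ G → y * g * y⁻¹ * g⁻¹ ∈ N → g ∈ N) :
    ∑ n : N, χh ((n : Γ) * y) * conj (χh ((n : Γ) * y)) = (Nat.card N : ℂ) := by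
  have h := (Cfsg.Agent.S0868.result G χh hχh hres χh hχh _ rfl).2.2 rfl
  have h1 : (Nat.card G : ℂ)⁻¹ * ∑ g : G, χh ((g : Γ) * y) * conj (χh ((g : Γ) * y)) = 1 :=
    congrFun h y
  have hG0 : (Nat.card G : ℂ) ≠ 0 := by
    rw [Nat.cast_ne_zero]; exact Nat.card_pos.ne'
  have h2 : ∑ g : G, χh ((g : Γ) * y) * conj (χh ((g : Γ) * y)) = (Nat.card G : ℂ) := by
    have : (Nat.card G : ℂ) * ((Nat.card G : ℂ)⁻¹ *
        ∑ g : G, χh ((g : Γ) * y) * conj (χh ((g : Γ) * y))) = (Nat.card G : ℂ) * 1 := by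
      rw [h1]
    rw [← mul_assoc, mul_inv_cancel₀ hG0, one_mul, mul_one] at this
    exact this
  have hcf := isClassFunction_of_isIrrCharacter hχh
  have hF : IsClassFunction Γ (fun z => χh z * conj (χh z)) := by
    intro g h
    show χh (h * g * h⁻¹) * conj (χh (h * g * h⁻¹)) = _
    rw [hcf g h]
  have h3 := FrobCoset.coset_sum_eq G N hNG y hfrob _ hF
  rw [h2] at h3
  have : (Nat.card G : ℂ) * ∑ n : N, χh ((n : Γ) * y) * conj (χh ((n : Γ) * y)) =
      (Nat.card G : ℂ) * (Nat.card N : ℂ) := by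
    rw [← h3, mul_comm]
  exact mul_left_cancel₀ hG0 this

/-- **Main theorem**: `|Γ : G|` divides `e - 1` or `e + 1`. -/
theorem main (hNG : N ≤ G) (hGlt : G ≠ ⊤) (hcyc : IsCyclic (Γ ⧸ G))
    (hfrob : ∀ x : Γ, x ∉ G → ∀ g : Γ, g ∈ G → x * g * x⁻¹ * g⁻¹ ∈ N → g ∈ N)
    (θ : IrrCharacter N)
    (hinv : ∀ (x : Γ) (n : N), (θ : N → ℂ) ⟨x * n * x⁻¹, hN.conj_mem n n.2 x⟩ = (θ : N → ℂ) n)
    (χ : IrrCharacter G) (e : ℕ)
    (hram : indFun (N.subgroupOf G) (fun n : N.subgroupOf G => (θ : N → ℂ) ⟨(n : G), n.2⟩) =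
      fun g => (e : ℂ) * (χ : G → ℂ) g) :
    (G.index : ℤ) ∣ (e : ℤ) - 1 ∨ (G.index : ℤ) ∣ (e : ℤ) + 1 := by
  classical
  obtain ⟨hχN, hχinv⟩ := ram_facts G N hNG θ hinv χ e hram
  -- the extension of `χ`
  obtain ⟨χh, hχh, hχhext⟩ := Cfsg.Agent.S0886.result G hcyc (χ : G → ℂ) χ.2 hχinv
  have hres : IsIrrCharacter G (fun g : G => χh g) := by
    have : (fun g : G => χh g) = (χ : G → ℂ) := funext hχhext
    rw [this]
    exact χ.2
  -- a generator of `Γ/G`
  obtain ⟨q, hq⟩ := hcyc.exists_generator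
  obtain ⟨x, rfl⟩ := QuotientGroup.mk_surjective q
  have hxG : x ∉ G := by
    intro hx
    apply hGlt
    rw [eq_top_iff]
    intro γ _
    have h1 := hq (γ : Γ ⧸ G)
    rw [(QuotientGroup.eq_one_iff x).mpr hx, Subgroup.zpowers_one_eq_bot, Subgroup.mem_bot] at h1
    exact (QuotientGroup.eq_one_iff γ).mp h1
  -- powers of `x` in `G` lie in `N`
  have hpowN : ∀ j : ℤ, x ^ j ∈ G → x ^ j ∈ N := by
    intro j hj
    apply hfrob x hxG (x ^ j) hj
    have : x * x ^ j * x⁻¹ * (x ^ j)⁻¹ = 1 := by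
      have hc : Commute x (x ^ j) := (Commute.refl x).zpow_right j
      rw [hc.eq]
      group
    rw [this]
    exact N.one_mem
  -- the subgroup `T = N ⟨x⟩`
  set T : Subgroup Γ :=
    (Subgroup.zpowers (QuotientGroup.mk x : Γ ⧸ N)).comap (QuotientGroup.mk' N) with hT
  have hmemT : ∀ t : Γ, t ∈ T ↔ ∃ j : ℤ, (x ^ j)⁻¹ * t ∈ N := by
    intro t
    rw [hT, Subgroup.mem_comap, Subgroup.mem_zpowers_iff]
    constructor
    · rintro ⟨j, hj⟩
      refine ⟨j, ?_⟩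
      rw [← QuotientGroup.eq]
      rw [QuotientGroup.mk_zpow]
      exact hj
    · rintro ⟨j, hj⟩
      refine ⟨j, ?_⟩
      rw [← QuotientGroup.eq, QuotientGroup.mk_zpow] at hj
      exact hj
  have hNT : N ≤ T := by
    intro n hn
    rw [hmemT]
    exact ⟨0, by simpa using hn⟩
  have hxT : x ∈ T := by
    rw [hmemT]
    exact ⟨1, by simp⟩
  have hTG : ∀ t : Γ, t ∈ T → t ∈ G → t ∈ N := by
    intro t ht htG
    obtain ⟨j, hj⟩ := (hmemT t).mp ht
    have h1 : x ^ j ∈ G := by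
      have : x ^ j = t * ((x ^ j)⁻¹ * t)⁻¹ := by group
      rw [this]
      exact G.mul_mem htG (G.inv_mem (hNG hj))
    have h2 := hpowN j h1
    have : t = x ^ j * ((x ^ j)⁻¹ * t) := by group
    rw [this]
    exact N.mul_mem h2 hj
  have hTsup : T ⊔ G = ⊤ := by
    rw [eq_top_iff]
    intro γ _
    have h1 := hq (γ : Γ ⧸ G)
    rw [Subgroup.mem_zpowers_iff] at h1
    obtain ⟨j, hj⟩ := h1
    rw [← QuotientGroup.mk_zpow, QuotientGroup.eq] at hj
    have : γ = x ^ j * ((x ^ j)⁻¹ * γ) := by group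
    rw [this]
    exact Subgroup.mul_mem_sup (T.zpow_mem hxT j) hj
  -- the index
  set NT : Subgroup T := N.subgroupOf T with hNTdef
  letI : Fintype T := Fintype.ofFinite _
  letI : Fintype NT := Fintype.ofFinite _
  have hidx : NT.index = G.index := by
    show N.relIndex T = G.index
    have h1 : N ⊓ T = G ⊓ T := by
      apply le_antisymm
      · exact inf_le_inf_right T hNG
      · intro t ht
        exact ⟨hTG t ht.2 ht.1, ht.2⟩
    rw [← Subgroup.inf_relIndex_right N T, h1, Subgroup.inf_relIndex_right,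
      ← Subgroup.relIndex_sup_right, hTsup, Subgroup.relIndex_top_right]
  -- `T / N` is cyclic
  have hcycT : IsCyclic (T ⧸ NT) := by
    refine ⟨⟨((⟨x, hxT⟩ : T) : T ⧸ NT), ?_⟩⟩
    intro z
    induction z using QuotientGroup.induction_on with
    | H t =>
      obtain ⟨j, hj⟩ := (hmemT (t : Γ)).mp t.2
      refine ⟨j, ?_⟩
      show ((⟨x, hxT⟩ : T) : T ⧸ NT) ^ j = (t : T ⧸ NT)
      rw [← QuotientGroup.mk_zpow, QuotientGroup.eq]
      show (((⟨x, hxT⟩ : T) ^ j)⁻¹ * t : T).1 ∈ N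
      simpa using hj
  have habT : ∀ a b : T ⧸ NT, a * b = b * a := by
    letI := IsCyclic.commGroup (α := T ⧸ NT)
    exact fun a b => mul_comm a b
  -- the extension of `ϑ` to `T`
  set ϑT : NT → ℂ := fun n : NT => (θ : N → ℂ) ⟨((n : T) : Γ), n.2⟩ with hϑT
  have hϑTirr : IsIrrCharacter NT ϑT := by
    have := isIrrCharacter_comp_equiv (Subgroup.subgroupOfEquivOfLe hNT) θ.2
    exact this
  have hϑTinv : ∀ (t : T) (n : NT), ϑT ⟨t * n * t⁻¹,
      (inferInstance : NT.Normal).conj_mem (n : T) n.2 t⟩ = ϑT n := by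
    intro t n
    have := hinv (t : Γ) ⟨((n : T) : Γ), n.2⟩
    exact this
  obtain ⟨ϑh, hϑh, hϑhext⟩ := Cfsg.Agent.S0886.result NT hcycT ϑT hϑTirr hϑTinv
  have hϑhN : IsIrrCharacter NT (fun n : NT => ϑh n) := by
    have : (fun n : NT => ϑh n) = ϑT := funext hϑhext
    rw [this]
    exact hϑTirr
  -- the restriction of `χh` to `T`
  set ξ : T → ℂ := fun t : T => χh t with hξ
  have hξc : IsCharacter T ξ := isCharacter_restrict T (isCharacter_of_isIrrCharacter hχh)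
  have hξN : ∀ n : NT, ξ n = (e : ℂ) * ϑh n := by
    intro n
    rw [hϑhext n]
    show χh ((n : T) : Γ) = (e : ℂ) * (θ : N → ℂ) ⟨((n : T) : Γ), n.2⟩
    rw [← hχN ⟨((n : T) : Γ), n.2⟩, ← hχhext]
  have hnorm : ∀ t : T, t ∉ NT →
      ∑ n : NT, ξ ((n : T) * t) * conj (ξ ((n : T) * t)) = (Nat.card NT : ℂ) := by
    intro t ht
    have htN : (t : Γ) ∉ N := ht
    have htG : (t : Γ) ∉ G := fun h => htN (hTG t t.2 h)
    have h1 := coset_norm G N hNG hχh hres (t : Γ) (hfrob (t : Γ) htG)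
    have hcard : Nat.card NT = Nat.card N := Nat.card_congr (Subgroup.subgroupOfEquivOfLe hNT).toEquiv
    rw [hcard, ← h1]
    exact Fintype.sum_equiv (Subgroup.subgroupOfEquivOfLe hNT).toEquiv _ _ (fun n => rfl)
  have hm2 : 2 ≤ NT.index := by
    rw [hidx]
    have h0 : G.index ≠ 0 := Subgroup.index_ne_zero_of_finite
    have h1 : G.index ≠ 1 := fun h => hGlt (Subgroup.index_eq_one.mp h)
    omega
  have := RamCyc.main NT habT hm2 hϑh hϑhN hξc e hξN hnorm
  rwa [hidx] at this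

end Cfsg.Agent.Helper24.RamFrob
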