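import Mathlib
import Cfsg.Prelude.Def_Blocks
import Cfsg.Agent.Lib.Helper24.GlaubReal
import Cfsg.Agent.Lib.Helper24.NormalizerAct

/-!
# Equivariance of the relative Glauberman correspondence (helper24's shared library)

The bijection `f` of `S4914` between the `P`-invariant irreducible characters of `K` and of `C` is
characterized by multiplicities modulo `p`; hence it commutes with complex conjugation and with
conjugation by elements normalizing `P`, `K` and `C`.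
-/

set_option autoImplicit false
set_option linter.style.haveILetI false
set_option linter.unusedSectionVars false

namespace Cfsg.Agent.Helper24.RealNorm

open Cfsg Cfsg.Agent.Helper24 Cfsg.Agent.Helper24.Glaub
open scoped ComplexConjugate

universe u

section RelCorr

variable {G : Type u} [Group G] (p : ℕ) [hp : Fact p.Prime] (P K C : Subgroup G) (hCK : C ≤ K)

/-- `P`-invariance of a function on a subgroup. -/
def PInv (H : Subgroup G) (χ : ↥H → ℂ) : Prop :=
  ∀ x ∈ P, ∀ k k' : ↥H, (k' : G) = x * (k : G) * x⁻¹ → χ k' = χ k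

/-- The multiplicity of `ξ` in the restriction of `χ`. -/
noncomputable def innerKC (χ : ↥K → ℂ) (ξ : ↥C → ℂ) : ℂ :=
  (Nat.card ↥C : ℂ)⁻¹ * ∑ᶠ c : ↥C, χ (Subgroup.inclusion hCK c) * (starRingEnd ℂ) (ξ c)

theorem innerKC_eq_sum [Fintype C] (χ : ↥K → ℂ) (ξ : ↥C → ℂ) :
    innerKC K C hCK χ ξ =
      (Nat.card ↥C : ℂ)⁻¹ * ∑ c : ↥C, χ (Subgroup.inclusion hCK c) * conj (ξ c) := by
  unfold innerKC
  rw [finsum_eq_sum_of_fintype]

/-- The defining property of the correspondence. -/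
def IsCorr (f : {χ : IrrCharacter ↥K // PInv P K (χ : ↥K → ℂ)} →
    {ξ : IrrCharacter ↥C // PInv P C (ξ : ↥C → ℂ)}) : Prop :=
  ∀ (χ : {χ : IrrCharacter ↥K // PInv P K (χ : ↥K → ℂ)})
    (ξ : {ξ : IrrCharacter ↥C // PInv P C (ξ : ↥C → ℂ)}),
    ∃ m : ℕ, innerKC K C hCK (χ.1 : ↥K → ℂ) (ξ.1 : ↥C → ℂ) = (m : ℂ) ∧
      (ξ = f χ → ((m : ZMod p) = 1 ∨ (m : ZMod p) = -1)) ∧ (ξ ≠ f χ → p ∣ m)

/-- Transfer principle: maps preserving the multiplicities commute with the correspondence. -/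
theorem corr_transfer (f : {χ : IrrCharacter ↥K // PInv P K (χ : ↥K → ℂ)} →
      {ξ : IrrCharacter ↥C // PInv P C (ξ : ↥C → ℂ)}) (hf : IsCorr p P K C hCK f)
    (TK : {χ : IrrCharacter ↥K // PInv P K (χ : ↥K → ℂ)} →
      {χ : IrrCharacter ↥K // PInv P K (χ : ↥K → ℂ)})
    (TC : {ξ : IrrCharacter ↥C // PInv P C (ξ : ↥C → ℂ)} →
      {ξ : IrrCharacter ↥C // PInv P C (ξ : ↥C → ℂ)})
    (hT : ∀ χ ξ (m : ℕ), innerKC K C hCK (χ.1 : ↥K → ℂ) (ξ.1 : ↥C → ℂ) = (m : ℂ) →
      innerKC K C hCK ((TK χ).1 : ↥K → ℂ) ((TC ξ).1 : ↥C → ℂ) = (m : ℂ))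
    (χ : {χ : IrrCharacter ↥K // PInv P K (χ : ↥K → ℂ)}) : f (TK χ) = TC (f χ) := by
  by_contra hne
  obtain ⟨m, hm, hm1, -⟩ := hf χ (f χ)
  obtain ⟨m', hm', -, hm2'⟩ := hf (TK χ) (TC (f χ))
  have h1 := hT χ (f χ) m hm
  rw [hm'] at h1
  have hmm : m' = m := by exact_mod_cast h1
  have hdvd : p ∣ m := hmm ▸ hm2' (fun h => hne h.symm)
  have h0 : (m : ZMod p) = 0 := (ZMod.natCast_eq_zero_iff m p).mpr hdvd
  rcases hm1 rfl with h | h
  · rw [h0] at h
    exact zero_ne_one h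
  · rw [h0] at h
    have : (1 : ZMod p) = 0 := by
      have := congrArg (fun z => -z) h
      simpa using this.symm
    exact one_ne_zero this

variable [Fintype K] [Fintype C]

/-- Complex conjugation on the invariant characters of `K`. -/
noncomputable def conjIK (χ : {χ : IrrCharacter ↥K // PInv P K (χ : ↥K → ℂ)}) :
    {χ : IrrCharacter ↥K // PInv P K (χ : ↥K → ℂ)} :=
  ⟨conjIrrChar χ.1, fun x hx k k' hk => by
    show conj ((χ.1 : ↥K → ℂ) k') = conj ((χ.1 : ↥K → ℂ) k)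
    rw [χ.2 x hx k k' hk]⟩

/-- Complex conjugation on the invariant characters of `C`. -/
noncomputable def conjIC (ξ : {ξ : IrrCharacter ↥C // PInv P C (ξ : ↥C → ℂ)}) :
    {ξ : IrrCharacter ↥C // PInv P C (ξ : ↥C → ℂ)} :=
  ⟨conjIrrChar ξ.1, fun x hx k k' hk => by
    show conj ((ξ.1 : ↥C → ℂ) k') = conj ((ξ.1 : ↥C → ℂ) k)
    rw [ξ.2 x hx k k' hk]⟩

/-- The correspondence commutes with complex conjugation. -/
theorem corr_conj (f : {χ : IrrCharacter ↥K // PInv P K (χ : ↥K → ℂ)} →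
      {ξ : IrrCharacter ↥C // PInv P C (ξ : ↥C → ℂ)}) (hf : IsCorr p P K C hCK f)
    (χ : {χ : IrrCharacter ↥K // PInv P K (χ : ↥K → ℂ)}) :
    f (conjIK P K χ) = conjIC P C (f χ) := by
  apply corr_transfer p P K C hCK f hf (conjIK P K) (conjIC P C)
  intro χ ξ m hm
  rw [innerKC_eq_sum] at hm ⊢
  have h1 := congrArg conj hm
  rw [Complex.conj_natCast] at h1
  rw [← h1, map_mul, map_inv₀, Complex.conj_natCast, map_sum]
  congr 1
  apply Finset.sum_congr rfl
  intro c _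
  rw [map_mul]
  rfl

/-- `χ` is real iff its correspondent is. -/
theorem corr_real_iff (f : {χ : IrrCharacter ↥K // PInv P K (χ : ↥K → ℂ)} →
      {ξ : IrrCharacter ↥C // PInv P C (ξ : ↥C → ℂ)}) (hf : IsCorr p P K C hCK f)
    (hinj : Function.Injective f)
    (χ : {χ : IrrCharacter ↥K // PInv P K (χ : ↥K → ℂ)}) :
    IsRealFun ((f χ).1 : ↥C → ℂ) ↔ IsRealFun (χ.1 : ↥K → ℂ) := by
  have h := corr_conj p P K C hCK f hf χ
  rw [← conjIrrChar_eq_iff, ← conjIrrChar_eq_iff]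
  constructor
  · intro h1
    have h2 : conjIC P C (f χ) = f χ := Subtype.ext h1
    rw [h2] at h
    exact congrArg Subtype.val (hinj h)
  · intro h1
    have h2 : conjIK P K χ = χ := Subtype.ext h1
    rw [h2] at h
    exact (congrArg Subtype.val h).symm

/-- Conjugation by an element normalizing `P` and `K`, on the invariant characters of `K`. -/
noncomputable def actIK (n : G) (hnP : n ∈ Subgroup.normalizer (P : Set G))
    (hnK : n ∈ Subgroup.normalizer (K : Set G))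
    (χ : {χ : IrrCharacter ↥K // PInv P K (χ : ↥K → ℂ)}) :
    {χ : IrrCharacter ↥K // PInv P K (χ : ↥K → ℂ)} :=
  ⟨⟨(χ.1 : ↥K → ℂ) ∘ normConj K n hnK,
    Cfsg.Agent.Helper5.isIrrCharacter_comp_equiv (normConj K n hnK) χ.1.2⟩, by
    intro x hx k k' hk
    have hx' : n * x * n⁻¹ ∈ P := (Subgroup.mem_normalizer_iff.mp hnP x).mp hx
    apply χ.2 (n * x * n⁻¹) hx'
    show n * (k' : G) * n⁻¹ = n * x * n⁻¹ * (n * (k : G) * n⁻¹) * (n * x * n⁻¹)⁻¹
    rw [hk]; group⟩

theorem actIK_apply (n : G) (hnP : n ∈ Subgroup.normalizer (P : Set G))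
    (hnK : n ∈ Subgroup.normalizer (K : Set G))
    (χ : {χ : IrrCharacter ↥K // PInv P K (χ : ↥K → ℂ)}) (k : ↥K) :
    ((actIK P K n hnP hnK χ).1 : ↥K → ℂ) k = (χ.1 : ↥K → ℂ) (normConj K n hnK k) := rfl

/-- The correspondence commutes with conjugation by elements normalizing `P`, `K` and `C`. -/
theorem corr_act (f : {χ : IrrCharacter ↥K // PInv P K (χ : ↥K → ℂ)} →
      {ξ : IrrCharacter ↥C // PInv P C (ξ : ↥C → ℂ)}) (hf : IsCorr p P K C hCK f)
    (n : G) (hnP : n ∈ Subgroup.normalizer (P : Set G))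
    (hnK : n ∈ Subgroup.normalizer (K : Set G)) (hnC : n ∈ Subgroup.normalizer (C : Set G))
    (χ : {χ : IrrCharacter ↥K // PInv P K (χ : ↥K → ℂ)}) :
    f (actIK P K n hnP hnK χ) = actIK P C n hnP hnC (f χ) := by
  apply corr_transfer p P K C hCK f hf (actIK P K n hnP hnK) (actIK P C n hnP hnC)
  intro χ ξ m hm
  rw [innerKC_eq_sum] at hm ⊢
  rw [← hm]
  congr 1
  apply Fintype.sum_equiv (normConj C n hnC).toEquiv
  intro c
  rfl

end RelCorr

end Cfsg.Agent.Helper24.RealNorm
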