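import Mathlib
import Cfsg.Prelude.Def_Blocks
import Cfsg.Agent.Lib.Helper24.RealBijA
import Cfsg.Agent.Lib.Helper24.RealBijB

/-!
# Auxiliary lemmas for the real bijection with the Sylow normalizer (helper24's shared library)

* `index_modEq_relIndex_normalizer` : for `P ≤ T`, `[G : T] ≡ [N_G(P) : N_T(P)] mod p`;
* `exists_conj_le_inertia_of_not_dvd` : a `p`-subgroup fixes some conjugate of a constituent of the
  restriction of a character of degree prime to `p`;
* `le_inertia_of_normal_of_not_dvd` : a normal `p`-subgroup fixes every such constituent.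
-/

set_option autoImplicit false
set_option linter.style.haveILetI false
set_option linter.unusedSectionVars false

namespace Cfsg.Agent.Helper24.RealNorm

open Cfsg Cfsg.Agent.Helper24 Cfsg.Agent.Helper24.Glaub
open scoped ComplexConjugate

universe u

section Sylow

variable {G : Type u} [Group G] [Finite G]

/-- For a subgroup `T` containing the Sylow subgroup `P`: `[G : T] ≡ [N(P) : T ∩ N(P)] mod p`. -/
theorem index_modEq_relIndex_normalizer (p : ℕ) [Fact p.Prime] (P : Sylow p G) (T : Subgroup G)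
    (hPT : (P : Subgroup G) ≤ T) :
    T.index ≡ T.relIndex (Subgroup.normalizer ((P : Subgroup G) : Set G)) [MOD p] := by
  set N := Subgroup.normalizer ((P : Subgroup G) : Set G) with hN
  have h1 : (T ⊓ N).relIndex T * T.index = (T ⊓ N).index := Subgroup.relIndex_mul_index inf_le_left
  have h2 : (T ⊓ N).relIndex N * N.index = (T ⊓ N).index := Subgroup.relIndex_mul_index inf_le_right
  have h3 : N.index ≡ 1 [MOD p] := by
    have h3' := card_sylow_modEq_one p G
    rw [Sylow.card_eq_index_normalizer P] at h3'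
    exact h3'
  have h4 : (T ⊓ N).relIndex T ≡ 1 [MOD p] := by
    rw [Subgroup.inf_relIndex_left, Subgroup.relIndex, hN, Subgroup.subgroupOf_normalizer_eq hPT]
    have h5 := Sylow.card_eq_index_normalizer (P.subtype hPT)
    have h6 := card_sylow_modEq_one p ↥T
    rw [h5] at h6
    exact h6
  rw [Subgroup.inf_relIndex_right] at h2
  calc T.index = 1 * T.index := (one_mul _).symm
    _ ≡ (T ⊓ N).relIndex T * T.index [MOD p] := Nat.ModEq.mul_right _ h4.symm
    _ = T.relIndex N * N.index := by rw [h1, h2]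
    _ ≡ T.relIndex N * 1 [MOD p] := Nat.ModEq.mul_left _ h3
    _ = T.relIndex N := mul_one _

end Sylow

section Inertia

variable {Γ : Type u} [Group Γ] [Fintype Γ] (p : ℕ) [hp : Fact p.Prime]
  (K : Subgroup Γ) [hKn : K.Normal] [Fintype K]

/-- A `p`-subgroup fixes a conjugate of each constituent of `χ_K` when `p ∤ χ(1)`. -/
theorem exists_conj_le_inertia_of_not_dvd (P : Subgroup Γ) (hP : IsPGroup p P)
    (χ : IrrCharacter Γ) (hdeg : ¬ p ∣ charDegree (χ : Γ → ℂ)) (θ : IrrCharacter K)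
    (hov : classInner (fun n : K => (χ : Γ → ℂ) n) (θ : K → ℂ) ≠ 0) :
    ∃ g : Γ, ∀ u ∈ P, g⁻¹ * u * g ∈ Cfsg.Agent.Helper18.inertia K (θ : K → ℂ) := by
  classical
  letI : Fintype (IrrCharacter K) := irrFintype
  have hd := Cfsg.Agent.Helper18.degree_eq_of_constituent K χ.2 θ.2 hov
  obtain ⟨e, he⟩ := classInner_char_nat
    (isCharacter_restrict K (isCharacter_of_isIrrCharacter χ.2))
    (isCharacter_of_isIrrCharacter θ.2)
  rw [he, irr_one_eq_charDegree χ.2, irr_one_eq_charDegree θ.2] at hd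
  have hd' : charDegree (χ : Γ → ℂ) =
      e * (Cfsg.Agent.Helper18.inertia K (θ : K → ℂ)).index * charDegree (θ : K → ℂ) := by
    exact_mod_cast hd
  have hidx : ¬ p ∣ (Cfsg.Agent.Helper18.inertia K (θ : K → ℂ)).index := by
    intro h
    apply hdeg
    rw [hd']
    exact Dvd.dvd.mul_right (Dvd.dvd.mul_left h e) _
  set T := Cfsg.Agent.Helper18.inertia K (θ : K → ℂ) with hT
  have hfp := hP.nonempty_fixed_point_of_prime_not_dvd_card (Γ ⧸ T) (by
    rw [← Subgroup.index_eq_card]
    exact hidx)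
  obtain ⟨q, hq⟩ := hfp
  obtain ⟨g, rfl⟩ := QuotientGroup.mk_surjective q
  refine ⟨g, fun u hu => ?_⟩
  have h1 := hq ⟨u⁻¹, Subgroup.inv_mem _ hu⟩
  have h2 : ((u⁻¹ * g : Γ) : Γ ⧸ T) = (g : Γ ⧸ T) := h1
  rw [QuotientGroup.eq] at h2
  have e : (u⁻¹ * g)⁻¹ * g = g⁻¹ * u * g := by group
  rw [e] at h2
  exact h2

/-- A normal `p`-subgroup fixes each constituent of `χ_K` when `p ∤ χ(1)`. -/
theorem le_inertia_of_normal_of_not_dvd (P : Subgroup Γ) [hPn : P.Normal] (hP : IsPGroup p P)
    (χ : IrrCharacter Γ) (hdeg : ¬ p ∣ charDegree (χ : Γ → ℂ)) (θ : IrrCharacter K)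
    (hov : classInner (fun n : K => (χ : Γ → ℂ) n) (θ : K → ℂ) ≠ 0) :
    P ≤ Cfsg.Agent.Helper18.inertia K (θ : K → ℂ) := by
  obtain ⟨g, hg⟩ := exists_conj_le_inertia_of_not_dvd p K P hP χ hdeg θ hov
  intro u hu
  have h1 := hg (g * u * g⁻¹) (hPn.conj_mem u hu g)
  have e : g⁻¹ * (g * u * g⁻¹) * g = u := by group
  rwa [e] at h1

end Inertia

end Cfsg.Agent.Helper24.RealNorm
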