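import Mathlib
import Cfsg.Prelude.Def_Blocks
import Cfsg.Agent.Lib.Helper18.CliffordCorr2
import Cfsg.Agent.Lib.Helper18.SigmaOdd2
import Cfsg.Agent.Lib.Helper18.WeightPair
import Cfsg.Agent.Lib.Helper24.CharHom
import Cfsg.Agent.S0868

/-!
# Relative Glauberman correspondence, part A: general character lemmas (helper24)

* `classInner_mul_ext` : Gallagher inner products, `[μ χ₀, ν χ₀] = [μ, ν]` for functions `μ, ν`
  constant on the cosets of a normal subgroup `N` on which `χ₀` restricts irreducibly;
* `exists_deflate_surj` : deflation along a surjective homomorphism;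
* `isIrrCharacter_of_restrict` : a character with an irreducible restriction is irreducible.
-/

set_option autoImplicit false
set_option linter.style.haveILetI false
set_option linter.unusedSectionVars false

namespace Cfsg.Agent.Helper24.RelGlaub

open Cfsg Cfsg.Agent.Helper24 Cfsg.Agent.Helper5 Cfsg.Agent.Helper18
open scoped ComplexConjugate

universe u v

section Gallagher

variable {G : Type u} [Group G] [Fintype G]

/-- **Gallagher inner products**. -/
theorem classInner_mul_ext (N : Subgroup G) [N.Normal] [Fintype N]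
    {χ₀ : G → ℂ} (hχ₀ : IsIrrCharacter G χ₀) (hχ₀N : IsIrrCharacter N (fun n : N => χ₀ n))
    (μ ν : G → ℂ) (hμ : ∀ n ∈ N, ∀ g, μ (n * g) = μ g) (hν : ∀ n ∈ N, ∀ g, ν (n * g) = ν g) :
    classInner (μ * χ₀) (ν * χ₀) = classInner μ ν := by
  classical
  have hη := (Cfsg.Agent.S0868.result N χ₀ hχ₀ hχ₀N χ₀ hχ₀ _ rfl).2.2 rfl
  have hE : ∀ g : G, ∑ n : N, χ₀ ((n : G) * g) * conj (χ₀ ((n : G) * g)) = (Nat.card N : ℂ) := by
    intro g
    have h1 : (Nat.card N : ℂ)⁻¹ * ∑ n : N, χ₀ ((n : G) * g) * conj (χ₀ ((n : G) * g)) = 1 :=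
      congrFun hη g
    have hN0 : (Nat.card N : ℂ) ≠ 0 := by
      exact_mod_cast Nat.card_pos.ne'
    field_simp at h1
    rw [h1]
  unfold classInner
  congr 1
  have hN0 : (Nat.card N : ℂ) ≠ 0 := by
    exact_mod_cast Nat.card_pos.ne'
  have key : (Nat.card N : ℂ) * ∑ g : G, (μ * χ₀) g * conj ((ν * χ₀) g) =
      (Nat.card N : ℂ) * ∑ g : G, μ g * conj (ν g) := by
    have h1 : ∀ n : N, ∑ g : G, (μ * χ₀) g * conj ((ν * χ₀) g) =
        ∑ g : G, μ g * conj (ν g) * (χ₀ ((n : G) * g) * conj (χ₀ ((n : G) * g))) := by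
      intro n
      rw [← Fintype.sum_equiv (Equiv.mulLeft (n : G)) (fun g => (μ * χ₀) ((n : G) * g) *
        conj ((ν * χ₀) ((n : G) * g))) (fun g => (μ * χ₀) g * conj ((ν * χ₀) g))
        (fun g => rfl)]
      refine Finset.sum_congr rfl fun g _ => ?_
      rw [Pi.mul_apply, Pi.mul_apply, hμ n n.2 g, hν n n.2 g, map_mul]
      ring
    calc (Nat.card N : ℂ) * ∑ g : G, (μ * χ₀) g * conj ((ν * χ₀) g)
        = ∑ n : N, ∑ g : G, (μ * χ₀) g * conj ((ν * χ₀) g) := by
          rw [Finset.sum_const, Finset.card_univ, nsmul_eq_mul, Nat.card_eq_fintype_card]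
      _ = ∑ n : N, ∑ g : G, μ g * conj (ν g) * (χ₀ ((n : G) * g) * conj (χ₀ ((n : G) * g))) :=
          Finset.sum_congr rfl fun n _ => h1 n
      _ = ∑ g : G, μ g * conj (ν g) * ∑ n : N, (χ₀ ((n : G) * g) * conj (χ₀ ((n : G) * g))) := by
          rw [Finset.sum_comm]
          refine Finset.sum_congr rfl fun g _ => ?_
          rw [Finset.mul_sum]
      _ = ∑ g : G, μ g * conj (ν g) * (Nat.card N : ℂ) := by
          refine Finset.sum_congr rfl fun g _ => ?_
          rw [hE g]
      _ = (Nat.card N : ℂ) * ∑ g : G, μ g * conj (ν g) := by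
          rw [Finset.mul_sum]
          refine Finset.sum_congr rfl fun g _ => ?_
          ring
  exact mul_left_cancel₀ hN0 key

end Gallagher

section Deflate

variable {H : Type u} [Group H] [Finite H] {H' : Type v} [Group H'] [Finite H']

/-- Deflation along a surjective homomorphism. -/
theorem exists_deflate_surj (f : H →* H') (hf : Function.Surjective f) {χ : H → ℂ}
    (h : IsIrrCharacter H χ) (hker : ∀ x : H, f x = 1 → χ x = χ 1) :
    ∃ ψ : H' → ℂ, IsIrrCharacter H' ψ ∧ χ = ψ ∘ f := by
  obtain ⟨ψ₀, hψ₀, hχ⟩ := exists_deflate f.ker h (fun n hn => hker n (MonoidHom.mem_ker.mp hn))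
  let e : H ⧸ f.ker ≃* H' := QuotientGroup.quotientKerEquivOfSurjective f hf
  refine ⟨ψ₀ ∘ e.symm, isIrrCharacter_comp_equiv e.symm hψ₀, ?_⟩
  funext x
  rw [hχ, Function.comp_apply, Function.comp_apply, Function.comp_apply]
  congr 1
  rw [MulEquiv.eq_symm_apply]
  rfl

end Deflate

section Restrict

variable {G : Type u} [Group G] [Fintype G]

/-- A character whose restriction to a subgroup is irreducible is irreducible. -/
theorem isIrrCharacter_of_restrict (H : Subgroup G) [Fintype H] {χ : G → ℂ}
    (hχ : IsCharacter G χ) (hH : IsIrrCharacter H (fun h : H => χ h)) : IsIrrCharacter G χ := by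
  classical
  have h0 : χ ≠ 0 := by
    intro h
    have h1 : (fun h : H => χ h) 1 = 0 := by rw [h]; rfl
    obtain ⟨d, hd, hd1⟩ := irr_one_eq hH
    have h2 : (fun h : H => χ h) 1 = (d : ℂ) := hd1
    rw [h2] at h1
    have : (d : ℂ) ≠ 0 := by exact_mod_cast hd.ne'
    exact this h1
  letI : Fintype (IrrCharacter H) := irrFintype
  letI : Fintype (IrrCharacter G) := irrFintype
  obtain ⟨ψ, hψ, hc⟩ := exists_constituent hχ h0
  obtain ⟨ρ, hρ, hdec⟩ := exists_add_of_constituent hχ hψ hc
  have hres : (fun h : H => χ h) = (fun h : H => ψ h) + (fun h : H => ρ h) := by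
    funext h; rw [hdec]; rfl
  have hψH : IsCharacter H (fun h : H => ψ h) :=
    isCharacter_restrict H (isCharacter_of_isIrrCharacter hψ)
  have hρH : IsCharacter H (fun h : H => ρ h) := isCharacter_restrict H hρ
  -- norm computation
  have hnorm : classInner (fun h : H => χ h) (fun h : H => χ h) = 1 := by
    rw [irr_orthogonality hH hH, if_pos rfl]
  obtain ⟨a, ha⟩ := classInner_char_nat hψH hψH
  obtain ⟨b, hb⟩ := classInner_char_nat hψH hρH
  obtain ⟨c, hc'⟩ := classInner_char_nat hρH hρH
  have hb' : classInner (fun h : H => ρ h) (fun h : H => ψ h) = b := by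
    rw [classInner_char_comm hρH hψH, hb]
  rw [hres, classInner_add_left, classInner_add_right, classInner_add_right, ha, hb, hb', hc']
    at hnorm
  have hnat : a + b + (b + c) = 1 := by exact_mod_cast hnorm
  have ha0 : a ≠ 0 := by
    rintro rfl
    have h1 : (fun h : H => ψ h) = 0 := by
      by_contra hne
      obtain ⟨φ, hφ, hφc⟩ := exists_constituent hψH hne
      obtain ⟨r, hr, hrdec⟩ := exists_add_of_constituent hψH hφ hφc
      obtain ⟨x, hx⟩ := classInner_char_nat (isCharacter_of_isIrrCharacter hφ) hr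
      obtain ⟨y, hy⟩ := classInner_char_nat hr hr
      have hx' : classInner r φ = x := by
        rw [classInner_char_comm hr (isCharacter_of_isIrrCharacter hφ), hx]
      have h2 := ha
      rw [hrdec, classInner_add_left, classInner_add_right, classInner_add_right,
        irr_orthogonality hφ hφ, if_pos rfl, hx, hx', hy] at h2
      have : 1 + x + (x + y) = 0 := by exact_mod_cast h2
      omega
    have h2 : ψ 1 = 0 := congrFun h1 1
    obtain ⟨d, hd, hd1⟩ := irr_one_eq hψ
    rw [hd1] at h2
    have : (d : ℂ) ≠ 0 := by exact_mod_cast hd.ne'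
    exact this h2
  have hc0 : c = 0 := by omega
  have hρ0 : (fun h : H => ρ h) = 0 := by
    by_contra hne
    obtain ⟨φ, hφ, hφc⟩ := exists_constituent hρH hne
    obtain ⟨r, hr, hrdec⟩ := exists_add_of_constituent hρH hφ hφc
    obtain ⟨x, hx⟩ := classInner_char_nat (isCharacter_of_isIrrCharacter hφ) hr
    obtain ⟨y, hy⟩ := classInner_char_nat hr hr
    have hx' : classInner r φ = x := by
      rw [classInner_char_comm hr (isCharacter_of_isIrrCharacter hφ), hx]
    have h2 := hc'
    rw [hrdec, classInner_add_left, classInner_add_right, classInner_add_right,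
      irr_orthogonality hφ hφ, if_pos rfl, hx, hx', hy, hc0] at h2
    have : 1 + x + (x + y) = 0 := by exact_mod_cast h2
    omega
  have hρ1 : ρ 1 = 0 := congrFun hρ0 1
  have := char_eq_zero_of_one_eq_zero hρ hρ1
  rw [hdec, this, add_zero]
  exact hψ

end Restrict

end Cfsg.Agent.Helper24.RelGlaub
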