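import Mathlib
import Cfsg.Prelude.Def_Blocks
import Cfsg.Agent.Lib.Helper24.RelGlaubA

/-!
# Relative Glauberman correspondence, part B: Clifford correspondents and multiplicities
(helper24)

`G` a finite group, `N ⊴ G`, `θ ∈ Irr(N)` with inertia group `T`, `H` a subgroup containing `N`.
If `χ = ψ^G` with `ψ ∈ Irr(T | θ)` and `ξ = η^H` with `η ∈ Irr(T ∩ H | θ)` then
`[χ_H, ξ] = [ψ_{T ∩ H}, η]` (`mult_eq`).
-/

set_option autoImplicit false
set_option linter.style.haveILetI false
set_option linter.unusedSectionVars false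

namespace Cfsg.Agent.Helper24.RelGlaub

open Cfsg Cfsg.Agent.Helper24 Cfsg.Agent.Helper5 Cfsg.Agent.Helper18
open scoped ComplexConjugate

universe u v

section Mult

variable {G : Type u} [Group G] [Fintype G]

/-- restriction of a function on `T` to `T ∩ H`, read as a subgroup of `H` -/
def resSub (T H : Subgroup G) (f : T → ℂ) : T.subgroupOf H → ℂ :=
  fun d => f ⟨((d : H) : G), Subgroup.mem_subgroupOf.mp d.2⟩

theorem resSub_apply (T H : Subgroup G) (f : T → ℂ) (d : T.subgroupOf H) :
    resSub T H f d = f ⟨((d : H) : G), Subgroup.mem_subgroupOf.mp d.2⟩ := rfl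

theorem resSub_eq_comp (T H : Subgroup G) (f : T → ℂ) :
    resSub T H f = f ∘ (H.subtype.subgroupComap T) := rfl

theorem isCharacter_resSub (T H : Subgroup G) {f : T → ℂ} (hf : IsCharacter T f) :
    IsCharacter (T.subgroupOf H) (resSub T H f) := by
  rw [resSub_eq_comp]
  exact isCharacter_comp _ hf

theorem resSub_add (T H : Subgroup G) (f g : T → ℂ) :
    resSub T H (f + g) = resSub T H f + resSub T H g := rfl

theorem resSub_restrict (T H : Subgroup G) (χ : G → ℂ) :
    resSub T H (fun t : T => χ t) = fun d : T.subgroupOf H => (fun h : H => χ h) d := rfl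

/-- `N.subgroupOf H ≤ T.subgroupOf H` -/
theorem subgroupOf_le_subgroupOf {N T : Subgroup G} (H : Subgroup G) (hNT : N ≤ T) :
    N.subgroupOf H ≤ T.subgroupOf H := fun _ hx => hNT hx

/-- restricting in two steps and reading on `N.subgroupOf H` -/
theorem resFun_resSub (N T H : Subgroup G) (hNT : N ≤ T) (hNH : N ≤ H) (f : T → ℂ) :
    resFun (subgroupOf_le_subgroupOf H hNT) (resSub T H f) = thetaSub N H hNH (resFun hNT f) := by
  funext n
  rfl

/-- **Multiplicities through Clifford correspondents.** -/
theorem mult_eq (N : Subgroup G) [hN : N.Normal] [Fintype N] {θ : N → ℂ}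
    (hθ : IsIrrCharacter N θ) (T : Subgroup G) [Fintype T] (hT : inertia N θ ≤ T)
    (H : Subgroup G) [Fintype H] (hNH : N ≤ H) (hNT : N ≤ T)
    [Fintype (T.subgroupOf H)] [Fintype (N.subgroupOf H)]
    {ψ : T → ℂ} (hψ : IsIrrCharacter T ψ)
    (hψθ : classInner (resFun hNT ψ) θ ≠ 0)
    {η : T.subgroupOf H → ℂ} (hη : IsIrrCharacter (T.subgroupOf H) η)
    (hηθ : classInner (resFun (subgroupOf_le_subgroupOf H hNT) η) (thetaSub N H hNH θ) ≠ 0) :
    classInner (fun h : H => indFun T ψ h) (indFun (T.subgroupOf H) η) =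
      classInner (resSub T H ψ) η := by
  classical
  letI : Fintype (IrrCharacter N) := irrFintype
  letI : Fintype (IrrCharacter T) := irrFintype
  letI : Fintype (IrrCharacter G) := irrFintype
  letI : Fintype (IrrCharacter H) := irrFintype
  letI : Fintype (IrrCharacter (T.subgroupOf H)) := irrFintype
  letI : Fintype (IrrCharacter (N.subgroupOf H)) := irrFintype
  have hθc := isCharacter_of_isIrrCharacter hθ
  have hψc := isCharacter_of_isIrrCharacter hψ
  have hηc := isCharacter_of_isIrrCharacter hη
  obtain ⟨hχ, hmult⟩ := clifford_induce_irr N T hNT hθ hT hψ hψθ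
  obtain ⟨χ, hχdef⟩ : ∃ χ : G → ℂ, χ = indFun T ψ := ⟨_, rfl⟩
  rw [← hχdef] at hχ hmult ⊢
  have hχc := isCharacter_of_isIrrCharacter hχ
  have hχcf := isClassFunction_of_isIrrCharacter hχ
  have hχT : IsCharacter T (fun t : T => χ t) := isCharacter_restrict T hχc
  have hχH : IsCharacter H (fun h : H => χ h) := isCharacter_restrict H hχc
  -- Frobenius reciprocity in `H`
  have hξc : IsCharacter H (indFun (T.subgroupOf H) η) := isCharacter_indFun _ hηc
  have hχHcf : IsClassFunction H (fun h : H => χ h) := by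
    intro g h
    exact hχcf (g : G) (h : G)
  have h1 : classInner (fun h : H => χ h) (indFun (T.subgroupOf H) η) =
      classInner (resSub T H (fun t : T => χ t)) η := by
    rw [classInner_char_comm hχH hξc, frobenius_reciprocity (T.subgroupOf H) η hχHcf,
      classInner_char_comm hηc (isCharacter_restrict _ hχH)]
    rfl
  rw [h1]
  -- decompose `χ_T = ψ + Δ`
  have hχψ : classInner (fun t : T => χ t) ψ ≠ 0 := by
    have h2 : classInner (indFun T ψ) χ = 1 := by
      rw [← hχdef, irr_orthogonality hχ hχ, if_pos rfl]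
    rw [frobenius_reciprocity T ψ hχcf, classInner_char_comm hψc hχT] at h2
    rw [h2]
    exact one_ne_zero
  obtain ⟨Δ, hΔ, hdec⟩ := exists_add_of_constituent hχT hψ hχψ
  have hΔθ : classInner (resFun hNT Δ) θ = 0 := by
    have h3 : (fun n : N => χ n) = resFun hNT ψ + resFun hNT Δ := by
      rw [← resFun_restrict hNT χ, hdec, resFun_add]
    rw [h3, classInner_add_left] at hmult
    exact add_eq_left.mp hmult
  rw [hdec, resSub_add, classInner_add_left]
  suffices h : classInner (resSub T H Δ) η = 0 by rw [h, add_zero]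
  by_contra hne
  obtain ⟨r, hr, hrdec⟩ := exists_add_of_constituent (isCharacter_resSub T H hΔ) hη hne
  have h4 : resFun (subgroupOf_le_subgroupOf H hNT) (resSub T H Δ) =
      resFun (subgroupOf_le_subgroupOf H hNT) η + resFun (subgroupOf_le_subgroupOf H hNT) r := by
    rw [hrdec, resFun_add]
  rw [resFun_resSub N T H hNT hNH Δ] at h4
  have hθH : IsIrrCharacter (N.subgroupOf H) (thetaSub N H hNH θ) :=
    isIrrCharacter_comp_equiv _ hθ
  have h5 : classInner (thetaSub N H hNH (resFun hNT Δ)) (thetaSub N H hNH θ) = 0 := by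
    have : classInner (thetaSub N H hNH (resFun hNT Δ)) (thetaSub N H hNH θ) =
        classInner (resFun hNT Δ) θ :=
      classInner_comp_equiv (Subgroup.subgroupOfEquivOfLe hNH) (resFun hNT Δ) θ
    rw [this, hΔθ]
  rw [h4, classInner_add_left] at h5
  obtain ⟨a, ha⟩ := classInner_char_nat
    (isCharacter_resFun (subgroupOf_le_subgroupOf H hNT) hηc) (isCharacter_of_isIrrCharacter hθH)
  obtain ⟨b, hb⟩ := classInner_char_nat
    (isCharacter_resFun (subgroupOf_le_subgroupOf H hNT) hr) (isCharacter_of_isIrrCharacter hθH)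
  rw [ha, hb] at h5
  have h6 : a + b = 0 := by exact_mod_cast h5
  apply hηθ
  rw [ha]
  have : a = 0 := by omega
  rw [this, Nat.cast_zero]

end Mult

end Cfsg.Agent.Helper24.RelGlaub
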