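import Mathlib
import Cfsg.Prelude.Def_Blocks
import Cfsg.Agent.Lib.Helper24.RelGlaubB
import Cfsg.Agent.Lib.Helper24.GlaubPGroup

/-!
# Relative Glauberman correspondence, part C: actions on subgroups and quotients (helper24)

`φ : A →* MulAut K`.  `IsStable φ H`, the restricted action `resAct`, the quotient action
`quotAct`, the relative fixed points `relFix φ Q` (preimage of `C_{K/Q}(A)`).
-/

set_option autoImplicit false
set_option linter.style.haveILetI false
set_option linter.unusedSectionVars false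

namespace Cfsg.Agent.Helper24.RelGlaub

open Cfsg Cfsg.Agent.Helper24 Cfsg.Agent.Helper5 Cfsg.Agent.Helper18 Cfsg.Agent.Helper24.Glaub
open scoped ComplexConjugate

universe u v

section Actions

variable {K : Type u} [Group K] {A : Type v} [Group A] (φ : A →* MulAut K)

/-- a subgroup stable under the action -/
def IsStable (H : Subgroup K) : Prop := ∀ (a : A) (h : K), h ∈ H → φ a h ∈ H

theorem IsStable.symm_mem {H : Subgroup K} (hH : IsStable φ H) (a : A) {h : K} (hh : h ∈ H) :
    (φ a).symm h ∈ H := by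
  have := hH a⁻¹ h hh
  rwa [map_inv] at this

theorem IsStable.mem_iff {H : Subgroup K} (hH : IsStable φ H) (a : A) (h : K) :
    φ a h ∈ H ↔ h ∈ H := by
  constructor
  · intro hh
    have := hH a⁻¹ _ hh
    rwa [← MulAut.mul_apply, ← map_mul, inv_mul_cancel, map_one, MulAut.one_apply] at this
  · exact hH a h

theorem isStable_inf {H₁ H₂ : Subgroup K} (h₁ : IsStable φ H₁) (h₂ : IsStable φ H₂) :
    IsStable φ (H₁ ⊓ H₂) := fun a h hh => ⟨h₁ a h hh.1, h₂ a h hh.2⟩

/-- The action of `A` on a stable subgroup. -/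
noncomputable def resAct (H : Subgroup K) (hH : IsStable φ H) : A →* MulAut H where
  toFun a :=
    { toFun := fun c => ⟨φ a c, hH a c c.2⟩
      invFun := fun c => ⟨φ a⁻¹ c, hH a⁻¹ c c.2⟩
      left_inv := fun c => by
        apply Subtype.ext
        show φ a⁻¹ (φ a c) = c
        rw [← MulAut.mul_apply, ← map_mul, inv_mul_cancel, map_one, MulAut.one_apply]
      right_inv := fun c => by
        apply Subtype.ext
        show φ a (φ a⁻¹ c) = c
        rw [← MulAut.mul_apply, ← map_mul, mul_inv_cancel, map_one, MulAut.one_apply]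
      map_mul' := fun c d => by
        apply Subtype.ext
        show φ a ((c : K) * d) = φ a c * φ a d
        rw [map_mul] }
  map_one' := by
    apply MulEquiv.ext
    intro c
    apply Subtype.ext
    show φ 1 c = c
    rw [map_one, MulAut.one_apply]
  map_mul' a b := by
    apply MulEquiv.ext
    intro c
    apply Subtype.ext
    show φ (a * b) c = φ a (φ b c)
    rw [map_mul, MulAut.mul_apply]

theorem resAct_apply (H : Subgroup K) (hH : IsStable φ H) (a : A) (c : H) :
    ((resAct φ H hH a c : H) : K) = φ a c := rfl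

theorem map_eq_of_isStable (Q : Subgroup K) (hQ : IsStable φ Q) (a : A) :
    Q.map ((φ a : K ≃* K) : K →* K) = Q := by
  ext x
  rw [Subgroup.mem_map]
  constructor
  · rintro ⟨y, hy, rfl⟩
    exact hQ a y hy
  · intro hx
    refine ⟨(φ a).symm x, hQ.symm_mem φ a hx, ?_⟩
    exact (φ a).apply_symm_apply x

/-- The action of `A` on the quotient by a stable normal subgroup. -/
noncomputable def quotAct (Q : Subgroup K) [Q.Normal] (hQ : IsStable φ Q) : A →* MulAut (K ⧸ Q) where
  toFun a := QuotientGroup.congr Q Q (φ a) (map_eq_of_isStable φ Q hQ a)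
  map_one' := by
    apply MulEquiv.ext
    intro x
    induction x using QuotientGroup.induction_on with
    | H k =>
      rw [QuotientGroup.congr_mk, MulAut.one_apply, map_one, MulAut.one_apply]
  map_mul' a b := by
    apply MulEquiv.ext
    intro x
    induction x using QuotientGroup.induction_on with
    | H k =>
      rw [MulAut.mul_apply, QuotientGroup.congr_mk, QuotientGroup.congr_mk, QuotientGroup.congr_mk,
        map_mul, MulAut.mul_apply]

theorem quotAct_mk (Q : Subgroup K) [Q.Normal] (hQ : IsStable φ Q) (a : A) (k : K) :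
    quotAct φ Q hQ a (k : K ⧸ Q) = ((φ a k : K) : K ⧸ Q) :=
  QuotientGroup.congr_mk Q Q (φ a) (map_eq_of_isStable φ Q hQ a) k

/-- The relative fixed points: the preimage of `C_{K/Q}(A)`. -/
noncomputable def relFix (Q : Subgroup K) [Q.Normal] (hQ : IsStable φ Q) : Subgroup K :=
  (fixedSub (quotAct φ Q hQ)).comap (QuotientGroup.mk' Q)

theorem mem_relFix (Q : Subgroup K) [Q.Normal] (hQ : IsStable φ Q) (k : K) :
    k ∈ relFix φ Q hQ ↔ ∀ a : A, k⁻¹ * φ a k ∈ Q := by
  unfold relFix
  rw [Subgroup.mem_comap, mem_fixedSub]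
  refine forall_congr' fun a => ?_
  rw [QuotientGroup.mk'_apply, quotAct_mk, eq_comm, QuotientGroup.eq]

theorem le_relFix (Q : Subgroup K) [Q.Normal] (hQ : IsStable φ Q) : Q ≤ relFix φ Q hQ := by
  intro q hq
  rw [mem_relFix]
  intro a
  exact Q.mul_mem (Q.inv_mem hq) (hQ a q hq)

theorem isStable_relFix (Q : Subgroup K) [hQn : Q.Normal] (hQ : IsStable φ Q) :
    IsStable φ (relFix φ Q hQ) := by
  intro a k hk
  rw [mem_relFix] at hk ⊢
  intro b
  -- `(φ a k)⁻¹ * φ b (φ a k) = φ a (k⁻¹ * φ (a⁻¹ b a) k)`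
  have h1 := hk (a⁻¹ * b * a)
  have h2 := hQ a _ h1
  have h3 : φ a (k⁻¹ * φ (a⁻¹ * b * a) k) = (φ a k)⁻¹ * φ b (φ a k) := by
    have e1 : a * (a⁻¹ * b * a) = b * a := by group
    have e2 : φ a (φ (a⁻¹ * b * a) k) = φ b (φ a k) := by
      rw [← MulAut.mul_apply, ← map_mul, e1, map_mul, MulAut.mul_apply]
    rw [map_mul, map_inv, e2]
  rwa [h3] at h2

end Actions

end Cfsg.Agent.Helper24.RelGlaub
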