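import Mathlib
import Cfsg.Prelude.Def_Blocks
import Cfsg.Agent.Lib.Helper24.RelGlaubC

/-!
# Relative Glauberman correspondence, part D: invariant constituents (helper24)

`A` a `p`-group acting on `K`, `Q ⊴ K` stable of index prime to `p`.
* `exists_invariant_constituent` : an invariant `χ ∈ Irr(K)` lies over an invariant `θ ∈ Irr(Q)`;
* `isStable_inertia` : the inertia group of an invariant `θ` is stable;
* `exists_relFix_conj` : invariant `K`-conjugates of `θ` are conjugate under the relative fixed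
  points.
-/

set_option autoImplicit false
set_option linter.style.haveILetI false
set_option linter.unusedSectionVars false

namespace Cfsg.Agent.Helper24.RelGlaub

open Cfsg Cfsg.Agent.Helper24 Cfsg.Agent.Helper5 Cfsg.Agent.Helper18 Cfsg.Agent.Helper24.Glaub
open scoped ComplexConjugate

universe u v

section Inv

variable {K : Type u} [Group K] {A : Type v} [Group A] (φ : A →* MulAut K)

theorem isInv_comp_symm {F : K → ℂ} (hF : IsInv φ F) (a : A) (k : K) :
    F ((φ a).symm k) = F k := by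
  have := hF a ((φ a).symm k)
  rw [MulEquiv.apply_symm_apply] at this
  exact this.symm

theorem cf_map_eq (Q : Subgroup K) [hQn : Q.Normal] (hQ : IsStable φ Q) {θ : Q → ℂ}
    (hθinv : IsInv (resAct φ Q hQ) θ) (a : A) (k : K) (n : Q) :
    Helper5.conjFun Q (φ a k) θ (resAct φ Q hQ a n) = Helper5.conjFun Q k θ n := by
  rw [Helper5.conjFun_apply, Helper5.conjFun_apply]
  have h1 : (⟨φ a k * ((resAct φ Q hQ a n : Q) : K) * (φ a k)⁻¹,
      hQn.conj_mem _ (resAct φ Q hQ a n).2 (φ a k)⟩ : Q) =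
      resAct φ Q hQ a ⟨k * n * k⁻¹, hQn.conj_mem n n.2 k⟩ := by
    apply Subtype.ext
    show φ a k * φ a n * (φ a k)⁻¹ = φ a (k * n * k⁻¹)
    rw [map_mul, map_mul, map_inv]
  rw [h1, hθinv]

/-- The inertia group of an invariant character is stable. -/
theorem isStable_inertia (Q : Subgroup K) [hQn : Q.Normal] (hQ : IsStable φ Q) {θ : Q → ℂ}
    (hθinv : IsInv (resAct φ Q hQ) θ) : IsStable φ (inertia Q θ) := by
  intro a t ht
  rw [mem_inertia] at ht ⊢
  funext n
  have h1 := cf_map_eq φ Q hQ hθinv a t ((resAct φ Q hQ a).symm n)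
  rw [MulEquiv.apply_symm_apply, ht] at h1
  rw [h1]
  exact isInv_comp_symm (resAct φ Q hQ) hθinv a n

/-- `φ a k * k⁻¹` lies in the inertia group when `θ` and its `k`-conjugate are invariant. -/
theorem map_mul_inv_mem_inertia (Q : Subgroup K) [hQn : Q.Normal] (hQ : IsStable φ Q)
    {θ : Q → ℂ} (hθinv : IsInv (resAct φ Q hQ) θ) (k : K)
    (hk : IsInv (resAct φ Q hQ) (Helper5.conjFun Q k θ)) (a : A) : φ a k * k⁻¹ ∈ inertia Q θ := by
  rw [mem_inertia]
  have h1 : Helper5.conjFun Q (φ a k) θ = Helper5.conjFun Q k θ := by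
    funext n
    have h2 := cf_map_eq φ Q hQ hθinv a k ((resAct φ Q hQ a).symm n)
    rw [MulEquiv.apply_symm_apply] at h2
    rw [h2]
    exact isInv_comp_symm (resAct φ Q hQ) hk a n
  rw [Helper5.conjFun_mul, h1, Helper5.conjFun_inv_conjFun]

end Inv

section Count

variable {K : Type u} [Group K] [Fintype K] {A : Type v} [Group A] (φ : A →* MulAut K)
variable {p : ℕ} [Fact p.Prime]

/-- **An invariant irreducible character lies over an invariant irreducible character** of a
stable normal subgroup of index prime to `p`. -/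
theorem exists_invariant_constituent (hA : IsPGroup p A) (Q : Subgroup K) [hQn : Q.Normal]
    [Fintype Q] (hQ : IsStable φ Q) (hQi : ¬ p ∣ Q.index) {χ : K → ℂ}
    (hχ : IsIrrCharacter K χ) (hinv : IsInv φ χ) :
    ∃ θ : Q → ℂ, IsIrrCharacter Q θ ∧ IsInv (resAct φ Q hQ) θ ∧
      classInner (fun q : Q => χ q) θ ≠ 0 := by
  classical
  letI : Fintype (IrrCharacter Q) := irrFintype
  letI : Fintype (IrrCharacter K) := irrFintype
  letI := irrAct (resAct φ Q hQ)
  have hχc := isCharacter_of_isIrrCharacter hχ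
  have hχcf := isClassFunction_of_isIrrCharacter hχ
  have hχQ : IsCharacter Q (fun q : Q => χ q) := isCharacter_restrict Q hχc
  -- a first constituent
  have hne : (fun q : Q => χ q) ≠ 0 := by
    intro h
    have h1 : χ 1 = 0 := congrFun h 1
    obtain ⟨d, hd, hd1⟩ := irr_one_eq hχ
    rw [hd1] at h1
    have : (d : ℂ) ≠ 0 := by exact_mod_cast hd.ne'
    exact this h1
  obtain ⟨θ₀, hθ₀, hc₀⟩ := exists_constituent hχQ hne
  -- the predicate
  let P : IrrCharacter Q → Prop := fun θ => classInner (fun q : Q => χ q) (θ : Q → ℂ) ≠ 0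
  have hP : ∀ (a : A) (θ : IrrCharacter Q), P (a • θ) ↔ P θ := by
    intro a θ
    have h1 : classInner (fun q : Q => χ q) ((a • θ : IrrCharacter Q) : Q → ℂ) =
        classInner (fun q : Q => χ q) (θ : Q → ℂ) := by
      have h2 : ((a • θ : IrrCharacter Q) : Q → ℂ) =
          (θ : Q → ℂ) ∘ ((resAct φ Q hQ a).symm : Q ≃* Q) := rfl
      have h3 : (fun q : Q => χ q) = (fun q : Q => χ q) ∘ ((resAct φ Q hQ a).symm : Q ≃* Q) := by
        funext q
        rw [Function.comp_apply]
        have : (((resAct φ Q hQ a).symm q : Q) : K) = (φ a).symm q := by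
          have h4 : φ a (((resAct φ Q hQ a).symm q : Q) : K) = q := by
            rw [← resAct_apply φ Q hQ, MulEquiv.apply_symm_apply]
          rw [← h4, MulEquiv.symm_apply_apply]
        rw [this, isInv_comp_symm φ hinv]
      rw [h2]
      conv_lhs => rw [h3]
      exact classInner_comp_equiv _ _ _
    show classInner _ _ ≠ 0 ↔ classInner _ _ ≠ 0
    rw [h1]
  have hmod := card_filter_modEq_fixedPoints (A := A) (X := IrrCharacter Q) hA P hP
  -- the count
  have hcount : (Finset.univ.filter P).card = (inertia Q θ₀).index := by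
    rw [← card_conjugates Q hθ₀, Set.ncard_eq_toFinset_card']
    congr 1
    ext θ
    simp only [Finset.mem_filter, Finset.mem_univ, true_and, Set.mem_toFinset, Set.mem_ofPred_eq]
    constructor
    · intro h
      exact clifford_conj Q hχ hθ₀ θ.2 hc₀ h
    · rintro ⟨g, hg⟩
      show classInner _ _ ≠ 0
      rw [← hg, classInner_restrict_conjFun Q g hχcf]
      exact hc₀
  have hnd : ¬ p ∣ (Finset.univ.filter P).card := by
    rw [hcount]
    intro hd
    exact hQi (hd.trans (Subgroup.index_dvd_of_le (le_inertia Q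
      (isClassFunction_of_isIrrCharacter hθ₀))))
  have hne' : ((Finset.univ.filter (· ∈ MulAction.fixedPoints A (IrrCharacter Q))).filter
      P).card ≠ 0 := by
    intro h0
    apply hnd
    rw [h0] at hmod
    exact (Nat.modEq_zero_iff_dvd).mp hmod
  obtain ⟨θ, hθ⟩ := Finset.card_pos.mp (Nat.pos_of_ne_zero hne')
  rw [Finset.mem_filter, Finset.mem_filter] at hθ
  exact ⟨θ, θ.2, (mem_fixedPoints_irrAct (resAct φ Q hQ) θ).mp hθ.1.2, hθ.2⟩

/-- **Invariant conjugates are conjugate under the relative fixed points.** -/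
theorem exists_relFix_conj (hA : IsPGroup p A) (Q : Subgroup K) [hQn : Q.Normal]
    (hQ : IsStable φ Q) (hQi : ¬ p ∣ Q.index) {θ : Q → ℂ} (hθ : IsIrrCharacter Q θ)
    (hθinv : IsInv (resAct φ Q hQ) θ) (k : K)
    (hk : IsInv (resAct φ Q hQ) (Helper5.conjFun Q k θ)) :
    ∃ c ∈ relFix φ Q hQ, Helper5.conjFun Q c θ = Helper5.conjFun Q k θ := by
  classical
  letI := actOn (quotAct φ Q hQ)
  set T := inertia Q θ with hT
  have hTst : IsStable φ T := isStable_inertia φ Q hQ hθinv
  have hQT : Q ≤ T := le_inertia Q (isClassFunction_of_isIrrCharacter hθ)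
  set Tb : Subgroup (K ⧸ Q) := T.map (QuotientGroup.mk' Q) with hTb
  have hTb_st : ∀ (a : A) (y : K ⧸ Q), quotAct φ Q hQ a y ∈ Tb ↔ y ∈ Tb := by
    intro a y
    induction y using QuotientGroup.induction_on with
    | H y =>
      rw [quotAct_mk]
      have key : ∀ z : K, ((z : K) : K ⧸ Q) ∈ Tb ↔ z ∈ T := by
        intro z
        rw [hTb, Subgroup.mem_map]
        constructor
        · rintro ⟨t, ht, hte⟩
          rw [QuotientGroup.mk'_apply, QuotientGroup.eq] at hte
          have : z = t * (t⁻¹ * z) := by group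
          rw [this]
          exact T.mul_mem ht (hQT hte)
        · intro hz
          exact ⟨z, hz, rfl⟩
      rw [key, key]
      exact hTst.mem_iff φ a y
  let P : K ⧸ Q → Prop := fun x => x * ((k : K) : K ⧸ Q)⁻¹ ∈ Tb
  have hP : ∀ (a : A) (x : K ⧸ Q), P (a • x) ↔ P x := by
    intro a x
    show quotAct φ Q hQ a x * ((k : K) : K ⧸ Q)⁻¹ ∈ Tb ↔ x * ((k : K) : K ⧸ Q)⁻¹ ∈ Tb
    have h1 : quotAct φ Q hQ a x * ((k : K) : K ⧸ Q)⁻¹ =
        quotAct φ Q hQ a (x * ((k : K) : K ⧸ Q)⁻¹) * (((φ a k * k⁻¹ : K)) : K ⧸ Q) := by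
      rw [map_mul, map_inv, quotAct_mk, QuotientGroup.mk_mul, QuotientGroup.mk_inv]
      group
    have h2 : (((φ a k * k⁻¹ : K)) : K ⧸ Q) ∈ Tb :=
      ⟨_, map_mul_inv_mem_inertia φ Q hQ hθinv k hk a, rfl⟩
    rw [h1, Subgroup.mul_mem_cancel_right _ h2, hTb_st]
  have hmod := card_filter_modEq_fixedPoints (A := A) (X := K ⧸ Q) hA P hP
  have hcount : (Finset.univ.filter P).card = Nat.card Tb := by
    rw [Nat.card_eq_fintype_card, Fintype.card_subtype]
    apply Finset.card_bij' (fun x _ => x * ((k : K) : K ⧸ Q)⁻¹) (fun y _ => y * ((k : K) : K ⧸ Q))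
    · intro x hx
      rw [Finset.mem_filter] at hx ⊢
      exact ⟨Finset.mem_univ _, hx.2⟩
    · intro y hy
      rw [Finset.mem_filter] at hy ⊢
      refine ⟨Finset.mem_univ _, ?_⟩
      show y * ((k : K) : K ⧸ Q) * ((k : K) : K ⧸ Q)⁻¹ ∈ Tb
      rw [mul_inv_cancel_right]
      exact hy.2
    · intro x _
      rw [inv_mul_cancel_right]
    · intro y _
      rw [mul_inv_cancel_right]
  have hnd : ¬ p ∣ (Finset.univ.filter P).card := by
    rw [hcount]
    intro hd
    apply hQi
    rw [Subgroup.index_eq_card]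
    exact hd.trans (Subgroup.card_subgroup_dvd_card Tb)
  have hne' : ((Finset.univ.filter (· ∈ MulAction.fixedPoints A (K ⧸ Q))).filter P).card ≠ 0 := by
    intro h0
    apply hnd
    rw [h0] at hmod
    exact (Nat.modEq_zero_iff_dvd).mp hmod
  obtain ⟨x, hx⟩ := Finset.card_pos.mp (Nat.pos_of_ne_zero hne')
  rw [Finset.mem_filter, Finset.mem_filter] at hx
  obtain ⟨-, hxfix⟩ := hx.1
  have hxP : x * ((k : K) : K ⧸ Q)⁻¹ ∈ Tb := hx.2
  induction x using QuotientGroup.induction_on with
  | H c =>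
    refine ⟨c, ?_, ?_⟩
    · unfold relFix
      rw [Subgroup.mem_comap]
      exact (mem_fixedPoints_actOn (quotAct φ Q hQ) _).mp hxfix
    · obtain ⟨t, ht, hte⟩ := hxP
      rw [QuotientGroup.mk'_apply, ← QuotientGroup.mk_inv, ← QuotientGroup.mk_mul,
        QuotientGroup.eq] at hte
      have hck : c * k⁻¹ ∈ T := by
        have : c * k⁻¹ = t * (t⁻¹ * (c * k⁻¹)) := by group
        rw [this]
        exact T.mul_mem ht (hQT hte)
      have h1 : c = c * k⁻¹ * k := by group
      rw [h1, Helper5.conjFun_mul, (mem_inertia Q θ _).mp hck]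

end Count

end Cfsg.Agent.Helper24.RelGlaub
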