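import Mathlib
import Cfsg.Prelude.Def_Blocks
import Cfsg.Agent.Lib.Helper24.RelGlaubD
import Cfsg.Agent.Lib.Helper24.CharAlgebra

/-!
# Relative Glauberman correspondence, part E: Gallagher along a surjection (helper24)

`f : D →* B` surjective, `χ₀ ∈ Irr(D)` restricting irreducibly to `ker f`.  Then
`β ↦ (β ∘ f) * χ₀` is an isometry from class functions of `B`, injective on `Irr(B)`, with image
the irreducible characters of `D` over `χ₀|_{ker f}`.
-/

set_option autoImplicit false
set_option linter.style.haveILetI false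
set_option linter.unusedSectionVars false

namespace Cfsg.Agent.Helper24.RelGlaub

open Cfsg Cfsg.Agent.Helper24 Cfsg.Agent.Helper5 Cfsg.Agent.Helper18 Cfsg.Agent.Helper24.Glaub
open scoped ComplexConjugate

universe u v

section GalSurj

variable {D : Type u} [Group D] [Fintype D] {B : Type u} [Group B] [Fintype B]
variable (f : D →* B) (hf : Function.Surjective f) {χ₀ : D → ℂ} (hχ₀ : IsIrrCharacter D χ₀)
variable (hker : IsIrrCharacter f.ker (fun n : f.ker => χ₀ n))

/-- the twisted pull-back `(β ∘ f) * χ₀` -/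
def tw (f : D →* B) (χ₀ : D → ℂ) (β : B → ℂ) : D → ℂ := fun d => β (f d) * χ₀ d

theorem tw_apply (β : B → ℂ) (d : D) : tw f χ₀ β d = β (f d) * χ₀ d := rfl

include hf hχ₀ hker in
/-- the twisted pull-back is an isometry -/
theorem classInner_tw (μ ν : B → ℂ) :
    classInner (tw f χ₀ μ) (tw f χ₀ ν) = classInner μ ν := by
  letI : Fintype f.ker := Fintype.ofFinite _
  have h1 := classInner_mul_ext f.ker hχ₀ hker (fun d => μ (f d)) (fun d => ν (f d))
    (fun n hn g => by
      show μ (f (n * g)) = μ (f g)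
      rw [map_mul, MonoidHom.mem_ker.mp hn, one_mul])
    (fun n hn g => by
      show ν (f (n * g)) = ν (f g)
      rw [map_mul, MonoidHom.mem_ker.mp hn, one_mul])
  rw [← Cfsg.Agent.Helper18.WeightPair.classInner_comp_surjective f hf μ ν, ← h1]
  rfl

include hχ₀ in
theorem isCharacter_tw {β : B → ℂ} (hβ : IsCharacter B β) : IsCharacter D (tw f χ₀ β) :=
  isCharacter_mul (isCharacter_comp f hβ) (isCharacter_of_isIrrCharacter hχ₀)

include hf hχ₀ hker in
theorem isIrrCharacter_tw {β : B → ℂ} (hβ : IsIrrCharacter B β) :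
    IsIrrCharacter D (tw f χ₀ β) := by
  classical
  letI : Fintype (IrrCharacter B) := irrFintype
  letI : Fintype (IrrCharacter D) := irrFintype
  apply isIrrCharacter_of_classInner_self_eq_one
    (isCharacter_tw f hχ₀ (isCharacter_of_isIrrCharacter hβ))
  rw [classInner_tw f hf hχ₀ hker, irr_orthogonality hβ hβ, if_pos rfl]

include hf hχ₀ hker in
theorem tw_injective {β₁ β₂ : B → ℂ} (h₁ : IsIrrCharacter B β₁) (h₂ : IsIrrCharacter B β₂)
    (h : tw f χ₀ β₁ = tw f χ₀ β₂) : β₁ = β₂ := by
  classical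
  letI : Fintype (IrrCharacter B) := irrFintype
  by_contra hne
  have h3 : classInner (tw f χ₀ β₁) (tw f χ₀ β₂) = 0 := by
    rw [classInner_tw f hf hχ₀ hker, irr_orthogonality h₁ h₂, if_neg hne]
  rw [h, classInner_tw f hf hχ₀ hker, irr_orthogonality h₂ h₂, if_pos rfl] at h3
  exact one_ne_zero h3

include hf hχ₀ hker in
/-- every irreducible character over `χ₀|_{ker f}` is a twisted pull-back -/
theorem exists_tw [Fintype f.ker] {ψ : D → ℂ} (hψ : IsIrrCharacter D ψ)
    (hover : classInner (fun n : f.ker => ψ n) (fun n : f.ker => χ₀ n) ≠ 0) :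
    ∃ β : B → ℂ, IsIrrCharacter B β ∧ ψ = tw f χ₀ β := by
  classical
  have hcf := isClassFunction_of_isIrrCharacter hχ₀
  obtain ⟨γ, hγ, hγker, hψγ⟩ := Cfsg.Agent.Helper18.SigmaOdd.gallagher_surj f.ker hker
    (fun g n => hcf n g) hχ₀ (fun n => rfl) hψ hover
  obtain ⟨β, hβ, hγβ⟩ := exists_deflate_surj f hf hγ
    (fun x hx => hγker x (MonoidHom.mem_ker.mpr hx))
  refine ⟨β, hβ, ?_⟩
  rw [hψγ, hγβ]
  rfl

end GalSurj

end Cfsg.Agent.Helper24.RelGlaub
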