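import Mathlib
import Cfsg.Prelude.Def_Blocks
import Cfsg.Agent.Lib.Helper24.RelGlaubE
import Cfsg.Agent.Lib.Helper24.CoprimeDegree
import Cfsg.Agent.Lib.Helper24.CharIntegral
import Cfsg.Agent.Lib.Helper18.CanonExt
import Cfsg.Agent.S0867

/-!
# Relative Glauberman correspondence, part F: induction and automorphisms, the invariant
canonical extension (helper24)
-/

set_option autoImplicit false
set_option linter.style.haveILetI false
set_option linter.unusedSectionVars false

namespace Cfsg.Agent.Helper24.RelGlaub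

open Cfsg Cfsg.Agent.Helper24 Cfsg.Agent.Helper5 Cfsg.Agent.Helper18 Cfsg.Agent.Helper24.Glaub
open scoped ComplexConjugate

universe u v

section IndAut

variable {G : Type u} [Group G] [Fintype G]

/-- Induction commutes with automorphisms. -/
theorem indFun_comp_aut (T : Subgroup G) (α : G ≃* G) (hα : ∀ t : G, α t ∈ T ↔ t ∈ T)
    (ψ : T → ℂ) :
    (fun g => indFun T ψ (α g)) =
      indFun T (fun t : T => ψ ⟨α t, (hα t).mpr t.2⟩) := by
  classical
  funext g
  rw [indFun_apply, indFun_apply]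
  congr 1
  rw [← Fintype.sum_equiv α.toEquiv (fun y => extendByZero T ψ ((α y)⁻¹ * α g * α y))
    (fun x => extendByZero T ψ (x⁻¹ * α g * x)) (fun y => rfl)]
  refine Finset.sum_congr rfl fun y _ => ?_
  have h1 : (α y)⁻¹ * α g * α y = α (y⁻¹ * g * y) := by
    rw [map_mul, map_mul, map_inv]
  rw [h1]
  by_cases hz : y⁻¹ * g * y ∈ T
  · rw [extendByZero_of_mem T _ ((hα _).mpr hz), extendByZero_of_mem T _ hz]
  · rw [extendByZero_of_not_mem T _ (fun h => hz ((hα _).mp h)), extendByZero_of_not_mem T _ hz]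

end IndAut

section Canon

variable {K : Type u} [Group K] [Fintype K] {A : Type v} [Group A] (φ : A →* MulAut K)
variable {p : ℕ} [Fact p.Prime]

/-- **The invariant canonical extension** of an invariant irreducible character of the stable
normal `p`-subgroup `Q` (of index prime to `p`) to its inertia group. -/
theorem exists_canonical_ext (Q : Subgroup K) [hQn : Q.Normal] [Fintype Q]
    (hQ : IsStable φ Q) (hQp : IsPGroup p Q) (hQi : ¬ p ∣ Q.index) {θ : Q → ℂ}
    (hθ : IsIrrCharacter Q θ) (hθinv : IsInv (resAct φ Q hQ) θ)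
    (hQT : Q ≤ inertia Q θ) :
    ∃ θh : inertia Q θ → ℂ, IsIrrCharacter (inertia Q θ) θh ∧ resFun hQT θh = θ ∧
      IsInv (resAct φ (inertia Q θ) (isStable_inertia φ Q hQ hθinv)) θh := by
  classical
  obtain ⟨T, hTdef⟩ : ∃ T : Subgroup K, T = inertia Q θ := ⟨_, rfl⟩
  have hTst : IsStable φ T := hTdef ▸ isStable_inertia φ Q hQ hθinv
  have hQT' : Q ≤ T := hTdef ▸ hQT
  suffices h : ∃ θh : T → ℂ, IsIrrCharacter T θh ∧ resFun hQT' θh = θ ∧
      IsInv (resAct φ T hTst) θh by
    subst hTdef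
    exact h
  letI : Fintype T := Fintype.ofFinite T
  haveI : (Q.subgroupOf T).Normal := Subgroup.normal_subgroupOf
  set ϑ : Q.subgroupOf T → ℂ := thetaSub Q T hQT' θ with hϑ
  have hϑirr : IsIrrCharacter (Q.subgroupOf T) ϑ := isIrrCharacter_comp_equiv _ hθ
  have hinvT : ∀ (g : T) (n : Q.subgroupOf T),
      ϑ ⟨g * n * g⁻¹, (inferInstance : (Q.subgroupOf T).Normal).conj_mem (n : T) n.2 g⟩ = ϑ n := by
    intro g n
    have hg : Helper5.conjFun Q (g : K) θ = θ := by
      have h0 : (g : K) ∈ inertia Q θ := hTdef ▸ g.2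
      exact (mem_inertia Q θ _).mp h0
    have h1 := congrFun hg ⟨((n : T) : K), Subgroup.mem_subgroupOf.mp n.2⟩
    rw [Helper5.conjFun_apply] at h1
    rw [hϑ, thetaSub_apply, thetaSub_apply]
    exact h1
  obtain ⟨d, hdpos, hd⟩ := irr_one_eq hϑirr
  -- coprimality
  obtain ⟨a, ha⟩ := IsPGroup.iff_card.mp hQp
  have hcardN : Nat.card (Q.subgroupOf T) = p ^ a := by
    rw [← ha]
    exact Nat.card_congr (Subgroup.subgroupOfEquivOfLe hQT').toEquiv
  have hidx : ¬ p ∣ (Q.subgroupOf T).index := by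
    intro h
    apply hQi
    have h1 : (Q.subgroupOf T).index = Q.relIndex T := rfl
    rw [h1] at h
    exact h.trans (Subgroup.relIndex_dvd_index_of_normal Q T)
  have hcopp : Nat.Coprime (Q.subgroupOf T).index p :=
    (Nat.Coprime.symm ((Nat.Prime.coprime_iff_not_dvd (Fact.out : p.Prime)).mpr hidx))
  have hdet : detOrder ϑ ∣ p ^ a := by
    rw [← hcardN]
    exact CopDeg.detOrder_dvd_card' (isCharacter_of_isIrrCharacter hϑirr)
  have hddvd : d ∣ p ^ a := by
    rw [← hcardN, ← charDegree_natCast d hd]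
    exact charDegree_dvd_card hϑirr
  have hcop : Nat.Coprime (Q.subgroupOf T).index (detOrder ϑ * d) := by
    apply Nat.Coprime.mul_right
    · exact Nat.Coprime.coprime_dvd_right hdet (Nat.Coprime.pow_right a hcopp)
    · exact Nat.Coprime.coprime_dvd_right hddvd (Nat.Coprime.pow_right a hcopp)
  obtain ⟨χ, ⟨hχirr, hχext, hχdet⟩, hχuniq⟩ :=
    Cfsg.Agent.S0867.result (Q.subgroupOf T) ϑ hϑirr hinvT d hd hcop
  refine ⟨χ, hχirr, ?_, ?_⟩
  · funext n
    rw [resFun_apply]
    have := hχext ⟨⟨(n : K), hQT' n.2⟩, Subgroup.mem_subgroupOf.mpr n.2⟩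
    rw [hϑ, thetaSub_apply] at this
    exact this
  · intro a' t
    set α : T ≃* T := resAct φ T hTst a' with hα
    have hcomp : IsIrrCharacter T (χ ∘ α) := isIrrCharacter_comp_equiv α hχirr
    have hext' : ∀ n : Q.subgroupOf T, (χ ∘ α) n = ϑ n := by
      intro n
      have hmem : α (n : T) ∈ Q.subgroupOf T := by
        rw [Subgroup.mem_subgroupOf, hα, resAct_apply]
        exact hQ a' _ (Subgroup.mem_subgroupOf.mp n.2)
      have h1 := hχext ⟨α (n : T), hmem⟩
      rw [Function.comp_apply]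
      rw [show χ (α (n : T)) = χ ((⟨α (n : T), hmem⟩ : Q.subgroupOf T) : T) from rfl, h1, hϑ,
        thetaSub_apply, thetaSub_apply]
      exact hθinv a' ⟨((n : T) : K), Subgroup.mem_subgroupOf.mp n.2⟩
    have hdvd : detOrder (χ ∘ α) ∣ detOrder χ :=
      Cfsg.Agent.Helper18.CanonExt.detOrder_comp_dvd (α : T →* T) hχirr hcomp
    have hcop' : Nat.Coprime (Q.subgroupOf T).index (detOrder (χ ∘ α)) := by
      rw [hχdet] at hdvd
      exact Nat.Coprime.coprime_dvd_right (hdvd.trans hdet) (Nat.Coprime.pow_right a hcopp)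
    have := hχuniq (χ ∘ α) hcomp hext' hcop'
    exact congrFun this t

end Canon

end Cfsg.Agent.Helper24.RelGlaub
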