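import Mathlib
import Cfsg.Prelude.Def_Blocks
import Cfsg.Agent.Lib.Helper24.RelGlaubF

/-!
# Relative Glauberman correspondence, part G: the quotient `T / Q`, its fixed points and the
surjection from `T ∩ C` (helper24)
-/

set_option autoImplicit false
set_option linter.style.haveILetI false
set_option linter.unusedSectionVars false

namespace Cfsg.Agent.Helper24.RelGlaub

open Cfsg Cfsg.Agent.Helper24 Cfsg.Agent.Helper5 Cfsg.Agent.Helper18 Cfsg.Agent.Helper24.Glaub
open scoped ComplexConjugate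

universe u v

section Local

variable {K : Type u} [Group K] {A : Type v} [Group A] (φ : A →* MulAut K)
variable (Q : Subgroup K) [hQn : Q.Normal] (hQ : IsStable φ Q)
variable (T : Subgroup K) (hTst : IsStable φ T)

include hQ in
theorem isStable_subgroupOf : IsStable (resAct φ T hTst) (Q.subgroupOf T) := by
  intro a t ht
  rw [Subgroup.mem_subgroupOf] at ht ⊢
  exact hQ a _ ht

/-- the action on `T / (Q ∩ T)` -/
noncomputable def phiB : A →* MulAut (T ⧸ Q.subgroupOf T) :=
  quotAct (resAct φ T hTst) (Q.subgroupOf T) (isStable_subgroupOf φ Q hQ T hTst)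

theorem phiB_mk (a : A) (t : T) :
    phiB φ Q hQ T hTst a (t : T ⧸ Q.subgroupOf T) =
      ((resAct φ T hTst a t : T) : T ⧸ Q.subgroupOf T) :=
  quotAct_mk _ _ _ a t

include hTst in
/-- `T ∩ C` is stable in `C` -/
theorem isStable_subgroupOf_relFix :
    IsStable (resAct φ (relFix φ Q hQ) (isStable_relFix φ Q hQ)) (T.subgroupOf (relFix φ Q hQ)) := by
  intro a c hc
  rw [Subgroup.mem_subgroupOf] at hc ⊢
  exact hTst a _ hc

/-- the action on `T ∩ C` -/
noncomputable def phiTC : A →* MulAut (T.subgroupOf (relFix φ Q hQ)) :=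
  resAct (resAct φ (relFix φ Q hQ) (isStable_relFix φ Q hQ)) (T.subgroupOf (relFix φ Q hQ))
    (isStable_subgroupOf_relFix φ Q hQ T hTst)

theorem phiTC_apply (a : A) (d : T.subgroupOf (relFix φ Q hQ)) :
    (((phiTC φ Q hQ T hTst a d : T.subgroupOf (relFix φ Q hQ)) : relFix φ Q hQ) : K) =
      φ a ((d : relFix φ Q hQ) : K) := rfl

/-- an element of `T ∩ C` read in `T` -/
def toT (d : T.subgroupOf (relFix φ Q hQ)) : T :=
  ⟨((d : relFix φ Q hQ) : K), Subgroup.mem_subgroupOf.mp d.2⟩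

theorem toT_coe (d : T.subgroupOf (relFix φ Q hQ)) :
    ((toT φ Q hQ T d : T) : K) = ((d : relFix φ Q hQ) : K) := rfl

theorem mk_toT_mem_fixedSub (d : T.subgroupOf (relFix φ Q hQ)) :
    ((toT φ Q hQ T d : T) : T ⧸ Q.subgroupOf T) ∈ fixedSub (phiB φ Q hQ T hTst) := by
  rw [mem_fixedSub]
  intro a
  rw [phiB_mk, eq_comm, QuotientGroup.eq, Subgroup.mem_subgroupOf]
  have h1 := (mem_relFix φ Q hQ _).mp (d : relFix φ Q hQ).2 a
  exact h1

/-- the surjection `T ∩ C → C_{T/Q}(A)` -/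
noncomputable def piC :
    T.subgroupOf (relFix φ Q hQ) →* fixedSub (phiB φ Q hQ T hTst) where
  toFun d := ⟨((toT φ Q hQ T d : T) : T ⧸ Q.subgroupOf T), mk_toT_mem_fixedSub φ Q hQ T hTst d⟩
  map_one' := by
    apply Subtype.ext
    rfl
  map_mul' d e := by
    apply Subtype.ext
    rfl

theorem piC_coe (d : T.subgroupOf (relFix φ Q hQ)) :
    ((piC φ Q hQ T hTst d : fixedSub (phiB φ Q hQ T hTst)) : T ⧸ Q.subgroupOf T) =
      ((toT φ Q hQ T d : T) : T ⧸ Q.subgroupOf T) := rfl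

theorem piC_surjective : Function.Surjective (piC φ Q hQ T hTst) := by
  rintro ⟨x, hx⟩
  induction x using QuotientGroup.induction_on with
  | H t =>
    have hC : (t : K) ∈ relFix φ Q hQ := by
      rw [mem_relFix]
      intro a
      have h1 := (mem_fixedSub _ _).mp hx a
      rw [phiB_mk, eq_comm, QuotientGroup.eq, Subgroup.mem_subgroupOf] at h1
      exact h1
    refine ⟨⟨⟨(t : K), hC⟩, Subgroup.mem_subgroupOf.mpr t.2⟩, ?_⟩
    apply Subtype.ext
    rfl

theorem mem_ker_piC (d : T.subgroupOf (relFix φ Q hQ)) :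
    d ∈ (piC φ Q hQ T hTst).ker ↔ ((d : relFix φ Q hQ) : K) ∈ Q := by
  rw [MonoidHom.mem_ker]
  constructor
  · intro h
    have h1 := congrArg Subtype.val h
    rw [piC_coe] at h1
    have h2 : ((toT φ Q hQ T d : T) : T ⧸ Q.subgroupOf T) = 1 := h1
    rw [QuotientGroup.eq_one_iff, Subgroup.mem_subgroupOf] at h2
    exact h2
  · intro h
    apply Subtype.ext
    rw [piC_coe]
    show ((toT φ Q hQ T d : T) : T ⧸ Q.subgroupOf T) = 1
    rw [QuotientGroup.eq_one_iff, Subgroup.mem_subgroupOf]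
    exact h

theorem piC_phiTC (a : A) (d : T.subgroupOf (relFix φ Q hQ)) :
    piC φ Q hQ T hTst (phiTC φ Q hQ T hTst a d) = piC φ Q hQ T hTst d := by
  apply Subtype.ext
  rw [piC_coe, piC_coe]
  have h1 := (mem_fixedSub _ _).mp (piC φ Q hQ T hTst d).2 a
  rw [piC_coe, phiB_mk] at h1
  rw [← h1]
  rfl

theorem mem_ker_mk' (t : T) :
    t ∈ (QuotientGroup.mk' (Q.subgroupOf T)).ker ↔ (t : K) ∈ Q := by
  rw [QuotientGroup.ker_mk', Subgroup.mem_subgroupOf]

end Local

end Cfsg.Agent.Helper24.RelGlaub
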