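import Mathlib
import Cfsg.Prelude.Def_Blocks
import Cfsg.Agent.Lib.Helper24.RelGlaubG

/-!
# Relative Glauberman correspondence, part H: the local correspondences over `θ` (helper24)

`θ ∈ Irr(Q)` invariant, `Q ≤ T` stable, `θh ∈ Irr(T)` an invariant extension of `θ`.
* `psi β = (β ∘ mk) * θh` for `β` a function on `T / Q`;
* `eta β' = (β' ∘ piC) * θh|_{T ∩ C}` for `β'` a function on `C_{T/Q}(A)`.
-/

set_option autoImplicit false
set_option linter.style.haveILetI false
set_option linter.unusedSectionVars false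

namespace Cfsg.Agent.Helper24.RelGlaub

open Cfsg Cfsg.Agent.Helper24 Cfsg.Agent.Helper5 Cfsg.Agent.Helper18 Cfsg.Agent.Helper24.Glaub
open scoped ComplexConjugate

universe u v

section LocalCorr

variable {K : Type u} [Group K] [Fintype K] {A : Type v} [Group A] (φ : A →* MulAut K)
variable (Q : Subgroup K) [hQn : Q.Normal] (hQ : IsStable φ Q)
variable (T : Subgroup K) (hTst : IsStable φ T) (hQT : Q ≤ T)
variable [Fintype Q] [Fintype T]
variable {θ : Q → ℂ} (hθ : IsIrrCharacter Q θ)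
variable {θh : T → ℂ} (hθh : IsIrrCharacter T θh) (hext : resFun hQT θh = θ)

/-- the kernel of `T → T / Q` is `Q` -/
noncomputable def kerEquivT : (QuotientGroup.mk' (Q.subgroupOf T)).ker ≃* Q :=
  (MulEquiv.subgroupCongr (QuotientGroup.ker_mk' (Q.subgroupOf T))).trans
    (Subgroup.subgroupOfEquivOfLe hQT)

theorem kerEquivT_coe (n : (QuotientGroup.mk' (Q.subgroupOf T)).ker) :
    ((kerEquivT Q T hQT n : Q) : K) = ((n : T) : K) := rfl

include hθ hext in
theorem isIrr_kerT :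
    IsIrrCharacter (QuotientGroup.mk' (Q.subgroupOf T)).ker
      (fun n : (QuotientGroup.mk' (Q.subgroupOf T)).ker => θh n) := by
  have h1 : (fun n : (QuotientGroup.mk' (Q.subgroupOf T)).ker => θh n) = θ ∘ kerEquivT Q T hQT := by
    funext n
    rw [Function.comp_apply, ← hext, resFun_apply]
    rfl
  rw [h1]
  exact isIrrCharacter_comp_equiv _ hθ

/-- the kernel of `piC` is `Q`, read inside `C` -/
noncomputable def kerEquivC :
    (piC φ Q hQ T hTst).ker ≃* Q.subgroupOf (relFix φ Q hQ) where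
  toFun n := ⟨((n : T.subgroupOf (relFix φ Q hQ)) : relFix φ Q hQ),
    Subgroup.mem_subgroupOf.mpr ((mem_ker_piC φ Q hQ T hTst _).mp n.2)⟩
  invFun q := ⟨⟨(q : relFix φ Q hQ), Subgroup.mem_subgroupOf.mpr
      (hQT (Subgroup.mem_subgroupOf.mp q.2))⟩,
    (mem_ker_piC φ Q hQ T hTst _).mpr (Subgroup.mem_subgroupOf.mp q.2)⟩
  left_inv _ := rfl
  right_inv _ := rfl
  map_mul' _ _ := rfl

theorem kerEquivC_coe (n : (piC φ Q hQ T hTst).ker) :
    ((kerEquivC φ Q hQ T hTst hQT n : Q.subgroupOf (relFix φ Q hQ)) : relFix φ Q hQ) =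
      ((n : T.subgroupOf (relFix φ Q hQ)) : relFix φ Q hQ) := rfl

include hθ hext in
theorem isIrr_kerC :
    IsIrrCharacter (piC φ Q hQ T hTst).ker
      (fun n : (piC φ Q hQ T hTst).ker => resSub T (relFix φ Q hQ) θh n) := by
  have h1 : (fun n : (piC φ Q hQ T hTst).ker => resSub T (relFix φ Q hQ) θh n) =
      (thetaSub Q (relFix φ Q hQ) (le_relFix φ Q hQ) θ) ∘ kerEquivC φ Q hQ T hTst hQT := by
    funext n
    rw [Function.comp_apply, thetaSub_apply, ← hext, resFun_apply, resSub_apply]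
    rfl
  rw [h1]
  exact isIrrCharacter_comp_equiv _ (isIrrCharacter_comp_equiv _ hθ)

include hTst hθ hθh hext in
theorem isIrr_thC [Fintype (T.subgroupOf (relFix φ Q hQ))] :
    IsIrrCharacter (T.subgroupOf (relFix φ Q hQ)) (resSub T (relFix φ Q hQ) θh) := by
  letI : Fintype (piC φ Q hQ T hTst).ker := Fintype.ofFinite _
  exact isIrrCharacter_of_restrict (piC φ Q hQ T hTst).ker
    (isCharacter_resSub T _ (isCharacter_of_isIrrCharacter hθh))
    (isIrr_kerC φ Q hQ T hTst hQT hθ hext)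

/-- the `K`-side twisted pull-back -/
noncomputable def psi (θh : T → ℂ) (β : T ⧸ Q.subgroupOf T → ℂ) : T → ℂ :=
  tw (QuotientGroup.mk' (Q.subgroupOf T)) θh β

/-- the `C`-side twisted pull-back -/
noncomputable def eta (θh : T → ℂ) (β' : fixedSub (phiB φ Q hQ T hTst) → ℂ) :
    T.subgroupOf (relFix φ Q hQ) → ℂ :=
  tw (piC φ Q hQ T hTst) (resSub T (relFix φ Q hQ) θh) β'

theorem resSub_psi (β : T ⧸ Q.subgroupOf T → ℂ) :
    resSub T (relFix φ Q hQ) (psi Q T θh β) =
      eta φ Q hQ T hTst θh (fun c : fixedSub (phiB φ Q hQ T hTst) => β c) := by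
  funext d
  rfl

include hθ hθh hext in
/-- **the multiplicity formula on `T ∩ C`** -/
theorem classInner_resSub_psi_eta [Fintype (T.subgroupOf (relFix φ Q hQ))]
    [Fintype (fixedSub (phiB φ Q hQ T hTst))] (β : T ⧸ Q.subgroupOf T → ℂ)
    (β' : fixedSub (phiB φ Q hQ T hTst) → ℂ) :
    classInner (resSub T (relFix φ Q hQ) (psi Q T θh β)) (eta φ Q hQ T hTst θh β') =
      classInner (fun c : fixedSub (phiB φ Q hQ T hTst) => β c) β' := by
  rw [resSub_psi φ Q hQ T hTst]
  exact classInner_tw (piC φ Q hQ T hTst) (piC_surjective φ Q hQ T hTst)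
    (isIrr_thC φ Q hQ T hTst hQT hθ hθh hext) (isIrr_kerC φ Q hQ T hTst hQT hθ hext) _ _

section KSide

variable [Fintype (T ⧸ Q.subgroupOf T)]

include hθ hθh hext in
theorem isIrr_psi {β : T ⧸ Q.subgroupOf T → ℂ} (hβ : IsIrrCharacter _ β) :
    IsIrrCharacter T (psi Q T θh β) :=
  isIrrCharacter_tw _ (QuotientGroup.mk'_surjective _) hθh (isIrr_kerT Q T hQT hθ hext) hβ

include hθ hθh hext in
theorem psi_injective {β₁ β₂ : T ⧸ Q.subgroupOf T → ℂ} (h₁ : IsIrrCharacter _ β₁)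
    (h₂ : IsIrrCharacter _ β₂) (h : psi Q T θh β₁ = psi Q T θh β₂) : β₁ = β₂ :=
  tw_injective _ (QuotientGroup.mk'_surjective _) hθh (isIrr_kerT Q T hQT hθ hext) h₁ h₂ h

include hext in
theorem resFun_psi (β : T ⧸ Q.subgroupOf T → ℂ) :
    resFun hQT (psi Q T θh β) = β 1 • θ := by
  funext n
  rw [resFun_apply, Pi.smul_apply, smul_eq_mul, ← hext, resFun_apply]
  show β ((⟨(n : K), hQT n.2⟩ : T) : T ⧸ Q.subgroupOf T) * θh _ = _
  congr 2
  rw [QuotientGroup.eq_one_iff, Subgroup.mem_subgroupOf]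
  exact n.2

include hθ hext in
theorem psi_over {β : T ⧸ Q.subgroupOf T → ℂ} (hβ : IsIrrCharacter _ β) :
    classInner (resFun hQT (psi Q T θh β)) θ ≠ 0 := by
  classical
  letI : Fintype (IrrCharacter Q) := irrFintype
  rw [resFun_psi Q T hQT hext, classInner_smul_left, irr_orthogonality hθ hθ, if_pos rfl, mul_one]
  obtain ⟨d, hd, hd1⟩ := irr_one_eq hβ
  rw [hd1]
  exact_mod_cast hd.ne'

include hθ hθh hext in
theorem exists_psi {ψ : T → ℂ} (hψ : IsIrrCharacter T ψ)
    (hover : classInner (resFun hQT ψ) θ ≠ 0) :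
    ∃ β : T ⧸ Q.subgroupOf T → ℂ, IsIrrCharacter _ β ∧ ψ = psi Q T θh β := by
  letI : Fintype (QuotientGroup.mk' (Q.subgroupOf T)).ker := Fintype.ofFinite _
  apply exists_tw _ (QuotientGroup.mk'_surjective _) hθh (isIrr_kerT Q T hQT hθ hext) hψ
  have h1 : (fun n : (QuotientGroup.mk' (Q.subgroupOf T)).ker => ψ n) =
      (resFun hQT ψ) ∘ kerEquivT Q T hQT := by
    funext n
    rfl
  have h2 : (fun n : (QuotientGroup.mk' (Q.subgroupOf T)).ker => θh n) = θ ∘ kerEquivT Q T hQT := by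
    funext n
    rw [Function.comp_apply, ← hext, resFun_apply]
    rfl
  rw [h1, h2, classInner_comp_equiv]
  exact hover

end KSide

end LocalCorr

end Cfsg.Agent.Helper24.RelGlaub
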