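import Mathlib
import Cfsg.Prelude.Def_Blocks
import Cfsg.Agent.Lib.Helper24.RelGlaubH

/-!
# Relative Glauberman correspondence, part I: the `C`-side local correspondence and invariance
(helper24)
-/

set_option autoImplicit false
set_option linter.style.haveILetI false
set_option linter.unusedSectionVars false

namespace Cfsg.Agent.Helper24.RelGlaub

open Cfsg Cfsg.Agent.Helper24 Cfsg.Agent.Helper5 Cfsg.Agent.Helper18 Cfsg.Agent.Helper24.Glaub
open scoped ComplexConjugate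

universe u v

section CSide

variable {K : Type u} [Group K] [Fintype K] {A : Type v} [Group A] (φ : A →* MulAut K)
variable (Q : Subgroup K) [hQn : Q.Normal] (hQ : IsStable φ Q)
variable (T : Subgroup K) (hTst : IsStable φ T) (hQT : Q ≤ T)
variable [Fintype Q] [Fintype T]
variable {θ : Q → ℂ} (hθ : IsIrrCharacter Q θ)
variable {θh : T → ℂ} (hθh : IsIrrCharacter T θh) (hext : resFun hQT θh = θ)
variable [Fintype (T.subgroupOf (relFix φ Q hQ))] [Fintype (fixedSub (phiB φ Q hQ T hTst))]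

include hθ hθh hext in
theorem isIrr_eta {β' : fixedSub (phiB φ Q hQ T hTst) → ℂ} (hβ' : IsIrrCharacter _ β') :
    IsIrrCharacter (T.subgroupOf (relFix φ Q hQ)) (eta φ Q hQ T hTst θh β') :=
  isIrrCharacter_tw _ (piC_surjective φ Q hQ T hTst) (isIrr_thC φ Q hQ T hTst hQT hθ hθh hext)
    (isIrr_kerC φ Q hQ T hTst hQT hθ hext) hβ'

include hθ hθh hext in
theorem eta_injective {β₁ β₂ : fixedSub (phiB φ Q hQ T hTst) → ℂ} (h₁ : IsIrrCharacter _ β₁)
    (h₂ : IsIrrCharacter _ β₂) (h : eta φ Q hQ T hTst θh β₁ = eta φ Q hQ T hTst θh β₂) :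
    β₁ = β₂ :=
  tw_injective _ (piC_surjective φ Q hQ T hTst) (isIrr_thC φ Q hQ T hTst hQT hθ hθh hext)
    (isIrr_kerC φ Q hQ T hTst hQT hθ hext) h₁ h₂ h

include hext in
theorem resFun_eta (β' : fixedSub (phiB φ Q hQ T hTst) → ℂ) :
    resFun (subgroupOf_le_subgroupOf (relFix φ Q hQ) hQT) (eta φ Q hQ T hTst θh β') =
      β' 1 • thetaSub Q (relFix φ Q hQ) (le_relFix φ Q hQ) θ := by
  funext n
  rw [resFun_apply, Pi.smul_apply, smul_eq_mul, thetaSub_apply, ← hext, resFun_apply]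
  show β' (piC φ Q hQ T hTst _) * θh _ = _
  have h1 : piC φ Q hQ T hTst ⟨(n : relFix φ Q hQ),
      subgroupOf_le_subgroupOf (relFix φ Q hQ) hQT n.2⟩ = 1 := by
    rw [← MonoidHom.mem_ker, mem_ker_piC]
    exact Subgroup.mem_subgroupOf.mp n.2
  rw [h1]

include hθ hext in
theorem eta_over [Fintype (Q.subgroupOf (relFix φ Q hQ))]
    {β' : fixedSub (phiB φ Q hQ T hTst) → ℂ} (hβ' : IsIrrCharacter _ β') :
    classInner (resFun (subgroupOf_le_subgroupOf (relFix φ Q hQ) hQT)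
      (eta φ Q hQ T hTst θh β')) (thetaSub Q (relFix φ Q hQ) (le_relFix φ Q hQ) θ) ≠ 0 := by
  classical
  letI : Fintype (IrrCharacter (Q.subgroupOf (relFix φ Q hQ))) := irrFintype
  have hθC : IsIrrCharacter (Q.subgroupOf (relFix φ Q hQ))
      (thetaSub Q (relFix φ Q hQ) (le_relFix φ Q hQ) θ) := isIrrCharacter_comp_equiv _ hθ
  rw [resFun_eta φ Q hQ T hTst hQT hext, classInner_smul_left, irr_orthogonality hθC hθC,
    if_pos rfl, mul_one]
  obtain ⟨d, hd, hd1⟩ := irr_one_eq hβ'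
  rw [hd1]
  exact_mod_cast hd.ne'

include hθ hθh hext in
theorem exists_eta [Fintype (Q.subgroupOf (relFix φ Q hQ))]
    {η : T.subgroupOf (relFix φ Q hQ) → ℂ} (hη : IsIrrCharacter _ η)
    (hover : classInner (resFun (subgroupOf_le_subgroupOf (relFix φ Q hQ) hQT) η)
      (thetaSub Q (relFix φ Q hQ) (le_relFix φ Q hQ) θ) ≠ 0) :
    ∃ β' : fixedSub (phiB φ Q hQ T hTst) → ℂ, IsIrrCharacter _ β' ∧
      η = eta φ Q hQ T hTst θh β' := by
  letI : Fintype (piC φ Q hQ T hTst).ker := Fintype.ofFinite _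
  apply exists_tw _ (piC_surjective φ Q hQ T hTst) (isIrr_thC φ Q hQ T hTst hQT hθ hθh hext)
    (isIrr_kerC φ Q hQ T hTst hQT hθ hext) hη
  have h1 : (fun n : (piC φ Q hQ T hTst).ker => η n) =
      (resFun (subgroupOf_le_subgroupOf (relFix φ Q hQ) hQT) η) ∘
        kerEquivC φ Q hQ T hTst hQT := by
    funext n
    rfl
  have h2 : (fun n : (piC φ Q hQ T hTst).ker => resSub T (relFix φ Q hQ) θh n) =
      (thetaSub Q (relFix φ Q hQ) (le_relFix φ Q hQ) θ) ∘ kerEquivC φ Q hQ T hTst hQT := by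
    funext n
    rw [Function.comp_apply, thetaSub_apply, ← hext, resFun_apply, resSub_apply]
    rfl
  rw [h1, h2, classInner_comp_equiv]
  exact hover

end CSide

section Invariance

variable {K : Type u} [Group K] {A : Type v} [Group A] (φ : A →* MulAut K)
variable (Q : Subgroup K) [hQn : Q.Normal] (hQ : IsStable φ Q)
variable (T : Subgroup K) (hTst : IsStable φ T)
variable {θh : T → ℂ} (hθhinv : IsInv (resAct φ T hTst) θh)

include hθhinv in
theorem eta_inv (β' : fixedSub (phiB φ Q hQ T hTst) → ℂ) :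
    IsInv (phiTC φ Q hQ T hTst) (eta φ Q hQ T hTst θh β') := by
  intro a d
  show β' (piC φ Q hQ T hTst (phiTC φ Q hQ T hTst a d)) *
      resSub T (relFix φ Q hQ) θh (phiTC φ Q hQ T hTst a d) =
    β' (piC φ Q hQ T hTst d) * resSub T (relFix φ Q hQ) θh d
  rw [piC_phiTC]
  congr 1
  exact hθhinv a (toT φ Q hQ T d)

include hθhinv in
theorem psi_inv_of {β : T ⧸ Q.subgroupOf T → ℂ} (hβinv : IsInv (phiB φ Q hQ T hTst) β) :
    IsInv (resAct φ T hTst) (psi Q T θh β) := by
  intro a t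
  show β ((resAct φ T hTst a t : T) : T ⧸ Q.subgroupOf T) * θh (resAct φ T hTst a t) =
    β (t : T ⧸ Q.subgroupOf T) * θh t
  rw [← phiB_mk φ Q hQ T hTst, hβinv, hθhinv]

theorem psi_comp (β : T ⧸ Q.subgroupOf T → ℂ) (a : A) (t : T) (hθhinv : IsInv (resAct φ T hTst) θh) :
    psi Q T θh β (resAct φ T hTst a t) =
      psi Q T θh (fun x => β (phiB φ Q hQ T hTst a x)) t := by
  show β ((resAct φ T hTst a t : T) : T ⧸ Q.subgroupOf T) * θh (resAct φ T hTst a t) =
    β (phiB φ Q hQ T hTst a (t : T ⧸ Q.subgroupOf T)) * θh t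
  rw [← phiB_mk φ Q hQ T hTst, hθhinv]

end Invariance

end Cfsg.Agent.Helper24.RelGlaub
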