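import Mathlib
import Cfsg.Prelude.Def_Blocks
import Cfsg.Agent.Lib.Helper24.RelGlaubI

/-!
# Relative Glauberman correspondence, part J: parametrisation of the characters over `θ`
(helper24)

Over an invariant `θ ∈ Irr(Q)` with stable `T ≥ I_K(θ)` and invariant extension `θh ∈ Irr(T)`:
* invariant `χ ∈ Irr(K | θ)` are `(psi β)^K` for invariant `β ∈ Irr(T/Q)`;
* `ξ ∈ Irr(C | θ)` are `(eta β')^C` for `β' ∈ Irr(C_{T/Q}(A))`;
* `[χ_C, ξ] = [β restricted, β']`.
-/

set_option autoImplicit false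
set_option linter.style.haveILetI false
set_option linter.unusedSectionVars false

namespace Cfsg.Agent.Helper24.RelGlaub

open Cfsg Cfsg.Agent.Helper24 Cfsg.Agent.Helper5 Cfsg.Agent.Helper18 Cfsg.Agent.Helper24.Glaub
open scoped ComplexConjugate

universe u v

section Global

variable {K : Type u} [Group K] [Fintype K] {A : Type v} [Group A] (φ : A →* MulAut K)
variable (Q : Subgroup K) [hQn : Q.Normal] [Fintype Q] (hQ : IsStable φ Q)
variable {θ : Q → ℂ} (hθ : IsIrrCharacter Q θ) (hθinv : IsInv (resAct φ Q hQ) θ)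
variable (T : Subgroup K) [Fintype T] (hT : inertia Q θ ≤ T) (hTst : IsStable φ T) (hQT : Q ≤ T)
variable {θh : T → ℂ} (hθh : IsIrrCharacter T θh) (hext : resFun hQT θh = θ)
variable (hθhinv : IsInv (resAct φ T hTst) θh)
variable [Fintype (T ⧸ Q.subgroupOf T)]

include hθ hT hθh hext in
theorem isIrr_chi {β : T ⧸ Q.subgroupOf T → ℂ} (hβ : IsIrrCharacter _ β) :
    IsIrrCharacter K (indFun T (psi Q T θh β)) :=
  (clifford_induce_irr Q T hQT hθ hT (isIrr_psi Q T hQT hθ hθh hext hβ)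
    (psi_over Q T hQT hθ hext hβ)).1

include hθhinv in
theorem chi_inv {β : T ⧸ Q.subgroupOf T → ℂ} (hβinv : IsInv (phiB φ Q hQ T hTst) β) :
    IsInv φ (indFun T (psi Q T θh β)) := by
  intro a g
  have h1 : indFun T (psi Q T θh β) (φ a g) = _ :=
    congrFun (indFun_comp_aut T (φ a) (fun t => hTst.mem_iff φ a t) (psi Q T θh β)) g
  rw [h1]
  congr 2
  funext t
  exact psi_inv_of φ Q hQ T hTst hθhinv hβinv a t

include hθ hθinv hT hθh hext hθhinv in
/-- the `K`-side parametrisation -/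
theorem exists_beta {χ : K → ℂ} (hχ : IsIrrCharacter K χ) (hχinv : IsInv φ χ)
    (hcon : classInner (fun q : Q => χ q) θ ≠ 0) :
    ∃ β : T ⧸ Q.subgroupOf T → ℂ, IsIrrCharacter _ β ∧ IsInv (phiB φ Q hQ T hTst) β ∧
      χ = indFun T (psi Q T θh β) := by
  classical
  obtain ⟨ψ, hψ, hψθ, hind⟩ := clifford_induce_exists Q T hQT hθ hT hχ hcon
  -- `ψ` is invariant
  have hψinv : IsInv (resAct φ T hTst) ψ := by
    intro a t
    have hirr : IsIrrCharacter T (ψ ∘ (resAct φ T hTst a : T ≃* T)) :=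
      isIrrCharacter_comp_equiv _ hψ
    have hover : classInner (resFun hQT (ψ ∘ (resAct φ T hTst a : T ≃* T))) θ ≠ 0 := by
      have h1 : resFun hQT (ψ ∘ (resAct φ T hTst a : T ≃* T)) =
          (resFun hQT ψ) ∘ (resAct φ Q hQ a : Q ≃* Q) := by
        funext n
        rfl
      have h2 : θ = θ ∘ (resAct φ Q hQ a : Q ≃* Q) := by
        funext n
        exact (hθinv a n).symm
      rw [h1]
      conv_lhs => rw [h2]
      rw [classInner_comp_equiv]
      exact hψθ
    have hind' : indFun T (ψ ∘ (resAct φ T hTst a : T ≃* T)) = indFun T ψ := by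
      have h1 := indFun_comp_aut T (φ a) (fun t => hTst.mem_iff φ a t) ψ
      have h2 : (fun t : T => ψ ⟨φ a t, (hTst.mem_iff φ a t).mpr t.2⟩) =
          ψ ∘ (resAct φ T hTst a : T ≃* T) := by
        funext t
        rfl
      rw [h2] at h1
      rw [← h1, hind]
      funext g
      exact hχinv a g
    have := clifford_induce_inj Q T hQT hθ hT hirr hψ hover hψθ hind'
    exact congrFun this t
  obtain ⟨β, hβ, hψβ⟩ := exists_psi Q T hQT hθ hθh hext hψ hψθ
  refine ⟨β, hβ, ?_, ?_⟩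
  · intro a x
    have hβ' : IsIrrCharacter (T ⧸ Q.subgroupOf T) (β ∘ (phiB φ Q hQ T hTst a : _ ≃* _)) :=
      isIrrCharacter_comp_equiv _ hβ
    have h1 : psi Q T θh (β ∘ (phiB φ Q hQ T hTst a : _ ≃* _)) = psi Q T θh β := by
      funext t
      have h2 := psi_comp φ Q hQ T hTst β a t hθhinv
      have h3 : psi Q T θh β (resAct φ T hTst a t) = psi Q T θh β t := by
        rw [← hψβ]
        exact hψinv a t
      rw [h3] at h2
      exact h2.symm
    have := psi_injective Q T hQT hθ hθh hext hβ' hβ h1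
    exact congrFun this x
  · rw [← hψβ, hind]

end Global

section GlobalC

variable {K : Type u} [Group K] [Fintype K] {A : Type v} [Group A] (φ : A →* MulAut K)
variable (Q : Subgroup K) [hQn : Q.Normal] [Fintype Q] (hQ : IsStable φ Q)
variable {θ : Q → ℂ} (hθ : IsIrrCharacter Q θ) (hθinv : IsInv (resAct φ Q hQ) θ)
variable (T : Subgroup K) [Fintype T] (hT : inertia Q θ ≤ T) (hTst : IsStable φ T) (hQT : Q ≤ T)
variable {θh : T → ℂ} (hθh : IsIrrCharacter T θh) (hext : resFun hQT θh = θ)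
variable (hθhinv : IsInv (resAct φ T hTst) θh)
variable [Fintype (relFix φ Q hQ)] [Fintype (Q.subgroupOf (relFix φ Q hQ))]
variable [Fintype (T.subgroupOf (relFix φ Q hQ))] [Fintype (fixedSub (phiB φ Q hQ T hTst))]

include hT in
theorem inertia_le_subgroupOf :
    inertia (Q.subgroupOf (relFix φ Q hQ)) (thetaSub Q (relFix φ Q hQ) (le_relFix φ Q hQ) θ) ≤
      T.subgroupOf (relFix φ Q hQ) := by
  rw [inertia_thetaSub]
  exact subgroupOf_le_subgroupOf _ hT

include hθ hT hθh hext in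
theorem isIrr_xi {β' : fixedSub (phiB φ Q hQ T hTst) → ℂ} (hβ' : IsIrrCharacter _ β') :
    IsIrrCharacter (relFix φ Q hQ)
      (indFun (T.subgroupOf (relFix φ Q hQ)) (eta φ Q hQ T hTst θh β')) :=
  (clifford_induce_irr (Q.subgroupOf (relFix φ Q hQ)) (T.subgroupOf (relFix φ Q hQ))
    (subgroupOf_le_subgroupOf _ hQT) (isIrrCharacter_comp_equiv _ hθ)
    (inertia_le_subgroupOf φ Q hQ T hT)
    (isIrr_eta φ Q hQ T hTst hQT hθ hθh hext hβ')
    (eta_over φ Q hQ T hTst hQT hθ hext hβ')).1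

include hθhinv in
theorem xi_inv (β' : fixedSub (phiB φ Q hQ T hTst) → ℂ) :
    IsInv (resAct φ (relFix φ Q hQ) (isStable_relFix φ Q hQ))
      (indFun (T.subgroupOf (relFix φ Q hQ)) (eta φ Q hQ T hTst θh β')) := by
  intro a g
  have hst := isStable_subgroupOf_relFix φ Q hQ T hTst
  have h1 : indFun (T.subgroupOf (relFix φ Q hQ)) (eta φ Q hQ T hTst θh β')
      (resAct φ (relFix φ Q hQ) (isStable_relFix φ Q hQ) a g) = _ :=
    congrFun (indFun_comp_aut (T.subgroupOf (relFix φ Q hQ))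
      (resAct φ (relFix φ Q hQ) (isStable_relFix φ Q hQ) a)
      (fun t => hst.mem_iff _ a t) (eta φ Q hQ T hTst θh β')) g
  rw [h1]
  congr 2
  funext t
  exact eta_inv φ Q hQ T hTst hθhinv β' a t

include hθ hT hθh hext in
/-- the `C`-side parametrisation -/
theorem exists_beta' {ξ : relFix φ Q hQ → ℂ} (hξ : IsIrrCharacter _ ξ)
    (hcon : classInner (fun n : Q.subgroupOf (relFix φ Q hQ) => ξ n)
      (thetaSub Q (relFix φ Q hQ) (le_relFix φ Q hQ) θ) ≠ 0) :
    ∃ β' : fixedSub (phiB φ Q hQ T hTst) → ℂ, IsIrrCharacter _ β' ∧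
      ξ = indFun (T.subgroupOf (relFix φ Q hQ)) (eta φ Q hQ T hTst θh β') := by
  obtain ⟨η, hη, hηθ, hind⟩ := clifford_induce_exists (Q.subgroupOf (relFix φ Q hQ))
    (T.subgroupOf (relFix φ Q hQ)) (subgroupOf_le_subgroupOf _ hQT)
    (isIrrCharacter_comp_equiv _ hθ) (inertia_le_subgroupOf φ Q hQ T hT) hξ hcon
  obtain ⟨β', hβ', hηβ'⟩ := exists_eta φ Q hQ T hTst hQT hθ hθh hext hη hηθ
  exact ⟨β', hβ', by rw [← hηβ', hind]⟩

include hθ hT hθh hext in
theorem xi_injective {β₁ β₂ : fixedSub (phiB φ Q hQ T hTst) → ℂ} (h₁ : IsIrrCharacter _ β₁)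
    (h₂ : IsIrrCharacter _ β₂)
    (h : indFun (T.subgroupOf (relFix φ Q hQ)) (eta φ Q hQ T hTst θh β₁) =
      indFun (T.subgroupOf (relFix φ Q hQ)) (eta φ Q hQ T hTst θh β₂)) : β₁ = β₂ := by
  have := clifford_induce_inj (Q.subgroupOf (relFix φ Q hQ))
    (T.subgroupOf (relFix φ Q hQ)) (subgroupOf_le_subgroupOf _ hQT)
    (isIrrCharacter_comp_equiv _ hθ) (inertia_le_subgroupOf φ Q hQ T hT)
    (isIrr_eta φ Q hQ T hTst hQT hθ hθh hext h₁) (isIrr_eta φ Q hQ T hTst hQT hθ hθh hext h₂)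
    (eta_over φ Q hQ T hTst hQT hθ hext h₁) (eta_over φ Q hQ T hTst hQT hθ hext h₂) h
  exact eta_injective φ Q hQ T hTst hQT hθ hθh hext h₁ h₂ this

include hθ hT hθh hext in
/-- **the global multiplicity formula** -/
theorem mult_chi_xi [Fintype (T ⧸ Q.subgroupOf T)] {β : T ⧸ Q.subgroupOf T → ℂ}
    (hβ : IsIrrCharacter _ β) {β' : fixedSub (phiB φ Q hQ T hTst) → ℂ}
    (hβ' : IsIrrCharacter _ β') :
    classInner (fun c : relFix φ Q hQ => indFun T (psi Q T θh β) c)
      (indFun (T.subgroupOf (relFix φ Q hQ)) (eta φ Q hQ T hTst θh β')) =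
      classInner (fun c : fixedSub (phiB φ Q hQ T hTst) => β c) β' := by
  rw [mult_eq Q hθ T hT (relFix φ Q hQ) (le_relFix φ Q hQ) hQT
    (isIrr_psi Q T hQT hθ hθh hext hβ) (psi_over Q T hQT hθ hext hβ)
    (isIrr_eta φ Q hQ T hTst hQT hθ hθh hext hβ') (eta_over φ Q hQ T hTst hQT hθ hext hβ')]
  exact classInner_resSub_psi_eta φ Q hQ T hTst hQT hθ hθh hext β β'

end GlobalC

end Cfsg.Agent.Helper24.RelGlaub
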