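import Mathlib
import Cfsg.Prelude.Def_Blocks
import Cfsg.Agent.Lib.Helper24.RelGlaubJ

/-!
# Relative Glauberman correspondence, part K: invariant characters of `Q` under characters of `C`
(helper24)
-/

set_option autoImplicit false
set_option linter.style.haveILetI false
set_option linter.unusedSectionVars false

namespace Cfsg.Agent.Helper24.RelGlaub

open Cfsg Cfsg.Agent.Helper24 Cfsg.Agent.Helper5 Cfsg.Agent.Helper18 Cfsg.Agent.Helper24.Glaub
open scoped ComplexConjugate

universe u v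

section Under

variable {K : Type u} [Group K] [Fintype K] {A : Type v} [Group A] (φ : A →* MulAut K)
variable {p : ℕ} [Fact p.Prime]
variable (Q : Subgroup K) [hQn : Q.Normal] [Fintype Q] (hQ : IsStable φ Q)
variable [Fintype (relFix φ Q hQ)] [Fintype (Q.subgroupOf (relFix φ Q hQ))]

theorem isStable_Q_subgroupOf_relFix :
    IsStable (resAct φ (relFix φ Q hQ) (isStable_relFix φ Q hQ))
      (Q.subgroupOf (relFix φ Q hQ)) := by
  intro a c hc
  rw [Subgroup.mem_subgroupOf] at hc ⊢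
  exact hQ a _ hc

/-- an invariant irreducible character of `C` lies over an invariant irreducible character of
`Q` -/
theorem exists_invariant_under_xi (hA : IsPGroup p A) (hQi : ¬ p ∣ Q.index)
    {ξ : relFix φ Q hQ → ℂ} (hξ : IsIrrCharacter _ ξ)
    (hξinv : IsInv (resAct φ (relFix φ Q hQ) (isStable_relFix φ Q hQ)) ξ) :
    ∃ θ : Q → ℂ, IsIrrCharacter Q θ ∧ IsInv (resAct φ Q hQ) θ ∧
      classInner (fun n : Q.subgroupOf (relFix φ Q hQ) => ξ n)
        (thetaSub Q (relFix φ Q hQ) (le_relFix φ Q hQ) θ) ≠ 0 := by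
  classical
  have hQi' : ¬ p ∣ (Q.subgroupOf (relFix φ Q hQ)).index := by
    intro h
    apply hQi
    have h1 : (Q.subgroupOf (relFix φ Q hQ)).index = Q.relIndex (relFix φ Q hQ) := rfl
    rw [h1] at h
    exact h.trans (Subgroup.relIndex_dvd_index_of_normal Q _)
  obtain ⟨θ', hθ', hθ'inv, hcon⟩ := exists_invariant_constituent
    (resAct φ (relFix φ Q hQ) (isStable_relFix φ Q hQ)) hA (Q.subgroupOf (relFix φ Q hQ))
    (isStable_Q_subgroupOf_relFix φ Q hQ) hQi' hξ hξinv
  let e : Q.subgroupOf (relFix φ Q hQ) ≃* Q := Subgroup.subgroupOfEquivOfLe (le_relFix φ Q hQ)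
  refine ⟨θ' ∘ e.symm, isIrrCharacter_comp_equiv e.symm hθ', ?_, ?_⟩
  · intro a n
    rw [Function.comp_apply, Function.comp_apply]
    have h1 : e.symm (resAct φ Q hQ a n) =
        resAct (resAct φ (relFix φ Q hQ) (isStable_relFix φ Q hQ))
          (Q.subgroupOf (relFix φ Q hQ)) (isStable_Q_subgroupOf_relFix φ Q hQ) a (e.symm n) := by
      rw [MulEquiv.symm_apply_eq]
      apply Subtype.ext
      rfl
    rw [h1, hθ'inv]
  · have h1 : thetaSub Q (relFix φ Q hQ) (le_relFix φ Q hQ) (θ' ∘ e.symm) = θ' := by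
      funext n
      show θ' (e.symm (e n)) = θ' n
      rw [MulEquiv.symm_apply_apply]
    rw [h1]
    exact hcon

/-- `thetaSub` commutes with conjugation by elements of `C` -/
theorem thetaSub_conjFun (θ : Q → ℂ) (c : relFix φ Q hQ) :
    thetaSub Q (relFix φ Q hQ) (le_relFix φ Q hQ) (Helper5.conjFun Q (c : K) θ) =
      Helper5.conjFun (Q.subgroupOf (relFix φ Q hQ)) c
        (thetaSub Q (relFix φ Q hQ) (le_relFix φ Q hQ) θ) := by
  funext n
  rfl

/-- an invariant constituent of `χ_C` lies over the chosen invariant `θ` under `χ` -/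
theorem over_of_constituent (hA : IsPGroup p A) (hQi : ¬ p ∣ Q.index)
    {θ : Q → ℂ} (hθ : IsIrrCharacter Q θ) (hθinv : IsInv (resAct φ Q hQ) θ)
    {χ : K → ℂ} (hχ : IsIrrCharacter K χ) (hcon : classInner (fun q : Q => χ q) θ ≠ 0)
    {ξ : relFix φ Q hQ → ℂ} (hξ : IsIrrCharacter _ ξ)
    (hξinv : IsInv (resAct φ (relFix φ Q hQ) (isStable_relFix φ Q hQ)) ξ)
    (hχξ : classInner (fun c : relFix φ Q hQ => χ c) ξ ≠ 0) :
    classInner (fun n : Q.subgroupOf (relFix φ Q hQ) => ξ n)
      (thetaSub Q (relFix φ Q hQ) (le_relFix φ Q hQ) θ) ≠ 0 := by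
  classical
  letI : Fintype (IrrCharacter (relFix φ Q hQ)) := irrFintype
  obtain ⟨θ'', hθ'', hθ''inv, hcon''⟩ := exists_invariant_under_xi φ Q hQ hA hQi hξ hξinv
  have hχc := isCharacter_of_isIrrCharacter hχ
  have hχC : IsCharacter (relFix φ Q hQ) (fun c : relFix φ Q hQ => χ c) :=
    isCharacter_restrict _ hχc
  -- `θ''` lies under `χ`
  obtain ⟨rest, hrest, hdec⟩ := exists_add_of_constituent hχC hξ hχξ
  have hθ''C : IsIrrCharacter (Q.subgroupOf (relFix φ Q hQ))
      (thetaSub Q (relFix φ Q hQ) (le_relFix φ Q hQ) θ'') := isIrrCharacter_comp_equiv _ hθ''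
  have h1 : classInner (fun n : Q.subgroupOf (relFix φ Q hQ) => χ ((n : relFix φ Q hQ) : K))
      (thetaSub Q (relFix φ Q hQ) (le_relFix φ Q hQ) θ'') ≠ 0 := by
    have h2 : (fun n : Q.subgroupOf (relFix φ Q hQ) => χ ((n : relFix φ Q hQ) : K)) =
        (fun n : Q.subgroupOf (relFix φ Q hQ) => ξ n) +
          (fun n : Q.subgroupOf (relFix φ Q hQ) => rest n) := by
      funext n
      have := congrFun hdec (n : relFix φ Q hQ)
      exact this
    rw [h2]
    exact classInner_add_ne_zero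
      (isCharacter_restrict _ (isCharacter_of_isIrrCharacter hξ))
      (isCharacter_restrict _ hrest) (isCharacter_of_isIrrCharacter hθ''C) hcon''
  have h3 : classInner (fun q : Q => χ q) θ'' ≠ 0 := by
    have h4 : classInner (fun n : Q.subgroupOf (relFix φ Q hQ) => χ ((n : relFix φ Q hQ) : K))
        (thetaSub Q (relFix φ Q hQ) (le_relFix φ Q hQ) θ'') = classInner (fun q : Q => χ q) θ'' :=
      classInner_comp_equiv (Subgroup.subgroupOfEquivOfLe (le_relFix φ Q hQ))
        (fun q : Q => χ q) θ''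
    rw [← h4]
    exact h1
  obtain ⟨k, hk⟩ := clifford_conj Q hχ hθ hθ'' hcon h3
  obtain ⟨c, hc, hck⟩ := exists_relFix_conj φ hA Q hQ hQi hθ hθinv k (by rw [hk]; exact hθ''inv)
  rw [hk] at hck
  have h5 := thetaSub_conjFun φ Q hQ θ ⟨c, hc⟩
  rw [hck] at h5
  rw [h5] at hcon''
  rw [classInner_restrict_conjFun (Q.subgroupOf (relFix φ Q hQ)) ⟨c, hc⟩
    (isClassFunction_of_isIrrCharacter hξ)] at hcon''
  exact hcon''

end Under

end Cfsg.Agent.Helper24.RelGlaub
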