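import Mathlib
import Cfsg.Prelude.Def_Blocks
import Cfsg.Agent.Lib.Helper24.RelGlaubK

/-!
# Relative Glauberman correspondence, part L: the multiplicity condition (helper24)

`Good χ ξ`: every invariant `ξ' ∈ Irr(C)` occurs in `χ_C` with multiplicity divisible by `p`,
except `ξ`, which occurs with multiplicity `±1` modulo `p`.
-/

set_option autoImplicit false
set_option linter.style.haveILetI false
set_option linter.unusedSectionVars false

namespace Cfsg.Agent.Helper24.RelGlaub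

open Cfsg Cfsg.Agent.Helper24 Cfsg.Agent.Helper5 Cfsg.Agent.Helper18 Cfsg.Agent.Helper24.Glaub
open scoped ComplexConjugate

universe u v

section GoodDef

variable {K : Type u} [Group K] {A : Type v} [Group A] (φ : A →* MulAut K)
variable (p : ℕ)
variable (Q : Subgroup K) [hQn : Q.Normal] (hQ : IsStable φ Q)
variable [Fintype (relFix φ Q hQ)]

/-- the multiplicity condition -/
def Good (χ : K → ℂ) (ξ : relFix φ Q hQ → ℂ) : Prop :=
  ∀ ξ' : relFix φ Q hQ → ℂ, IsIrrCharacter _ ξ' →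
    IsInv (resAct φ (relFix φ Q hQ) (isStable_relFix φ Q hQ)) ξ' →
    ∃ m : ℕ, classInner (fun c : relFix φ Q hQ => χ c) ξ' = m ∧
      (ξ' = ξ → ((m : ℤ) ≡ 1 [ZMOD p] ∨ (m : ℤ) ≡ -1 [ZMOD p])) ∧ (ξ' ≠ ξ → p ∣ m)

end GoodDef

section GoodData

variable {K : Type u} [Group K] [Fintype K] {A : Type v} [Group A] (φ : A →* MulAut K)
variable {p : ℕ} [Fact p.Prime]
variable (Q : Subgroup K) [hQn : Q.Normal] [Fintype Q] (hQ : IsStable φ Q)
variable {θ : Q → ℂ} (hθ : IsIrrCharacter Q θ) (hθinv : IsInv (resAct φ Q hQ) θ)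
variable (T : Subgroup K) [Fintype T] (hT : inertia Q θ ≤ T) (hTst : IsStable φ T) (hQT : Q ≤ T)
variable {θh : T → ℂ} (hθh : IsIrrCharacter T θh) (hext : resFun hQT θh = θ)
variable (hθhinv : IsInv (resAct φ T hTst) θh)
variable [Fintype (relFix φ Q hQ)] [Fintype (Q.subgroupOf (relFix φ Q hQ))]
variable [Fintype (T.subgroupOf (relFix φ Q hQ))] [Fintype (fixedSub (phiB φ Q hQ T hTst))]
variable [Fintype (T ⧸ Q.subgroupOf T)]

include hθ hθinv hT hθh hext in
/-- **the multiplicity condition from the local data** -/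
theorem good_of_data (hA : IsPGroup p A) (hQi : ¬ p ∣ Q.index)
    (hpB : ¬ p ∣ Nat.card (T ⧸ Q.subgroupOf T))
    (β : IrrCharacter (T ⧸ Q.subgroupOf T)) (hβinv : IsInv (phiB φ Q hQ T hTst) (β : _ → ℂ))
    (β' : IrrCharacter (fixedSub (phiB φ Q hQ T hTst)))
    (hgl : IsGl (phiB φ Q hQ T hTst) p (β : _ → ℂ) (β' : _ → ℂ)) :
    Good φ p Q hQ (indFun T (psi Q T θh (β : _ → ℂ)))
      (indFun (T.subgroupOf (relFix φ Q hQ)) (eta φ Q hQ T hTst θh (β' : _ → ℂ))) := by
  classical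
  letI : Fintype (IrrCharacter (relFix φ Q hQ)) := irrFintype
  have hpp : p.Prime := Fact.out
  have hχ := isIrr_chi Q hθ T hT hQT hθh hext β.2
  have hχθ : classInner (fun q : Q => indFun T (psi Q T θh (β : _ → ℂ)) q) θ ≠ 0 := by
    rw [(clifford_induce_irr Q T hQT hθ hT (isIrr_psi Q T hQT hθ hθh hext β.2)
      (psi_over Q T hQT hθ hext β.2)).2]
    exact psi_over Q T hQT hθ hext β.2
  intro ξ' hξ' hξ'inv
  obtain ⟨m, hm⟩ := classInner_char_nat
    (isCharacter_restrict (relFix φ Q hQ) (isCharacter_of_isIrrCharacter hχ))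
    (isCharacter_of_isIrrCharacter hξ')
  refine ⟨m, hm, ?_, ?_⟩
  · intro heq
    rw [heq, mult_chi_xi φ Q hQ hθ T hT hTst hQT hθh hext β.2 β'.2] at hm
    obtain ⟨m', hm', hpm'⟩ := hgl
    have : m' = m := by
      have h1 : (m' : ℂ) = m := by rw [← hm', ← hm]
      exact_mod_cast h1
    subst this
    exact glauberman_modEq (phiB φ Q hQ T hTst) hpp hA hpB β hβinv β' m' hm hpm'
  · intro hne
    by_cases h0 : classInner (fun c : relFix φ Q hQ =>
        indFun T (psi Q T θh (β : _ → ℂ)) c) ξ' = 0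
    · rw [h0] at hm
      have : m = 0 := by exact_mod_cast hm.symm
      rw [this]
      exact dvd_zero p
    · have hover := over_of_constituent φ Q hQ hA hQi hθ hθinv hχ hχθ hξ' hξ'inv h0
      obtain ⟨β₁, hβ₁, hξβ₁⟩ := exists_beta' φ Q hQ hθ T hT hTst hQT hθh hext hξ' hover
      rw [hξβ₁, mult_chi_xi φ Q hQ hθ T hT hTst hQT hθh hext β.2 hβ₁] at hm
      by_contra hpm
      have hgl₁ : IsGl (phiB φ Q hQ T hTst) p (β : _ → ℂ) β₁ := ⟨m, hm, hpm⟩
      obtain ⟨β₀, -, huniq⟩ := glauberman_existsUnique (phiB φ Q hQ T hTst) hpp hA hpB β hβinv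
      have e1 := huniq ⟨β₁, hβ₁⟩ hgl₁
      have e2 := huniq β' hgl
      apply hne
      rw [hξβ₁]
      have : β₁ = (β' : _ → ℂ) := by
        have := e1.trans e2.symm
        exact congrArg Subtype.val this
      rw [this]

end GoodData

end Cfsg.Agent.Helper24.RelGlaub
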