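import Mathlib
import Cfsg.Prelude.Def_Blocks
import Cfsg.Agent.Lib.Helper24.RelGlaubL

/-!
# Relative Glauberman correspondence, part M: existence, surjectivity and injectivity
(helper24)
-/

set_option autoImplicit false
set_option linter.style.haveILetI false
set_option linter.unusedSectionVars false

namespace Cfsg.Agent.Helper24.RelGlaub

open Cfsg Cfsg.Agent.Helper24 Cfsg.Agent.Helper5 Cfsg.Agent.Helper18 Cfsg.Agent.Helper24.Glaub
open scoped ComplexConjugate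

universe u v

section Main

variable {K : Type u} [Group K] [Fintype K] {A : Type v} [Group A] (φ : A →* MulAut K)
variable {p : ℕ} [Fact p.Prime]
variable (Q : Subgroup K) [hQn : Q.Normal] [Fintype Q] (hQ : IsStable φ Q)
variable [Fintype (relFix φ Q hQ)] [Fintype (Q.subgroupOf (relFix φ Q hQ))]

theorem not_dvd_card_quot (hQi : ¬ p ∣ Q.index) (T : Subgroup K) :
    ¬ p ∣ Nat.card (T ⧸ Q.subgroupOf T) := by
  intro h
  apply hQi
  rw [← Subgroup.index_eq_card] at h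
  have h1 : (Q.subgroupOf T).index = Q.relIndex T := rfl
  rw [h1] at h
  exact h.trans (Subgroup.relIndex_dvd_index_of_normal Q T)

/-- **existence** -/
theorem exists_good (hA : IsPGroup p A) (hQp : IsPGroup p Q) (hQi : ¬ p ∣ Q.index)
    {χ : K → ℂ} (hχ : IsIrrCharacter K χ) (hχinv : IsInv φ χ) :
    ∃ ξ : relFix φ Q hQ → ℂ, IsIrrCharacter _ ξ ∧
      IsInv (resAct φ (relFix φ Q hQ) (isStable_relFix φ Q hQ)) ξ ∧ Good φ p Q hQ χ ξ := by
  classical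
  have hpp : p.Prime := Fact.out
  obtain ⟨θ, hθ, hθinv, hcon⟩ := exists_invariant_constituent φ hA Q hQ hQi hχ hχinv
  have hQT : Q ≤ inertia Q θ := le_inertia Q (isClassFunction_of_isIrrCharacter hθ)
  obtain ⟨θh, hθh, hext, hθhinv⟩ := exists_canonical_ext φ Q hQ hQp hQi hθ hθinv hQT
  have hTst := isStable_inertia φ Q hQ hθinv
  letI : Fintype (inertia Q θ) := Fintype.ofFinite _
  letI : Fintype ((inertia Q θ) ⧸ Q.subgroupOf (inertia Q θ)) := Fintype.ofFinite _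
  letI : Fintype ((inertia Q θ).subgroupOf (relFix φ Q hQ)) := Fintype.ofFinite _
  letI : Fintype (fixedSub (phiB φ Q hQ (inertia Q θ) hTst)) := Fintype.ofFinite _
  have hpB := not_dvd_card_quot Q hQi (inertia Q θ)
  obtain ⟨β, hβ, hβinv, hχβ⟩ := exists_beta φ Q hQ hθ hθinv (inertia Q θ) le_rfl hTst hQT hθh
    hext hθhinv hχ hχinv hcon
  obtain ⟨β', hgl, -⟩ := glauberman_existsUnique (phiB φ Q hQ (inertia Q θ) hTst) hpp hA hpB
    ⟨β, hβ⟩ hβinv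
  refine ⟨indFun ((inertia Q θ).subgroupOf (relFix φ Q hQ))
    (eta φ Q hQ (inertia Q θ) hTst θh (β' : _ → ℂ)),
    isIrr_xi φ Q hQ hθ (inertia Q θ) le_rfl hTst hQT hθh hext β'.2,
    xi_inv φ Q hQ (inertia Q θ) hTst hθhinv _, ?_⟩
  rw [hχβ]
  exact good_of_data φ Q hQ hθ hθinv (inertia Q θ) le_rfl hTst hQT hθh hext hA hQi hpB ⟨β, hβ⟩
    hβinv β' hgl

/-- **surjectivity** -/
theorem exists_good_surj (hA : IsPGroup p A) (hQp : IsPGroup p Q) (hQi : ¬ p ∣ Q.index)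
    {ξ : relFix φ Q hQ → ℂ} (hξ : IsIrrCharacter _ ξ)
    (hξinv : IsInv (resAct φ (relFix φ Q hQ) (isStable_relFix φ Q hQ)) ξ) :
    ∃ χ : K → ℂ, IsIrrCharacter K χ ∧ IsInv φ χ ∧ Good φ p Q hQ χ ξ := by
  classical
  have hpp : p.Prime := Fact.out
  obtain ⟨θ, hθ, hθinv, hcon⟩ := exists_invariant_under_xi φ Q hQ hA hQi hξ hξinv
  have hQT : Q ≤ inertia Q θ := le_inertia Q (isClassFunction_of_isIrrCharacter hθ)
  obtain ⟨θh, hθh, hext, hθhinv⟩ := exists_canonical_ext φ Q hQ hQp hQi hθ hθinv hQT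
  have hTst := isStable_inertia φ Q hQ hθinv
  letI : Fintype (inertia Q θ) := Fintype.ofFinite _
  letI : Fintype ((inertia Q θ) ⧸ Q.subgroupOf (inertia Q θ)) := Fintype.ofFinite _
  letI : Fintype ((inertia Q θ).subgroupOf (relFix φ Q hQ)) := Fintype.ofFinite _
  letI : Fintype (fixedSub (phiB φ Q hQ (inertia Q θ) hTst)) := Fintype.ofFinite _
  have hpB := not_dvd_card_quot Q hQi (inertia Q θ)
  obtain ⟨β', hβ', hξβ'⟩ := exists_beta' φ Q hQ hθ (inertia Q θ) le_rfl hTst hQT hθh hext hξ hcon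
  obtain ⟨β, hβinv, hgl⟩ := glauberman_surj (phiB φ Q hQ (inertia Q θ) hTst) hpp hA hpB ⟨β', hβ'⟩
  refine ⟨indFun (inertia Q θ) (psi Q (inertia Q θ) θh (β : _ → ℂ)),
    isIrr_chi Q hθ (inertia Q θ) le_rfl hQT hθh hext β.2,
    chi_inv φ Q hQ (inertia Q θ) hTst hθhinv hβinv, ?_⟩
  rw [hξβ']
  exact good_of_data φ Q hQ hθ hθinv (inertia Q θ) le_rfl hTst hQT hθh hext hA hQi hpB β
    hβinv ⟨β', hβ'⟩ hgl

/-- a character of `K` with a constituent of its restriction to `C` over `θ` lies over `θ` -/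
theorem under_of_constituent {θ : Q → ℂ} (hθ : IsIrrCharacter Q θ)
    {χ : K → ℂ} (hχ : IsIrrCharacter K χ) {ξ : relFix φ Q hQ → ℂ} (hξ : IsIrrCharacter _ ξ)
    (hχξ : classInner (fun c : relFix φ Q hQ => χ c) ξ ≠ 0)
    (hcon : classInner (fun n : Q.subgroupOf (relFix φ Q hQ) => ξ n)
      (thetaSub Q (relFix φ Q hQ) (le_relFix φ Q hQ) θ) ≠ 0) :
    classInner (fun q : Q => χ q) θ ≠ 0 := by
  classical
  letI : Fintype (IrrCharacter (relFix φ Q hQ)) := irrFintype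
  have hχc := isCharacter_of_isIrrCharacter hχ
  have hχC : IsCharacter (relFix φ Q hQ) (fun c : relFix φ Q hQ => χ c) :=
    isCharacter_restrict _ hχc
  obtain ⟨rest, hrest, hdec⟩ := exists_add_of_constituent hχC hξ hχξ
  have hθC : IsIrrCharacter (Q.subgroupOf (relFix φ Q hQ))
      (thetaSub Q (relFix φ Q hQ) (le_relFix φ Q hQ) θ) := isIrrCharacter_comp_equiv _ hθ
  have h1 : classInner (fun n : Q.subgroupOf (relFix φ Q hQ) => χ ((n : relFix φ Q hQ) : K))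
      (thetaSub Q (relFix φ Q hQ) (le_relFix φ Q hQ) θ) ≠ 0 := by
    have h2 : (fun n : Q.subgroupOf (relFix φ Q hQ) => χ ((n : relFix φ Q hQ) : K)) =
        (fun n : Q.subgroupOf (relFix φ Q hQ) => ξ n) +
          (fun n : Q.subgroupOf (relFix φ Q hQ) => rest n) := by
      funext n
      exact congrFun hdec (n : relFix φ Q hQ)
    rw [h2]
    exact classInner_add_ne_zero
      (isCharacter_restrict _ (isCharacter_of_isIrrCharacter hξ))
      (isCharacter_restrict _ hrest) (isCharacter_of_isIrrCharacter hθC) hcon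
  have h4 : classInner (fun n : Q.subgroupOf (relFix φ Q hQ) => χ ((n : relFix φ Q hQ) : K))
      (thetaSub Q (relFix φ Q hQ) (le_relFix φ Q hQ) θ) = classInner (fun q : Q => χ q) θ :=
    classInner_comp_equiv (Subgroup.subgroupOfEquivOfLe (le_relFix φ Q hQ))
      (fun q : Q => χ q) θ
  rw [← h4]
  exact h1

/-- the multiplicity of the correspondent is prime to `p` -/
theorem Good.not_dvd {χ : K → ℂ} {ξ : relFix φ Q hQ → ℂ} (h : Good φ p Q hQ χ ξ)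
    (hξ : IsIrrCharacter _ ξ)
    (hξinv : IsInv (resAct φ (relFix φ Q hQ) (isStable_relFix φ Q hQ)) ξ) :
    ∃ m : ℕ, classInner (fun c : relFix φ Q hQ => χ c) ξ = m ∧ ¬ p ∣ m ∧
      ((m : ℤ) ≡ 1 [ZMOD p] ∨ (m : ℤ) ≡ -1 [ZMOD p]) := by
  have hpp : p.Prime := Fact.out
  obtain ⟨m, hm, h1, -⟩ := h ξ hξ hξinv
  refine ⟨m, hm, ?_, h1 rfl⟩
  intro hd
  have hd' : (m : ℤ) ≡ 0 [ZMOD p] := by
    rw [Int.modEq_zero_iff_dvd]
    exact_mod_cast hd
  rcases h1 rfl with h2 | h2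
  · have h3 := (hd'.symm.trans h2)
    rw [Int.modEq_iff_dvd] at h3
    have h4 : (p : ℤ) ∣ 1 := by simpa using h3
    have h5 : p ∣ 1 := by exact_mod_cast h4
    exact hpp.one_lt.ne' (Nat.dvd_one.mp h5)
  · have h3 := (hd'.symm.trans h2)
    rw [Int.modEq_iff_dvd] at h3
    have h4 : (p : ℤ) ∣ 1 := by
      have : (-1 : ℤ) - 0 = -1 := by ring
      rw [this] at h3
      exact (dvd_neg.mp h3)
    have h5 : p ∣ 1 := by exact_mod_cast h4
    exact hpp.one_lt.ne' (Nat.dvd_one.mp h5)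

/-- **uniqueness of the correspondent** -/
theorem good_unique {χ : K → ℂ} {ξ₁ ξ₂ : relFix φ Q hQ → ℂ}
    (h₁ : Good φ p Q hQ χ ξ₁) (h₂ : Good φ p Q hQ χ ξ₂)
    (hξ₂ : IsIrrCharacter _ ξ₂)
    (hξ₂inv : IsInv (resAct φ (relFix φ Q hQ) (isStable_relFix φ Q hQ)) ξ₂) : ξ₂ = ξ₁ := by
  by_contra hne
  obtain ⟨m, hm, -, h3⟩ := h₁ ξ₂ hξ₂ hξ₂inv
  obtain ⟨m', hm', hnd, -⟩ := h₂.not_dvd φ Q hQ hξ₂ hξ₂inv
  have : m' = m := by
    have h4 : (m' : ℂ) = m := by rw [← hm', ← hm]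
    exact_mod_cast h4
  subst this
  exact hnd (h3 hne)

/-- **injectivity** -/
theorem good_inj (hA : IsPGroup p A) (hQp : IsPGroup p Q) (hQi : ¬ p ∣ Q.index)
    {χ₁ χ₂ : K → ℂ} (hχ₁ : IsIrrCharacter K χ₁) (hχ₂ : IsIrrCharacter K χ₂)
    (hinv₁ : IsInv φ χ₁) (hinv₂ : IsInv φ χ₂)
    {ξ : relFix φ Q hQ → ℂ} (hξ : IsIrrCharacter _ ξ)
    (hξinv : IsInv (resAct φ (relFix φ Q hQ) (isStable_relFix φ Q hQ)) ξ)
    (h₁ : Good φ p Q hQ χ₁ ξ) (h₂ : Good φ p Q hQ χ₂ ξ) : χ₁ = χ₂ := by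
  classical
  have hpp : p.Prime := Fact.out
  obtain ⟨θ, hθ, hθinv, hcon⟩ := exists_invariant_under_xi φ Q hQ hA hQi hξ hξinv
  have hQT : Q ≤ inertia Q θ := le_inertia Q (isClassFunction_of_isIrrCharacter hθ)
  obtain ⟨θh, hθh, hext, hθhinv⟩ := exists_canonical_ext φ Q hQ hQp hQi hθ hθinv hQT
  have hTst := isStable_inertia φ Q hQ hθinv
  letI : Fintype (inertia Q θ) := Fintype.ofFinite _
  letI : Fintype ((inertia Q θ) ⧸ Q.subgroupOf (inertia Q θ)) := Fintype.ofFinite _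
  letI : Fintype ((inertia Q θ).subgroupOf (relFix φ Q hQ)) := Fintype.ofFinite _
  letI : Fintype (fixedSub (phiB φ Q hQ (inertia Q θ) hTst)) := Fintype.ofFinite _
  have hpB := not_dvd_card_quot Q hQi (inertia Q θ)
  obtain ⟨m₁, hm₁, hnd₁, -⟩ := h₁.not_dvd φ Q hQ hξ hξinv
  obtain ⟨m₂, hm₂, hnd₂, -⟩ := h₂.not_dvd φ Q hQ hξ hξinv
  have hne₁ : classInner (fun c : relFix φ Q hQ => χ₁ c) ξ ≠ 0 := by
    rw [hm₁]
    intro h
    have : m₁ = 0 := by exact_mod_cast h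
    exact hnd₁ (this ▸ dvd_zero p)
  have hne₂ : classInner (fun c : relFix φ Q hQ => χ₂ c) ξ ≠ 0 := by
    rw [hm₂]
    intro h
    have : m₂ = 0 := by exact_mod_cast h
    exact hnd₂ (this ▸ dvd_zero p)
  have hcon₁ := under_of_constituent φ Q hQ hθ hχ₁ hξ hne₁ hcon
  have hcon₂ := under_of_constituent φ Q hQ hθ hχ₂ hξ hne₂ hcon
  obtain ⟨β₁, hβ₁, hβ₁inv, hχβ₁⟩ := exists_beta φ Q hQ hθ hθinv (inertia Q θ) le_rfl hTst hQT hθh
    hext hθhinv hχ₁ hinv₁ hcon₁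
  obtain ⟨β₂, hβ₂, hβ₂inv, hχβ₂⟩ := exists_beta φ Q hQ hθ hθinv (inertia Q θ) le_rfl hTst hQT hθh
    hext hθhinv hχ₂ hinv₂ hcon₂
  obtain ⟨β', hβ', hξβ'⟩ := exists_beta' φ Q hQ hθ (inertia Q θ) le_rfl hTst hQT hθh hext hξ hcon
  rw [hχβ₁, hξβ', mult_chi_xi φ Q hQ hθ (inertia Q θ) le_rfl hTst hQT hθh hext hβ₁ hβ'] at hm₁
  rw [hχβ₂, hξβ', mult_chi_xi φ Q hQ hθ (inertia Q θ) le_rfl hTst hQT hθh hext hβ₂ hβ'] at hm₂
  have hgl₁ : IsGl (phiB φ Q hQ (inertia Q θ) hTst) p β₁ β' := ⟨m₁, hm₁, hnd₁⟩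
  have hgl₂ : IsGl (phiB φ Q hQ (inertia Q θ) hTst) p β₂ β' := ⟨m₂, hm₂, hnd₂⟩
  have := glauberman_inj (phiB φ Q hQ (inertia Q θ) hTst) hpp hA hpB ⟨β₁, hβ₁⟩ ⟨β₂, hβ₂⟩ hβ₁inv
    hβ₂inv ⟨β', hβ'⟩ hgl₁ hgl₂
  have hββ : β₁ = β₂ := congrArg Subtype.val this
  rw [hχβ₁, hχβ₂, hββ]

end Main

end Cfsg.Agent.Helper24.RelGlaub
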