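import Mathlib
import Cfsg.Prelude.Def_Blocks
import Cfsg.Agent.Lib.Helper24.RelGlaubM
import Cfsg.Agent.Lib.Helper24.OrbitSum

/-!
# Relative Glauberman correspondence, part N: degrees and the main theorem (helper24)
-/

set_option autoImplicit false
set_option linter.style.haveILetI false
set_option linter.unusedSectionVars false

namespace Cfsg.Agent.Helper24.RelGlaub

open Cfsg Cfsg.Agent.Helper24 Cfsg.Agent.Helper5 Cfsg.Agent.Helper18 Cfsg.Agent.Helper24.Glaub
open scoped ComplexConjugate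

universe u v

section Degree

variable {K : Type u} [Group K] [Fintype K] {A : Type v} [Group A] (φ : A →* MulAut K)
variable {p : ℕ} [Fact p.Prime]
variable (Q : Subgroup K) [hQn : Q.Normal] [Fintype Q] (hQ : IsStable φ Q)
variable [Fintype (relFix φ Q hQ)] [Fintype (Q.subgroupOf (relFix φ Q hQ))]

/-- **degrees of correspondents are congruent up to sign** -/
theorem good_degree (hA : IsPGroup p A) {χ : K → ℂ} (hχ : IsIrrCharacter K χ)
    (hχinv : IsInv φ χ) {ξ : relFix φ Q hQ → ℂ} (hξ : IsIrrCharacter _ ξ)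
    (hξinv : IsInv (resAct φ (relFix φ Q hQ) (isStable_relFix φ Q hQ)) ξ)
    (h : Good φ p Q hQ χ ξ) :
    ((charDegree ξ : ℕ) : ZMod p) = (charDegree χ : ZMod p) ∨
      ((charDegree ξ : ℕ) : ZMod p) = -(charDegree χ : ZMod p) := by
  classical
  letI : Fintype (IrrCharacter (relFix φ Q hQ)) := irrFintype
  letI := irrAct (resAct φ (relFix φ Q hQ) (isStable_relFix φ Q hQ))
  have hχc := isCharacter_of_isIrrCharacter hχ
  have hχC : IsCharacter (relFix φ Q hQ) (fun c : relFix φ Q hQ => χ c) :=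
    isCharacter_restrict _ hχc
  have hex : ∀ ξ' : IrrCharacter (relFix φ Q hQ), ∃ m : ℕ,
      classInner (fun c : relFix φ Q hQ => χ c) (ξ' : relFix φ Q hQ → ℂ) = m :=
    fun ξ' => classInner_char_nat hχC (isCharacter_of_isIrrCharacter ξ'.2)
  choose mult hmult using hex
  let f : IrrCharacter (relFix φ Q hQ) → ℕ := fun ξ' => mult ξ' * charDegree (ξ' : relFix φ Q hQ → ℂ)
  -- invariance
  have hinner : ∀ (a : A) (ξ' : IrrCharacter (relFix φ Q hQ)),
      classInner (fun c : relFix φ Q hQ => χ c) ((a • ξ' : IrrCharacter (relFix φ Q hQ)) : relFix φ Q hQ → ℂ) =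
        classInner (fun c : relFix φ Q hQ => χ c) (ξ' : relFix φ Q hQ → ℂ) := by
    intro a ξ'
    have h2 : ((a • ξ' : IrrCharacter (relFix φ Q hQ)) : relFix φ Q hQ → ℂ) = (ξ' : relFix φ Q hQ → ℂ) ∘
        ((resAct φ (relFix φ Q hQ) (isStable_relFix φ Q hQ) a).symm :
          relFix φ Q hQ ≃* relFix φ Q hQ) := rfl
    have h3 : (fun c : relFix φ Q hQ => χ c) = (fun c : relFix φ Q hQ => χ c) ∘
        ((resAct φ (relFix φ Q hQ) (isStable_relFix φ Q hQ) a).symm :
          relFix φ Q hQ ≃* relFix φ Q hQ) := by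
      funext c
      rw [Function.comp_apply]
      have : (((resAct φ (relFix φ Q hQ) (isStable_relFix φ Q hQ) a).symm c : relFix φ Q hQ) : K) =
          (φ a).symm c := by
        have h4 : φ a (((resAct φ (relFix φ Q hQ) (isStable_relFix φ Q hQ) a).symm c :
            relFix φ Q hQ) : K) = c := by
          rw [← resAct_apply φ (relFix φ Q hQ) (isStable_relFix φ Q hQ), MulEquiv.apply_symm_apply]
        rw [← h4, MulEquiv.symm_apply_apply]
      rw [this, isInv_comp_symm φ hχinv]
    rw [h2]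
    conv_lhs => rw [h3]
    exact classInner_comp_equiv _ _ _
  have hf : ∀ (a : A) (ξ' : IrrCharacter (relFix φ Q hQ)), f (a • ξ') = f ξ' := by
    intro a ξ'
    have h1 : mult (a • ξ') = mult ξ' := by
      have h2 : (mult (a • ξ') : ℂ) = mult ξ' := by
        rw [← hmult, ← hmult, hinner]
      exact_mod_cast h2
    have h3 : charDegree ((a • ξ' : IrrCharacter (relFix φ Q hQ)) : relFix φ Q hQ → ℂ) =
        charDegree (ξ' : relFix φ Q hQ → ℂ) := by
      unfold charDegree
      have : ((a • ξ' : IrrCharacter (relFix φ Q hQ)) : relFix φ Q hQ → ℂ) 1 = (ξ' : relFix φ Q hQ → ℂ) 1 := by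
        show (ξ' : relFix φ Q hQ → ℂ) ((resAct φ (relFix φ Q hQ) (isStable_relFix φ Q hQ) a).symm 1) = _
        rw [map_one]
      rw [this]
    show mult (a • ξ') * _ = mult ξ' * _
    rw [h1, h3]
  -- total sum
  have htot : ∑ ξ' : IrrCharacter (relFix φ Q hQ), f ξ' = charDegree χ := by
    obtain ⟨-, hdec⟩ := isCharacter_decomp hχC
    have h1 := congrFun hdec 1
    simp only [Finset.sum_apply, Pi.smul_apply, smul_eq_mul] at h1
    have h2 : (χ ((1 : relFix φ Q hQ) : K)) = (charDegree χ : ℂ) := by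
      rw [← irr_one_eq_charDegree hχ]
      rfl
    rw [h2] at h1
    have h3 : ((∑ ξ' : IrrCharacter (relFix φ Q hQ), f ξ' : ℕ) : ℂ) = (charDegree χ : ℂ) := by
      rw [h1]
      push_cast
      refine Finset.sum_congr rfl fun ξ' _ => ?_
      rw [hmult, irr_one_eq_charDegree ξ'.2]
      show ((mult ξ' * charDegree (ξ' : relFix φ Q hQ → ℂ) : ℕ) : ℂ) = _
      push_cast
      rfl
    exact_mod_cast h3
  have hmod := sum_modEq_sum_fixedPoints (H := A) (α := IrrCharacter (relFix φ Q hQ)) p f hf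
    (fun x hx => dvd_card_orbit_of_not_mem_fixedPoints hA x hx)
  rw [htot] at hmod
  -- the fixed sum
  set ξ₀ : IrrCharacter (relFix φ Q hQ) := ⟨ξ, hξ⟩ with hξ₀
  have hξ₀fix : ξ₀ ∈ Finset.univ.filter
      (· ∈ MulAction.fixedPoints A (IrrCharacter (relFix φ Q hQ))) := by
    rw [Finset.mem_filter]
    exact ⟨Finset.mem_univ _, (mem_fixedPoints_irrAct _ ξ₀).mpr hξinv⟩
  have hsplit := Finset.add_sum_erase _ f hξ₀fix
  have hrest : p ∣ ∑ x ∈ (Finset.univ.filter
      (· ∈ MulAction.fixedPoints A (IrrCharacter (relFix φ Q hQ)))).erase ξ₀, f x := by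
    apply Finset.dvd_sum
    intro x hx
    rw [Finset.mem_erase, Finset.mem_filter] at hx
    obtain ⟨m, hm, -, h3⟩ := h x x.2 ((mem_fixedPoints_irrAct _ x).mp hx.2.2)
    have hne : (x : relFix φ Q hQ → ℂ) ≠ ξ := by
      intro he
      apply hx.1
      apply Subtype.ext
      exact he
    have : m = mult x := by
      have h4 : (m : ℂ) = mult x := by rw [← hm, ← hmult]
      exact_mod_cast h4
    rw [this] at h3
    exact Dvd.dvd.mul_right (h3 hne) _
  obtain ⟨m, hm, h2, -⟩ := h ξ hξ hξinv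
  have hmm : m = mult ξ₀ := by
    have h4 : (m : ℂ) = mult ξ₀ := by rw [← hm, ← hmult]
    exact_mod_cast h4
  have hcong : (charDegree χ : ZMod p) = (m : ZMod p) * (charDegree ξ : ZMod p) := by
    have h5 : charDegree χ ≡ mult ξ₀ * charDegree ξ [MOD p] := by
      refine hmod.trans ?_
      rw [← hsplit]
      obtain ⟨k, hk⟩ := hrest
      rw [hk]
      show f ξ₀ + p * k ≡ f ξ₀ [MOD p]
      rw [Nat.ModEq, Nat.add_mul_mod_self_left]
    have h6 := (ZMod.natCast_eq_natCast_iff _ _ p).mpr h5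
    rw [h6, hmm]
    push_cast
    rfl
  rcases h2 rfl with h7 | h7
  · left
    have h8 : ((m : ℤ) : ZMod p) = ((1 : ℤ) : ZMod p) := (ZMod.intCast_eq_intCast_iff _ _ p).mpr h7
    rw [Int.cast_natCast, Int.cast_one] at h8
    rw [hcong, h8, one_mul]
  · right
    have h8 : ((m : ℤ) : ZMod p) = ((-1 : ℤ) : ZMod p) :=
      (ZMod.intCast_eq_intCast_iff _ _ p).mpr h7
    rw [Int.cast_natCast, Int.cast_neg, Int.cast_one] at h8
    rw [hcong, h8]
    ring

end Degree

end Cfsg.Agent.Helper24.RelGlaub
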