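import Mathlib
import Cfsg.Prelude.Def_Blocks
import Cfsg.Agent.Lib.Helper24.RelGlaubN

/-!
# Relative Glauberman correspondence: the main theorem (helper24)

A `p`-group `A` acts on the finite group `K`, `Q ⊴ K` is a stable normal `p`-subgroup of index
prime to `p` and `C / Q = C_{K/Q}(A)`.  There is a bijection `Irr_A(K) → Irr_A(C)`, `χ ↦ ξ`, where
`ξ` is the unique invariant constituent of `χ_C` of multiplicity prime to `p`; that multiplicity
is `±1` modulo `p` and `ξ(1) ≡ ±χ(1)` modulo `p`.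
-/

set_option autoImplicit false
set_option linter.style.haveILetI false
set_option linter.unusedSectionVars false

namespace Cfsg.Agent.Helper24.RelGlaub

open Cfsg Cfsg.Agent.Helper24 Cfsg.Agent.Helper5 Cfsg.Agent.Helper18 Cfsg.Agent.Helper24.Glaub
open scoped ComplexConjugate

universe u v

section MainThm

variable {K : Type u} [Group K] [Fintype K] {A : Type v} [Group A] (φ : A →* MulAut K)
variable {p : ℕ} [Fact p.Prime]
variable (Q : Subgroup K) [hQn : Q.Normal] [Fintype Q] (hQ : IsStable φ Q)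
variable [Fintype (relFix φ Q hQ)] [Fintype (Q.subgroupOf (relFix φ Q hQ))]

/-- **The relative Glauberman correspondence over a normal Sylow `p`-subgroup.** -/
theorem main (hA : IsPGroup p A) (hQp : IsPGroup p Q) (hQi : ¬ p ∣ Q.index) :
    ∃ f : {χ : IrrCharacter K // IsInv φ (χ : K → ℂ)} →
        {ξ : IrrCharacter (relFix φ Q hQ) //
          IsInv (resAct φ (relFix φ Q hQ) (isStable_relFix φ Q hQ)) (ξ : relFix φ Q hQ → ℂ)},
      Function.Bijective f ∧ ∀ χ, Good φ p Q hQ (χ.1 : K → ℂ) ((f χ).1 : relFix φ Q hQ → ℂ) ∧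
        (((charDegree ((f χ).1 : relFix φ Q hQ → ℂ) : ℕ) : ZMod p) =
            (charDegree (χ.1 : K → ℂ) : ZMod p) ∨
          ((charDegree ((f χ).1 : relFix φ Q hQ → ℂ) : ℕ) : ZMod p) =
            -(charDegree (χ.1 : K → ℂ) : ZMod p)) := by
  classical
  have hex : ∀ χ : {χ : IrrCharacter K // IsInv φ (χ : K → ℂ)},
      ∃ ξ : {ξ : IrrCharacter (relFix φ Q hQ) //
          IsInv (resAct φ (relFix φ Q hQ) (isStable_relFix φ Q hQ)) (ξ : relFix φ Q hQ → ℂ)},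
        Good φ p Q hQ (χ.1 : K → ℂ) (ξ.1 : relFix φ Q hQ → ℂ) := by
    intro χ
    obtain ⟨ξ, hξ, hξinv, hg⟩ := exists_good φ Q hQ hA hQp hQi χ.1.2 χ.2
    exact ⟨⟨⟨ξ, hξ⟩, hξinv⟩, hg⟩
  choose f hf using hex
  refine ⟨f, ⟨?_, ?_⟩, fun χ => ⟨hf χ, good_degree φ Q hQ hA χ.1.2 χ.2 (f χ).1.2 (f χ).2 (hf χ)⟩⟩
  · intro χ₁ χ₂ h
    have h2 : Good φ p Q hQ (χ₂.1 : K → ℂ) ((f χ₁).1 : relFix φ Q hQ → ℂ) := by
      rw [h]
      exact hf χ₂
    have := good_inj φ Q hQ hA hQp hQi χ₁.1.2 χ₂.1.2 χ₁.2 χ₂.2 (f χ₁).1.2 (f χ₁).2 (hf χ₁) h2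
    exact Subtype.ext (Subtype.ext this)
  · intro ξ
    obtain ⟨χ, hχ, hχinv, hg⟩ := exists_good_surj φ Q hQ hA hQp hQi ξ.1.2 ξ.2
    refine ⟨⟨⟨χ, hχ⟩, hχinv⟩, ?_⟩
    have := good_unique φ Q hQ hg (hf ⟨⟨χ, hχ⟩, hχinv⟩) (f ⟨⟨χ, hχ⟩, hχinv⟩).1.2
      (f ⟨⟨χ, hχ⟩, hχinv⟩).2
    exact Subtype.ext (Subtype.ext this)

end MainThm

end Cfsg.Agent.Helper24.RelGlaub
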