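import Mathlib
import Cfsg.Prelude.Def_Blocks
import Cfsg.Agent.Lib.Helper24.RelGlaubO
import Cfsg.Agent.Lib.Helper24.GlaubTransfer

/-!
# Relative Glauberman correspondence: the version inside an ambient group (helper24)

`P, K, Q, C ≤ G`, `P` a `p`-group normalizing `K`, `Q` a normal Sylow `p`-subgroup of `K`,
`C / Q = C_{K/Q}(P)`.
-/

set_option autoImplicit false
set_option linter.style.haveILetI false
set_option linter.unusedSectionVars false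
set_option linter.unusedVariables false

namespace Cfsg.Agent.Helper24.RelGlaub

open Cfsg Cfsg.Agent.Helper24 Cfsg.Agent.Helper5 Cfsg.Agent.Helper18 Cfsg.Agent.Helper24.Glaub
open scoped ComplexConjugate

universe u

section Concrete

variable {G : Type u} [Group G] (p : ℕ) [Fact p.Prime] (P K Q C : Subgroup G)

theorem normal_subgroupOf_of (hQn : ∀ k ∈ K, ∀ q ∈ Q, k * q * k⁻¹ ∈ Q) :
    (Q.subgroupOf K).Normal := by
  constructor
  intro q hq k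
  rw [Subgroup.mem_subgroupOf] at hq ⊢
  exact hQn k k.2 q hq

theorem isPGroup_subgroupOf_of (hQK : Q ≤ K) (hQp : ∃ a : ℕ, Nat.card ↥Q = p ^ a) :
    IsPGroup p (Q.subgroupOf K) := by
  obtain ⟨a, ha⟩ := hQp
  apply IsPGroup.of_card (n := a)
  rw [← ha]
  exact Nat.card_congr (Subgroup.subgroupOfEquivOfLe hQK).toEquiv

theorem isStable_subgroupOf_of [Finite G] (hPK : P ≤ Subgroup.normalizer (K : Set G))
    (hQK : Q ≤ K) (hQn : ∀ k ∈ K, ∀ q ∈ Q, k * q * k⁻¹ ∈ Q)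
    (hQp : ∃ a : ℕ, Nat.card ↥Q = p ^ a) (hQsyl : ¬ p ∣ Q.relIndex K) :
    IsStable (conjHom K P hPK) (Q.subgroupOf K) := by
  haveI hn : (Q.subgroupOf K).Normal := normal_subgroupOf_of K Q hQn
  have hpg : IsPGroup p (Q.subgroupOf K) := isPGroup_subgroupOf_of p K Q hQK hQp
  have hidx : ¬ p ∣ (Q.subgroupOf K).index := hQsyl
  obtain ⟨S, hS⟩ : ∃ S : Sylow p K, (S : Subgroup K) = Q.subgroupOf K :=
    ⟨hpg.toSylow hidx, hpg.toSylow_coe hidx⟩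
  haveI : (S : Subgroup K).Normal := by rw [hS]; exact hn
  have hchar : (S : Subgroup K).Characteristic := Sylow.characteristic_of_normal S inferInstance
  rw [hS] at hchar
  intro a h hh
  have h1 := (Subgroup.characteristic_iff_le_comap.mp hchar) (conjHom K P hPK a)
  exact h1 hh

theorem mem_relFix_conjHom_iff (hPK : P ≤ Subgroup.normalizer (K : Set G))
    (hQn : ∀ k ∈ K, ∀ q ∈ Q, k * q * k⁻¹ ∈ Q)
    [hn : (Q.subgroupOf K).Normal] (hst : IsStable (conjHom K P hPK) (Q.subgroupOf K))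
    (hC : ∀ k : G, k ∈ C ↔ (k ∈ K ∧ ∀ x ∈ P, x * k * x⁻¹ * k⁻¹ ∈ Q)) (k : K) :
    k ∈ relFix (conjHom K P hPK) (Q.subgroupOf K) hst ↔ (k : G) ∈ C := by
  rw [mem_relFix, hC]
  constructor
  · intro h
    refine ⟨k.2, fun x hx => ?_⟩
    have h1 := h ⟨x, hx⟩
    rw [Subgroup.mem_subgroupOf] at h1
    have h2 : ((k⁻¹ * conjHom K P hPK ⟨x, hx⟩ k : K) : G) = (k : G)⁻¹ * (x * k * x⁻¹) := by
      rw [Subgroup.coe_mul, Subgroup.coe_inv, conjHom_apply]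
    rw [h2] at h1
    have h3 := hQn k k.2 _ h1
    have h4 : (k : G) * ((k : G)⁻¹ * (x * k * x⁻¹)) * (k : G)⁻¹ = x * k * x⁻¹ * (k : G)⁻¹ := by
      group
    rwa [h4] at h3
  · rintro ⟨_, h⟩ a
    rw [Subgroup.mem_subgroupOf]
    have h2 : ((k⁻¹ * conjHom K P hPK a k : K) : G) = (k : G)⁻¹ * ((a : G) * k * (a : G)⁻¹) := by
      rw [Subgroup.coe_mul, Subgroup.coe_inv, conjHom_apply]
    rw [h2]
    have h1 := h a.1 a.2
    have h3 := hQn (k : G)⁻¹ (K.inv_mem k.2) _ h1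
    have h4 : (k : G)⁻¹ * ((a : G) * k * (a : G)⁻¹ * (k : G)⁻¹) * ((k : G)⁻¹)⁻¹ =
        (k : G)⁻¹ * ((a : G) * k * (a : G)⁻¹) := by
      group
    rwa [h4] at h3

/-- `C` is the relative fixed-point subgroup. -/
noncomputable def relFixEquiv (hPK : P ≤ Subgroup.normalizer (K : Set G))
    (hQn : ∀ k ∈ K, ∀ q ∈ Q, k * q * k⁻¹ ∈ Q)
    [hn : (Q.subgroupOf K).Normal] (hst : IsStable (conjHom K P hPK) (Q.subgroupOf K))
    (hCK : C ≤ K)
    (hC : ∀ k : G, k ∈ C ↔ (k ∈ K ∧ ∀ x ∈ P, x * k * x⁻¹ * k⁻¹ ∈ Q)) :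
    C ≃* relFix (conjHom K P hPK) (Q.subgroupOf K) hst where
  toFun c := ⟨Subgroup.inclusion hCK c,
    (mem_relFix_conjHom_iff P K Q C hPK hQn hst hC _).mpr c.2⟩
  invFun r := ⟨((r : K) : G), (mem_relFix_conjHom_iff P K Q C hPK hQn hst hC _).mp r.2⟩
  left_inv c := rfl
  right_inv r := rfl
  map_mul' a b := rfl

theorem relFixEquiv_apply (hPK : P ≤ Subgroup.normalizer (K : Set G))
    (hQn : ∀ k ∈ K, ∀ q ∈ Q, k * q * k⁻¹ ∈ Q)
    [hn : (Q.subgroupOf K).Normal] (hst : IsStable (conjHom K P hPK) (Q.subgroupOf K))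
    (hCK : C ≤ K)
    (hC : ∀ k : G, k ∈ C ↔ (k ∈ K ∧ ∀ x ∈ P, x * k * x⁻¹ * k⁻¹ ∈ Q)) (c : C) :
    ((relFixEquiv P K Q C hPK hQn hst hCK hC c : relFix (conjHom K P hPK) (Q.subgroupOf K) hst) : K)
      = Subgroup.inclusion hCK c := rfl

theorem isInv_comp_relFixEquiv_symm (hPK : P ≤ Subgroup.normalizer (K : Set G))
    (hQn : ∀ k ∈ K, ∀ q ∈ Q, k * q * k⁻¹ ∈ Q)
    [hn : (Q.subgroupOf K).Normal] (hst : IsStable (conjHom K P hPK) (Q.subgroupOf K))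
    (hCK : C ≤ K)
    (hC : ∀ k : G, k ∈ C ↔ (k ∈ K ∧ ∀ x ∈ P, x * k * x⁻¹ * k⁻¹ ∈ Q)) (ξ : C → ℂ)
    (h : ∀ x ∈ P, ∀ k k' : ↥C, (k' : G) = x * (k : G) * x⁻¹ → ξ k' = ξ k) :
    IsInv (resAct (conjHom K P hPK) (relFix (conjHom K P hPK) (Q.subgroupOf K) hst)
      (isStable_relFix (conjHom K P hPK) (Q.subgroupOf K) hst))
      (ξ ∘ (relFixEquiv P K Q C hPK hQn hst hCK hC).symm) := by
  intro a r
  exact h a.1 a.2 _ _ rfl

theorem inv_of_isInv_relFix (hPK : P ≤ Subgroup.normalizer (K : Set G))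
    (hQn : ∀ k ∈ K, ∀ q ∈ Q, k * q * k⁻¹ ∈ Q)
    [hn : (Q.subgroupOf K).Normal] (hst : IsStable (conjHom K P hPK) (Q.subgroupOf K))
    (hCK : C ≤ K)
    (hC : ∀ k : G, k ∈ C ↔ (k ∈ K ∧ ∀ x ∈ P, x * k * x⁻¹ * k⁻¹ ∈ Q))
    (ξ : relFix (conjHom K P hPK) (Q.subgroupOf K) hst → ℂ)
    (h : IsInv (resAct (conjHom K P hPK) (relFix (conjHom K P hPK) (Q.subgroupOf K) hst)
      (isStable_relFix (conjHom K P hPK) (Q.subgroupOf K) hst)) ξ) :
    ∀ x ∈ P, ∀ k k' : ↥C, (k' : G) = x * (k : G) * x⁻¹ →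
      (ξ ∘ relFixEquiv P K Q C hPK hQn hst hCK hC) k' =
        (ξ ∘ relFixEquiv P K Q C hPK hQn hst hCK hC) k := by
  intro x hx k k' hkk'
  have h1 := h ⟨x, hx⟩ (relFixEquiv P K Q C hPK hQn hst hCK hC k)
  have h2 : resAct (conjHom K P hPK) (relFix (conjHom K P hPK) (Q.subgroupOf K) hst)
      (isStable_relFix (conjHom K P hPK) (Q.subgroupOf K) hst) ⟨x, hx⟩
      (relFixEquiv P K Q C hPK hQn hst hCK hC k) = relFixEquiv P K Q C hPK hQn hst hCK hC k' := by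
    apply Subtype.ext
    apply Subtype.ext
    exact hkk'.symm
  rw [h2] at h1
  exact h1

theorem classInner_relFix_eq (hPK : P ≤ Subgroup.normalizer (K : Set G))
    (hQn : ∀ k ∈ K, ∀ q ∈ Q, k * q * k⁻¹ ∈ Q)
    [hn : (Q.subgroupOf K).Normal] (hst : IsStable (conjHom K P hPK) (Q.subgroupOf K))
    (hCK : C ≤ K)
    (hC : ∀ k : G, k ∈ C ↔ (k ∈ K ∧ ∀ x ∈ P, x * k * x⁻¹ * k⁻¹ ∈ Q))
    [Fintype C] [Fintype (relFix (conjHom K P hPK) (Q.subgroupOf K) hst)]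
    (χ : K → ℂ) (ξ : C → ℂ) :
    (Nat.card ↥C : ℂ)⁻¹ * ∑ᶠ c : ↥C, χ (Subgroup.inclusion hCK c) * (starRingEnd ℂ) (ξ c) =
      classInner (fun c : relFix (conjHom K P hPK) (Q.subgroupOf K) hst => χ c)
        (ξ ∘ (relFixEquiv P K Q C hPK hQn hst hCK hC).symm) := by
  unfold classInner
  rw [finsum_eq_sum_of_fintype, Nat.card_congr (relFixEquiv P K Q C hPK hQn hst hCK hC).toEquiv]
  congr 1
  apply Fintype.sum_equiv (relFixEquiv P K Q C hPK hQn hst hCK hC).toEquiv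
  intro c
  show _ = χ ((relFixEquiv P K Q C hPK hQn hst hCK hC c : relFix (conjHom K P hPK) (Q.subgroupOf K) hst) : K) *
    (starRingEnd ℂ) (ξ ((relFixEquiv P K Q C hPK hQn hst hCK hC).symm
      (relFixEquiv P K Q C hPK hQn hst hCK hC c)))
  rw [MulEquiv.symm_apply_apply, relFixEquiv_apply]

/-- **The relative Glauberman correspondence inside an ambient group.** -/
theorem main_concrete [Finite G] (hP : IsPGroup p ↥P)
    (hPK : P ≤ Subgroup.normalizer (K : Set G)) (hQK : Q ≤ K)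
    (hQn : ∀ k ∈ K, ∀ q ∈ Q, k * q * k⁻¹ ∈ Q) (hQp : ∃ a : ℕ, Nat.card ↥Q = p ^ a)
    (hQsyl : ¬ p ∣ Q.relIndex K) (hCK : C ≤ K)
    (hC : ∀ k : G, k ∈ C ↔ (k ∈ K ∧ ∀ x ∈ P, x * k * x⁻¹ * k⁻¹ ∈ Q)) :
    ∃ f : {χ : Cfsg.IrrCharacter ↥K // (∀ x ∈ P, ∀ k k' : ↥K, (k' : G) = x * (k : G) * x⁻¹ →
          (χ : ↥K → ℂ) k' = (χ : ↥K → ℂ) k)} →
        {ξ : Cfsg.IrrCharacter ↥C // (∀ x ∈ P, ∀ k k' : ↥C, (k' : G) = x * (k : G) * x⁻¹ →
          (ξ : ↥C → ℂ) k' = (ξ : ↥C → ℂ) k)},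
      Function.Bijective f ∧ ∀ χ,
        (∀ ξ : {ξ : Cfsg.IrrCharacter ↥C // (∀ x ∈ P, ∀ k k' : ↥C, (k' : G) = x * (k : G) * x⁻¹ →
            (ξ : ↥C → ℂ) k' = (ξ : ↥C → ℂ) k)},
          ∃ m : ℕ, (Nat.card ↥C : ℂ)⁻¹ * ∑ᶠ c : ↥C, (χ.1 : ↥K → ℂ) (Subgroup.inclusion hCK c) *
              (starRingEnd ℂ) ((ξ.1 : ↥C → ℂ) c) = (m : ℂ) ∧
            (ξ = f χ → ((m : ZMod p) = 1 ∨ (m : ZMod p) = -1)) ∧ (ξ ≠ f χ → p ∣ m)) ∧
        ((Cfsg.charDegree ((f χ).1 : ↥C → ℂ) : ZMod p) =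
            (Cfsg.charDegree (χ.1 : ↥K → ℂ) : ZMod p) ∨
          (Cfsg.charDegree ((f χ).1 : ↥C → ℂ) : ZMod p) =
            -(Cfsg.charDegree (χ.1 : ↥K → ℂ) : ZMod p)) := by
  classical
  haveI : Fintype G := Fintype.ofFinite G
  haveI : Fintype K := Fintype.ofFinite K
  haveI : Fintype C := Fintype.ofFinite C
  haveI hn : (Q.subgroupOf K).Normal := normal_subgroupOf_of K Q hQn
  have hpg : IsPGroup p (Q.subgroupOf K) := isPGroup_subgroupOf_of p K Q hQK hQp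
  have hidx : ¬ p ∣ (Q.subgroupOf K).index := hQsyl
  have hst : IsStable (conjHom K P hPK) (Q.subgroupOf K) :=
    isStable_subgroupOf_of p P K Q hPK hQK hQn hQp hQsyl
  haveI : Fintype (Q.subgroupOf K) := Fintype.ofFinite _
  haveI : Fintype (relFix (conjHom K P hPK) (Q.subgroupOf K) hst) := Fintype.ofFinite _
  haveI : Fintype ((Q.subgroupOf K).subgroupOf (relFix (conjHom K P hPK) (Q.subgroupOf K) hst)) :=
    Fintype.ofFinite _
  obtain ⟨e, he⟩ : ∃ e : C ≃* relFix (conjHom K P hPK) (Q.subgroupOf K) hst,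
      e = relFixEquiv P K Q C hPK hQn hst hCK hC := ⟨_, rfl⟩
  obtain ⟨f0, hf0bij, hf0⟩ := main (conjHom K P hPK) (p := p) (Q.subgroupOf K) hst hP hpg hidx
  -- transport maps
  let Ψ : {χ : Cfsg.IrrCharacter ↥K // (∀ x ∈ P, ∀ k k' : ↥K, (k' : G) = x * (k : G) * x⁻¹ →
          (χ : ↥K → ℂ) k' = (χ : ↥K → ℂ) k)} →
      {χ : IrrCharacter K // IsInv (conjHom K P hPK) (χ : K → ℂ)} :=
    fun χ => ⟨χ.1, (isInv_conjHom_iff K P hPK _).mpr χ.2⟩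
  let Φ : {ξ : IrrCharacter (relFix (conjHom K P hPK) (Q.subgroupOf K) hst) //
          IsInv (resAct (conjHom K P hPK) (relFix (conjHom K P hPK) (Q.subgroupOf K) hst)
            (isStable_relFix (conjHom K P hPK) (Q.subgroupOf K) hst))
            (ξ : relFix (conjHom K P hPK) (Q.subgroupOf K) hst → ℂ)} →
      {ξ : Cfsg.IrrCharacter ↥C // (∀ x ∈ P, ∀ k k' : ↥C, (k' : G) = x * (k : G) * x⁻¹ →
          (ξ : ↥C → ℂ) k' = (ξ : ↥C → ℂ) k)} :=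
    fun ξ => ⟨⟨(ξ.1 : _ → ℂ) ∘ relFixEquiv P K Q C hPK hQn hst hCK hC,
      isIrrCharacter_comp_equiv (relFixEquiv P K Q C hPK hQn hst hCK hC) ξ.1.2⟩,
      inv_of_isInv_relFix P K Q C hPK hQn hst hCK hC _ ξ.2⟩
  have hΦval : ∀ ξ, ((Φ ξ).1 : C → ℂ) =
      (ξ.1 : _ → ℂ) ∘ relFixEquiv P K Q C hPK hQn hst hCK hC := fun ξ => rfl
  have hΨval : ∀ χ, ((Ψ χ).1 : K → ℂ) = (χ.1 : K → ℂ) := fun χ => rfl
  have hΦinj : Function.Injective Φ := by
    intro ξ₁ ξ₂ h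
    apply Subtype.ext
    apply Subtype.ext
    have h1 : ((Φ ξ₁).1 : C → ℂ) = ((Φ ξ₂).1 : C → ℂ) := by rw [h]
    rw [hΦval, hΦval] at h1
    funext r
    have := congrFun h1 ((relFixEquiv P K Q C hPK hQn hst hCK hC).symm r)
    simpa using this
  have hΨinj : Function.Injective Ψ := by
    intro χ₁ χ₂ h
    apply Subtype.ext
    have h1 : (Ψ χ₁).1 = (Ψ χ₂).1 := by rw [h]
    exact h1
  refine ⟨fun χ => Φ (f0 (Ψ χ)), ⟨?_, ?_⟩, ?_⟩
  · exact hΦinj.comp (hf0bij.1.comp hΨinj)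
  · intro ξ
    have hξ' := isInv_comp_relFixEquiv_symm P K Q C hPK hQn hst hCK hC (ξ.1 : C → ℂ) ξ.2
    obtain ⟨χ', hχ'⟩ := hf0bij.2 ⟨⟨(ξ.1 : C → ℂ) ∘ (relFixEquiv P K Q C hPK hQn hst hCK hC).symm,
      isIrrCharacter_comp_equiv (relFixEquiv P K Q C hPK hQn hst hCK hC).symm ξ.1.2⟩, hξ'⟩
    refine ⟨⟨χ'.1, (isInv_conjHom_iff K P hPK _).mp χ'.2⟩, ?_⟩
    have h1 : Ψ ⟨χ'.1, (isInv_conjHom_iff K P hPK _).mp χ'.2⟩ = χ' := rfl
    show Φ (f0 (Ψ ⟨χ'.1, (isInv_conjHom_iff K P hPK _).mp χ'.2⟩)) = ξ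
    rw [h1, hχ']
    apply Subtype.ext
    apply Subtype.ext
    funext c
    show (ξ.1 : C → ℂ) ((relFixEquiv P K Q C hPK hQn hst hCK hC).symm
      (relFixEquiv P K Q C hPK hQn hst hCK hC c)) = _
    rw [MulEquiv.symm_apply_apply]
  · intro χ
    obtain ⟨hgood, hdeg⟩ := hf0 (Ψ χ)
    refine ⟨?_, ?_⟩
    · intro ξ
      have hξ' := isInv_comp_relFixEquiv_symm P K Q C hPK hQn hst hCK hC (ξ.1 : C → ℂ) ξ.2
      obtain ⟨m, hm, hm1, hm2⟩ := hgood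
        ((ξ.1 : C → ℂ) ∘ (relFixEquiv P K Q C hPK hQn hst hCK hC).symm)
        (isIrrCharacter_comp_equiv (relFixEquiv P K Q C hPK hQn hst hCK hC).symm ξ.1.2) hξ'
      refine ⟨m, ?_, ?_, ?_⟩
      · rw [classInner_relFix_eq P K Q C hPK hQn hst hCK hC]
        exact hm
      · intro hξ
        have h2 : (ξ.1 : C → ℂ) ∘ (relFixEquiv P K Q C hPK hQn hst hCK hC).symm =
            ((f0 (Ψ χ)).1 : relFix (conjHom K P hPK) (Q.subgroupOf K) hst → ℂ) := by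
          rw [hξ]
          show ((Φ (f0 (Ψ χ))).1 : C → ℂ) ∘ _ = _
          rw [hΦval]
          funext r
          simp
        rcases hm1 h2 with h3 | h3
        · left
          have := (ZMod.intCast_eq_intCast_iff _ _ p).mpr h3
          simpa using this
        · right
          have := (ZMod.intCast_eq_intCast_iff _ _ p).mpr h3
          simpa using this
      · intro hξ
        apply hm2
        intro h2
        apply hξ
        apply Subtype.ext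
        apply Subtype.ext
        show (ξ.1 : C → ℂ) = ((Φ (f0 (Ψ χ))).1 : C → ℂ)
        rw [hΦval, ← h2]
        funext c
        simp
    · show (Cfsg.charDegree ((Φ (f0 (Ψ χ))).1 : C → ℂ) : ZMod p) = _ ∨
        (Cfsg.charDegree ((Φ (f0 (Ψ χ))).1 : C → ℂ) : ZMod p) = _
      have h1 : Cfsg.charDegree ((Φ (f0 (Ψ χ))).1 : C → ℂ) =
          Cfsg.charDegree
            ((f0 (Ψ χ)).1 : relFix (conjHom K P hPK) (Q.subgroupOf K) hst → ℂ) := by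
        rw [hΦval]
        unfold Cfsg.charDegree
        rw [Function.comp_apply, map_one]
      rw [h1]
      exact hdeg

end Concrete

end Cfsg.Agent.Helper24.RelGlaub
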