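import Mathlib
import Cfsg.Prelude.Def_Blocks
import Cfsg.Agent.Lib.Helper24.RealBijC
import Cfsg.Agent.Lib.Helper24.RelGlaubP

/-!
# The real bijection with the Sylow normalizer (helper24's shared library)

`K ⊴ G` of odd index with a normal Sylow `p`-subgroup `Q ⊴ G`, all real irreducible characters of
`G` of degree prime to `p`, `N = N_G(P)` for a Sylow `p`-subgroup `P` of `G`: there is a bijection
from the real irreducible characters of `G` onto the real irreducible characters of `N` of degree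
prime to `p`, with degrees congruent modulo `p` up to sign.
-/

set_option autoImplicit false
set_option linter.style.haveILetI false
set_option linter.unusedSectionVars false

namespace Cfsg.Agent.Helper24.RealNorm

open Cfsg Cfsg.Agent.Helper24 Cfsg.Agent.Helper24.Glaub Cfsg.Agent.Helper24.SylIn
open scoped ComplexConjugate

universe u

section Transport

variable {G : Type u} [Group G] (K N : Subgroup G)

/-- The isomorphism between `K.subgroupOf N` and `K ⊓ N`. -/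
def subgroupOfEquivInf : ↥(K.subgroupOf N) ≃* ↥(K ⊓ N) where
  toFun k := ⟨((k : ↥N) : G), ⟨k.2, (k : ↥N).2⟩⟩
  invFun c := ⟨⟨(c : G), c.2.2⟩, c.2.1⟩
  left_inv _ := rfl
  right_inv _ := rfl
  map_mul' _ _ := rfl

theorem subgroupOfEquivInf_apply (k : ↥(K.subgroupOf N)) :
    ((subgroupOfEquivInf K N k : ↥(K ⊓ N)) : G) = ((k : ↥N) : G) := rfl

variable [hKn : K.Normal]

/-- Transport of conjugation by an element of `N`. -/
theorem comp_normConj_comp_equiv (n : ↥N) (hnC : (n : G) ∈ Subgroup.normalizer ((K ⊓ N : Subgroup G) : Set G))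
    (η : ↥(K ⊓ N) → ℂ) :
    (η ∘ normConj (K ⊓ N) (n : G) hnC) ∘ subgroupOfEquivInf K N =
      Cfsg.Agent.Helper5.conjFun (K.subgroupOf N) n (η ∘ subgroupOfEquivInf K N) := by
  funext k
  rw [Cfsg.Agent.Helper5.conjFun_apply]
  rfl

/-- Conjugation on `K` by `normConj` and by `conjFun` agree. -/
theorem comp_normConj_eq_conjFun (n : G) (hnK : n ∈ Subgroup.normalizer (K : Set G))
    (θ : ↥K → ℂ) : θ ∘ normConj K n hnK = Cfsg.Agent.Helper5.conjFun K n θ := by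
  funext k
  rw [Cfsg.Agent.Helper5.conjFun_apply]
  rfl

end Transport

section Main

variable {G : Type u} [Group G] [Finite G]

set_option maxHeartbeats 1600000 in
/-- **The real bijection** with the Sylow normalizer. -/
theorem real_bijection (p : ℕ) [hp : Fact p.Prime] (P : Sylow p G) (K Q : Subgroup G)
    [hKn : K.Normal] (hodd : Odd K.index) [hQn : Q.Normal] (hQ : IsSylIn p K Q)
    (hreal : ∀ χ : IrrCharacter G, (∀ g : G, ((χ : G → ℂ) g).im = 0) →
      ¬ p ∣ charDegree (χ : G → ℂ)) :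
    ∃ f : {χ : IrrCharacter G // ∀ g : G, ((χ : G → ℂ) g).im = 0} →
        {ξ : IrrCharacter ↥(Subgroup.normalizer ((P : Subgroup G) : Set G)) //
          (∀ n, ((ξ : ↥(Subgroup.normalizer ((P : Subgroup G) : Set G)) → ℂ) n).im = 0) ∧
          ¬ p ∣ charDegree (ξ : ↥(Subgroup.normalizer ((P : Subgroup G) : Set G)) → ℂ)},
      Function.Bijective f ∧ ∀ χ,
        ((charDegree ((f χ).1 : ↥(Subgroup.normalizer ((P : Subgroup G) : Set G)) → ℂ) : ZMod p) =
            (charDegree (χ.1 : G → ℂ) : ZMod p) ∨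
          (charDegree ((f χ).1 : ↥(Subgroup.normalizer ((P : Subgroup G) : Set G)) → ℂ) : ZMod p) =
            -(charDegree (χ.1 : G → ℂ) : ZMod p)) := by
  classical
  letI : Fintype G := Fintype.ofFinite G
  letI : Fintype K := Fintype.ofFinite K
  set N : Subgroup G := Subgroup.normalizer ((P : Subgroup G) : Set G) with hN
  letI : Fintype N := Fintype.ofFinite N
  set C : Subgroup G := K ⊓ N with hCdef
  letI : Fintype C := Fintype.ofFinite C
  have hCK : C ≤ K := inf_le_left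
  have hCN : C ≤ N := inf_le_right
  have hPN : (P : Subgroup G) ≤ N := Subgroup.le_normalizer
  have hQP : Q ≤ (P : Subgroup G) := hQ.isPGroup.le_sylow_of_normal P
  -- `P ∩ K ≤ Q`
  have hPKQ : ∀ x, x ∈ (P : Subgroup G) → x ∈ K → x ∈ Q := by
    intro x hxP hxK
    obtain ⟨a, -, ha⟩ := hQ.exists_conj_le (T := (P : Subgroup G) ⊓ K) inf_le_right
      (P.isPGroup'.to_le inf_le_left)
    have h1 := ha x ⟨hxP, hxK⟩
    have h2 := hQn.conj_mem _ h1 a⁻¹
    have e : a⁻¹ * (a * x * a⁻¹) * a⁻¹⁻¹ = x := by group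
    rwa [e] at h2
  have hC : ∀ k : G, k ∈ C ↔ (k ∈ K ∧ ∀ x ∈ (P : Subgroup G), x * k * x⁻¹ * k⁻¹ ∈ Q) := by
    intro k
    constructor
    · rintro ⟨hkK, hkN⟩
      refine ⟨hkK, fun x hx => ?_⟩
      apply hPKQ
      · have h1 : k * x⁻¹ * k⁻¹ ∈ (P : Subgroup G) :=
          (Subgroup.mem_normalizer_iff.mp hkN _).mp (Subgroup.inv_mem _ hx)
        have h2 := Subgroup.mul_mem _ hx h1
        have e : x * (k * x⁻¹ * k⁻¹) = x * k * x⁻¹ * k⁻¹ := by group
        rwa [e] at h2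
      · exact K.mul_mem (hKn.conj_mem k hkK x) (K.inv_mem hkK)
    · rintro ⟨hkK, hk⟩
      refine ⟨hkK, ?_⟩
      apply mem_normalizer_of_conj_mem
      intro x hx
      have h1 := hQP (hk x⁻¹ (Subgroup.inv_mem _ hx))
      have h2 := Subgroup.mul_mem _ hx h1
      have e : x * (x⁻¹ * k * x⁻¹⁻¹ * k⁻¹) = k * x * k⁻¹ := by group
      rwa [e] at h2
  have hPK : (P : Subgroup G) ≤ Subgroup.normalizer (K : Set G) := by
    rw [Subgroup.normalizer_eq_top]; exact le_top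
  have hnK : ∀ n : G, n ∈ Subgroup.normalizer (K : Set G) := by
    intro n
    rw [Subgroup.normalizer_eq_top]; exact Subgroup.mem_top n
  have hnC : ∀ n : G, n ∈ N → n ∈ Subgroup.normalizer (C : Set G) := by
    intro n hn
    apply mem_normalizer_of_conj_mem
    intro c hc
    exact ⟨hKn.conj_mem c hc.1 n, N.mul_mem (N.mul_mem hn hc.2) (N.inv_mem hn)⟩
  -- the relative Glauberman correspondence
  obtain ⟨f, hfbij, hf⟩ := Cfsg.Agent.Helper24.RelGlaub.main_concrete p (P : Subgroup G) K Q C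
    P.isPGroup' hPK hQ.le (fun k _ q hq => hQn.conj_mem q hq k) (IsPGroup.iff_card.mp hQ.isPGroup)
    hQ.not_dvd_relIndex hCK hC
  have hcorr : IsCorr p (P : Subgroup G) K C hCK f := fun χ ξ => (hf χ).1 ξ
  have hfdeg := fun χ => (hf χ).2
  -- the `N`-side
  set KN : Subgroup ↥N := K.subgroupOf N with hKNdef
  haveI hKNn : KN.Normal := Subgroup.normal_subgroupOf
  letI : Fintype KN := Fintype.ofFinite KN
  have hKNodd : Odd KN.index := Odd.of_dvd_nat hodd (Subgroup.relIndex_dvd_index_of_normal K N)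
  set e : ↥KN ≃* ↥C := subgroupOfEquivInf K N with he
  -- transport of characters of `C` to `KN`
  let tr : IrrCharacter ↥C → IrrCharacter ↥KN := fun η =>
    ⟨(η : ↥C → ℂ) ∘ e, Cfsg.Agent.Helper5.isIrrCharacter_comp_equiv e η.2⟩
  have htr_inj : Function.Injective tr := by
    intro η₁ η₂ h
    apply Subtype.ext
    funext c
    have h1 := congrFun (congrArg Subtype.val h) (e.symm c)
    simpa [tr] using h1
  have htr_real : ∀ η : IrrCharacter ↥C, IsRealFun ((tr η : IrrCharacter ↥KN) : ↥KN → ℂ) ↔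
      IsRealFun (η : ↥C → ℂ) := by
    intro η
    constructor
    · intro h c
      have := h (e.symm c)
      simpa [tr] using this
    · intro h k
      exact h (e k)
  have htr_deg : ∀ η : IrrCharacter ↥C, charDegree ((tr η : IrrCharacter ↥KN) : ↥KN → ℂ) =
      charDegree (η : ↥C → ℂ) := by
    intro η
    unfold charDegree
    show ⌊((η : ↥C → ℂ) (e 1)).re⌋₊ = _
    rw [map_one]
  -- conjugation by `n ∈ N` and the correspondence
  have hact : ∀ (n : ↥N) (θ : {χ : IrrCharacter ↥K // PInv (P : Subgroup G) K (χ : ↥K → ℂ)}),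
      ((tr (f (actIK (P : Subgroup G) K (n : G) n.2 (hnK n) θ)).1 : IrrCharacter ↥KN) : ↥KN → ℂ) =
        Cfsg.Agent.Helper5.conjFun KN n ((tr (f θ).1 : IrrCharacter ↥KN) : ↥KN → ℂ) := by
    intro n θ
    rw [corr_act p (P : Subgroup G) K C hCK f hcorr (n : G) n.2 (hnK n) (hnC n n.2) θ]
    exact comp_normConj_comp_equiv K N n (hnC n n.2) ((f θ).1 : ↥C → ℂ)
  have hactK : ∀ (n : ↥N) (θ : {χ : IrrCharacter ↥K // PInv (P : Subgroup G) K (χ : ↥K → ℂ)}),
      ((actIK (P : Subgroup G) K (n : G) n.2 (hnK n) θ).1 : ↥K → ℂ) =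
        Cfsg.Agent.Helper5.conjFun K (n : G) (θ.1 : ↥K → ℂ) := by
    intro n θ
    exact comp_normConj_eq_conjFun K (n : G) (hnK n) (θ.1 : ↥K → ℂ)
  -- `P`-invariance in terms of `conjFun`
  have hPInv_of : ∀ θ : IrrCharacter ↥K,
      (∀ u ∈ (P : Subgroup G), Cfsg.Agent.Helper5.conjFun K u (θ : ↥K → ℂ) = (θ : ↥K → ℂ)) →
      PInv (P : Subgroup G) K (θ : ↥K → ℂ) := by
    intro θ h x hx k k' hk
    have h1 := congrFun (h x hx) k
    rw [Cfsg.Agent.Helper5.conjFun_apply] at h1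
    rw [← h1]
    refine congrArg _ ?_
    apply Subtype.ext
    exact hk
  have hconj_of_PInv : ∀ θ : {χ : IrrCharacter ↥K // PInv (P : Subgroup G) K (χ : ↥K → ℂ)},
      ∀ u ∈ (P : Subgroup G), Cfsg.Agent.Helper5.conjFun K u (θ.1 : ↥K → ℂ) = (θ.1 : ↥K → ℂ) := by
    intro θ u hu
    funext k
    rw [Cfsg.Agent.Helper5.conjFun_apply]
    exact θ.2 u hu k _ rfl
  -- inertia groups
  have hinertia : ∀ θ : {χ : IrrCharacter ↥K // PInv (P : Subgroup G) K (χ : ↥K → ℂ)},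
      Cfsg.Agent.Helper18.inertia KN ((tr (f θ).1 : IrrCharacter ↥KN) : ↥KN → ℂ) =
        (Cfsg.Agent.Helper18.inertia K (θ.1 : ↥K → ℂ)).subgroupOf N := by
    intro θ
    ext n
    rw [Cfsg.Agent.Helper18.mem_inertia, Subgroup.mem_subgroupOf, Cfsg.Agent.Helper18.mem_inertia,
      ← hact n θ, ← hactK n θ]
    constructor
    · intro h
      have h1 : tr (f (actIK (P : Subgroup G) K (n : G) n.2 (hnK n) θ)).1 = tr (f θ).1 :=
        Subtype.ext h
      have h2 := hfbij.1 (Subtype.ext (htr_inj h1))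
      rw [h2]
    · intro h
      have h1 : actIK (P : Subgroup G) K (n : G) n.2 (hnK n) θ = θ :=
        Subtype.ext (Subtype.ext h)
      rw [h1]
  -- the relation
  let R : {χ : IrrCharacter G // ∀ g : G, ((χ : G → ℂ) g).im = 0} →
      IrrCharacter ↥N → Prop := fun χ ξ =>
    ∃ θ : {χ : IrrCharacter ↥K // PInv (P : Subgroup G) K (χ : ↥K → ℂ)},
      IsRealFun (θ.1 : ↥K → ℂ) ∧
      classInner (fun k : K => (χ.1 : G → ℂ) k) (θ.1 : ↥K → ℂ) ≠ 0 ∧
      classInner (fun k : KN => (ξ : ↥N → ℂ) k) ((tr (f θ).1 : IrrCharacter ↥KN) : ↥KN → ℂ) ≠ 0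
  have hGU := real_over_unique K hodd
  have hNU := real_over_unique KN hKNodd
  -- degrees
  have hdegR : ∀ (χ : {χ : IrrCharacter G // ∀ g : G, ((χ : G → ℂ) g).im = 0})
      (ξ : IrrCharacter ↥N), IsRealFun (ξ : ↥N → ℂ) → R χ ξ →
      ((charDegree (ξ : ↥N → ℂ) : ZMod p) = (charDegree (χ.1 : G → ℂ) : ZMod p) ∨
        (charDegree (ξ : ↥N → ℂ) : ZMod p) = -(charDegree (χ.1 : G → ℂ) : ZMod p)) := by
    rintro χ ξ hξ ⟨θ, hθr, hov, hovN⟩
    have hηr : IsRealFun ((tr (f θ).1 : IrrCharacter ↥KN) : ↥KN → ℂ) :=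
      (htr_real _).mpr ((corr_real_iff p (P : Subgroup G) K C hCK f hcorr hfbij.1 θ).mpr hθr)
    have h1 := degree_real_over K hodd χ.1 χ.2 θ.1 hθr hov
    have h2 := degree_real_over KN hKNodd ξ hξ (tr (f θ).1) hηr hovN
    rw [hinertia θ, htr_deg] at h2
    have hPT : (P : Subgroup G) ≤ Cfsg.Agent.Helper18.inertia K (θ.1 : ↥K → ℂ) := by
      intro u hu
      rw [Cfsg.Agent.Helper18.mem_inertia]
      exact hconj_of_PInv θ u hu
    have h3 := index_modEq_relIndex_normalizer p P _ hPT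
    have h3' : ((Cfsg.Agent.Helper18.inertia K (θ.1 : ↥K → ℂ)).index : ZMod p) =
        (((Cfsg.Agent.Helper18.inertia K (θ.1 : ↥K → ℂ)).subgroupOf N).index : ZMod p) :=
      (ZMod.natCast_eq_natCast_iff _ _ _).mpr h3
    rw [h1, h2]
    push_cast
    rw [h3']
    rcases hfdeg θ with h4 | h4
    · left; rw [h4]
    · right; rw [h4]; ring
  -- totality
  have htotal : ∀ χ : {χ : IrrCharacter G // ∀ g : G, ((χ : G → ℂ) g).im = 0},
      ∃ ξ : IrrCharacter ↥N, IsRealFun (ξ : ↥N → ℂ) ∧ R χ ξ := by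
    intro χ
    obtain ⟨θ₀, hθ₀r, hov₀⟩ := hGU.1 χ.1 χ.2
    obtain ⟨g, hg⟩ := exists_conj_le_inertia p K hodd P hreal θ₀ hθ₀r
    have hθirr := Cfsg.Agent.Helper5.isIrrCharacter_conjFun K g⁻¹ θ₀.2
    have hθinv : ∀ u ∈ (P : Subgroup G),
        Cfsg.Agent.Helper5.conjFun K u (Cfsg.Agent.Helper5.conjFun K g⁻¹ (θ₀ : ↥K → ℂ)) =
          Cfsg.Agent.Helper5.conjFun K g⁻¹ (θ₀ : ↥K → ℂ) := by
      intro u hu
      have h1 := hg u hu
      rw [Cfsg.Agent.Helper18.mem_inertia] at h1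
      rw [← Cfsg.Agent.Helper5.conjFun_mul]
      have e1 : g⁻¹ * u = (g⁻¹ * u * g) * g⁻¹ := by group
      rw [e1, Cfsg.Agent.Helper5.conjFun_mul, h1]
    set θ : {χ : IrrCharacter ↥K // PInv (P : Subgroup G) K (χ : ↥K → ℂ)} :=
      ⟨⟨Cfsg.Agent.Helper5.conjFun K g⁻¹ (θ₀ : ↥K → ℂ), hθirr⟩,
        hPInv_of ⟨_, hθirr⟩ hθinv⟩ with hθdef
    have hθr : IsRealFun (θ.1 : ↥K → ℂ) := fun k => hθ₀r _
    have hov : classInner (fun k : K => (χ.1 : G → ℂ) k) (θ.1 : ↥K → ℂ) ≠ 0 := by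
      show classInner (fun k : K => (χ.1 : G → ℂ) k)
        (Cfsg.Agent.Helper5.conjFun K g⁻¹ (θ₀ : ↥K → ℂ)) ≠ 0
      rw [Cfsg.Agent.Helper5.classInner_restrict_conjFun K g⁻¹
        (isClassFunction_of_isIrrCharacter χ.1.2)]
      exact hov₀
    have hηr : IsRealFun ((tr (f θ).1 : IrrCharacter ↥KN) : ↥KN → ℂ) :=
      (htr_real _).mpr ((corr_real_iff p (P : Subgroup G) K C hCK f hcorr hfbij.1 θ).mpr hθr)
    obtain ⟨ξ, hξr, hovN⟩ := exists_real_over KN hKNodd (tr (f θ).1) hηr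
    exact ⟨ξ, hξr, θ, hθr, hov, hovN⟩
  -- functionality
  have hfun : ∀ (χ : {χ : IrrCharacter G // ∀ g : G, ((χ : G → ℂ) g).im = 0})
      (ξ ξ' : IrrCharacter ↥N), IsRealFun (ξ : ↥N → ℂ) → IsRealFun (ξ' : ↥N → ℂ) →
      R χ ξ → R χ ξ' → ξ = ξ' := by
    rintro χ ξ ξ' hξ hξ' ⟨θ, hθr, hov, hovN⟩ ⟨θ', hθ'r, hov', hovN'⟩
    obtain ⟨x, hx⟩ := Cfsg.Agent.Helper5.clifford_conj K χ.1.2 θ.1.2 θ'.1.2 hov hov'
    -- fusion
    letI := Cfsg.Agent.Helper18.irrAct K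
    have hfix : ∀ u ∈ P, u • (θ.1 : IrrCharacter ↥K) = θ.1 := by
      intro u hu
      apply Subtype.ext
      exact hconj_of_PInv θ u⁻¹ (Subgroup.inv_mem _ hu)
    have hfix' : ∀ u ∈ P, u • (x⁻¹ • (θ.1 : IrrCharacter ↥K)) = x⁻¹ • (θ.1 : IrrCharacter ↥K) := by
      intro u hu
      have h1 : x⁻¹ • (θ.1 : IrrCharacter ↥K) = θ'.1 := by
        apply Subtype.ext
        show Cfsg.Agent.Helper5.conjFun K x⁻¹⁻¹ (θ.1 : ↥K → ℂ) = _
        rw [inv_inv, hx]
      rw [h1]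
      apply Subtype.ext
      exact hconj_of_PInv θ' u⁻¹ (Subgroup.inv_mem _ hu)
    obtain ⟨n, hn, hnθ⟩ := exists_normalizer_smul P hfix x⁻¹ hfix'
    have h2 : Cfsg.Agent.Helper5.conjFun K n⁻¹ (θ.1 : ↥K → ℂ) = (θ'.1 : ↥K → ℂ) := by
      have h3 := congrArg Subtype.val hnθ
      have h4 : ((x⁻¹ • (θ.1 : IrrCharacter ↥K) : IrrCharacter ↥K) : ↥K → ℂ) =
          Cfsg.Agent.Helper5.conjFun K x⁻¹⁻¹ (θ.1 : ↥K → ℂ) := rfl
      rw [h4, inv_inv, hx] at h3
      exact h3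
    have hn' : n⁻¹ ∈ N := N.inv_mem hn
    have h5 : actIK (P : Subgroup G) K n⁻¹ hn' (hnK n⁻¹) θ = θ' := by
      apply Subtype.ext; apply Subtype.ext
      rw [← h2]
      exact hactK ⟨n⁻¹, hn'⟩ θ
    have h6 := hact ⟨n⁻¹, hn'⟩ θ
    rw [h5] at h6
    rw [h6, Cfsg.Agent.Helper5.classInner_restrict_conjFun KN _
      (isClassFunction_of_isIrrCharacter ξ'.2)] at hovN'
    have hηr : IsRealFun ((tr (f θ).1 : IrrCharacter ↥KN) : ↥KN → ℂ) :=
      (htr_real _).mpr ((corr_real_iff p (P : Subgroup G) K C hCK f hcorr hfbij.1 θ).mpr hθr)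
    exact hNU.2 ξ ξ' hξ hξ' (tr (f θ).1) hηr hovN hovN'
  -- injectivity
  have hinjR : ∀ (χ χ' : {χ : IrrCharacter G // ∀ g : G, ((χ : G → ℂ) g).im = 0})
      (ξ : IrrCharacter ↥N), R χ ξ → R χ' ξ → χ = χ' := by
    rintro χ χ' ξ ⟨θ, hθr, hov, hovN⟩ ⟨θ', hθ'r, hov', hovN'⟩
    obtain ⟨n, hn⟩ := Cfsg.Agent.Helper5.clifford_conj KN ξ.2 (tr (f θ).1).2 (tr (f θ').1).2
      hovN hovN'
    rw [← hact n θ] at hn
    have h1 : tr (f (actIK (P : Subgroup G) K (n : G) n.2 (hnK n) θ)).1 = tr (f θ').1 :=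
      Subtype.ext hn
    have h2 := hfbij.1 (Subtype.ext (htr_inj h1))
    have h3 : Cfsg.Agent.Helper5.conjFun K (n : G) (θ.1 : ↥K → ℂ) = (θ'.1 : ↥K → ℂ) := by
      rw [← hactK n θ, h2]
    rw [← h3, Cfsg.Agent.Helper5.classInner_restrict_conjFun K _
      (isClassFunction_of_isIrrCharacter χ'.1.2)] at hov'
    exact Subtype.ext (hGU.2 χ.1 χ'.1 χ.2 χ'.2 θ.1 hθr hov hov')
  -- surjectivity
  have hsurjR : ∀ ξ : IrrCharacter ↥N, IsRealFun (ξ : ↥N → ℂ) →
      ¬ p ∣ charDegree (ξ : ↥N → ℂ) →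
      ∃ χ : {χ : IrrCharacter G // ∀ g : G, ((χ : G → ℂ) g).im = 0}, R χ ξ := by
    intro ξ hξ hdeg
    obtain ⟨η', hη'r, hovN⟩ := hNU.1 ξ hξ
    set PN : Subgroup ↥N := (P : Subgroup G).subgroupOf N with hPNdef
    haveI : PN.Normal := Subgroup.normal_in_normalizer
    have hPNp : IsPGroup p PN := P.isPGroup'.comap_of_injective N.subtype N.subtype_injective
    have hle := le_inertia_of_normal_of_not_dvd p KN PN hPNp ξ hdeg η' hovN
    -- the character of `C`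
    set η : IrrCharacter ↥C := ⟨(η' : ↥KN → ℂ) ∘ e.symm,
      Cfsg.Agent.Helper5.isIrrCharacter_comp_equiv e.symm η'.2⟩ with hηdef
    have hηinv : PInv (P : Subgroup G) C (η : ↥C → ℂ) := by
      intro x hx k k' hk
      have h1 : (⟨x, hPN hx⟩ : ↥N) ∈ Cfsg.Agent.Helper18.inertia KN (η' : ↥KN → ℂ) := hle hx
      rw [Cfsg.Agent.Helper18.mem_inertia] at h1
      have h2 := congrFun h1 (e.symm k)
      rw [Cfsg.Agent.Helper5.conjFun_apply] at h2
      show (η' : ↥KN → ℂ) (e.symm k') = (η' : ↥KN → ℂ) (e.symm k)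
      rw [← h2]
      refine congrArg _ ?_
      apply Subtype.ext; apply Subtype.ext
      exact hk
    have htrη : tr η = η' := by
      apply Subtype.ext
      funext k
      show (η' : ↥KN → ℂ) (e.symm (e k)) = _
      rw [MulEquiv.symm_apply_apply]
    obtain ⟨θ, hθ⟩ := hfbij.2 ⟨η, hηinv⟩
    have hηr : IsRealFun (η : ↥C → ℂ) := by
      rw [← htr_real, htrη]
      exact hη'r
    have hθr : IsRealFun (θ.1 : ↥K → ℂ) := by
      rw [← corr_real_iff p (P : Subgroup G) K C hCK f hcorr hfbij.1 θ, hθ]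
      exact hηr
    obtain ⟨χ, hχr, hov⟩ := exists_real_over K hodd θ.1 hθr
    refine ⟨⟨χ, hχr⟩, θ, hθr, hov, ?_⟩
    rw [hθ]
    show classInner (fun k : KN => (ξ : ↥N → ℂ) k) ((tr η : IrrCharacter ↥KN) : ↥KN → ℂ) ≠ 0
    rw [htrη]
    exact hovN
  -- build the map
  have hex : ∀ χ : {χ : IrrCharacter G // ∀ g : G, ((χ : G → ℂ) g).im = 0},
      ∃ ξ : {ξ : IrrCharacter ↥N // (∀ n, ((ξ : ↥N → ℂ) n).im = 0) ∧
        ¬ p ∣ charDegree (ξ : ↥N → ℂ)}, R χ ξ.1 := by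
    intro χ
    obtain ⟨ξ, hξr, hR⟩ := htotal χ
    refine ⟨⟨ξ, hξr, ?_⟩, hR⟩
    intro hd
    apply hreal χ.1 χ.2
    have h0 : (charDegree (ξ : ↥N → ℂ) : ZMod p) = 0 := (ZMod.natCast_eq_zero_iff _ p).mpr hd
    rcases hdegR χ ξ hξr hR with h | h
    · rw [h0] at h
      exact (ZMod.natCast_eq_zero_iff _ p).mp h.symm
    · rw [h0] at h
      have h' : (charDegree (χ.1 : G → ℂ) : ZMod p) = 0 := by
        have := congrArg (fun z => -z) h
        simpa using this.symm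
      exact (ZMod.natCast_eq_zero_iff _ p).mp h'
  choose F hF using hex
  refine ⟨F, ⟨?_, ?_⟩, fun χ => hdegR χ (F χ).1 (F χ).2.1 (hF χ)⟩
  · intro χ χ' h
    have h1 := hF χ
    have h2 := hF χ'
    rw [← h] at h2
    exact hinjR χ χ' (F χ).1 h1 h2
  · intro ξ
    obtain ⟨χ, hχ⟩ := hsurjR ξ.1 ξ.2.1 ξ.2.2
    refine ⟨χ, ?_⟩
    apply Subtype.ext
    exact hfun χ (F χ).1 ξ.1 (F χ).2.1 ξ.2.1 (hF χ) hχ

end Main

end Cfsg.Agent.Helper24.RealNorm
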