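import Mathlib
import Cfsg.Prelude.Def_Blocks
import Cfsg.Agent.Lib.Helper24.FrobeniusSchur
import Cfsg.Agent.Lib.Helper24.CharIntegral
import Cfsg.Agent.Lib.Helper24.CharHom
import Cfsg.Agent.Lib.Helper24.Cd2Nil
import Cfsg.Agent.Lib.Helper5.Clifford

/-!
# Real characters of degree prime to `p` (helper24's shared library), part A

* `exists_linear_constituent`: a character of a `p`-group of degree prime to `p` has a linear
  constituent.
* `char_eq_of_not_dvd`: an irreducible character of `G` of degree prime to `p` is trivial on every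
  normal subgroup `M ≤ P'`, `P` a Sylow `p`-subgroup.
* `sqrtCount_mul_eq`: if all real-valued irreducible characters contain `M` in their kernel, the
  number of square roots is constant on cosets of `M`.
* `commute_of_sqrtCount`: counting square roots of `a m`.
-/

set_option autoImplicit false
set_option linter.style.haveILetI false
set_option linter.unusedSectionVars false

namespace Cfsg.Agent.Helper24.RealP

open Cfsg Cfsg.Agent.Helper24 Cfsg.Agent.Helper5
open scoped ComplexConjugate

universe u

/-- A character of a `p`-group of degree prime to `p` has a linear constituent. -/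
theorem exists_linear_constituent {P : Type u} [Group P] [Fintype P] {p : ℕ} [hp : Fact p.Prime]
    (hP : IsPGroup p P) {ρ : P → ℂ} (hρ : IsCharacter P ρ) (hd : ¬ p ∣ charDegree ρ) :
    ∃ ψ : P → ℂ, IsIrrCharacter P ψ ∧ charDegree ψ = 1 ∧ classInner ρ ψ ≠ 0 := by
  classical
  letI := irrFintype (G := P)
  obtain ⟨hm, hdec⟩ := isCharacter_decomp hρ
  by_contra hcon
  push Not at hcon
  apply hd
  choose m hm' using hm
  have h1 : (charDegree ρ : ℂ) =
      ∑ ψ : IrrCharacter P, (m ψ : ℂ) * (charDegree (ψ : P → ℂ) : ℂ) := by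
    rw [← char_one_eq_charDegree hρ]
    conv_lhs => rw [hdec]
    rw [Finset.sum_apply]
    apply Finset.sum_congr rfl
    intro ψ _
    rw [Pi.smul_apply, smul_eq_mul, hm' ψ, irr_one_eq_charDegree ψ.2]
  have h2 : charDegree ρ = ∑ ψ : IrrCharacter P, m ψ * charDegree (ψ : P → ℂ) := by
    exact_mod_cast h1
  rw [h2]
  apply Finset.dvd_sum
  intro ψ _
  by_cases h0 : m ψ = 0
  · rw [h0, zero_mul]; exact dvd_zero _
  · apply Dvd.dvd.mul_left
    have hne : charDegree (ψ : P → ℂ) ≠ 1 := by
      intro h
      have h3 := hcon ψ ψ.2 h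
      rw [hm' ψ] at h3
      exact h0 (by exact_mod_cast h3)
    obtain ⟨k, hk⟩ := hP.exists_card_eq
    have hdvd := charDegree_dvd_card ψ.2
    rw [hk] at hdvd
    obtain ⟨j, hj, hj'⟩ := (Nat.dvd_prime_pow hp.out).mp hdvd
    rcases j with _ | j
    · exact absurd (by simpa using hj') hne
    · rw [hj', pow_succ]; exact dvd_mul_left _ _

variable {G : Type u} [Group G] [Fintype G]

/-- An irreducible character of degree prime to `p` is trivial on a normal subgroup inside the
derived subgroup of a Sylow `p`-subgroup. -/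
theorem char_eq_of_not_dvd {p : ℕ} [hp : Fact p.Prime] (P : Sylow p G) (M : Subgroup G)
    [hM : M.Normal] (hMP : M ≤ ⁅(P : Subgroup G), (P : Subgroup G)⁆) {χ : G → ℂ}
    (hχ : IsIrrCharacter G χ) (hd : ¬ p ∣ charDegree χ) {m : G} (hm : m ∈ M) : χ m = χ 1 := by
  classical
  letI : Fintype (P : Subgroup G) := Fintype.ofFinite _
  letI : Fintype M := Fintype.ofFinite _
  have hχc := isCharacter_of_isIrrCharacter hχ
  have hρ : IsCharacter (P : Subgroup G) (fun x : (P : Subgroup G) => χ x) :=
    isCharacter_restrict (P : Subgroup G) hχc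
  have hdeg : charDegree (fun x : (P : Subgroup G) => χ x) = charDegree χ := rfl
  obtain ⟨ψ, hψ, hψ1, hψc⟩ := exists_linear_constituent P.isPGroup' hρ (by rw [hdeg]; exact hd)
  obtain ⟨ρ', hρ', hsum⟩ := exists_add_of_constituent hρ hψ hψc
  have hMP' : M ≤ (P : Subgroup G) := by
    refine hMP.trans ?_
    rw [← Subgroup.map_subtype_commutator]
    exact Subgroup.map_subtype_le _
  -- restriction of χ to M
  have hψM : ∀ x : M, ψ ⟨x, hMP' x.2⟩ = 1 := by
    intro x
    apply Cd2.linear_eq_one_on_commutator hψ hψ1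
    have hx : (x : G) ∈ ⁅(P : Subgroup G), (P : Subgroup G)⁆ := hMP x.2
    rw [← Subgroup.map_subtype_commutator, commutator_def] at hx
    obtain ⟨y, hy, hyx⟩ := hx
    have : y = ⟨x, hMP' x.2⟩ := Subtype.ext hyx
    rw [← this, commutator_def]
    exact hy
  have hresM : (fun x : M => χ x) = (fun _ : M => (1 : ℂ)) + (fun x : M => ρ' ⟨x, hMP' x.2⟩) := by
    funext x
    have := congrFun hsum ⟨x, hMP' x.2⟩
    simp only [Pi.add_apply] at this ⊢
    rw [← hψM x, ← this]
  have hρ'M : IsCharacter M (fun x : M => ρ' ⟨x, hMP' x.2⟩) :=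
    isCharacter_comp (Subgroup.inclusion hMP') hρ'
  have h1 : classInner (fun x : M => χ x) (fun _ : M => (1 : ℂ)) ≠ 0 := by
    rw [hresM]
    apply classInner_add_ne_zero (isCharacter_of_isIrrCharacter isIrrCharacter_one) hρ'M
      (isCharacter_of_isIrrCharacter isIrrCharacter_one)
    rw [irr_orthogonality isIrrCharacter_one isIrrCharacter_one, if_pos rfl]
    exact one_ne_zero
  obtain ⟨e, he0, he, heq⟩ := restrict_eq_smul_of_invariant M hχ (ϑ := fun _ : M => (1 : ℂ))
    isIrrCharacter_one (fun g => rfl) h1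
  have h2 := congrFun heq ⟨m, hm⟩
  have h3 := congrFun heq 1
  simp only [Pi.smul_apply, smul_eq_mul, mul_one] at h2 h3
  rw [h2]
  exact h3.symm

/-- If every real-valued irreducible character is trivial on `M`, the number of square roots is
constant on the cosets of `M`. -/
theorem sqrtCount_mul_eq (M : Subgroup G)
    (h : ∀ χ : IrrCharacter G, (∀ g : G, ((χ : G → ℂ) g).im = 0) → ∀ m ∈ M,
      (χ : G → ℂ) m = (χ : G → ℂ) 1) (g : G) {m : G} (hm : m ∈ M) :
    sqrtCount (g * m) = sqrtCount g := by
  classical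
  letI := irrFintype (G := G)
  rw [← sum_fsInd_mul, ← sum_fsInd_mul]
  apply Finset.sum_congr rfl
  intro χ _
  by_cases h0 : fsInd (χ : G → ℂ) = 0
  · rw [h0, zero_mul, zero_mul]
  · have hreal := (fsInd_ne_zero_iff χ.2).mp h0
    have him : ∀ g : G, ((χ : G → ℂ) g).im = 0 := fun g => Complex.conj_eq_iff_im.mp (hreal g)
    have hk : m ∈ charKer (isCharacter_of_isIrrCharacter χ.2) := h χ him m hm
    rw [char_mul_of_mem_charKer (isCharacter_of_isIrrCharacter χ.2) hk]

end Cfsg.Agent.Helper24.RealP
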