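import Mathlib
import Cfsg.Prelude.Def_Blocks
import Cfsg.Agent.Lib.Helper24.RealPrimeA

/-!
# Real characters of degree prime to `p` (helper24's shared library), part B

Counting square roots: if `a` and `m` commute, have coprime orders, `m` has odd order and `a m`
has as many square roots as `a`, then every square root of `a` commutes with `m`
(`commute_of_sqrtCount_eq`).  Consequence (`commute_two_element`): if all real-valued irreducible
characters of `G` have degree prime to the odd prime `p`, then every `2`-element centralizes every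
normal subgroup `M ≤ P'`.
-/

set_option autoImplicit false
set_option linter.style.haveILetI false
set_option linter.unusedSectionVars false

namespace Cfsg.Agent.Helper24.RealP

open Cfsg Cfsg.Agent.Helper24 Cfsg.Agent.Helper5
open scoped ComplexConjugate

universe u

variable {G : Type u} [Group G] [Fintype G]

theorem sqrtCount_eq_card [DecidableEq G] (g : G) :
    sqrtCount g = ((Finset.univ.filter (fun u : G => u * u = g)).card : ℂ) := by
  unfold sqrtCount
  rw [Finset.card_filter]
  push_cast
  apply Finset.sum_congr rfl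
  intro u _
  congr 1

/-- For commuting `a`, `m` of coprime orders, `m` is a power of `a * m`. -/
theorem exists_pow_eq_right {a m : G} (hc : Commute a m)
    (hcop : (orderOf a).Coprime (orderOf m)) : ∃ n : ℕ, (a * m) ^ n = m := by
  by_cases h1 : orderOf m = 1
  · refine ⟨0, ?_⟩
    rw [pow_zero]
    exact (orderOf_eq_one_iff.mp h1).symm
  · have hpos : 0 < orderOf m := orderOf_pos m
    have h2 : 1 < orderOf m := by omega
    obtain ⟨t, -, ht⟩ := Nat.exists_mul_mod_eq_one_of_coprime hcop h2
    refine ⟨orderOf a * t, ?_⟩
    rw [hc.mul_pow, pow_mul, pow_orderOf_eq_one, one_pow, one_mul, ← pow_mod_orderOf, ht, pow_one]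

theorem commute_of_sqrtCount_eq {a m : G} (hc : Commute a m)
    (hcop : (orderOf a).Coprime (orderOf m)) (hodd : Odd (orderOf m))
    (h : sqrtCount (a * m) = sqrtCount a) (u : G) (hu : u * u = a) : Commute u m := by
  classical
  obtain ⟨j, hj⟩ := hodd
  set w : G := m ^ (j + 1) with hw
  have hww : w * w = m := by
    rw [hw, ← pow_add]
    have : j + 1 + (j + 1) = orderOf m + 1 := by omega
    rw [this, pow_succ, pow_orderOf_eq_one, one_mul]
  obtain ⟨n, hn⟩ := exists_pow_eq_right hc hcop
  rw [sqrtCount_eq_card, sqrtCount_eq_card] at h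
  have hcard : (Finset.univ.filter (fun u : G => u * u = a * m)).card =
      (Finset.univ.filter (fun u : G => u * u = a)).card := by exact_mod_cast h
  set A := Finset.univ.filter (fun u : G => u * u = a) with hA
  set A' := Finset.univ.filter (fun u : G => u * u = a ∧ Commute u m) with hA'
  set B := Finset.univ.filter (fun u : G => u * u = a * m) with hB
  have hBA' : B.card ≤ A'.card := by
    apply Finset.card_le_card_of_injOn (fun x => x * w⁻¹)
    · intro x hx
      rw [Finset.mem_coe, hB, Finset.mem_filter] at hx
      have hx2 := hx.2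
      have hxam : Commute x (a * m) := by
        rw [← hx2]
        exact (Commute.refl x).mul_right (Commute.refl x)
      have hxm : Commute x m := by
        rw [← hn]
        exact hxam.pow_right n
      have hxw : Commute x w := hxm.pow_right _
      have hwm : Commute w m := (Commute.refl m).pow_left _
      rw [Finset.mem_coe, hA', Finset.mem_filter]
      refine ⟨Finset.mem_univ _, ?_, ?_⟩
      · have hxwi : Commute x w⁻¹ := hxw.inv_right
        calc x * w⁻¹ * (x * w⁻¹) = x * (w⁻¹ * x) * w⁻¹ := by group
          _ = x * (x * w⁻¹) * w⁻¹ := by rw [hxwi.eq]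
          _ = (x * x) * (w * w)⁻¹ := by group
          _ = a := by rw [hx2, hww, mul_inv_cancel_right]
      · exact hxm.mul_left hwm.inv_left
    · intro x _ y _ hxy
      exact mul_right_cancel hxy
  have hA'A : A' ⊆ A := by
    intro x hx
    rw [hA', Finset.mem_filter] at hx
    rw [hA, Finset.mem_filter]
    exact ⟨hx.1, hx.2.1⟩
  have hle : A.card ≤ A'.card := by
    rw [← hcard]
    exact hBA'
  have heq : A' = A := Finset.eq_of_subset_of_card_le hA'A hle
  have huA : u ∈ A := by
    rw [hA, Finset.mem_filter]
    exact ⟨Finset.mem_univ _, hu⟩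
  rw [← heq, hA', Finset.mem_filter] at huA
  exact huA.2.2

/-- If all real-valued irreducible characters have degree prime to the odd prime `p`, every
`2`-element commutes with every element of a normal subgroup `M ≤ P'`. -/
theorem commute_two_element {p : ℕ} [hp : Fact p.Prime] (hp2 : p ≠ 2) (P : Sylow p G)
    (M : Subgroup G) [hM : M.Normal] (hMP : M ≤ ⁅(P : Subgroup G), (P : Subgroup G)⁆)
    (hreal : ∀ χ : IrrCharacter G, (∀ g : G, ((χ : G → ℂ) g).im = 0) →
      ¬ p ∣ charDegree (χ : G → ℂ)) :
    ∀ k : ℕ, ∀ s : G, orderOf s = 2 ^ k → ∀ m ∈ M, Commute s m := by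
  have hker : ∀ χ : IrrCharacter G, (∀ g : G, ((χ : G → ℂ) g).im = 0) → ∀ m ∈ M,
      (χ : G → ℂ) m = (χ : G → ℂ) 1 := by
    intro χ hχr m hm
    exact char_eq_of_not_dvd P M hMP χ.2 (hreal χ hχr) hm
  have hMP' : M ≤ (P : Subgroup G) := by
    refine hMP.trans ?_
    rw [← Subgroup.map_subtype_commutator]
    exact Subgroup.map_subtype_le _
  have hord : ∀ m ∈ M, ∃ i : ℕ, orderOf m = p ^ i := by
    intro m hm
    obtain ⟨i, hi⟩ := P.isPGroup' ⟨m, hMP' hm⟩
    have h1 : m ^ p ^ i = 1 := by
      have := congrArg Subtype.val hi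
      simpa using this
    obtain ⟨j, -, hj⟩ := (Nat.dvd_prime_pow hp.out).mp (orderOf_dvd_of_pow_eq_one h1)
    exact ⟨j, hj⟩
  have hpodd : Odd p := hp.out.odd_of_ne_two hp2
  intro k
  induction k with
  | zero =>
    intro s hs m _
    rw [pow_zero, orderOf_eq_one_iff] at hs
    rw [hs]
    exact Commute.one_left m
  | succ k ih =>
    intro s hs m hm
    have ha : orderOf (s * s) = 2 ^ k := by
      rw [← pow_two, orderOf_pow' s two_ne_zero, hs, pow_succ]
      have : Nat.gcd (2 ^ k * 2) 2 = 2 := Nat.gcd_eq_right (dvd_mul_left 2 _)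
      rw [this]
      exact Nat.mul_div_cancel _ two_pos
    obtain ⟨i, hi⟩ := hord m hm
    have hc : Commute (s * s) m := ih (s * s) ha m hm
    have hcop : (orderOf (s * s)).Coprime (orderOf m) := by
      rw [ha, hi]
      apply Nat.Coprime.pow
      rw [Nat.coprime_primes Nat.prime_two hp.out]
      exact fun h => hp2 h.symm
    have hodd : Odd (orderOf m) := by
      rw [hi]
      exact hpodd.pow
    exact commute_of_sqrtCount_eq hc hcop hodd (sqrtCount_mul_eq M hker (s * s) hm) s rfl

end Cfsg.Agent.Helper24.RealP
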