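import Mathlib
import Cfsg.Prelude.Def_Blocks
import Cfsg.Agent.Lib.Helper24.RealPrimeB
import Cfsg.Agent.Lib.Helper24.CharAbelian
import Cfsg.Agent.Lib.Helper18.CliffordCorr
import Cfsg.Agent.Lib.Helper5.Dade

/-!
# Real characters of degree prime to `p` (helper24's shared library), part C

`char_eq_of_coprime_action`: `V ⊲ G` abelian, `Q` a `p`-subgroup of order prime to `|V|` with
`QV ⊲ G` and `C_V(Q) = 1`.  Then every irreducible character of `G` of degree prime to `p` is
trivial on `V`.
-/

set_option autoImplicit false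
set_option linter.style.haveILetI false
set_option linter.unusedSectionVars false

namespace Cfsg.Agent.Helper24.RealP

open Cfsg Cfsg.Agent.Helper24 Cfsg.Agent.Helper5 Cfsg.Agent.Helper18
open scoped ComplexConjugate

universe u

variable {G : Type u} [Group G] [Fintype G]

/-- For `N` normal, `[N : N ∩ T]` divides `[G : T]`. -/
theorem relIndex_dvd_index_of_normal_right (T N : Subgroup G) [hN : N.Normal] :
    T.relIndex N ∣ T.index := by
  have h1 := card_mul_card_inf_eq N T
  have h2 : Nat.card ↥(T ⊓ N) * (T ⊓ N).relIndex N = Nat.card N := by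
    have := Subgroup.relIndex_mul_relIndex (⊥ : Subgroup G) (T ⊓ N) N bot_le inf_le_right
    rwa [Subgroup.relIndex_bot_left, Subgroup.relIndex_bot_left] at this
  have h3 : (T ⊓ N).relIndex N = T.relIndex N := Subgroup.inf_relIndex_right T N
  have h4 : Nat.card T * T.index = Nat.card G := T.card_mul_index
  refine ⟨(T ⊔ N).index, ?_⟩
  have hpos : 0 < Nat.card ↥(T ⊓ N) * Nat.card T := Nat.mul_pos Nat.card_pos Nat.card_pos
  apply Nat.eq_of_mul_eq_mul_left hpos
  rw [← h3]
  calc Nat.card ↥(T ⊓ N) * Nat.card T * T.index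
      = Nat.card G * Nat.card ↥(T ⊓ N) := by rw [← h4]; ring
    _ = Nat.card N * Nat.card T * (T ⊔ N).index := h1
    _ = Nat.card ↥(T ⊓ N) * Nat.card T * ((T ⊓ N).relIndex N * (T ⊔ N).index) := by
        rw [← h2]; ring

/-- A `Q`-invariant linear character of the abelian group `V` is trivial when `C_V(Q) = 1` and
the orders are coprime. -/
theorem linear_eq_one_of_invariant (V Q : Subgroup G) [hV : V.Normal]
    (hVc : ∀ a b : V, a * b = b * a) (hcop : (Nat.card Q).Coprime (Nat.card V))
    (hC : V ⊓ Subgroup.centralizer (Q : Set G) = ⊥) (f : V →* ℂˣ)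
    (hinv : ∀ x ∈ Q, ∀ v : V, f ⟨x * v * x⁻¹, hV.conj_mem (v : G) v.2 x⟩ = f v) (v : V) :
    f v = 1 := by
  classical
  letI : Fintype Q := Fintype.ofFinite Q
  letI : CommGroup V := { (inferInstance : Group V) with mul_comm := hVc }
  set n : V := ∏ a : Q, (MulAut.conjNormal (a : G) : MulAut V) v with hn
  have hfn : f n = f v ^ Nat.card Q := by
    rw [hn, map_prod]
    have : ∀ a : Q, f ((MulAut.conjNormal (a : G) : MulAut V) v) = f v := by
      intro a
      exact hinv a a.2 v
    rw [Finset.prod_congr rfl (fun a _ => this a), Finset.prod_const, Finset.card_univ,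
      Nat.card_eq_fintype_card]
  have hfix : ∀ b : Q, (MulAut.conjNormal (b : G) : MulAut V) n = n := by
    intro b
    rw [hn, map_prod]
    refine Fintype.prod_equiv (Equiv.mulLeft b) _ _ (fun a => ?_)
    simp only [Equiv.coe_mulLeft, Subgroup.coe_mul, map_mul, MulAut.mul_apply]
  have hn1 : n = 1 := by
    have hmem : (n : G) ∈ V ⊓ Subgroup.centralizer (Q : Set G) := by
      refine Subgroup.mem_inf.mpr ⟨n.2, ?_⟩
      rw [Subgroup.mem_centralizer_iff]
      intro b hb
      have := congrArg Subtype.val (hfix ⟨b, hb⟩)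
      rw [MulAut.conjNormal_apply] at this
      simp only at this
      calc b * (n : G) = (b * n * b⁻¹) * b := by group
        _ = n * b := by rw [this]
    rw [hC, Subgroup.mem_bot] at hmem
    exact Subtype.ext hmem
  rw [hn1, map_one] at hfn
  have h2 : f v ^ Nat.card V = 1 := by
    rw [← map_pow, pow_card_eq_one', map_one]
  have h3 : orderOf (f v) ∣ 1 := by
    rw [← Nat.Coprime.gcd_eq_one hcop]
    exact Nat.dvd_gcd (orderOf_dvd_of_pow_eq_one hfn.symm) (orderOf_dvd_of_pow_eq_one h2)
  exact orderOf_eq_one_iff.mp (Nat.dvd_one.mp h3)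

/-- **Degrees over a fixed-point-free coprime section.** -/
theorem char_eq_of_coprime_action {p : ℕ} [hp : Fact p.Prime] (V Q : Subgroup G) [hV : V.Normal]
    (hVc : ∀ a b : V, a * b = b * a) (hQ : IsPGroup p Q)
    (hcop : (Nat.card Q).Coprime (Nat.card V)) (hN : (Q ⊔ V).Normal)
    (hC : V ⊓ Subgroup.centralizer (Q : Set G) = ⊥) {χ : G → ℂ} (hχ : IsIrrCharacter G χ)
    (hd : ¬ p ∣ charDegree χ) {v : G} (hv : v ∈ V) : χ v = χ 1 := by
  classical
  letI : Fintype V := Fintype.ofFinite V
  letI := irrFintype (G := V)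
  have hχc := isCharacter_of_isIrrCharacter hχ
  have hχV : IsCharacter V (fun x : V => χ x) := isCharacter_restrict V hχc
  have hne : (fun x : V => χ x) ≠ 0 := by
    intro h
    have h1 := congrFun h 1
    simp only [Subgroup.coe_one, Pi.zero_apply] at h1
    have h2 := charDegree_pos hχ
    rw [irr_one_eq_charDegree hχ] at h1
    have : charDegree χ = 0 := by exact_mod_cast h1
    omega
  obtain ⟨μ, hμ, hμc⟩ := exists_constituent hχV hne
  have hμ1 : charDegree μ = 1 := charDegree_eq_one_of_comm hVc hμ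
  have hμ1' : μ 1 = 1 := (charDegree_eq_one_iff hμ).mp hμ1
  set T := inertia V μ with hT
  have hVT : V ≤ T := le_inertia V (isClassFunction_of_isIrrCharacter hμ)
  -- the index of the inertia group divides the degree
  have hdeg := degree_eq_of_constituent V hχ hμ hμc
  obtain ⟨e, he⟩ := classInner_char_nat hχV (isCharacter_of_isIrrCharacter hμ)
  rw [he, hμ1', mul_one, irr_one_eq_charDegree hχ] at hdeg
  have hdeg' : charDegree χ = e * T.index := by exact_mod_cast hdeg
  have hpT : ¬ p ∣ T.index := fun h => hd (hdeg' ▸ Dvd.dvd.mul_left h e)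
  -- `Q ⊔ V ≤ T`
  haveI := hN
  have h1 : T.relIndex (Q ⊔ V) ∣ T.index := relIndex_dvd_index_of_normal_right T (Q ⊔ V)
  have h2 : T.relIndex (Q ⊔ V) ∣ V.relIndex (Q ⊔ V) := Subgroup.relIndex_dvd_of_le_left _ hVT
  have h3 : V.relIndex (Q ⊔ V) = V.relIndex Q := Subgroup.relIndex_sup_right Q V
  have h4 : V.relIndex Q ∣ Nat.card Q := by
    rw [Subgroup.relIndex]
    exact Subgroup.index_dvd_card _
  obtain ⟨k, hk⟩ := hQ.exists_card_eq
  rw [h3] at h2
  have h5 : T.relIndex (Q ⊔ V) ∣ p ^ k := hk ▸ h2.trans h4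
  obtain ⟨j, -, hj⟩ := (Nat.dvd_prime_pow hp.out).mp h5
  have hj0 : j = 0 := by
    rcases j with _ | j
    · rfl
    · exfalso
      apply hpT
      refine Dvd.dvd.trans ?_ h1
      rw [hj, pow_succ]
      exact dvd_mul_left _ _
  rw [hj0, pow_zero, Subgroup.relIndex_eq_one] at hj
  have hQT : Q ≤ T := le_sup_left.trans hj
  -- `μ` is `Q`-invariant, hence trivial
  have hμch := isCharacter_of_isIrrCharacter hμ
  have hinv : ∀ x ∈ Q, ∀ w : V, linHom hμch hμ1' ⟨x * w * x⁻¹, hV.conj_mem (w : G) w.2 x⟩ =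
      linHom hμch hμ1' w := by
    intro x hx w
    have hx' := (mem_inertia V μ x).mp (hQT hx)
    have := congrFun hx' w
    rw [conjFun_apply] at this
    apply Units.ext
    rw [linHom_apply, linHom_apply]
    exact this
  have hμtriv : μ = fun _ => (1 : ℂ) := by
    funext w
    have := linear_eq_one_of_invariant V Q hVc hcop hC (linHom hμch hμ1') hinv w
    have h6 := congrArg (fun u : ℂˣ => (u : ℂ)) this
    simpa using h6
  rw [hμtriv] at hμc
  obtain ⟨e', he0, he', heq⟩ := restrict_eq_smul_of_invariant V hχ (ϑ := fun _ : V => (1 : ℂ))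
    isIrrCharacter_one (fun g => rfl) hμc
  have h7 := congrFun heq ⟨v, hv⟩
  have h8 := congrFun heq 1
  simp only [Pi.smul_apply, smul_eq_mul, mul_one] at h7 h8
  rw [h7]
  exact h8.symm

end Cfsg.Agent.Helper24.RealP
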