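import Mathlib
import Cfsg.Prelude.Def_Blocks
import Cfsg.Agent.Lib.Helper24.RealPrimeC

/-!
# Real characters of degree prime to `p` (helper24's shared library), part D

Assume every real-valued irreducible character of `G` is trivial on the subgroup `M`.
* `commute_two_element_of_ker`: if `M` has odd order, every `2`-element centralizes `M`.
* `mem_of_sq_eq_one`: if `M` is normal with complement `H`, every `x` with `x² = 1` lies in `H`.
-/

set_option autoImplicit false
set_option linter.style.haveILetI false
set_option linter.unusedSectionVars false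

namespace Cfsg.Agent.Helper24.RealP

open Cfsg Cfsg.Agent.Helper24 Cfsg.Agent.Helper5
open scoped ComplexConjugate

universe u

variable {G : Type u} [Group G] [Fintype G]

theorem commute_two_element_of_ker (M : Subgroup G)
    (hker : ∀ χ : IrrCharacter G, (∀ g : G, ((χ : G → ℂ) g).im = 0) → ∀ m ∈ M,
      (χ : G → ℂ) m = (χ : G → ℂ) 1)
    (hodd : ∀ m ∈ M, Odd (orderOf m)) :
    ∀ k : ℕ, ∀ s : G, orderOf s = 2 ^ k → ∀ m ∈ M, Commute s m := by
  intro k
  induction k with
  | zero =>
    intro s hs m _
    rw [pow_zero, orderOf_eq_one_iff] at hs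
    rw [hs]
    exact Commute.one_left m
  | succ k ih =>
    intro s hs m hm
    have ha : orderOf (s * s) = 2 ^ k := by
      rw [← pow_two, orderOf_pow' s two_ne_zero, hs, pow_succ]
      have : Nat.gcd (2 ^ k * 2) 2 = 2 := Nat.gcd_eq_right (dvd_mul_left 2 _)
      rw [this]
      exact Nat.mul_div_cancel _ two_pos
    have hc : Commute (s * s) m := ih (s * s) ha m hm
    have hcop : (orderOf (s * s)).Coprime (orderOf m) := by
      rw [ha]
      apply Nat.Coprime.pow_left
      exact Nat.coprime_two_left.mpr (hodd m hm)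
    exact commute_of_sqrtCount_eq hc hcop (hodd m hm) (sqrtCount_mul_eq M hker (s * s) hm) s rfl

/-- If the real irreducible characters are trivial on the normal subgroup `V` with complement `H`,
every element of order at most two lies in `H`. -/
theorem mem_of_sq_eq_one (V H : Subgroup G) [hV : V.Normal] (hVH : V ⊓ H = ⊥) (hsup : V ⊔ H = ⊤)
    (hker : ∀ χ : IrrCharacter G, (∀ g : G, ((χ : G → ℂ) g).im = 0) → ∀ m ∈ V,
      (χ : G → ℂ) m = (χ : G → ℂ) 1) {x : G} (hx : x * x = 1) : x ∈ H := by
  classical
  letI : Fintype V := Fintype.ofFinite V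
  letI : Fintype H := Fintype.ofFinite H
  -- the bijection `V × H ≃ G`
  have hinj : Function.Injective (fun y : V × H => (y.1 : G) * (y.2 : G)) := by
    rintro ⟨v, h⟩ ⟨v', h'⟩ heq
    simp only at heq
    have h1 : (v' : G)⁻¹ * v = h' * (h : G)⁻¹ := by
      have : (v' : G)⁻¹ * (v * h) * (h : G)⁻¹ = (v' : G)⁻¹ * (v' * h') * (h : G)⁻¹ := by rw [heq]
      calc (v' : G)⁻¹ * v = (v' : G)⁻¹ * (v * h) * (h : G)⁻¹ := by group
        _ = (v' : G)⁻¹ * (v' * h') * (h : G)⁻¹ := this
        _ = h' * (h : G)⁻¹ := by group
    have h2 : (v' : G)⁻¹ * v ∈ V ⊓ H := by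
      refine Subgroup.mem_inf.mpr ⟨V.mul_mem (V.inv_mem v'.2) v.2, ?_⟩
      rw [h1]
      exact H.mul_mem h'.2 (H.inv_mem h.2)
    rw [hVH, Subgroup.mem_bot] at h2
    have hv : (v : G) = v' := by
      have := inv_mul_eq_one.mp h2
      exact this.symm
    have hh : (h : G) = h' := by
      rw [hv] at heq
      exact mul_left_cancel heq
    exact Prod.ext (Subtype.ext hv) (Subtype.ext hh)
  have hsurj : Function.Surjective (fun y : V × H => (y.1 : G) * (y.2 : G)) := by
    intro g
    have hg : g ∈ V ⊔ H := by rw [hsup]; exact Subgroup.mem_top g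
    rw [Subgroup.mem_sup_of_normal_left] at hg
    obtain ⟨v, hv, h, hh, rfl⟩ := hg
    exact ⟨(⟨v, hv⟩, ⟨h, hh⟩), rfl⟩
  set e : V × H ≃ G := Equiv.ofBijective _ ⟨hinj, hsurj⟩ with he
  -- count `{y : y² ∈ V}` in two ways
  have hcount1 : ∑ y : G, (if y * y ∈ V then (1 : ℂ) else 0) = (Nat.card V : ℂ) * sqrtCount (1 : G) := by
    have h1 : ∀ y : G, (if y * y ∈ V then (1 : ℂ) else 0) =
        ∑ v : V, if y * y = (v : G) then (1 : ℂ) else 0 := by
      intro y
      split_ifs with hy
      · rw [Finset.sum_eq_single (⟨y * y, hy⟩ : V)]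
        · simp
        · intro b _ hb
          rw [if_neg]
          intro h
          exact hb (Subtype.ext h.symm)
        · intro h; exact absurd (Finset.mem_univ _) h
      · symm
        apply Finset.sum_eq_zero
        intro v _
        rw [if_neg]
        intro h
        exact hy (h ▸ v.2)
    simp only [h1]
    rw [Finset.sum_comm]
    have h2 : ∀ v : V, (∑ y : G, if y * y = (v : G) then (1 : ℂ) else 0) = sqrtCount (1 : G) := by
      intro v
      have := sqrtCount_mul_eq V hker 1 v.2
      rw [one_mul] at this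
      rw [← this]
      unfold sqrtCount
      apply Finset.sum_congr rfl
      intro u _
      congr 1
    simp only [h2, Finset.sum_const, Finset.card_univ, nsmul_eq_mul, Nat.card_eq_fintype_card]
  have hcount2 : ∑ y : G, (if y * y ∈ V then (1 : ℂ) else 0) =
      (Nat.card V : ℂ) * ∑ h : H, (if (h : G) * h = 1 then (1 : ℂ) else 0) := by
    rw [← Equiv.sum_comp e]
    rw [Fintype.sum_prod_type]
    have h1 : ∀ (v : V) (h : H), (e (v, h) * e (v, h) ∈ V) ↔ ((h : G) * h = 1) := by
      intro v h
      have hev : e (v, h) = (v : G) * h := rfl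
      rw [hev]
      have hdec : (v : G) * h * (v * h) = (v * (h * v * (h : G)⁻¹)) * ((h : G) * h) := by group
      rw [hdec]
      have hvv : (v : G) * (h * v * (h : G)⁻¹) ∈ V := V.mul_mem v.2 (hV.conj_mem v v.2 h)
      constructor
      · intro hmem
        have h2 : (h : G) * h ∈ V := by
          have := V.mul_mem (V.inv_mem hvv) hmem
          rwa [inv_mul_cancel_left] at this
        have h3 : (h : G) * h ∈ V ⊓ H := Subgroup.mem_inf.mpr ⟨h2, H.mul_mem h.2 h.2⟩
        rw [hVH, Subgroup.mem_bot] at h3
        exact h3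
      · intro h2
        rw [h2, mul_one]
        exact hvv
    simp only [h1]
    rw [Finset.sum_const, Finset.card_univ, nsmul_eq_mul, Nat.card_eq_fintype_card]
  have hVne : (Nat.card V : ℂ) ≠ 0 := by
    have : Nat.card V ≠ 0 := Nat.card_pos.ne'
    exact_mod_cast this
  have hkey : ∑ h : H, (if (h : G) * h = 1 then (1 : ℂ) else 0) = sqrtCount (1 : G) := by
    have := hcount1.symm.trans hcount2
    exact (mul_left_cancel₀ hVne this).symm
  -- hence the involutions of `G` all lie in `H`
  have hkey2 : ((Finset.univ.filter (fun h : H => (h : G) * h = 1)).card : ℂ) =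
      ((Finset.univ.filter (fun u : G => u * u = 1)).card : ℂ) := by
    rw [← sqrtCount_eq_card (1 : G), ← hkey, Finset.card_filter]
    push_cast
    apply Finset.sum_congr rfl
    intro h _
    congr 1
  have hkey3 : (Finset.univ.filter (fun h : H => (h : G) * h = 1)).card =
      (Finset.univ.filter (fun u : G => u * u = 1)).card := by exact_mod_cast hkey2
  have himg : (Finset.univ.filter (fun h : H => (h : G) * h = 1)).image (fun h : H => (h : G)) =
      Finset.univ.filter (fun u : G => u * u = 1) := by
    apply Finset.eq_of_subset_of_card_le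
    · intro u hu
      rw [Finset.mem_image] at hu
      obtain ⟨h, hh, rfl⟩ := hu
      rw [Finset.mem_filter] at hh ⊢
      exact ⟨Finset.mem_univ _, hh.2⟩
    · rw [Finset.card_image_of_injective _ Subtype.val_injective, hkey3]
  have hxmem : x ∈ Finset.univ.filter (fun u : G => u * u = 1) := by
    rw [Finset.mem_filter]
    exact ⟨Finset.mem_univ _, hx⟩
  rw [← himg, Finset.mem_image] at hxmem
  obtain ⟨h, -, rfl⟩ := hxmem
  exact h.2

end Cfsg.Agent.Helper24.RealP
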