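import Mathlib
import Cfsg.Prelude.Def_Blocks
import Cfsg.Agent.Lib.Helper24.RealPrimeD
import Cfsg.Agent.Lib.Helper24.RealPrimeE
import Cfsg.Agent.Lib.Helper24.CharQuotient

/-!
# Real characters of degree prime to `p` (helper24's shared library), part F

`Good p G`: for every solvable normal `L` of index prime to `p`, if all real-valued irreducible
characters of `G` have degree prime to `p`, then for every normal `U` containing all `2`-elements
with `U / O^{2'}(G)` a `p`-group, every Sylow `p`-subgroup of `U` is normal in `G`.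
`quotient_step`: passage to a quotient.
-/

set_option autoImplicit false
set_option linter.style.haveILetI false
set_option linter.unusedSectionVars false

namespace Cfsg.Agent.Helper24.RealP

open Cfsg Cfsg.Agent.Helper24 Cfsg.Agent.Helper5
open scoped ComplexConjugate

universe u

/-- The statement proved by induction on the group order. -/
def Good (p : ℕ) (G : Type u) [Group G] : Prop :=
  ∀ (L : Subgroup G), L.Normal → Group.IsSolvable L → ¬ p ∣ L.index →
  (∀ χ : IrrCharacter G, (∀ g : G, ((χ : G → ℂ) g).im = 0) → ¬ p ∣ charDegree (χ : G → ℂ)) →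
  ∀ (U : Subgroup G) (a : ℕ), U.Normal → (∀ g : G, (∃ k : ℕ, orderOf g = 2 ^ k) → g ∈ U) →
  (∀ u ∈ U, u ^ (p ^ a) ∈ Subgroup.closure {g : G | ∃ k : ℕ, orderOf g = 2 ^ k}) →
  ∀ Q : Subgroup G, Q ≤ U → IsPGroup p Q → ¬ p ∣ Q.relIndex U → Q.Normal

variable {G : Type u} [Group G] [Finite G]

theorem quotient_step {p : ℕ} [hp : Fact p.Prime] (W : Subgroup G) [hW : W.Normal]
    (hgood : Good p (G ⧸ W))
    (L : Subgroup G) (hLn : L.Normal) (hLs : Group.IsSolvable L) (hLi : ¬ p ∣ L.index)
    (hreal : ∀ χ : IrrCharacter G, (∀ g : G, ((χ : G → ℂ) g).im = 0) →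
      ¬ p ∣ charDegree (χ : G → ℂ))
    (U : Subgroup G) (a : ℕ) (hUn : U.Normal)
    (h2 : ∀ g : G, (∃ k : ℕ, orderOf g = 2 ^ k) → g ∈ U)
    (hUp : ∀ u ∈ U, u ^ (p ^ a) ∈ Subgroup.closure {g : G | ∃ k : ℕ, orderOf g = 2 ^ k})
    (Q : Subgroup G) (hQU : Q ≤ U) (hQp : IsPGroup p Q) (hQi : ¬ p ∣ Q.relIndex U)
    (hWU : W ≤ U) : (Q ⊔ W).Normal := by
  classical
  set π := QuotientGroup.mk' W with hπ
  have hsurj : Function.Surjective π := QuotientGroup.mk'_surjective W
  have hker : π.ker = W := QuotientGroup.ker_mk' W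
  have hnorm : (Q.map π).Normal := by
    apply hgood (L.map π) (hLn.map π hsurj) ?_ ?_ ?_ (U.map π) a (hUn.map π hsurj) ?_ ?_
      (Q.map π) (Subgroup.map_mono hQU) (hQp.map π) ?_
    · haveI := hLs
      exact Group.isSolvable_of_surjective (f := π.subgroupMap L) (π.subgroupMap_surjective L)
    · intro h
      exact hLi (h.trans (Subgroup.index_map_dvd L hsurj))
    · intro χ hχr
      have hirr : IsIrrCharacter G ((χ : G ⧸ W → ℂ) ∘ (QuotientGroup.mk : G → G ⧸ W)) :=
        isIrrCharacter_inflate W χ.2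
      have := hreal ⟨_, hirr⟩ (fun g => hχr _)
      rwa [charDegree_inflate] at this
    · intro g hg
      exact mem_map_of_prime_pow_order π hsurj U Nat.prime_two h2 g hg
    · intro u hu
      obtain ⟨u', hu', rfl⟩ := hu
      have h3 := hUp u' hu'
      have h4 : π (u' ^ p ^ a) ∈ (Subgroup.closure {g : G | ∃ k : ℕ, orderOf g = 2 ^ k}).map π :=
        Subgroup.mem_map_of_mem π h3
      rw [MonoidHom.map_closure, map_pow] at h4
      refine Subgroup.closure_mono ?_ h4
      rintro _ ⟨g, ⟨k, hk⟩, rfl⟩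
      have h5 : orderOf (π g) ∣ 2 ^ k := hk ▸ orderOf_map_dvd π g
      obtain ⟨j, -, hj⟩ := (Nat.dvd_prime_pow Nat.prime_two).mp h5
      exact ⟨j, hj⟩
    · intro h
      apply hQi
      rw [Subgroup.relIndex_map_map, hker] at h
      have h6 : U ⊔ W = U := sup_eq_left.mpr hWU
      rw [h6] at h
      exact h.trans (Subgroup.relIndex_dvd_of_le_left U le_sup_left)
  have := hnorm.comap π
  rwa [Subgroup.comap_map_eq, hker] at this

end Cfsg.Agent.Helper24.RealP
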