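import Mathlib
import Cfsg.Prelude.Def_Blocks
import Cfsg.Agent.Lib.Helper24.RealPrimeF

/-!
# Real characters of degree prime to `p` (helper24's shared library), part G

`good_all`: `Good p G` holds for every finite group (Isaacs–Navarro).
-/

set_option autoImplicit false
set_option linter.style.haveILetI false
set_option linter.unusedSectionVars false
set_option maxHeartbeats 800000

namespace Cfsg.Agent.Helper24.RealP

open Cfsg Cfsg.Agent.Helper24 Cfsg.Agent.Helper5
open scoped ComplexConjugate

universe u

theorem mem_normalizer_of_conj_mem {G : Type u} [Group G] (H : Subgroup G) (g : G)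
    (h1 : ∀ h ∈ H, g * h * g⁻¹ ∈ H) (h2 : ∀ h ∈ H, g⁻¹ * h * g ∈ H) :
    g ∈ Subgroup.normalizer (H : Set G) := by
  rw [Subgroup.mem_normalizer_iff]
  intro h
  constructor
  · exact h1 h
  · intro hh
    have := h2 _ hh
    have e : g⁻¹ * (g * h * g⁻¹) * g = h := by group
    rwa [e] at this

theorem good_all (p : ℕ) [hp : Fact p.Prime] :
    ∀ n : ℕ, ∀ (G : Type u) [Group G] [Finite G], Nat.card G = n → Good p G := by
  intro n
  induction n using Nat.strong_induction_on with
  | _ n ih =>
  intro G _ _ hn L hLn hLs hLi hreal U a hUn h2 hUp Q hQU hQp hQi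
  classical
  letI : Fintype G := Fintype.ofFinite G
  haveI := hLn
  haveI := hUn
  by_cases hQ1 : Q = ⊥
  · rw [hQ1]; exact Subgroup.normal_bot
  have hQL : Q ≤ L := by
    intro x hx
    obtain ⟨k, hk⟩ := hQp ⟨x, hx⟩
    have h1 : x ^ (p ^ k) = 1 := by
      have := congrArg Subtype.val hk
      simpa using this
    have h3 : x ^ L.index ∈ L := Subgroup.pow_index_mem L x
    apply mem_of_pow_mem_of_coprime L (m := p ^ k) (n := L.index) ?_ (h1 ▸ L.one_mem) h3
    exact Nat.Coprime.pow_left k ((Nat.Prime.coprime_iff_not_dvd hp.out).mpr hLi)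
  set M := L ⊓ U with hM
  haveI hMn : M.Normal := inferInstance
  have hMs : Group.IsSolvable M := by
    haveI := hLs
    exact Group.isSolvable_of_isSolvable_injective
      (f := Subgroup.inclusion (inf_le_left : M ≤ L)) (Subgroup.inclusion_injective _)
  have hMne : M ≠ ⊥ := by
    intro h
    apply hQ1
    rw [eq_bot_iff, ← h]
    exact le_inf hQL hQU
  obtain ⟨r, hr, V, hVn, hVM, hVne, hVc, hVr⟩ := exists_normal_abelian_pgroup M hMs hMne
  haveI := hVn
  haveI : Fact r.Prime := ⟨hr⟩
  have hVU : V ≤ U := hVM.trans inf_le_right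
  have hcardlt : ∀ W : Subgroup G, W.Normal → W ≠ ⊥ → Nat.card (G ⧸ W) < n := by
    intro W _ hW
    rw [← hn, ← Subgroup.index_eq_card, ← W.card_mul_index]
    have h1 : 1 < Nat.card W := W.one_lt_card_iff_ne_bot.mpr hW
    have h2 : 0 < W.index := Nat.pos_of_ne_zero W.index_ne_zero_of_finite
    nlinarith
  have hstep : ∀ W : Subgroup G, W.Normal → W ≠ ⊥ → W ≤ U → (Q ⊔ W).Normal := by
    intro W hW hWne hWU
    haveI := hW
    exact quotient_step W (ih _ (hcardlt W hW hWne) (G ⧸ W) rfl) L hLn hLs hLi hreal U a hUn h2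
      hUp Q hQU hQp hQi hWU
  have hQV : (Q ⊔ V).Normal := hstep V hVn hVne hVU
  by_cases hrp : r = p
  · subst hrp
    have hQVp : IsPGroup r (Q ⊔ V : Subgroup G) := hQp.to_sup_of_normal_right hVr
    have hle : Q ⊔ V ≤ Q := by
      rw [← Subgroup.relIndex_eq_one]
      have h1 : Q.relIndex (Q ⊔ V) ∣ Q.relIndex U :=
        Dvd.intro _ (Subgroup.relIndex_mul_relIndex Q (Q ⊔ V) U le_sup_left (sup_le hQU hVU))
      have h3 : Q.relIndex (Q ⊔ V) ∣ Nat.card (Q ⊔ V : Subgroup G) := Subgroup.relIndex_dvd_card _ _
      obtain ⟨k, hk⟩ := hQVp.exists_card_eq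
      rw [hk] at h3
      obtain ⟨j, -, hj⟩ := (Nat.dvd_prime_pow hr).mp h3
      rcases j with _ | j
      · simpa using hj
      · exfalso
        apply hQi
        refine Dvd.dvd.trans ?_ h1
        rw [hj, pow_succ]
        exact dvd_mul_left _ _
    have heq : Q ⊔ V = Q := le_antisymm hle le_sup_left
    rwa [heq] at hQV
  · have hcop : (Nat.card Q).Coprime (Nat.card V) := by
      obtain ⟨k, hk⟩ := hQp.exists_card_eq
      obtain ⟨j, hj⟩ := hVr.exists_card_eq
      rw [hk, hj]
      apply Nat.Coprime.pow
      exact (Nat.coprime_primes hp.out hr).mpr (Ne.symm hrp)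
    have hQVbot : Q ⊓ V = ⊥ := (Subgroup.disjoint_of_coprime_natCard hcop).eq_bot
    -- Frattini
    have hfrat : Subgroup.normalizer (Q : Set G) ⊔ V = ⊤ := by
      haveI := hQV
      have hidx : ¬ p ∣ (Q.subgroupOf (Q ⊔ V)).index := by
        intro h
        apply hQi
        have h1 : Q.relIndex (Q ⊔ V) ∣ Q.relIndex U :=
          Dvd.intro _ (Subgroup.relIndex_mul_relIndex Q (Q ⊔ V) U le_sup_left (sup_le hQU hVU))
        exact h.trans h1
      have hPg : IsPGroup p (Q.subgroupOf (Q ⊔ V)) := hQp.comap_subtype
      set P : Sylow p (Q ⊔ V : Subgroup G) := hPg.toSylow hidx with hP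
      have h1 := Sylow.normalizer_sup_eq_top P
      have h2 : (P : Subgroup (Q ⊔ V : Subgroup G)).map (Q ⊔ V : Subgroup G).subtype = Q := by
        rw [hP, IsPGroup.toSylow_coe, Subgroup.subgroupOf_map_subtype]
        exact inf_of_le_left le_sup_left
      rw [h2] at h1
      rw [eq_top_iff, ← h1]
      apply sup_le le_sup_left
      apply sup_le (Subgroup.le_normalizer.trans le_sup_left) le_sup_right
    set C := V ⊓ Subgroup.centralizer (Q : Set G) with hC
    have hCn : C.Normal := by
      rw [← Subgroup.normalizer_eq_top_iff, eq_top_iff, ← hfrat]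
      apply sup_le
      · intro g hg
        have hg' := Subgroup.mem_normalizer_iff.mp hg
        have key : ∀ g : G, (∀ q, q ∈ Q ↔ g * q * g⁻¹ ∈ Q) → ∀ c ∈ C, g * c * g⁻¹ ∈ C := by
          intro g hg' c hc
          obtain ⟨hcV, hcQ⟩ := Subgroup.mem_inf.mp hc
          refine Subgroup.mem_inf.mpr ⟨hVn.conj_mem c hcV g, ?_⟩
          rw [Subgroup.mem_centralizer_iff]
          intro q hq
          have hq' : g⁻¹ * q * g ∈ Q := by
            rw [hg' (g⁻¹ * q * g)]
            have e : g * (g⁻¹ * q * g) * g⁻¹ = q := by group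
            rw [e]; exact hq
          have h3 := (Subgroup.mem_centralizer_iff.mp hcQ) _ hq'
          calc q * (g * c * g⁻¹) = g * ((g⁻¹ * q * g) * c) * g⁻¹ := by group
            _ = g * (c * (g⁻¹ * q * g)) * g⁻¹ := by rw [h3]
            _ = g * c * g⁻¹ * q := by group
        apply mem_normalizer_of_conj_mem C g (key g hg')
        intro c hc
        have hginv : ∀ q, q ∈ Q ↔ g⁻¹ * q * g⁻¹⁻¹ ∈ Q := by
          intro q
          rw [inv_inv]
          constructor
          · intro hq
            rw [hg' (g⁻¹ * q * g)]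
            have e : g * (g⁻¹ * q * g) * g⁻¹ = q := by group
            rw [e]; exact hq
          · intro hq
            have := (hg' _).mp hq
            have e : g * (g⁻¹ * q * g) * g⁻¹ = q := by group
            rwa [e] at this
        have := key g⁻¹ hginv c hc
        rwa [inv_inv] at this
      · intro v hv
        have key : ∀ v ∈ V, ∀ c ∈ C, v * c * v⁻¹ ∈ C := by
          intro v hv c hc
          have hcV : c ∈ V := (Subgroup.mem_inf.mp hc).1
          have := hVc ⟨v, hv⟩ ⟨c, hcV⟩
          have h3 : v * c = c * v := congrArg Subtype.val this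
          rw [h3, mul_inv_cancel_right]
          exact hc
        apply mem_normalizer_of_conj_mem C v (key v hv)
        intro c hc
        have := key v⁻¹ (V.inv_mem hv) c hc
        rwa [inv_inv] at this
    by_cases hC1 : C = ⊥
    · exfalso
      set H := Subgroup.normalizer (Q : Set G) with hH
      have hVH : V ⊓ H = ⊥ := by
        rw [eq_bot_iff]
        intro x hx
        obtain ⟨hxV, hxH⟩ := Subgroup.mem_inf.mp hx
        have hxC : x ∈ C := by
          refine Subgroup.mem_inf.mpr ⟨hxV, ?_⟩
          rw [Subgroup.mem_centralizer_iff]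
          intro q hq
          have h3 : x * q * x⁻¹ * q⁻¹ ∈ Q ⊓ V := by
            refine Subgroup.mem_inf.mpr ⟨?_, ?_⟩
            · exact Q.mul_mem ((Subgroup.mem_normalizer_iff.mp hxH q).mp hq) (Q.inv_mem hq)
            · have : x * q * x⁻¹ * q⁻¹ = x * (q * x⁻¹ * q⁻¹) := by group
              rw [this]
              exact V.mul_mem hxV (hVn.conj_mem _ (V.inv_mem hxV) q)
          rw [hQVbot, Subgroup.mem_bot] at h3
          calc q * x = (x * q * x⁻¹ * q⁻¹)⁻¹ * (x * q) := by group
            _ = x * q := by rw [h3, inv_one, one_mul]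
        rw [hC1] at hxC
        exact hxC
      have hsup : V ⊔ H = ⊤ := by rw [sup_comm]; exact hfrat
      have hker : ∀ χ : IrrCharacter G, (∀ g : G, ((χ : G → ℂ) g).im = 0) → ∀ m ∈ V,
          (χ : G → ℂ) m = (χ : G → ℂ) 1 := by
        intro χ hχr m hm
        exact char_eq_of_coprime_action V Q hVc hQp hcop hQV hC1 χ.2 (hreal χ hχr) hm
      obtain ⟨j, hj⟩ := hVr.exists_card_eq
      by_cases hr2 : r = 2
      · subst hr2
        have hj0 : j ≠ 0 := by
          rintro rfl
          rw [pow_zero] at hj
          exact hVne (Subgroup.card_eq_one.mp hj)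
        have hdvd : 2 ∣ Nat.card V := by
          rw [hj]
          exact dvd_pow_self 2 hj0
        obtain ⟨x, hx⟩ := exists_prime_orderOf_dvd_card' 2 hdvd
        have hx2 : (x : G) * (x : G) = 1 := by
          have h3 : x ^ 2 = 1 := by rw [← hx]; exact pow_orderOf_eq_one x
          have := congrArg Subtype.val h3
          simpa [pow_two] using this
        have hxH : (x : G) ∈ H := mem_of_sq_eq_one V H hVH hsup hker hx2
        have hxb : (x : G) ∈ V ⊓ H := Subgroup.mem_inf.mpr ⟨x.2, hxH⟩
        rw [hVH, Subgroup.mem_bot] at hxb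
        have hx1 : x = 1 := Subtype.ext hxb
        rw [hx1, orderOf_one] at hx
        omega
      · have hrodd : Odd r := hr.odd_of_ne_two hr2
        have hodd : ∀ m ∈ V, Odd (orderOf m) := by
          intro m hm
          have h3 : orderOf (⟨m, hm⟩ : V) ∣ r ^ j := hj ▸ orderOf_dvd_natCard _
          obtain ⟨i, -, hi⟩ := (Nat.dvd_prime_pow hr).mp h3
          have h4 : orderOf m = orderOf (⟨m, hm⟩ : V) := (Subgroup.orderOf_mk m hm).symm
          rw [h4, hi]
          exact hrodd.pow
        have hcent := commute_two_element_of_ker V hker hodd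
        have hKH : Subgroup.closure {g : G | ∃ k : ℕ, orderOf g = 2 ^ k} ≤ H := by
          rw [Subgroup.closure_le]
          rintro g ⟨k, hk⟩
          have hg : g ∈ V ⊔ H := by rw [hsup]; exact Subgroup.mem_top g
          rw [Subgroup.mem_sup_of_normal_left] at hg
          obtain ⟨v, hv, h, hh, hvh⟩ := hg
          have hcomm : Commute g v := hcent k g hk v hv
          have hheq : h = v⁻¹ * g := by rw [← hvh]; group
          have hpow : h ^ (2 ^ k) = (v ^ (2 ^ k))⁻¹ := by
            rw [hheq, (hcomm.symm.inv_left).mul_pow, ← hk, pow_orderOf_eq_one, mul_one, inv_pow]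
          have h5 : (v ^ (2 ^ k))⁻¹ ∈ V ⊓ H := by
            refine Subgroup.mem_inf.mpr ⟨V.inv_mem (V.pow_mem hv _), ?_⟩
            rw [← hpow]
            exact H.pow_mem hh _
          rw [hVH, Subgroup.mem_bot, inv_eq_one] at h5
          have h6 : orderOf v ∣ 2 ^ k := orderOf_dvd_of_pow_eq_one h5
          have h7 : orderOf v = 1 := by
            have hod := hodd v hv
            obtain ⟨i, -, hi⟩ := (Nat.dvd_prime_pow Nat.prime_two).mp h6
            rcases i with _ | i
            · simpa using hi
            · exfalso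
              rw [hi, pow_succ] at hod
              exact (Nat.not_odd_iff_even.mpr (even_two.mul_left _)) hod
          have hv1 : v = 1 := orderOf_eq_one_iff.mp h7
          rw [hv1, one_mul] at hvh
          rw [SetLike.mem_coe, ← hvh]
          exact hh
        have hVK : V ≤ Subgroup.closure {g : G | ∃ k : ℕ, orderOf g = 2 ^ k} := by
          intro v hv
          have h3 := hUp v (hVU hv)
          have h4 : v ^ Nat.card V ∈ Subgroup.closure {g : G | ∃ k : ℕ, orderOf g = 2 ^ k} := by
            have h5 : v ^ Nat.card V = 1 := by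
              have := pow_card_eq_one' (G := V) (x := ⟨v, hv⟩)
              exact congrArg Subtype.val this
            rw [h5]
            exact Subgroup.one_mem _
          refine mem_of_pow_mem_of_coprime _ ?_ h3 h4
          rw [hj]
          apply Nat.Coprime.pow
          exact (Nat.coprime_primes hp.out hr).mpr (Ne.symm hrp)
        apply hVne
        rw [eq_bot_iff, ← hVH]
        exact le_inf le_rfl (hVK.trans hKH)
    · have hQC : (Q ⊔ C).Normal := hstep C hCn hC1 (inf_le_left.trans hVU)
      refine normal_of_sup_centralizing Q C inf_le_right ?_ hQC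
      exact Nat.Coprime.coprime_dvd_right (Subgroup.card_dvd_of_le inf_le_left) hcop

end Cfsg.Agent.Helper24.RealP
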