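import Mathlib
import Cfsg.Prelude.Def_Blocks
import Cfsg.Agent.Lib.Helper24.RealPrimeG

/-!
# Real characters of degree prime to `p` (helper24's shared library), part H

`normal_sylow` (Isaacs–Navarro): if `O^{p'}(G)` is solvable and all real-valued irreducible
characters of `G` have degree prime to `p`, then for every normal `U ≥ K = O^{2'}(G)` with
`[U : K]` a power of `p`, the Sylow `p`-subgroups of `U` are normal in `U`.
-/

set_option autoImplicit false
set_option linter.style.haveILetI false
set_option linter.unusedSectionVars false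

namespace Cfsg.Agent.Helper24.RealP

open Cfsg Cfsg.Agent.Helper24

universe u

variable {G : Type u} [Group G]

theorem closure_pow_normal (q : ℕ) :
    (Subgroup.closure {g : G | ∃ k : ℕ, orderOf g = q ^ k}).Normal := by
  constructor
  intro x hx g
  induction hx using Subgroup.closure_induction with
  | mem y hy =>
    obtain ⟨k, hk⟩ := hy
    apply Subgroup.subset_closure
    refine ⟨k, ?_⟩
    rw [← hk]
    exact (MulAut.conj g).orderOf_eq y
  | one => simp
  | mul y z _ _ ihy ihz =>
    have e : g * (y * z) * g⁻¹ = (g * y * g⁻¹) * (g * z * g⁻¹) := by group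
    rw [e]
    exact Subgroup.mul_mem _ ihy ihz
  | inv y _ ihy =>
    have e : g * y⁻¹ * g⁻¹ = (g * y * g⁻¹)⁻¹ := by group
    rw [e]
    exact Subgroup.inv_mem _ ihy

theorem not_dvd_index_closure [Finite G] (p : ℕ) [hp : Fact p.Prime] :
    ¬ p ∣ (Subgroup.closure {g : G | ∃ k : ℕ, orderOf g = p ^ k}).index := by
  obtain ⟨P⟩ : Nonempty (Sylow p G) := inferInstance
  have hle : (P : Subgroup G) ≤ Subgroup.closure {g : G | ∃ k : ℕ, orderOf g = p ^ k} := by
    intro x hx
    apply Subgroup.subset_closure
    obtain ⟨k, hk⟩ := P.isPGroup' ⟨x, hx⟩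
    have h1 : x ^ p ^ k = 1 := by
      have := congrArg Subtype.val hk
      simpa using this
    obtain ⟨j, -, hj⟩ := (Nat.dvd_prime_pow hp.out).mp (orderOf_dvd_of_pow_eq_one h1)
    exact ⟨j, hj⟩
  intro h
  exact P.not_dvd_index (h.trans (Subgroup.index_dvd_of_le hle))

/-- **Isaacs–Navarro**: normal Sylow `p`-subgroups above `O^{2'}(G)`. -/
theorem normal_sylow [Finite G] (p : ℕ) [hp : Fact p.Prime]
    (hsolv : Group.IsSolvable ↥(Subgroup.closure {g : G | ∃ k : ℕ, orderOf g = p ^ k}))
    (hreal : ∀ χ : IrrCharacter G, (∀ g : G, ((χ : G → ℂ) g).im = 0) →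
      ¬ p ∣ charDegree (χ : G → ℂ))
    (U : Subgroup G) (hU : U.Normal)
    (hKU : Subgroup.closure {g : G | ∃ k : ℕ, orderOf g = 2 ^ k} ≤ U) (a : ℕ)
    (hUp : (Subgroup.closure {g : G | ∃ k : ℕ, orderOf g = 2 ^ k}).relIndex U = p ^ a)
    (Q : Sylow p ↥U) : (Q : Subgroup ↥U).Normal := by
  haveI hKn := closure_pow_normal (G := G) 2
  have hgood := good_all p (Nat.card G) G rfl
  have hcomap : ((Q : Subgroup ↥U).map U.subtype).subgroupOf U = (Q : Subgroup ↥U) :=
    Subgroup.comap_map_eq_self_of_injective U.subtype_injective _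
  have hnorm : ((Q : Subgroup ↥U).map U.subtype).Normal := by
    apply hgood _ (closure_pow_normal p) hsolv (not_dvd_index_closure p) hreal U a hU
      (fun g hg => hKU (Subgroup.subset_closure hg)) ?_ _ (Subgroup.map_subtype_le _)
      (Q.2.map _) ?_
    · intro u hu
      rw [← hUp]
      exact Subgroup.pow_relIndex_mem _ hu
    · rw [Subgroup.relIndex, hcomap]
      exact Q.not_dvd_index
  have := hnorm.subgroupOf U
  rwa [hcomap] at this

end Cfsg.Agent.Helper24.RealP
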