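import Mathlib
import Cfsg.Agent.Lib.Helper24.OddIndexReal
import Cfsg.Agent.Lib.Helper24.CharCentral
import Cfsg.Agent.Lib.Helper23.BlockDim
import Cfsg.Agent.Lib.Helper23.BlockCongr

/-!
# Relative block orthogonality over a normal subgroup

For a `p`-block `B` of `G`, `N ⊴ G`, `θ ∈ Irr(N)` and `x ∈ G` such that every element of the
coset `N x` is `p`-singular: `∑_{χ ∈ B} [χ_N, θ] χ(x) = 0`.
-/

set_option autoImplicit false
set_option linter.style.haveILetI false

namespace Cfsg.Agent.Helper24.RelOrtho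

open Cfsg Cfsg.Agent.Helper24 Cfsg.Agent.Helper24.OddReal Cfsg.Agent.Helper23.Blk
open scoped ComplexConjugate

universe u

variable {G : Type u} [Group G] [Fintype G]

/-- Convolution of two combinations of irreducible characters. -/
theorem conv_decomp [Fintype (IrrCharacter G)] (a b : IrrCharacter G → ℂ) (x : G) :
    ∑ h : G, (∑ ψ : IrrCharacter G, a ψ * (ψ : G → ℂ) h) *
        (∑ χ : IrrCharacter G, b χ * (χ : G → ℂ) (h⁻¹ * x)) =
      (Nat.card G : ℂ) * ∑ χ : IrrCharacter G, a χ * b χ * (χ : G → ℂ) x / (χ : G → ℂ) 1 := by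
  classical
  have h1 : ∀ h : G, (∑ ψ : IrrCharacter G, a ψ * (ψ : G → ℂ) h) *
      (∑ χ : IrrCharacter G, b χ * (χ : G → ℂ) (h⁻¹ * x)) =
      ∑ ψ : IrrCharacter G, ∑ χ : IrrCharacter G,
        a ψ * b χ * ((ψ : G → ℂ) h * (χ : G → ℂ) (h⁻¹ * x)) := by
    intro h
    rw [Finset.sum_mul_sum]
    apply Finset.sum_congr rfl; intro ψ _
    apply Finset.sum_congr rfl; intro χ _
    ring
  simp only [h1]
  rw [Finset.sum_comm]
  have h2 : ∀ ψ : IrrCharacter G, ∑ h : G, ∑ χ : IrrCharacter G,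
      a ψ * b χ * ((ψ : G → ℂ) h * (χ : G → ℂ) (h⁻¹ * x)) =
      (Nat.card G : ℂ) * (a ψ * b ψ * (ψ : G → ℂ) x / (ψ : G → ℂ) 1) := by
    intro ψ
    rw [Finset.sum_comm]
    simp only [← Finset.mul_sum]
    have h3 : ∀ χ : IrrCharacter G, ∑ h : G, (ψ : G → ℂ) h * (χ : G → ℂ) (h⁻¹ * x) =
        if ψ = χ then (Nat.card G : ℂ) * (χ : G → ℂ) x / (χ : G → ℂ) 1 else 0 := by
      intro χ
      rw [generalized_orthogonality χ.2 ψ.2 x]
      by_cases h : ψ = χ
      · rw [if_pos h, if_pos (congrArg Subtype.val h)]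
      · rw [if_neg h, if_neg (fun h' => h (Subtype.ext h'))]
    simp only [h3, mul_ite, mul_zero]
    rw [Finset.sum_ite_eq Finset.univ ψ, if_pos (Finset.mem_univ _)]
    ring
  rw [Finset.sum_congr rfl (fun ψ _ => h2 ψ), ← Finset.mul_sum]

/-- **Relative block orthogonality.** -/
theorem rel_block_orthogonality [Fintype (IrrCharacter G)] {p : ℕ} {M : Ideal AlgInt}
    (hM : IsPModular p M) {B : Set (IrrCharacter G)} (hB : IsPBlock M B) (N : Subgroup G)
    [N.Normal] [Fintype N] {θ : N → ℂ} (hθ : IsIrrCharacter N θ) (x : G)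
    (hx : ∀ h ∈ N, p ∣ orderOf (h⁻¹ * x)) [DecidablePred (· ∈ B)] :
    ∑ χ : IrrCharacter G, (if χ ∈ B then
      classInner (indFun N θ) (χ : G → ℂ) * (χ : G → ℂ) x else 0) = 0 := by
  classical
  have hind : IsCharacter G (indFun N θ) := isCharacter_indFun N (isCharacter_of_isIrrCharacter hθ)
  have hdec := (isCharacter_decomp hind).2
  -- the convolution vanishes termwise
  have hzero : ∑ h : G, indFun N θ h * blockReg B (h⁻¹ * x) = 0 := by
    apply Finset.sum_eq_zero
    intro h _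
    by_cases hh : h ∈ N
    · rw [blockReg_eq_zero hM hB (hx h hh), mul_zero]
    · rw [Cfsg.Agent.Helper5.indFun_normal_of_not_mem N θ hh, zero_mul]
  have hexp : ∀ h : G, indFun N θ h * blockReg B (h⁻¹ * x) =
      (∑ ψ : IrrCharacter G, classInner (indFun N θ) (ψ : G → ℂ) * (ψ : G → ℂ) h) *
        (∑ χ : IrrCharacter G, (if χ ∈ B then (χ : G → ℂ) 1 else 0) *
          (χ : G → ℂ) (h⁻¹ * x)) := by
    intro h
    congr 1
    · have := congrFun hdec h
      rw [Finset.sum_apply] at this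
      rw [this]
      rfl
    · unfold blockReg
      apply Finset.sum_congr rfl
      intro χ _
      split_ifs
      · rfl
      · rw [zero_mul]
  rw [Finset.sum_congr rfl (fun h _ => hexp h), conv_decomp] at hzero
  have hG0 : (Nat.card G : ℂ) ≠ 0 := by
    have : Nat.card G ≠ 0 := Nat.card_pos.ne'
    exact_mod_cast this
  have h2 := (mul_eq_zero.mp hzero).resolve_left hG0
  have h3 : ∑ χ : IrrCharacter G, (if χ ∈ B then
      classInner (indFun N θ) (χ : G → ℂ) * (χ : G → ℂ) x else 0) =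
      ∑ χ : IrrCharacter G, (classInner (indFun N θ) (χ : G → ℂ) *
        if χ ∈ B then (χ : G → ℂ) 1 else 0) * (χ : G → ℂ) x / (χ : G → ℂ) 1 := by
    apply Finset.sum_congr rfl
    intro χ _
    have h1 : (χ : G → ℂ) 1 ≠ 0 := by
      rw [irr_one_eq_charDegree χ.2]
      have := charDegree_pos χ.2
      exact_mod_cast this.ne'
    by_cases hχ : χ ∈ B
    · rw [if_pos hχ, if_pos hχ]
      field_simp
    · rw [if_neg hχ, if_neg hχ]
      simp
  rw [h3]
  exact h2


/-- The `G`-orbit of `φ ∈ Irr(N)` as a finset. -/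
noncomputable def orbitFinset (N : Subgroup G) [N.Normal] [Fintype N] (φ : N → ℂ) :
    Finset (IrrCharacter N) := by
  classical
  letI : Fintype (IrrCharacter N) := irrFintype
  exact Finset.univ.filter
    (fun ψ : IrrCharacter N => ∃ g : G, Cfsg.Agent.Helper5.conjFun N g φ = (ψ : N → ℂ))

/-- Clifford's degree formula `χ(1) = e t φ(1)`. -/
theorem clifford_degree (N : Subgroup G) [N.Normal] [Fintype N] {χ : G → ℂ}
    (hχ : IsIrrCharacter G χ) {φ : N → ℂ} (hφ : IsIrrCharacter N φ) (e : ℕ)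
    (he : classInner (fun n : N => χ n) φ = e) (he0 : e ≠ 0) :
    χ 1 = (((orbitFinset N φ).card * e : ℕ) : ℂ) * φ 1 := by
  classical
  letI : Fintype (IrrCharacter N) := irrFintype
  have hcon : classInner (fun n : N => χ n) φ ≠ 0 := by
    rw [he]
    exact_mod_cast he0
  have hχN : IsCharacter N (fun n : N => χ n) :=
    isCharacter_restrict N (isCharacter_of_isIrrCharacter hχ)
  have hΩ : orbitFinset N φ = Finset.univ.filter
      (fun ψ : IrrCharacter N => ∃ g : G, Cfsg.Agent.Helper5.conjFun N g φ = (ψ : N → ℂ)) := by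
    unfold orbitFinset
    congr
  have hm : ∀ ψ : IrrCharacter N, classInner (fun n : N => χ n) (ψ : N → ℂ) =
      if ψ ∈ orbitFinset N φ then (e : ℂ) else 0 := by
    intro ψ
    rw [clifford_mult N hχ hφ ψ.2 hcon, he, hΩ]
    simp only [Finset.mem_filter, Finset.mem_univ, true_and]
  have hdegΩ : ∀ ψ ∈ orbitFinset N φ, (ψ : N → ℂ) 1 = φ 1 := by
    intro ψ hψ
    rw [hΩ] at hψ
    obtain ⟨g, hg⟩ := (Finset.mem_filter.mp hψ).2
    rw [← hg, Cfsg.Agent.Helper5.conjFun_apply]
    congr 1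
    apply Subtype.ext
    simp
  have hdec := (isCharacter_decomp hχN).2
  have h1 := congrFun hdec 1
  simp only [Finset.sum_apply, Pi.smul_apply, smul_eq_mul, hm] at h1
  rw [Subgroup.coe_one] at h1
  rw [h1]
  simp only [ite_mul, zero_mul]
  rw [Finset.sum_ite_mem, Finset.univ_inter]
  rw [Finset.sum_congr rfl (fun ψ hψ => by rw [hdegΩ ψ hψ])]
  rw [Finset.sum_const]
  push_cast
  rw [nsmul_eq_mul]
  ring

end Cfsg.Agent.Helper24.RelOrtho
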