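import Mathlib
import Cfsg.Agent.Lib.Helper11.S11Defs

/-! S3211 farm-out (designer helper11), piece S11-FRAMEC: `C(j) = M ∪ Mn`, `M = L₁ L₂ = {p σ(r)}`. -/

set_option autoImplicit false

namespace Cfsg.Agent.Helper11.S11

/-- the set of products `p * q`, `p ∈ L₁`, `q ∈ L₂`, of two elementwise commuting subgroups, as a subgroup. -/
def s11_framec_prod {G : Type*} [Group G] (L₁ L₂ : Subgroup G)
    (hc : ∀ x ∈ L₁, ∀ y ∈ L₂, x * y = y * x) : Subgroup G where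
  carrier := {x | ∃ p ∈ L₁, ∃ q ∈ L₂, x = p * q}
  mul_mem' := by
    rintro x y ⟨p, hp, q, hq, rfl⟩ ⟨p', hp', q', hq', rfl⟩
    refine ⟨p * p', L₁.mul_mem hp hp', q * q', L₂.mul_mem hq hq', ?_⟩
    have h := hc p' hp' q hq
    calc p * q * (p' * q') = p * (q * p') * q' := by group
      _ = p * (p' * q) * q' := by rw [h]
      _ = p * p' * (q * q') := by group
  one_mem' := ⟨1, L₁.one_mem, 1, L₂.one_mem, by group⟩
  inv_mem' := by
    rintro x ⟨p, hp, q, hq, rfl⟩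
    refine ⟨p⁻¹, L₁.inv_mem hp, q⁻¹, L₂.inv_mem hq, ?_⟩
    have h := hc p⁻¹ (L₁.inv_mem hp) q⁻¹ (L₂.inv_mem hq)
    rw [mul_inv_rev, h]

theorem s11_framec_mem_sup {G : Type*} [Group G] (L₁ L₂ : Subgroup G)
    (hc : ∀ x ∈ L₁, ∀ y ∈ L₂, x * y = y * x) {x : G} (hx : x ∈ L₁ ⊔ L₂) :
    ∃ p ∈ L₁, ∃ q ∈ L₂, x = p * q := by
  have h1 : L₁ ⊔ L₂ ≤ s11_framec_prod L₁ L₂ hc := by
    apply sup_le
    · intro p hp
      exact ⟨p, hp, 1, L₂.one_mem, by group⟩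
    · intro q hq
      exact ⟨1, L₁.one_mem, q, hq, by group⟩
  exact h1 hx

theorem s11_framec_zpowers {G : Type*} [Group G] (j : G) (hj : orderOf j = 2) {x : G}
    (hx : x ∈ Subgroup.zpowers j) : x = 1 ∨ x = j := by
  obtain ⟨k, rfl⟩ := Subgroup.mem_zpowers_iff.1 hx
  have h1 := zpow_mod_orderOf j k
  rw [hj] at h1
  rw [← h1]
  have h2 : k % ((2 : ℕ) : ℤ) = 0 ∨ k % ((2 : ℕ) : ℤ) = 1 := by
    have : ((2 : ℕ) : ℤ) = 2 := rfl
    rw [this]
    omega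
  rcases h2 with h2 | h2
  · left
    rw [h2, zpow_zero]
  · right
    rw [h2, zpow_one]

/-- PIECE S11-FRAMEC -/
theorem frame_cent {G : Type*} [Group G] (L₁ L₂ : Subgroup G)
    (hc : ∀ x ∈ L₁, ∀ y ∈ L₂, x * y = y * x) (j : G) (hj : orderOf j = 2)
    (hm : L₁ ⊓ L₂ = Subgroup.zpowers j)
    (hle : L₁ ⊔ L₂ ≤ Subgroup.centralizer ({j} : Set G))
    (hi : (L₁ ⊔ L₂).relIndex (Subgroup.centralizer ({j} : Set G)) = 2) (n : G)
    (hn : n ∈ Subgroup.centralizer ({j} : Set G)) (hn2 : n ^ 2 = j)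
    (hswap : L₁.map (MulAut.conj n).toMonoidHom = L₂)
    (a : G) (ha : a ∈ L₁) (haj : a * a = j) :
    ∀ c : G, c * j = j * c → ∃ p ∈ L₁, ∃ r ∈ L₁, c = p * sg n r ∨ c = p * sg n r * n := by
  have hj2 : j * j = 1 := by
    have h := pow_orderOf_eq_one j
    rw [hj, pow_two] at h
    exact h
  have hj1 : j ≠ 1 := by
    intro h
    rw [h, orderOf_one] at hj
    omega
  -- elements of `L₂` are `sg n r`
  have hL2 : ∀ q ∈ L₂, ∃ r ∈ L₁, q = sg n r := by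
    intro q hq
    rw [← hswap] at hq
    obtain ⟨r, hr, rfl⟩ := hq
    exact ⟨r, hr, rfl⟩
  have hsgmem : ∀ r ∈ L₁, sg n r ∈ L₂ := by
    intro r hr
    rw [← hswap]
    exact ⟨r, hr, rfl⟩
  -- elements of `M = L₁ ⊔ L₂`
  have hM : ∀ x ∈ L₁ ⊔ L₂, ∃ p ∈ L₁, ∃ r ∈ L₁, x = p * sg n r := by
    intro x hx
    obtain ⟨p, hp, q, hq, rfl⟩ := s11_framec_mem_sup L₁ L₂ hc hx
    obtain ⟨r, hr, rfl⟩ := hL2 q hq
    exact ⟨p, hp, r, hr, rfl⟩
  have hnj : n * j = j * n := by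
    have := Subgroup.mem_centralizer_iff.1 hn j (Set.mem_singleton j)
    exact this.symm
  -- `n ∉ M`
  have hnM : n ∉ L₁ ⊔ L₂ := by
    intro hnm
    obtain ⟨p, hp, q, hq, hpq⟩ := s11_framec_mem_sup L₁ L₂ hc hnm
    have h1 : sg n a = p * a * p⁻¹ := by
      have h2 := hc a ha q hq
      unfold sg
      rw [hpq]
      calc p * q * a * (p * q)⁻¹ = p * (q * a) * q⁻¹ * p⁻¹ := by group
        _ = p * (a * q) * q⁻¹ * p⁻¹ := by rw [h2]
        _ = p * a * p⁻¹ := by group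
    have h3 : sg n a ∈ L₁ ⊓ L₂ := by
      refine ⟨?_, hsgmem a ha⟩
      rw [h1]
      exact L₁.mul_mem (L₁.mul_mem hp ha) (L₁.inv_mem hp)
    rw [hm] at h3
    have ha1 : a = 1 ∨ a = j := by
      rcases s11_framec_zpowers j hj h3 with h4 | h4
      · left
        apply sg_injective n
        rw [h4, sg_one]
      · right
        apply sg_injective n
        rw [h4]
        unfold sg
        rw [hnj, mul_assoc, mul_inv_cancel, mul_one]
    rcases ha1 with h5 | h5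
    · rw [h5, mul_one] at haj
      exact hj1 haj.symm
    · rw [h5, hj2] at haj
      exact hj1 haj.symm
  intro c hcj
  have hcC : c ∈ Subgroup.centralizer ({j} : Set G) := by
    rw [Subgroup.mem_centralizer_iff]
    intro x hx
    rw [Set.mem_singleton_iff] at hx
    rw [hx]
    exact hcj.symm
  have hidx : ((L₁ ⊔ L₂).subgroupOf (Subgroup.centralizer ({j} : Set G))).index = 2 := hi
  have hn' : (⟨n, hn⟩ : ↥(Subgroup.centralizer ({j} : Set G))) ∉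
      (L₁ ⊔ L₂).subgroupOf (Subgroup.centralizer ({j} : Set G)) := by
    rw [Subgroup.mem_subgroupOf]
    exact hnM
  by_cases hcM : c ∈ L₁ ⊔ L₂
  · obtain ⟨p, hp, r, hr, h1⟩ := hM c hcM
    exact ⟨p, hp, r, hr, Or.inl h1⟩
  · have hc' : (⟨c, hcC⟩ : ↥(Subgroup.centralizer ({j} : Set G))) ∉
        (L₁ ⊔ L₂).subgroupOf (Subgroup.centralizer ({j} : Set G)) := by
      rw [Subgroup.mem_subgroupOf]
      exact hcM
    have h1 := Subgroup.mul_mem_iff_of_index_two hidx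
      (a := (⟨c, hcC⟩ : ↥(Subgroup.centralizer ({j} : Set G))))
      (b := (⟨n, hn⟩ : ↥(Subgroup.centralizer ({j} : Set G)))⁻¹)
    have h2 : (⟨c, hcC⟩ : ↥(Subgroup.centralizer ({j} : Set G))) * (⟨n, hn⟩)⁻¹ ∈
        (L₁ ⊔ L₂).subgroupOf (Subgroup.centralizer ({j} : Set G)) := by
      rw [h1, inv_mem_iff]
      exact ⟨fun h => absurd h hc', fun h => absurd h hn'⟩
    rw [Subgroup.mem_subgroupOf] at h2
    have h3 : c * n⁻¹ ∈ L₁ ⊔ L₂ := h2
    obtain ⟨p, hp, r, hr, h4⟩ := hM _ h3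
    refine ⟨p, hp, r, hr, Or.inr ?_⟩
    rw [← h4]
    group

end Cfsg.Agent.Helper11.S11
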