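import Mathlib
import Cfsg.Agent.Lib.Helper11.S11Defs

/-! S3211 farm-out (designer helper11), piece S11-FRAMESL: transport of the three `SL₂` facts along `e₁`. -/

set_option autoImplicit false

namespace Cfsg.Agent.Helper11.S11

/-- the matrix `J = !![0,-1;1,0]` in `SL₂(F)`. -/
def s11_framesl_J (F : Type*) [Field F] : Matrix.SpecialLinearGroup (Fin 2) F :=
  ⟨!![0, -1; 1, 0], by simp [Matrix.det_fin_two]⟩

theorem s11_framesl_J_sq (F : Type*) [Field F] :
    s11_framesl_J F * s11_framesl_J F = -1 := by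
  apply Subtype.ext
  rw [Matrix.SpecialLinearGroup.coe_mul, Matrix.SpecialLinearGroup.coe_neg,
    Matrix.SpecialLinearGroup.coe_one]
  ext i j
  fin_cases i <;> fin_cases j <;> simp [s11_framesl_J, Matrix.mul_apply, Fin.sum_univ_two]

/-- PIECE S11-FRAMESL -/
theorem frame_sl2 {G : Type*} [Group G] {F₁ : Type*} [Field F₁] [Fintype F₁]
    (L₁ : Subgroup G) (e₁ : ↥L₁ ≃* Matrix.SpecialLinearGroup (Fin 2) F₁) (j : G)
    (hj : orderOf j = 2) (hjL : j ∈ L₁)
    (hinv : ∀ x : Matrix.SpecialLinearGroup (Fin 2) F₁, x * x = 1 → x = 1 ∨ x = -1)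
    (hcent : ∀ a x y : Matrix.SpecialLinearGroup (Fin 2) F₁, a * a = -1 → x * a = a * x →
      y * a = a * y → x * y = y * x)
    (hconj : ∀ a b : Matrix.SpecialLinearGroup (Fin 2) F₁, a * a = -1 → b * b = -1 →
      ∃ s : Matrix.SpecialLinearGroup (Fin 2) F₁, b = s * a * s⁻¹) :
    ∃ a ∈ L₁, a * a = j ∧ (∀ x ∈ L₁, x * x = 1 → x = 1 ∨ x = j) ∧
      (∀ x ∈ L₁, ∀ y ∈ L₁, x * a = a * x → y * a = a * y → x * y = y * x) ∧
      (∀ b ∈ L₁, b * b = j → ∃ s ∈ L₁, b = s * a * s⁻¹) := by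
  have hj2 : j * j = 1 := by
    have h := pow_orderOf_eq_one j
    rw [hj, pow_two] at h
    exact h
  have hj1 : j ≠ 1 := by
    intro h
    rw [h, orderOf_one] at hj
    omega
  set jj : ↥L₁ := ⟨j, hjL⟩ with hjj
  have hjj2 : jj * jj = 1 := Subtype.ext hj2
  have hjj1 : jj ≠ 1 := fun h => hj1 (congrArg Subtype.val h)
  have hej : e₁ jj = -1 := by
    have h1 : e₁ jj * e₁ jj = 1 := by rw [← map_mul, hjj2, map_one]
    rcases hinv _ h1 with h2 | h2
    · exfalso
      apply hjj1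
      apply e₁.injective
      rw [h2, map_one]
    · exact h2
  set J := s11_framesl_J F₁ with hJ
  have hJ2 : J * J = -1 := s11_framesl_J_sq F₁
  set a' : ↥L₁ := e₁.symm J with ha'
  have hea : e₁ a' = J := e₁.apply_symm_apply J
  have haa : a' * a' = jj := by
    apply e₁.injective
    rw [map_mul, hea, hJ2, hej]
  refine ⟨(a' : G), a'.2, congrArg Subtype.val haa, ?_, ?_, ?_⟩
  · intro x hx hx2
    have h1 : e₁ ⟨x, hx⟩ * e₁ ⟨x, hx⟩ = 1 := by
      rw [← map_mul]
      have : (⟨x, hx⟩ : ↥L₁) * ⟨x, hx⟩ = 1 := Subtype.ext hx2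
      rw [this, map_one]
    rcases hinv _ h1 with h2 | h2
    · left
      have h3 : (⟨x, hx⟩ : ↥L₁) = 1 := by
        apply e₁.injective
        rw [h2, map_one]
      exact congrArg Subtype.val h3
    · right
      have h3 : (⟨x, hx⟩ : ↥L₁) = jj := by
        apply e₁.injective
        rw [h2, hej]
      exact congrArg Subtype.val h3
  · intro x hx y hy hxa hya
    have h1 : e₁ ⟨x, hx⟩ * J = J * e₁ ⟨x, hx⟩ := by
      rw [← hea, ← map_mul, ← map_mul]
      congr 1
      exact Subtype.ext hxa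
    have h2 : e₁ ⟨y, hy⟩ * J = J * e₁ ⟨y, hy⟩ := by
      rw [← hea, ← map_mul, ← map_mul]
      congr 1
      exact Subtype.ext hya
    have h3 := hcent J _ _ hJ2 h1 h2
    rw [← map_mul, ← map_mul] at h3
    exact congrArg Subtype.val (e₁.injective h3)
  · intro b hb hbb
    have h1 : e₁ ⟨b, hb⟩ * e₁ ⟨b, hb⟩ = -1 := by
      rw [← map_mul, ← hej]
      congr 1
      exact Subtype.ext hbb
    obtain ⟨s, hs⟩ := hconj J _ hJ2 h1
    refine ⟨(e₁.symm s : ↥L₁), (e₁.symm s).2, ?_⟩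
    have h2 : (⟨b, hb⟩ : ↥L₁) = e₁.symm s * a' * (e₁.symm s)⁻¹ := by
      apply e₁.injective
      rw [map_mul, map_mul, map_inv, e₁.apply_symm_apply, hea]
      exact hs
    exact congrArg Subtype.val h2

end Cfsg.Agent.Helper11.S11
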