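import Mathlib
import Cfsg.Agent.Lib.Helper13.SpBN0

/-!
# Block upper triangular symplectic matrices (helper24; for the `SplitData` of S2316)

For a "block function" `β : Fin m ⊕ Fin m → ℕ`, monotone for the order `key` of helper13's `bor` and symmetric
under `ng`: `IsQ β g` (block upper triangular), `IsV β g` (moreover the identity on the diagonal blocks).
`IsQ` is closed under products and inverses, contains `bor`, and conjugation by `IsQ`-elements preserves
`IsV` (the unipotent radical of a parabolic subgroup is normal).  `β = key` gives `bor` and its unipotent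
radical.
-/

set_option autoImplicit false
set_option linter.unusedSectionVars false

namespace Cfsg.Agent.Helper24.Spu

open Matrix Cfsg.Agent.Helper6.SpN Cfsg.Agent.Helper25.SpRoot Cfsg.Agent.Helper25.SpM2
  Cfsg.Agent.Helper13.SpBN

variable {m : ℕ} {F : Type*} [Field F]

/-- block upper triangular -/
def IsQ (β : Fin m ⊕ Fin m → ℕ) (g : Matrix (Fin m ⊕ Fin m) (Fin m ⊕ Fin m) F) : Prop :=
  ∀ a c, β c < β a → g a c = 0

/-- block upper triangular with identity diagonal blocks -/
def IsV (β : Fin m ⊕ Fin m → ℕ) (g : Matrix (Fin m ⊕ Fin m) (Fin m ⊕ Fin m) F) : Prop :=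
  ∀ a c, β c ≤ β a → g a c = if a = c then 1 else 0

/-- admissible block functions: monotone for `key`, symmetric under `ng` -/
structure Adm (β : Fin m ⊕ Fin m → ℕ) : Prop where
  mono : ∀ a c, key a ≤ key c → β a ≤ β c
  symm : ∀ a c, β c < β a → β (ng a) < β (ng c)

variable {β : Fin m ⊕ Fin m → ℕ}

theorem adm_key : Adm (key : Fin m ⊕ Fin m → ℕ) where
  mono := fun _ _ h => h
  symm := fun a c h => (key_ng_lt_iff a c).2 h

theorem Adm.symm_le (hβ : Adm β) (a c : Fin m ⊕ Fin m) (h : β c ≤ β a) : β (ng a) ≤ β (ng c) := by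
  by_contra hlt
  have := hβ.symm (ng a) (ng c) (not_le.1 hlt)
  rw [ng_ng, ng_ng] at this
  omega

theorem IsV.isQ {g : Matrix (Fin m ⊕ Fin m) (Fin m ⊕ Fin m) F} (h : IsV β g) : IsQ β g := by
  intro a c hac
  rw [h a c hac.le, if_neg]
  rintro rfl
  exact lt_irrefl _ hac

theorem isQ_one : IsQ β (1 : Matrix (Fin m ⊕ Fin m) (Fin m ⊕ Fin m) F) := by
  intro a c hac
  apply Matrix.one_apply_ne
  rintro rfl
  exact lt_irrefl _ hac

theorem IsQ.mul {g h : Matrix (Fin m ⊕ Fin m) (Fin m ⊕ Fin m) F} (hg : IsQ β g) (hh : IsQ β h) :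
    IsQ β (g * h) := by
  intro a c hac
  rw [Matrix.mul_apply]
  apply Finset.sum_eq_zero
  intro x _
  by_cases hx : β x < β a
  · rw [hg a x hx, zero_mul]
  · rw [hh x c (by omega), mul_zero]

theorem isQ_inv (hβ : Adm β) (g : symplecticGroup (Fin m) F) (hg : IsQ β g.1) :
    IsQ β (g⁻¹ : symplecticGroup (Fin m) F).1 := by
  intro a c hac
  rw [inv_apply, hg _ _ (hβ.symm a c hac), mul_zero]

theorem isQ_of_mem_bor (hβ : Adm β) {g : symplecticGroup (Fin m) F} (hg : g ∈ bor m F) :
    IsQ β g.1 := by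
  intro a c hac
  apply hg
  by_contra h
  have := hβ.mono a c (not_lt.1 h)
  omega

theorem isQ_key_iff (g : symplecticGroup (Fin m) F) : IsQ key g.1 ↔ g ∈ bor m F := Iff.rfl

theorem isV_one : IsV β (1 : Matrix (Fin m ⊕ Fin m) (Fin m ⊕ Fin m) F) := by
  intro a c _
  rw [Matrix.one_apply]

theorem IsV.mul {g h : Matrix (Fin m ⊕ Fin m) (Fin m ⊕ Fin m) F} (hg : IsV β g) (hh : IsV β h) :
    IsV β (g * h) := by
  intro a c hac
  rw [Matrix.mul_apply, Finset.sum_eq_single a]
  · rw [hg a a le_rfl, if_pos rfl, one_mul, hh a c hac]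
  · intro x _ hxa
    by_cases hx : β x ≤ β a
    · rw [hg a x hx, if_neg (Ne.symm hxa), zero_mul]
    · have hxc : x ≠ c := by
        rintro rfl
        exact hx hac
      rw [hh x c (by omega), if_neg hxc, mul_zero]
  · intro h
    exact absurd (Finset.mem_univ _) h

theorem isV_inv (hβ : Adm β) (g : symplecticGroup (Fin m) F) (hg : IsV β g.1) :
    IsV β (g⁻¹ : symplecticGroup (Fin m) F).1 := by
  intro a c hac
  rw [inv_apply, hg _ _ (hβ.symm_le a c hac)]
  by_cases h : a = c
  · subst h
    rw [if_pos rfl, if_pos rfl, mul_one, sg_mul_self]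
  · rw [if_neg h, if_neg, mul_zero]
    intro e
    exact h (ng_inj.1 e).symm

/-- conjugation by a block upper triangular matrix preserves the unipotent radical -/
theorem isV_conj (hβ : Adm β) (h g : symplecticGroup (Fin m) F) (hh : IsQ β h.1) (hg : IsV β g.1) :
    IsV β (h * g * h⁻¹).1 := by
  have hhi := isQ_inv hβ h hh
  intro a c hac
  have e : (h * g * h⁻¹).1 = 1 + h.1 * (g.1 - 1) * (h⁻¹ : symplecticGroup (Fin m) F).1 := by
    rw [val_mul, val_mul, Matrix.mul_sub, Matrix.sub_mul, mul_one, mul_inv_val]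
    abel
  rw [e, Matrix.add_apply, Matrix.one_apply]
  have hz : (h.1 * (g.1 - 1) * (h⁻¹ : symplecticGroup (Fin m) F).1) a c = 0 := by
    rw [Matrix.mul_apply]
    apply Finset.sum_eq_zero
    intro y _
    rw [Matrix.mul_apply, Finset.sum_mul]
    apply Finset.sum_eq_zero
    intro x _
    by_cases hx : β x < β a
    · rw [hh a x hx, zero_mul, zero_mul]
    · by_cases hy : β y ≤ β x
      · have : (g.1 - 1) x y = 0 := by
          rw [Matrix.sub_apply, hg x y hy, Matrix.one_apply, sub_self]
        rw [this, mul_zero, zero_mul]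
      · rw [hhi y c (by omega), mul_zero]
  rw [hz, add_zero]

end Cfsg.Agent.Helper24.Spu
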