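import Mathlib
import Cfsg.Prelude
import Cfsg.Agent.Lib.Helper13.SylODefs
import Cfsg.Agent.Lib.Helper24.SylOCARDCore
import Cfsg.Agent.Lib.Helper11.SylOTWOW

/-!
# S4613, uniform (B, N)-pair route (helper13): piece SYLO-CARD (exact skeleton signature)
-/

set_option autoImplicit false

namespace Cfsg.Agent.Helper13.SylO

open Cfsg Cfsg.Agent.Helper2.WordLen Cfsg.Agent.Helper2.BN Cfsg.Agent.Helper17.BNCox

section pure
variable {H : Type*} [Group H] (P : Cfsg.BNPair H)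

/-- PIECE SYLO-CARD. -/
theorem card_cell_lt [Finite H] (w₀ : W P) (hw₀ : ∀ t : P.S, ℓ P (w₀ * σ P t) < ℓ P w₀)
    (w : W P) (hw : w ≠ w₀) :
    Nat.card {c : H ⧸ P.B // cellQ P c = w} < Nat.card {c : H ⧸ P.B // cellQ P c = w₀} :=
  card_cell_lt_core P (two_mul_card_cell_le P) w₀ hw₀ w hw

end pure

end Cfsg.Agent.Helper13.SylO
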