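import Mathlib
import Cfsg.Agent.Lib.Helper16.TC648ArithDefs
import Cfsg.Agent.Lib.Helper16.TC648StructDefs
import Cfsg.Agent.Lib.Helper26.S3702BEnd

/-!
# S3702 (helper24): the ENDGAME of the arithmetic part

`FinalNode A n W`: the nonzero columns of `A.v` are, up to signs, the `n` rows of `W`
(pairwise distinct characters).  The two level-9 nodes of the realization tree
(`plans/S3702_tree.txt`) are `Wnat` (14 rows) and `Wexo` (13 rows), written in the basis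
`(ξ0, ξ1, ξ2, ξ3, ζ+, ζ-, υ0, υ1, υ2)` of `TC648ArithDefs`.

* `end_nat : FinalNode A 14 Wnat → A.m = 1`,  `end_exo : FinalNode A 13 Wexo → False`
* the same for helper16's interface `Realizes` (`TC648StructDefs`):
  `natural_m : Realizes ncol A.v → A.m = 1`,  `exotic_false : Realizes ecol A.v → False`.
-/

set_option autoImplicit false

namespace Cfsg.Agent.Helper16.TC648

open Finset

variable {ι : Type*} [Fintype ι]

/-- The nonzero columns of `A.v` are `ε j • W j` for pairwise distinct `X j`. -/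
def FinalNode (A : Arith ι) (n : ℕ) (W : Fin n → Fin 9 → ℤ) : Prop :=
  ∃ (X : Fin n → ι) (ε : Fin n → ℤ), Function.Injective X ∧ (∀ j, ε j = 1 ∨ ε j = -1) ∧
    (∀ j i, A.v (X j) i = ε j * W j i) ∧ (∀ Y, (∀ j, Y ≠ X j) → ∀ i, A.v Y i = 0)

/-- The natural realization (14 characters). -/
def Wnat : Fin 14 → Fin 9 → ℤ :=
  ![![0, 0, 0, 0, 0, 1, 0, 0, 0],
    ![0, 0, 0, 0, 1, 0, 0, 0, 0],
    ![0, 0, 0, 0, 0, 0, 1, 0, 0],
    ![0, 0, 1, 0, 0, 0, 0, 0, 0],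
    ![0, 0, 1, 0, 0, 1, 1, 0, 0],
    ![1, 0, 0, 0, 0, 0, 0, 0, 0],
    ![-1, 0, 0, 0, -1, 0, -1, 0, 0],
    ![1, 0, 1, 0, 1, 1, 0, 1, 1],
    ![0, 1, 1, 1, 2, 1, 1, 1, 1],
    ![1, 1, 0, 1, 1, 2, 1, 1, 1],
    ![0, 0, 0, 0, 0, 0, 0, 0, -1],
    ![0, 0, 0, 0, 0, 0, 0, 1, 0],
    ![0, 0, 0, -1, 0, 0, 0, 0, 0],
    ![0, 1, 0, 0, 0, 0, 0, 0, 0]]

/-- The exotic realization (13 characters). -/
def Wexo : Fin 13 → Fin 9 → ℤ :=
  ![![0, 0, 0, 0, 1, 0, 0, 0, 0],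
    ![0, 0, 0, 0, 0, 1, 1, 0, 0],
    ![0, 0, 1, 0, 0, 1, 0, 0, 0],
    ![0, 0, 1, 0, 0, 0, 1, 0, 0],
    ![1, 0, 0, 0, 0, 0, 0, 0, 0],
    ![-1, 0, 0, 0, -1, 0, -1, 0, 0],
    ![1, 0, 1, 0, 1, 1, 0, 1, 1],
    ![0, 1, 1, 1, 2, 1, 1, 1, 1],
    ![1, 1, 0, 1, 1, 2, 1, 1, 1],
    ![0, 0, 0, 0, 0, 0, 0, 0, -1],
    ![0, 0, 0, 0, 0, 0, 0, 1, 0],
    ![0, 0, 0, -1, 0, 0, 0, 0, 0],
    ![0, 1, 0, 0, 0, 0, 0, 0, 0]]

namespace End

/-! ### Linearity in the column -/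

theorem pp_smul {κ κ' : Type*} (v : κ → Fin 9 → ℤ) (w : κ' → Fin 9 → ℤ) (X : κ) (j : κ') (e : ℤ)
    (h : ∀ i, v X i = e * w j i) : pp v X = e * pp w j := by
  simp only [pp, h]; ring

theorem qq_smul {κ κ' : Type*} (v : κ → Fin 9 → ℤ) (w : κ' → Fin 9 → ℤ) (X : κ) (j : κ') (e : ℤ)
    (h : ∀ i, v X i = e * w j i) : qq v X = e * qq w j := by
  simp only [qq, h]; ring

theorem rr_smul {κ κ' : Type*} (v : κ → Fin 9 → ℤ) (w : κ' → Fin 9 → ℤ) (X : κ) (j : κ') (e : ℤ)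
    (h : ∀ i, v X i = e * w j i) : rr v X = e * rr w j := by
  simp only [rr, h]; ring

theorem xf_smul {κ κ' : Type*} (v : κ → Fin 9 → ℤ) (w : κ' → Fin 9 → ℤ) (X : κ) (j : κ') (e : ℤ)
    (h : ∀ i, v X i = e * w j i) : xf v X = e * xf w j := by
  simp only [xf, pp_smul v w X j e h, qq_smul v w X j e h, rr_smul v w X j e h]; ring

theorem xe_smul {κ κ' : Type*} (v : κ → Fin 9 → ℤ) (w : κ' → Fin 9 → ℤ) (X : κ) (j : κ') (e : ℤ)
    (h : ∀ i, v X i = e * w j i) : xe v X = e * xe w j := by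
  simp only [xe, pp_smul v w X j e h, rr_smul v w X j e h]; ring

theorem xv_smul {κ κ' : Type*} (v : κ → Fin 9 → ℤ) (w : κ' → Fin 9 → ℤ) (X : κ) (j : κ') (e : ℤ)
    (h : ∀ i, v X i = e * w j i) : xv v X = e * xv w j := by
  simp only [xv, pp_smul v w X j e h, qq_smul v w X j e h]; ring

theorem x_zero {κ : Type*} (v : κ → Fin 9 → ℤ) (X : κ) (h : ∀ i, v X i = 0) :
    xf v X = 0 ∧ xe v X = 0 ∧ xv v X = 0 := by
  simp only [xf, xe, xv, pp, qq, rr, h]
  norm_num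

/-! ### Reduction of a sum over `ι` to a sum over the node -/

theorem sum_node (A : Arith ι) {n : ℕ} (W : Fin n → Fin 9 → ℤ) (X : Fin n → ι) (ε : Fin n → ℤ)
    (hinj : Function.Injective X) (hε : ∀ j, ε j = 1 ∨ ε j = -1)
    (hv : ∀ j i, A.v (X j) i = ε j * W j i) (hz : ∀ Y, (∀ j, Y ≠ X j) → ∀ i, A.v Y i = 0)
    (P : ℚ → ℚ → ℚ → ℚ) (hP0 : P 0 0 0 = 0) (hPneg : ∀ a b c, P (-a) (-b) (-c) = -P a b c) :
    ∑ Y, P (xf A.v Y) (xe A.v Y) (xv A.v Y) / (A.d Y : ℚ) =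
      ∑ j, P (xf W j) (xe W j) (xv W j) * ((ε j : ℚ) / (A.d (X j) : ℚ)) := by
  symm
  apply Fintype.sum_of_injective X hinj
  · intro Y hY
    have hne : ∀ j, Y ≠ X j := by
      intro j h
      exact hY ⟨j, h.symm⟩
    obtain ⟨h1, h2, h3⟩ := x_zero A.v Y (hz Y hne)
    rw [h1, h2, h3]
    simp [hP0]
  · intro j
    rw [xf_smul A.v W (X j) j (ε j) (hv j), xe_smul A.v W (X j) j (ε j) (hv j),
      xv_smul A.v W (X j) j (ε j) (hv j)]
    rcases hε j with h | h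
    · rw [h]; simp [div_eq_mul_inv]
    · rw [h]
      push_cast
      rw [show ((-1 : ℚ) * (xf W j : ℚ)) = -(xf W j : ℚ) by ring,
        show ((-1 : ℚ) * (xe W j : ℚ)) = -(xe W j : ℚ) by ring,
        show ((-1 : ℚ) * (xv W j : ℚ)) = -(xv W j : ℚ) by ring, hPneg]
      ring

/-- Integer linear combination of seven linear equations. -/
theorem comb {n : ℕ} (u : Fin n → ℚ) (c1 c2 c3 c4 c5 c6 c7 t : Fin n → ℤ)
    (l1 l2 l3 l4 l5 l6 l7 : ℤ)
    (hk : ∀ j, l1 * c1 j + l2 * c2 j + l3 * c3 j + l4 * c4 j + l5 * c5 j + l6 * c6 j + l7 * c7 j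
      = t j)
    (r1 r2 r3 r4 r5 r6 r7 : ℚ)
    (h1 : ∑ j, (c1 j : ℚ) * u j = r1) (h2 : ∑ j, (c2 j : ℚ) * u j = r2)
    (h3 : ∑ j, (c3 j : ℚ) * u j = r3) (h4 : ∑ j, (c4 j : ℚ) * u j = r4)
    (h5 : ∑ j, (c5 j : ℚ) * u j = r5) (h6 : ∑ j, (c6 j : ℚ) * u j = r6)
    (h7 : ∑ j, (c7 j : ℚ) * u j = r7) :
    ∑ j, (t j : ℚ) * u j =
      l1 * r1 + l2 * r2 + l3 * r3 + l4 * r4 + l5 * r5 + l6 * r6 + l7 * r7 := by
  rw [← h1, ← h2, ← h3, ← h4, ← h5, ← h6, ← h7]
  simp only [Finset.mul_sum, ← Finset.sum_add_distrib]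
  apply Finset.sum_congr rfl
  intro j _
  rw [← hk j]
  push_cast
  ring

/-- the seven cubic monomials, as integer coefficient vectors of a node -/
def cffe {n : ℕ} (W : Fin n → Fin 9 → ℤ) (j : Fin n) : ℤ := (xf W j) ^ 2 * xe W j
def cffv {n : ℕ} (W : Fin n → Fin 9 → ℤ) (j : Fin n) : ℤ := (xf W j) ^ 2 * xv W j
def cfee {n : ℕ} (W : Fin n → Fin 9 → ℤ) (j : Fin n) : ℤ := (xf W j) * (xe W j) ^ 2
def cfvv {n : ℕ} (W : Fin n → Fin 9 → ℤ) (j : Fin n) : ℤ := (xf W j) * (xv W j) ^ 2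
def ceev {n : ℕ} (W : Fin n → Fin 9 → ℤ) (j : Fin n) : ℤ := (xe W j) ^ 2 * xv W j
def cevv {n : ℕ} (W : Fin n → Fin 9 → ℤ) (j : Fin n) : ℤ := (xe W j) * (xv W j) ^ 2
def cfev {n : ℕ} (W : Fin n → Fin 9 → ℤ) (j : Fin n) : ℤ := (xf W j) * (xe W j) * xv W j

/-- The seven class-constant equations of `A`, as linear equations in `u j = ε j / d (X j)`. -/
theorem seven (A : Arith ι) {n : ℕ} (W : Fin n → Fin 9 → ℤ) (X : Fin n → ι) (ε : Fin n → ℤ)
    (hinj : Function.Injective X) (hε : ∀ j, ε j = 1 ∨ ε j = -1)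
    (hv : ∀ j i, A.v (X j) i = ε j * W j i) (hz : ∀ Y, (∀ j, Y ≠ X j) → ∀ i, A.v Y i = 0) :
    (∑ j, (cffe W j : ℚ) * ((ε j : ℚ) / (A.d (X j) : ℚ)) = 23328 / A.g) ∧
    (∑ j, (cffv W j : ℚ) * ((ε j : ℚ) / (A.d (X j) : ℚ)) = 0) ∧
    (∑ j, (cfee W j : ℚ) * ((ε j : ℚ) / (A.d (X j) : ℚ)) = 11664 / A.g) ∧
    (∑ j, (cfvv W j : ℚ) * ((ε j : ℚ) / (A.d (X j) : ℚ)) = 26244 / A.g) ∧
    (∑ j, (ceev W j : ℚ) * ((ε j : ℚ) / (A.d (X j) : ℚ)) = 17496 / A.g) ∧
    (∑ j, (cevv W j : ℚ) * ((ε j : ℚ) / (A.d (X j) : ℚ)) = 13122 / A.g) ∧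
    (∑ j, (cfev W j : ℚ) * ((ε j : ℚ) / (A.d (X j) : ℚ)) = 17496 / A.g) := by
  refine ⟨?_, ?_, ?_, ?_, ?_, ?_, ?_⟩
  · have h := sum_node A W X ε hinj hε hv hz (fun a b _ => a ^ 2 * b) (by norm_num)
      (by intro a b c; ring)
    beta_reduce at h
    rw [A.Tffe] at h
    rw [h]
    apply Finset.sum_congr rfl
    intro j _
    simp only [cffe]; push_cast; ring
  · have h := sum_node A W X ε hinj hε hv hz (fun a _ c => a ^ 2 * c) (by norm_num)
      (by intro a b c; ring)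
    beta_reduce at h
    rw [A.Tffv] at h
    rw [h]
    apply Finset.sum_congr rfl
    intro j _
    simp only [cffv]; push_cast; ring
  · have h := sum_node A W X ε hinj hε hv hz (fun a b _ => a * b ^ 2) (by norm_num)
      (by intro a b c; ring)
    beta_reduce at h
    rw [A.Tfee] at h
    rw [h]
    apply Finset.sum_congr rfl
    intro j _
    simp only [cfee]; push_cast; ring
  · have h := sum_node A W X ε hinj hε hv hz (fun a _ c => a * c ^ 2) (by norm_num)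
      (by intro a b c; ring)
    beta_reduce at h
    rw [A.Tfvv] at h
    rw [h]
    apply Finset.sum_congr rfl
    intro j _
    simp only [cfvv]; push_cast; ring
  · have h := sum_node A W X ε hinj hε hv hz (fun _ b c => b ^ 2 * c) (by norm_num)
      (by intro a b c; ring)
    beta_reduce at h
    rw [A.Teev] at h
    rw [h]
    apply Finset.sum_congr rfl
    intro j _
    simp only [ceev]; push_cast; ring
  · have h := sum_node A W X ε hinj hε hv hz (fun _ b c => b * c ^ 2) (by norm_num)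
      (by intro a b c; ring)
    beta_reduce at h
    rw [A.Tevv] at h
    rw [h]
    apply Finset.sum_congr rfl
    intro j _
    simp only [cevv]; push_cast; ring
  · have h := sum_node A W X ε hinj hε hv hz (fun a b c => a * b * c) (by norm_num)
      (by intro a b c; ring)
    beta_reduce at h
    rw [A.Tfev] at h
    rw [h]
    apply Finset.sum_congr rfl
    intro j _
    simp only [cfev]; push_cast; ring

/-! ### The integer identities -/

theorem key_nat : ∀ j : Fin 14,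
    (-1 : ℤ) * cffe Wnat j + 0 * cffv Wnat j + (-3) * cfee Wnat j + 0 * cfvv Wnat j
      + 4 * ceev Wnat j + 0 * cevv Wnat j + 0 * cfev Wnat j
      = (if j = 0 then 108 else 0) + (if j = 1 then 108 else 0) := by
  decide

theorem key_exo : ∀ j : Fin 13,
    (-2 : ℤ) * cffe Wexo j + 1 * cffv Wexo j + (-2) * cfee Wexo j + 1 * cfvv Wexo j
      + (-2) * ceev Wexo j + (-2) * cevv Wexo j + 6 * cfev Wexo j
      = (if j = 1 then 108 else 0) := by
  decide

theorem key_ncol : ∀ j : Fin 14,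
    (-1 : ℤ) * cffe ncol j + 0 * cffv ncol j + (-3) * cfee ncol j + 0 * cfvv ncol j
      + 4 * ceev ncol j + 0 * cevv ncol j + 0 * cfev ncol j
      = (if j = 4 then 108 else 0) + (if j = 5 then 108 else 0) := by
  decide

theorem key_ecol : ∀ j : Fin 13,
    (-2 : ℤ) * cffe ecol j + 1 * cffv ecol j + (-2) * cfee ecol j + 1 * cfvv ecol j
      + (-2) * ceev ecol j + (-2) * cevv ecol j + 6 * cfev ecol j
      = (if j = 10 then 108 else 0) := by
  decide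

theorem inv_signed (e : ℤ) (he : e = 1 ∨ e = -1) (d : ℕ) :
    (1 : ℚ) / ((e * (d : ℤ) : ℤ) : ℚ) = (e : ℚ) / (d : ℚ) := by
  rcases he with h | h
  · rw [h]; simp
  · rw [h]; push_cast; rw [neg_one_mul, neg_div, one_div, one_div, inv_neg]

/-- residue of a signed degree of `b`-type -/
theorem res_b (A : Arith ι) {n : ℕ} (W : Fin n → Fin 9 → ℤ) (X : Fin n → ι) (ε : Fin n → ℤ)
    (hε : ∀ j, ε j = 1 ∨ ε j = -1) (hv : ∀ j i, A.v (X j) i = ε j * W j i) (a : Fin n)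
    (hp : pp W a = 0) (hq : qq W a = 1) (hr : rr W a = 1) :
    (ε a * (A.d (X a) : ℤ)) % 27 = 12 := by
  have hc0 := A.cong (X a)
  rw [pp_smul A.v W (X a) a (ε a) (hv a), qq_smul A.v W (X a) a (ε a) (hv a),
    rr_smul A.v W (X a) a (ε a) (hv a), hp, hq, hr] at hc0
  rcases hε a with h | h
  · rw [h]; rw [h] at hc0; omega
  · rw [h]; rw [h] at hc0; omega

/-- ENDGAME core, natural shape: two `b`-type rows `a ≠ b` isolated by the combination
`-Tffe - 3 Tfee + 4 Teev`. -/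
theorem nat_core (A : Arith ι) {n : ℕ} (W : Fin n → Fin 9 → ℤ) (a b : Fin n) (hab : a ≠ b)
    (hkey : ∀ j : Fin n,
      (-1 : ℤ) * cffe W j + 0 * cffv W j + (-3) * cfee W j + 0 * cfvv W j
        + 4 * ceev W j + 0 * cevv W j + 0 * cfev W j
        = (if j = a then 108 else 0) + (if j = b then 108 else 0))
    (hpa : pp W a = 0) (hqa : qq W a = 1) (hra : rr W a = 1)
    (hpb : pp W b = 0) (hqb : qq W b = 1) (hrb : rr W b = 1)
    (h : FinalNode A n W) : A.m = 1 := by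
  obtain ⟨X, ε, hinj, hε, hv, hz⟩ := h
  obtain ⟨e1, e2, e3, e4, e5, e6, e7⟩ := seven A W X ε hinj hε hv hz
  have hc := comb (fun j => (ε j : ℚ) / (A.d (X j) : ℚ)) (cffe W) (cffv W) (cfee W)
    (cfvv W) (ceev W) (cevv W) (cfev W) _ (-1) 0 (-3) 0 4 0 0 hkey
    _ _ _ _ _ _ _ e1 e2 e3 e4 e5 e6 e7
  have hsum : ∑ j : Fin n, (((if j = a then 108 else 0) + (if j = b then 108 else 0) : ℤ) : ℚ) *
      ((ε j : ℚ) / (A.d (X j) : ℚ)) =
      108 * ((ε a : ℚ) / (A.d (X a) : ℚ)) + 108 * ((ε b : ℚ) / (A.d (X b) : ℚ)) := by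
    push_cast
    simp only [add_mul, ite_mul, zero_mul, Finset.sum_add_distrib, Finset.sum_ite_eq',
      Finset.mem_univ, if_true]
  rw [hsum] at hc
  -- the two `b`-type characters
  set b0 : ℤ := ε a * (A.d (X a) : ℤ) with hb0
  set b1 : ℤ := ε b * (A.d (X b) : ℤ) with hb1
  have hm1 : 1 ≤ (A.m : ℤ) := by
    have := A.hm
    omega
  have hm27 : (A.m : ℤ) % 27 = 1 := by
    have := A.hm
    omega
  have hgq : (A.g : ℚ) = 648 * ((A.m : ℤ) : ℚ) := by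
    have := A.hg
    rw [this]; push_cast; ring
  have hr0 : b0 % 27 = 12 := res_b A W X ε hε hv a hpa hqa hra
  have hr1 : b1 % 27 = 12 := res_b A W X ε hε hv b hpb hqb hrb
  have heq : (1 : ℚ) / b0 + 1 / b1 = 108 / (A.g : ℚ) := by
    rw [hb0, hb1, inv_signed (ε a) (hε a), inv_signed (ε b) (hε b)]
    have h2 : (108 : ℚ) * ((ε a : ℚ) / (A.d (X a) : ℚ) + (ε b : ℚ) / (A.d (X b) : ℚ)) =
        108 * (108 / (A.g : ℚ)) := by
      rw [mul_add, hc]; push_cast; ring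
    exact mul_left_cancel₀ (by norm_num) h2
  have hsq : b0 ^ 2 + b1 ^ 2 ≤ 648 * (A.m : ℤ) := by
    classical
    have h01 : X a ≠ X b := fun h => hab (hinj h)
    have hle : (A.d (X a)) ^ 2 + (A.d (X b)) ^ 2 ≤ ∑ Y, (A.d Y) ^ 2 := by
      have hp := Finset.sum_pair (f := fun Y => (A.d Y) ^ 2) h01
      rw [← hp]
      exact Finset.sum_le_sum_of_subset (Finset.subset_univ _)
    rw [A.sq, A.hg] at hle
    have hb0sq : b0 ^ 2 = ((A.d (X a)) ^ 2 : ℕ) := by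
      rw [hb0]; rcases hε a with h | h <;> rw [h] <;> push_cast <;> ring
    have hb1sq : b1 ^ 2 = ((A.d (X b)) ^ 2 : ℕ) := by
      rw [hb1]; rcases hε b with h | h <;> rw [h] <;> push_cast <;> ring
    rw [hb0sq, hb1sq]
    exact_mod_cast hle
  have := Cfsg.Agent.Helper26.S3702.bfamily_endgame_rat b0 b1 (A.m : ℤ) (A.g : ℚ) hgq hm1 hm27
    hr0 hr1 heq hsq
  exact_mod_cast this

/-- ENDGAME core, exotic shape: the combination
`-2 Tffe + Tffv - 2 Tfee + Tfvv - 2 Teev - 2 Tevv + 6 Tfev` isolates one row `a`, whose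
`1 / D` is therefore `0`. -/
theorem exo_core (A : Arith ι) {n : ℕ} (W : Fin n → Fin 9 → ℤ) (a : Fin n)
    (hkey : ∀ j : Fin n,
      (-2 : ℤ) * cffe W j + 1 * cffv W j + (-2) * cfee W j + 1 * cfvv W j
        + (-2) * ceev W j + (-2) * cevv W j + 6 * cfev W j
        = (if j = a then 108 else 0))
    (h : FinalNode A n W) : False := by
  obtain ⟨X, ε, hinj, hε, hv, hz⟩ := h
  obtain ⟨e1, e2, e3, e4, e5, e6, e7⟩ := seven A W X ε hinj hε hv hz
  have hc := comb (fun j => (ε j : ℚ) / (A.d (X j) : ℚ)) (cffe W) (cffv W) (cfee W)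
    (cfvv W) (ceev W) (cevv W) (cfev W) _ (-2) 1 (-2) 1 (-2) (-2) 6 hkey
    _ _ _ _ _ _ _ e1 e2 e3 e4 e5 e6 e7
  have hsum : ∑ j : Fin n, (((if j = a then 108 else 0) : ℤ) : ℚ) *
      ((ε j : ℚ) / (A.d (X j) : ℚ)) = 108 * ((ε a : ℚ) / (A.d (X a) : ℚ)) := by
    push_cast
    simp only [ite_mul, zero_mul, Finset.sum_ite_eq', Finset.mem_univ, if_true]
  rw [hsum] at hc
  have hzero : (108 : ℚ) * ((ε a : ℚ) / (A.d (X a) : ℚ)) = 0 := by
    rw [hc]; push_cast; ring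
  have hd : (A.d (X a) : ℚ) ≠ 0 := by
    have := A.dpos (X a)
    positivity
  have hε1 : (ε a : ℚ) ≠ 0 := by
    rcases hε a with h | h <;> rw [h] <;> norm_num
  have : (ε a : ℚ) / (A.d (X a) : ℚ) ≠ 0 := div_ne_zero hε1 hd
  rcases mul_eq_zero.1 hzero with h | h
  · norm_num at h
  · exact this h

theorem finalNode_of_realizes (A : Arith ι) {n : ℕ} (col : Fin n → Fin 9 → ℤ)
    (h : Realizes col A.v) : FinalNode A n col := by
  obtain ⟨f, ε, hinj, hε, hv, hz⟩ := h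
  exact ⟨f, ε, hinj, hε, hv, fun Y hY i => by rw [hz Y hY]; rfl⟩

end End

open End

/-- ENDGAME, natural realization: `m = 1`. -/
theorem end_nat (A : Arith ι) (h : FinalNode A 14 Wnat) : A.m = 1 :=
  nat_core A Wnat 0 1 (by decide) key_nat (by decide) (by decide) (by decide) (by decide)
    (by decide) (by decide) h

/-- ENDGAME, exotic realization: impossible. -/
theorem end_exo (A : Arith ι) (h : FinalNode A 13 Wexo) : False :=
  exo_core A Wexo 1 key_exo h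

/-- ENDGAME in helper16's interface, natural realization: `m = 1`. -/
theorem natural_m (A : Arith ι) (h : Realizes ncol A.v) : A.m = 1 :=
  nat_core A ncol 4 5 (by decide) key_ncol (by decide) (by decide) (by decide) (by decide)
    (by decide) (by decide) (finalNode_of_realizes A ncol h)

/-- ENDGAME in helper16's interface, exotic realization: impossible. -/
theorem exotic_false (A : Arith ι) (h : Realizes ecol A.v) : False :=
  exo_core A ecol 10 key_ecol (finalNode_of_realizes A ecol h)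

end Cfsg.Agent.Helper16.TC648
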