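import Mathlib
import Cfsg.Agent.Lib.Helper26.TIDefs2

/-!
# S1786 piece TI-B3 (G5.3, G5.4): `Z(D) = V A`, `P ⊓ PA = A`, `[D, E] ≤ A`
-/

set_option autoImplicit false

namespace Cfsg.Agent.Helper26.TI

variable {G : Type*} [Group G]

/-- elementwise centralizing implies normalizing -/
theorem tib3_cj_eq_of_cent {K : Subgroup G} {c : G} (h : ∀ k ∈ K, c * k = k * c) : cj c K = K := by
  ext z
  rw [mem_cj']
  constructor
  · intro hz
    have h0 := h _ hz
    have e : z = c⁻¹ * z * c := by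
      have h1 : c * (c⁻¹ * z * c) = z * c := by group
      rw [h1] at h0
      exact mul_right_cancel h0
    rw [e]; exact hz
  · intro hz
    have h0 := h _ hz
    have e : c⁻¹ * z * c = z := by
      rw [mul_assoc, ← h0, ← mul_assoc, inv_mul_cancel, one_mul]
    rw [e]; exact hz

/-- the commutation computation behind `Z(D) = V A` -/
theorem tib3_comm_calc {x a u c : G} (hcc : c * c = 1) (hxc : x * c = c * x)
    (hxu : x * u = c * u * x) (hua : u * a = c * a * u) : (x * a) * u = u * (x * a) := by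
  have hau : a * u = c * u * a := by
    have : c * (u * a) = a * u := by
      rw [hua, ← mul_assoc, ← mul_assoc, hcc, one_mul]
    rw [← this, mul_assoc]
  calc x * a * u = x * (a * u) := by rw [mul_assoc]
    _ = x * (c * u * a) := by rw [hau]
    _ = (x * c) * u * a := by simp only [mul_assoc]
    _ = (c * x) * u * a := by rw [hxc]
    _ = c * (x * u) * a := by simp only [mul_assoc]
    _ = c * (c * u * x) * a := by rw [hxu]
    _ = (c * c) * u * x * a := by simp only [mul_assoc]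
    _ = u * (x * a) := by rw [hcc, one_mul, mul_assoc]

section GoalB
variable {V P A PA U : Subgroup G}

/-- TI-B3 (G5.3, G5.4). -/
theorem Cfg3.toCfg4 [Finite G] (h : Cfg3 V P A PA U) : Cfg4 V P A PA U := by
  have hloc := h.loc
  have hlocA := h.locA
  obtain ⟨k, hUk⟩ := h.conjU
  -- `U ⊓ V = ⊥`
  have hUV : ∀ z, z ∈ U → z ∈ V → z = 1 := by
    intro z hzU hzV
    rcases hloc.base.ti k with hk | hk
    · exact absurd (hUk.trans hk) h.U_ne
    · have hz : z ∈ cj k V ⊓ V := ⟨hUk ▸ hzU, hzV⟩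
      rw [hk] at hz
      exact Subgroup.mem_bot.mp hz
  -- `V`, hence `U`, is nontrivial
  have hVne : ∃ v ∈ V, v ≠ 1 := by
    by_contra hcon
    push Not at hcon
    apply h.hn
    intro v hv
    rw [hcon v hv]; exact PA.one_mem
  obtain ⟨v1, hv1, hv1ne⟩ := hVne
  have hUne : ∃ u ∈ U, u ≠ 1 := by
    refine ⟨k * v1 * k⁻¹, hUk ▸ conj_mem_cj hv1, ?_⟩
    intro hk
    apply hv1ne
    have : v1 = k⁻¹ * (k * v1 * k⁻¹) * k := by group
    rw [this, hk]; group
  obtain ⟨u1, hu1, hu1ne⟩ := hUne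
  have hu1P : u1 ∈ P := h.U_le hu1
  -- normalizing facts
  have hDnormPA : ∀ d : G, (∀ a ∈ A, d * a = a * d) → cj d PA = PA :=
    fun d hd => hlocA.norm d (tib3_cj_eq_of_cent hd)
  have hEnormP : ∀ e : G, (∀ v ∈ V, e * v = v * e) → cj e P = P :=
    fun e he => hloc.norm e (tib3_cj_eq_of_cent he)
  -- `Z(D) = V A`
  have zD : ∀ x ∈ P, (∀ a ∈ A, x * a = a * x) →
      (∀ d ∈ P, (∀ a ∈ A, d * a = a * d) → x * d = d * x) → ∃ v ∈ V, ∃ a ∈ A, x = v * a := by
    intro x hx hxA hxD
    obtain ⟨c, hc⟩ : ∃ c, c = x * u1 * x⁻¹ * u1⁻¹ := ⟨_, rfl⟩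
    have hcV : c ∈ V := hc ▸ hloc.comm x hx u1 hu1P
    obtain ⟨a, ha, hau⟩ := h.surjA u1 hu1 hu1ne c hcV
    have haP : a ∈ P := h.le ha
    have hcc : c * c = 1 := hloc.base.sq c hcV
    have hxc : x * c = c * x := hloc.cent x hx c hcV
    have hxu : x * u1 = c * u1 * x := by rw [hc]; group
    have hua : u1 * a = c * a * u1 := by rw [← hau]; group
    have hx1u : (x * a) * u1 = u1 * (x * a) := tib3_comm_calc hcc hxc hxu hua
    have hx1P : x * a ∈ P := P.mul_mem hx haP
    have hnU : cj (x * a) U = U := h.normU (x * a) u1 hu1 hu1ne hx1u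
    -- `x a` centralizes `U`
    have hx1U : ∀ u ∈ U, (x * a) * u = u * (x * a) := by
      intro u hu
      have h1 : (x * a) * u * (x * a)⁻¹ * u⁻¹ ∈ U := by
        apply U.mul_mem _ (U.inv_mem hu)
        rw [← hnU]
        exact conj_mem_cj hu
      have h2 : (x * a) * u * (x * a)⁻¹ * u⁻¹ ∈ V := hloc.comm _ hx1P u (h.U_le hu)
      have h3 := hUV _ h1 h2
      have : (x * a) * u = ((x * a) * u * (x * a)⁻¹ * u⁻¹) * (u * (x * a)) := by group
      rw [this, h3, one_mul]
    -- `x a` centralizes `D`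
    have hx1D : ∀ d ∈ P, (∀ a' ∈ A, d * a' = a' * d) → (x * a) * d = d * (x * a) := by
      intro d hd hdA
      rw [mul_assoc, ← hdA a ha, ← mul_assoc, hxD d hd hdA, mul_assoc]
    -- `x a` is central in `P`
    have hx1Z : ∀ y ∈ P, (x * a) * y = y * (x * a) := by
      intro y hy
      obtain ⟨u, hu, hud⟩ := h.decomp y hy
      have hdP : u⁻¹ * y ∈ P := P.mul_mem (P.inv_mem (h.U_le hu)) hy
      have hy' : y = u * (u⁻¹ * y) := by group
      have e1 := hx1U u hu
      have e2 := hx1D (u⁻¹ * y) hdP hud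
      calc (x * a) * y = (x * a) * (u * (u⁻¹ * y)) := by rw [← hy']
        _ = ((x * a) * u) * (u⁻¹ * y) := by simp only [mul_assoc]
        _ = (u * (x * a)) * (u⁻¹ * y) := by rw [e1]
        _ = u * ((x * a) * (u⁻¹ * y)) := by simp only [mul_assoc]
        _ = u * ((u⁻¹ * y) * (x * a)) := by rw [e2]
        _ = (u * (u⁻¹ * y)) * (x * a) := by simp only [mul_assoc]
        _ = y * (x * a) := by rw [← hy']
    have hx1V : x * a ∈ V := hloc.center _ hx1P hx1Z
    exact ⟨x * a, hx1V, a⁻¹, A.inv_mem ha, by group⟩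
  -- `P ⊓ PA = A`
  have inter : ∀ x ∈ P, x ∈ PA → x ∈ A := by
    intro x hx hxPA
    have hxA : ∀ a ∈ A, x * a = a * x := fun a ha => hlocA.cent x hxPA a ha
    have hxD : ∀ d ∈ P, (∀ a ∈ A, d * a = a * d) → x * d = d * x := by
      intro d hd hdA
      have h1 : x * d * x⁻¹ * d⁻¹ ∈ V := hloc.comm x hx d hd
      have h2 : x * d * x⁻¹ * d⁻¹ ∈ PA := by
        have h3 : d * x⁻¹ * d⁻¹ ∈ PA := by
          have := conj_mem_cj (x := d) (PA.inv_mem hxPA)
          rwa [hDnormPA d hdA] at this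
        have : x * d * x⁻¹ * d⁻¹ = x * (d * x⁻¹ * d⁻¹) := by group
        rw [this]
        exact PA.mul_mem hxPA h3
      have h3 := h.interV _ h1 h2
      have : x * d = (x * d * x⁻¹ * d⁻¹) * (d * x) := by group
      rw [this, h3, one_mul]
    obtain ⟨v, hv, a, ha, hxva⟩ := zD x hx hxA hxD
    have hvPA : v ∈ PA := by
      have : v = x * a⁻¹ := by rw [hxva]; group
      rw [this]
      exact PA.mul_mem hxPA (PA.inv_mem (hlocA.V_le ha))
    have hv1' : v = 1 := h.interV v hv hvPA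
    rw [hxva, hv1', one_mul]
    exact ha
  -- `[D, E] ≤ A`
  have commDE : ∀ d ∈ P, (∀ a ∈ A, d * a = a * d) → ∀ e ∈ PA, (∀ v ∈ V, e * v = v * e) →
      d * e * d⁻¹ * e⁻¹ ∈ A := by
    intro d hd hdA e he heV
    apply inter
    · have h3 : e * d⁻¹ * e⁻¹ ∈ P := by
        have := conj_mem_cj (x := e) (P.inv_mem hd)
        rwa [hEnormP e heV] at this
      have : d * e * d⁻¹ * e⁻¹ = d * (e * d⁻¹ * e⁻¹) := by group
      rw [this]
      exact P.mul_mem hd h3
    · have h3 : d * e * d⁻¹ ∈ PA := by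
        have := conj_mem_cj (x := d) he
        rwa [hDnormPA d hdA] at this
      exact PA.mul_mem h3 (PA.inv_mem he)
  exact { toCfg3 := h, zD := zD, inter := inter, commDE := commDE }

end GoalB

end Cfsg.Agent.Helper26.TI
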