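import Mathlib
import Cfsg.Agent.Lib.Helper26.TIDefs2

/-!
# S1786 piece TI-B4 (G5.5): `[PA, D] ≤ E`
-/

set_option autoImplicit false

namespace Cfsg.Agent.Helper26.TI

variable {G : Type*} [Group G]

/-- elementwise centralizing implies normalizing -/
theorem tib4_cj_eq_of_cent {K : Subgroup G} {c : G} (h : ∀ k ∈ K, c * k = k * c) : cj c K = K := by
  ext z
  rw [mem_cj']
  constructor
  · intro hz
    have h0 := h _ hz
    have e : z = c⁻¹ * z * c := by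
      have h1 : c * (c⁻¹ * z * c) = z * c := by group
      rw [h1] at h0
      exact mul_right_cancel h0
    rw [e]; exact hz
  · intro hz
    have h0 := h _ hz
    have e : c⁻¹ * z * c = z := by
      rw [mul_assoc, ← h0, ← mul_assoc, inv_mul_cancel, one_mul]
    rw [e]; exact hz

section GoalB
variable {V P A PA U : Subgroup G}

/-- TI-B4 (G5.5). -/
theorem Cfg4.toCfg5 [Finite G] (h : Cfg4 V P A PA U) : Cfg5 V P A PA U := by
  have hloc := h.loc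
  have hlocA := h.locA
  have hDnormPA : ∀ d : G, (∀ a ∈ A, d * a = a * d) → cj d PA = PA :=
    fun d hd => hlocA.norm d (tib4_cj_eq_of_cent hd)
  have D1 : ∀ d ∈ P, (∀ a ∈ A, d * a = a * d) → ∀ y ∈ PA,
      d * y * d⁻¹ * y⁻¹ ∈ PA ∧ ∀ v ∈ V, (d * y * d⁻¹ * y⁻¹) * v = v * (d * y * d⁻¹ * y⁻¹) := by
    intro d hd hdA y hy
    have hwPA : d * y * d⁻¹ * y⁻¹ ∈ PA := by
      have h3 : d * y * d⁻¹ ∈ PA := by
        have := conj_mem_cj (x := d) hy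
        rwa [hDnormPA d hdA] at this
      exact PA.mul_mem h3 (PA.inv_mem hy)
    refine ⟨hwPA, ?_⟩
    intro v hv
    obtain ⟨w, hw⟩ : ∃ w, w = d * y * d⁻¹ * y⁻¹ := ⟨_, rfl⟩
    rw [← hw] at hwPA ⊢
    -- `c = [y⁻¹, v] ∈ E`
    obtain ⟨c, hc⟩ : ∃ c, c = y⁻¹ * v * (y⁻¹)⁻¹ * v⁻¹ := ⟨_, rfl⟩
    have hcE := h.quadV y⁻¹ (PA.inv_mem hy) v hv
    rw [← hc] at hcE
    -- `[d, c] ∈ A`
    have hdc : d * c * d⁻¹ * c⁻¹ ∈ A := h.commDE d hd hdA c hcE.1 hcE.2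
    -- `v` commutes with `d`
    have hdv : d * v = v * d := hloc.cent d hd v hv
    -- `[d,c]` commutes with `y⁻¹`
    have hcomm : y⁻¹ * (d * c * d⁻¹ * c⁻¹) = (d * c * d⁻¹ * c⁻¹) * y⁻¹ :=
      hlocA.cent y⁻¹ (PA.inv_mem hy) _ hdc
    -- `v w v⁻¹ = w [d,c]`
    have hvy : v * y * v⁻¹ = y * c := by rw [hc]; group
    have hvd : v * d * v⁻¹ = d := by rw [← hdv]; group
    have hconj : v * w * v⁻¹ = w * (d * c * d⁻¹ * c⁻¹) := by
      have e1 : v * w * v⁻¹ = (v * d * v⁻¹) * (v * y * v⁻¹) * (v * d * v⁻¹)⁻¹ * (v * y * v⁻¹)⁻¹ := by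
        rw [hw]; group
      rw [e1, hvd, hvy]
      have e2 : d * (y * c) * d⁻¹ * (y * c)⁻¹ = d * y * d⁻¹ * ((d * c * d⁻¹ * c⁻¹) * y⁻¹) := by group
      rw [e2, ← hcomm, hw]
      group
    -- `[w⁻¹, v] ∈ A`, so no twist
    have htw : w⁻¹ * v * (w⁻¹)⁻¹ * v⁻¹ ∈ A := by
      have : w⁻¹ * v * (w⁻¹)⁻¹ * v⁻¹ = d * c * d⁻¹ * c⁻¹ := by
        have : w⁻¹ * v * (w⁻¹)⁻¹ * v⁻¹ = w⁻¹ * (v * w * v⁻¹) := by group
        rw [this, hconj]; group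
      rw [this]; exact hdc
    have h5 := h.noTwist w⁻¹ (PA.inv_mem hwPA) v hv htw
    -- `w⁻¹ v = v w⁻¹` gives `w v = v w`
    have : w * v = w * (v * w⁻¹) * w := by group
    rw [this, ← h5]; group
  exact { toCfg4 := h, D1 := D1 }

end GoalB

end Cfsg.Agent.Helper26.TI
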