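import Mathlib
import Cfsg.Agent.Lib.Helper4.PGroupFixed

set_option autoImplicit false

open IsLocalRing

namespace Cfsg.Agent.Helper24.TIDim

/-- There is a valuation subring of `ℂ` in which the prime `p` is a non-unit. -/
theorem exists_valuationSubring (p : ℕ) (hp : p.Prime) :
    ∃ O : ValuationSubring ℂ, (p : ℂ) ∈ O.nonunits := by
  let A : Subring ℂ := (Int.castRingHom ℂ).range
  have hpA : (p : ℂ) ∈ A := ⟨(p : ℤ), by simp⟩
  let I : Ideal A := Ideal.span {⟨(p : ℂ), hpA⟩}
  have hI : I ≠ ⊤ := by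
    intro h
    rw [Ideal.span_singleton_eq_top] at h
    obtain ⟨⟨b, hb⟩, e⟩ := isUnit_iff_exists_inv.mp h
    obtain ⟨m, rfl⟩ := hb
    have h1 : (p : ℂ) * ((Int.castRingHom ℂ) m) = 1 := congrArg Subtype.val e
    have h2 : (p : ℤ) * m = 1 := by
      have : ((p : ℤ) * m : ℂ) = 1 := by simpa using h1
      exact_mod_cast this
    have h3 : (p : ℤ) ∣ 1 := ⟨m, h2.symm⟩
    have h4 : p ∣ 1 := by exact_mod_cast h3
    exact hp.one_lt.ne' (Nat.dvd_one.1 h4)
  obtain ⟨B, -, hB⟩ := Ideal.image_subset_nonunits_valuationSubring I hI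
  exact ⟨B, hB ⟨⟨(p : ℂ), hpA⟩, Ideal.subset_span rfl, rfl⟩⟩

section lattice

variable (O : ValuationSubring ℂ) {E : Type*} [AddCommGroup E] [Module ℂ E]

/-- A family which is independent modulo `𝔪 L` is linearly independent over `ℂ`. -/
theorem linearIndependent_of_mod {ι : Type*} [Fintype ι] (L : Submodule O E) (x : ι → E)
    (h : ∀ c : ι → O, ∑ i, c i • x i ∈ maximalIdeal O • L → ∀ i, c i ∈ maximalIdeal O) :
    LinearIndependent ℂ x := by
  classical
  rw [Fintype.linearIndependent_iff]
  intro a ha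
  by_contra hne
  push Not at hne
  obtain ⟨i0, hi0⟩ := hne
  obtain ⟨j, -, hj⟩ := Finset.exists_max_image Finset.univ (fun i => O.valuation (a i))
    ⟨i0, Finset.mem_univ _⟩
  have haj : a j ≠ 0 := by
    intro h0
    have h1 := hj i0 (Finset.mem_univ _)
    rw [h0, map_zero] at h1
    exact hi0 ((map_eq_zero _).1 (le_zero_iff.1 h1))
  have hvj : O.valuation (a j) ≠ 0 := fun h0 => haj ((map_eq_zero _).1 h0)
  have hc : ∀ i, a i / a j ∈ O := by
    intro i
    rw [← O.valuation_le_one_iff, map_div₀]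
    exact (div_le_one₀ (zero_lt_iff.2 hvj)).2 (hj i (Finset.mem_univ _))
  let c : ι → O := fun i => ⟨a i / a j, hc i⟩
  have hsum : ∑ i, c i • x i = 0 := by
    have h2 : ∀ i, c i • x i = (a j)⁻¹ • (a i • x i) := by
      intro i
      show (a i / a j) • x i = _
      rw [smul_smul, div_eq_inv_mul]
    simp only [h2]
    rw [← Finset.smul_sum, ha, smul_zero]
  have h1 := h c (by rw [hsum]; exact Submodule.zero_mem _) j
  have h3 : c j = 1 := Subtype.ext (div_self haj)
  rw [h3] at h1
  exact (Ideal.ne_top_iff_one _).1 (maximalIdeal.isMaximal O).ne_top h1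

end lattice

section rep

variable (O : ValuationSubring ℂ) {E : Type*} [AddCommGroup E] [Module ℂ E]
variable {G : Type*} [Group G]

/-- The `O`-lattice spanned by the translates of `w`. -/
noncomputable def lat (τ : Representation ℂ G E) (w : E) : Submodule O E :=
  Submodule.span O (Set.range fun g : G => τ g w)

theorem self_mem_lat (τ : Representation ℂ G E) (w : E) : w ∈ lat O τ w :=
  Submodule.subset_span ⟨1, by simp⟩

theorem translate_mem_lat (τ : Representation ℂ G E) (w : E) (g : G) : τ g w ∈ lat O τ w :=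
  Submodule.subset_span ⟨g, rfl⟩

theorem map_lat_le (τ : Representation ℂ G E) (w : E) (g : G) :
    (lat O τ w).map ((τ g).restrictScalars O) ≤ lat O τ w := by
  unfold lat
  rw [Submodule.map_span, Submodule.span_le]
  rintro _ ⟨_, ⟨h, rfl⟩, rfl⟩
  apply Submodule.subset_span
  exact ⟨g * h, by simp⟩

theorem smul_mem_lat (τ : Representation ℂ G E) (w : E) (g : G) {x : E}
    (hx : x ∈ lat O τ w) : τ g x ∈ lat O τ w :=
  map_lat_le O τ w g ⟨x, hx, rfl⟩

theorem smul_mem_smul_lat (τ : Representation ℂ G E) (w : E) (g : G) {x : E}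
    (hx : x ∈ maximalIdeal O • lat O τ w) : τ g x ∈ maximalIdeal O • lat O τ w := by
  have h1 : (maximalIdeal O • lat O τ w).map ((τ g).restrictScalars O)
      ≤ maximalIdeal O • lat O τ w := by
    rw [Submodule.map_smul'']
    exact Submodule.smul_mono le_rfl (map_lat_le O τ w g)
  exact h1 ⟨x, hx, rfl⟩

theorem lat_le_span (τ : Representation ℂ G E) (w : E) {x : E} (hx : x ∈ lat O τ w) :
    x ∈ Submodule.span ℂ (Set.range fun g : G => τ g w) :=
  Submodule.span_le_restrictScalars O ℂ _ hx

/-- Nakayama: a non-zero generator is not in `𝔪 L`. -/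
theorem not_mem_smul_lat [Finite G] (τ : Representation ℂ G E) (w : E) (hw : w ≠ 0) :
    w ∉ maximalIdeal O • lat O τ w := by
  intro h
  have h1 : lat O τ w ≤ maximalIdeal O • lat O τ w := by
    unfold lat
    rw [Submodule.span_le]
    rintro _ ⟨g, rfl⟩
    exact smul_mem_smul_lat O τ w g h
  have hfg : (lat O τ w).FG := Submodule.fg_span (Set.finite_range _)
  have h2 := Submodule.eq_bot_of_le_smul_of_le_jacobson_bot (maximalIdeal O) (lat O τ w) hfg h1
    (by rw [IsLocalRing.jacobson_eq_maximalIdeal ⊥ bot_ne_top])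
  have h3 := self_mem_lat O τ w
  rw [h2, Submodule.mem_bot] at h3
  exact hw h3

end rep

section fp

variable (O : ValuationSubring ℂ) {E : Type*} [AddCommGroup E] [Module ℂ E]
variable {p : ℕ} [Fact p.Prime]

theorem charP_residue (hp : (p : ℂ) ∈ O.nonunits) : CharP (ResidueField O) p := by
  have hpO : (p : ℂ) ∈ O := O.nonunits_subset hp
  have h0 : ((p : ℕ) : ResidueField O) = 0 := by
    have h1 : ((p : ℕ) : O) ∈ maximalIdeal O := by
      rw [← ValuationSubring.coe_mem_nonunits_iff]
      simpa using hp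
    have h2 := (residue_eq_zero_iff ((p : ℕ) : O)).2 h1
    simpa using h2
  obtain ⟨q, hq⟩ := CharP.exists (ResidueField O)
  have h1 : q ∣ p := (CharP.cast_eq_zero_iff (ResidueField O) q p).1 h0
  have h2 : q ≠ 1 := CharP.char_ne_one (ResidueField O) q
  have h3 : q = p := ((Nat.dvd_prime (Fact.out : p.Prime)).1 h1).resolve_left h2
  exact h3 ▸ hq

/-- The left regular representation on functions. -/
noncomputable def regRep (k : Type*) [Field k] (P : Type*) [Group P] :
    Representation k P (P → k) where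
  toFun z :=
    { toFun := fun c y => c (z⁻¹ * y)
      map_add' := fun _ _ => rfl
      map_smul' := fun _ _ => rfl }
  map_one' := by ext c y; simp
  map_mul' := by intro a b; ext c y; simp [mul_assoc]

theorem regRep_apply (k : Type*) [Field k] (P : Type*) [Group P] (z : P) (c : P → k) (y : P) :
    regRep k P z c y = c (z⁻¹ * y) := rfl

/-- If a combination of the translates of `v` by the `p`-group `P` with a unit coefficient
lies in `𝔪 L`, then so does the full orbit sum. -/
theorem sigma_mem (hp : (p : ℂ) ∈ O.nonunits) {P : Type*} [Group P] [Fintype P]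
    (hP : IsPGroup p P) (a : Representation ℂ P E) (L : Submodule O E)
    (hL : ∀ y, ∀ x ∈ L, a y x ∈ L)
    (hmL : ∀ y, ∀ x ∈ maximalIdeal O • L, a y x ∈ maximalIdeal O • L)
    (v : E) (hv : v ∈ L) (c : P → O) (hc : ∑ y, c y • a y v ∈ maximalIdeal O • L)
    (y0 : P) (hy0 : c y0 ∉ maximalIdeal O) :
    ∑ y, a y v ∈ maximalIdeal O • L := by
  classical
  have := charP_residue O hp
  let I : Submodule (ResidueField O) (P → ResidueField O) :=
    { carrier := {cb | ∃ c : P → O, ∑ y, c y • a y v ∈ maximalIdeal O • L ∧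
        ∀ y, residue O (c y) = cb y}
      add_mem' := by
        rintro _ _ ⟨c1, h1, e1⟩ ⟨c2, h2, e2⟩
        refine ⟨c1 + c2, ?_, fun y => by simp [e1, e2]⟩
        simp only [Pi.add_apply, add_smul, Finset.sum_add_distrib]
        exact Submodule.add_mem _ h1 h2
      zero_mem' := ⟨0, by simp, fun y => by simp⟩
      smul_mem' := by
        rintro r _ ⟨c1, h1, e1⟩
        obtain ⟨r', rfl⟩ := residue_surjective r
        refine ⟨fun y => r' * c1 y, ?_, fun y => by simp [e1]⟩
        simp only [mul_smul]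
        rw [← Finset.smul_sum]
        exact Submodule.smul_mem _ _ h1 }
  have hI : ∀ cb, cb ∈ I ↔ ∃ c : P → O, ∑ y, c y • a y v ∈ maximalIdeal O • L ∧
        ∀ y, residue O (c y) = cb y := fun _ => Iff.rfl
  have hinv : ∀ z : P, ∀ cb ∈ I.toAddSubgroup, regRep (ResidueField O) P z cb ∈ I.toAddSubgroup := by
    intro z cb hcb
    rw [Submodule.mem_toAddSubgroup, hI] at hcb ⊢
    obtain ⟨c1, h1, e1⟩ := hcb
    refine ⟨fun y => c1 (z⁻¹ * y), ?_, fun y => by rw [regRep_apply]; exact e1 _⟩
    have h2 : ∑ y, c1 (z⁻¹ * y) • a y v = a z (∑ y, c1 y • a y v) := by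
      rw [map_sum]
      rw [← Fintype.sum_equiv (Equiv.mulLeft z) (fun y => c1 y • a (z * y) v)
        (fun y => c1 (z⁻¹ * y) • a y v) (fun y => by simp)]
      refine Finset.sum_congr rfl fun y _ => ?_
      rw [LinearMap.map_smul_of_tower, map_mul]
      rfl
    rw [h2]
    exact hmL z _ h1
  have hne : I.toAddSubgroup ≠ ⊥ := by
    intro h
    have h1 : (fun y => residue O (c y)) ∈ I.toAddSubgroup := by
      rw [Submodule.mem_toAddSubgroup, hI]
      exact ⟨c, hc, fun _ => rfl⟩
    rw [h, AddSubgroup.mem_bot] at h1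
    have h2 := congrFun h1 y0
    exact hy0 ((residue_eq_zero_iff _).1 h2)
  obtain ⟨cb, hcbI, hcb0, hfix⟩ := Cfsg.Agent.Helper4.exists_fixed_ne_zero hP
    (regRep (ResidueField O) P) I.toAddSubgroup hinv hne
  have hconst : ∀ y, cb y = cb 1 := by
    intro y
    have h1 := congrFun (hfix y) y
    rw [regRep_apply, inv_mul_cancel] at h1
    exact h1.symm
  have hcb1 : cb 1 ≠ 0 := by
    intro h
    apply hcb0
    funext y
    rw [hconst y, h]
    rfl
  rw [Submodule.mem_toAddSubgroup, hI] at hcbI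
  obtain ⟨c', hc', ec'⟩ := hcbI
  have hu : IsUnit (c' 1) := by
    by_contra hnu
    have h1 : c' 1 ∈ maximalIdeal O := (mem_maximalIdeal _).2 hnu
    exact hcb1 ((ec' 1).symm.trans ((residue_eq_zero_iff _).2 h1))
  have hdiff : ∀ y, c' y - c' 1 ∈ maximalIdeal O := by
    intro y
    rw [← residue_eq_zero_iff, map_sub, ec', ec', hconst y, sub_self]
  have h3 : c' 1 • ∑ y, a y v ∈ maximalIdeal O • L := by
    have h4 : c' 1 • ∑ y, a y v = ∑ y, c' y • a y v - ∑ y, (c' y - c' 1) • a y v := by
      rw [Finset.smul_sum, ← Finset.sum_sub_distrib]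
      refine Finset.sum_congr rfl fun y _ => ?_
      rw [sub_smul]; abel
    rw [h4]
    refine Submodule.sub_mem _ hc' (Submodule.sum_mem _ fun y _ => ?_)
    exact Submodule.smul_mem_smul (hdiff y) (hL y v hv)
  obtain ⟨u, hu'⟩ := hu
  have h5 : ∑ y, a y v = (↑u⁻¹ : O) • (c' 1 • ∑ y, a y v) := by
    rw [smul_smul, ← hu', Units.inv_mul, one_smul]
  rw [h5]
  exact Submodule.smul_mem _ _ h3

end fp

end Cfsg.Agent.Helper24.TIDim
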