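import Mathlib
import Cfsg.Agent.Lib.Helper24.TIDimA

set_option autoImplicit false

open IsLocalRing

namespace Cfsg.Agent.Helper24.TIDim

universe u v

/-- Summation over a free `P`-set, orbit by orbit. -/
theorem sum_free {P : Type u} {X : Type v} [Group P] [Fintype P] [Fintype X] [MulAction P X]
    (hfree : ∀ x : X, MulAction.stabilizer P x = ⊥) {E : Type*} [AddCommMonoid E] (F : X → E) :
    ∃ (ι : Type v) (_ : Fintype ι) (r : ι → X), ∑ x, F x = ∑ i : ι, ∑ y : P, F (y • r i) := by
  classical
  let _ : Fintype (Quotient (MulAction.orbitRel P X)) := Fintype.ofFinite _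
  refine ⟨Quotient (MulAction.orbitRel P X), inferInstance, Quotient.out, ?_⟩
  rw [← Fintype.sum_prod_type']
  symm
  refine Fintype.sum_bijective
    (fun z : Quotient (MulAction.orbitRel P X) × P => z.2 • Quotient.out z.1) ⟨?_, ?_⟩ _ _
    (fun _ => rfl)
  · rintro ⟨o, y⟩ ⟨o', y'⟩ h
    simp only at h
    have h1 : o = o' := by
      have h2 : (⟦y • Quotient.out o⟧ : Quotient (MulAction.orbitRel P X))
          = ⟦y' • Quotient.out o'⟧ := by rw [h]
      have h3 : ∀ (z : P) (x : X), (⟦z • x⟧ : Quotient (MulAction.orbitRel P X)) = ⟦x⟧ := by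
        intro z x
        apply Quotient.sound
        exact ⟨z, rfl⟩
      rw [h3, h3, Quotient.out_eq, Quotient.out_eq] at h2
      exact h2
    subst h1
    have h4 : (y'⁻¹ * y) • Quotient.out o = Quotient.out o := by
      rw [mul_smul, h, inv_smul_smul]
    have h5 : y'⁻¹ * y ∈ MulAction.stabilizer P (Quotient.out o) := h4
    rw [hfree, Subgroup.mem_bot, inv_mul_eq_one] at h5
    rw [h5]
  · intro x
    have h1 : (MulAction.orbitRel P X).r
        (Quotient.out (⟦x⟧ : Quotient (MulAction.orbitRel P X))) x :=
      Quotient.exact (Quotient.out_eq _)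
    have h2 : (MulAction.orbitRel P X).r x
        (Quotient.out (⟦x⟧ : Quotient (MulAction.orbitRel P X))) :=
      (MulAction.orbitRel P X).symm h1
    obtain ⟨y, hy⟩ := h2
    exact ⟨(⟦x⟧, y), hy⟩

/-- **Dimension bound.**  Let `P ≤ H ≤ G` with `P` a `p`-group meeting no conjugate `g H g⁻¹`,
`g ∉ H`, nontrivially.  If `w ≠ 0` is an `H`-fixed vector of a complex `G`-module whose
`G`-translates sum to zero, then the translates of `w` span a space of dimension `≥ |P|`. -/
theorem card_le_finrank {G : Type*} [Group G] [Fintype G] {p : ℕ} [Fact p.Prime]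
    (P H : Subgroup G) (hP : IsPGroup p P) (hPH : P ≤ H)
    (hfree : ∀ g : G, g ∉ H → ∀ y ∈ P, g⁻¹ * y * g ∈ H → y = 1)
    {E : Type*} [AddCommGroup E] [Module ℂ E] [FiniteDimensional ℂ E]
    (τ : Representation ℂ G E) (w : E) (hw : w ≠ 0) (hHw : ∀ h ∈ H, τ h w = w)
    (hsum : ∑ g, τ g w = 0) :
    Nat.card P ≤ Module.finrank ℂ (Submodule.span ℂ (Set.range fun g : G => τ g w)) := by
  classical
  obtain ⟨O, hp⟩ := exists_valuationSubring p (Fact.out : p.Prime)
  by_contra hlt
  push Not at hlt
  let _ : Fintype P := Fintype.ofFinite _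
  -- key claim
  have key : ∀ v ∈ lat O τ w, ∑ y : P, τ (y : G) v ∈ maximalIdeal O • lat O τ w := by
    intro v hv
    have hnot : ¬ LinearIndependent ℂ (fun y : P => τ (y : G) v) := by
      intro hli
      have hmem : ∀ y : P, τ (y : G) v ∈ Submodule.span ℂ (Set.range fun g : G => τ g w) :=
        fun y => lat_le_span O τ w (smul_mem_lat O τ w _ hv)
      have hli' : LinearIndependent ℂ (fun y : P =>
          (⟨τ (y : G) v, hmem y⟩ : Submodule.span ℂ (Set.range fun g : G => τ g w))) := by
        apply LinearIndependent.of_comp (Submodule.subtype _)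
        exact hli
      have h1 := hli'.fintype_card_le_finrank
      rw [← Nat.card_eq_fintype_card] at h1
      omega
    have h2 : ¬ ∀ c : P → O, ∑ y, c y • τ (y : G) v ∈ maximalIdeal O • lat O τ w →
        ∀ y, c y ∈ maximalIdeal O :=
      fun h => hnot (linearIndependent_of_mod O (lat O τ w) _ h)
    push Not at h2
    obtain ⟨c, hc, y0, hy0⟩ := h2
    exact sigma_mem O hp hP (τ.comp P.subtype) (lat O τ w)
      (fun y x hx => smul_mem_lat O τ w _ hx) (fun y x hx => smul_mem_smul_lat O τ w _ hx)
      v hv c hc y0 hy0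
  -- the function on cosets
  let f : G ⧸ H → E := Quotient.lift (fun g : G => τ g w) (by
    intro a b hab
    have h1 : a⁻¹ * b ∈ H := QuotientGroup.leftRel_apply.1 hab
    have h2 : τ b w = τ a (τ (a⁻¹ * b) w) := by
      rw [← Module.End.mul_apply, ← map_mul, mul_inv_cancel_left]
    show τ a w = τ b w
    rw [h2, hHw _ h1])
  have hf : ∀ g : G, f (QuotientGroup.mk g) = τ g w := fun g => rfl
  have hfL : ∀ q, f q ∈ lat O τ w := by
    intro q
    induction q using QuotientGroup.induction_on with
    | H g => rw [hf]; exact translate_mem_lat O τ w g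
  have hfsmul : ∀ (g : G) q, f (g • q) = τ g (f q) := by
    intro g q
    induction q using QuotientGroup.induction_on with
    | H a =>
      rw [MulAction.Quotient.smul_mk, hf, hf, smul_eq_mul, map_mul]
      rfl
  have hfsum : ∑ q, f q = 0 := by
    have h1 : ∀ q, ∑ g, τ g (f q) = 0 := by
      intro q
      induction q using QuotientGroup.induction_on with
      | H a =>
        rw [hf, ← hsum]
        refine Fintype.sum_equiv (Equiv.mulRight a) _ _ fun g => ?_
        rw [Equiv.coe_mulRight, map_mul]
        rfl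
    have h2 : ∀ g : G, τ g (∑ q, f q) = ∑ q, f q := by
      intro g
      rw [map_sum]
      refine Fintype.sum_equiv (MulAction.toPerm g) _ _ fun q => ?_
      rw [MulAction.toPerm_apply, hfsmul]
    have h3 : (Fintype.card G : ℂ) • ∑ q, f q = 0 := by
      have h4 : ∑ g : G, τ g (∑ q, f q) = 0 := by
        simp only [map_sum]
        rw [Finset.sum_comm]
        exact Finset.sum_eq_zero fun q _ => h1 q
      simp only [h2] at h4
      rw [Finset.sum_const, Finset.card_univ] at h4
      rw [Nat.cast_smul_eq_nsmul]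
      exact h4
    have h5 : (Fintype.card G : ℂ) ≠ 0 := Nat.cast_ne_zero.2 Fintype.card_ne_zero
    exact (smul_eq_zero.1 h3).resolve_left h5
  -- the free part
  let q0 : G ⧸ H := QuotientGroup.mk 1
  let S : SubMulAction P (G ⧸ H) :=
    { carrier := {q | q ≠ q0}
      smul_mem' := by
        intro y q hq hq'
        apply hq
        have h1 : (y : G) • q0 = q0 := by
          show (y : G) • (QuotientGroup.mk 1 : G ⧸ H) = QuotientGroup.mk 1
          rw [MulAction.Quotient.smul_mk, QuotientGroup.eq]
          simpa using hPH y.2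
        have h2 : q = (y⁻¹ : P) • (y • q) := by rw [inv_smul_smul]
        rw [h2, hq']
        have h3 : ((y⁻¹ : P) : G) • q0 = q0 := by
          have := congrArg (fun z => ((y : G)⁻¹) • z) h1
          simp only [inv_smul_smul] at this
          rw [Subgroup.coe_inv]
          exact this.symm
        exact h3 }
  have hSmem : ∀ q, q ∈ S ↔ q ≠ q0 := fun _ => Iff.rfl
  have hSfree : ∀ x : S, MulAction.stabilizer P x = ⊥ := by
    rintro ⟨q, hq⟩
    rw [eq_bot_iff]
    intro y hy
    rw [Subgroup.mem_bot]
    have hy1 : y • (⟨q, hq⟩ : S) = ⟨q, hq⟩ := hy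
    have hy2 : (y : G) • q = q := congrArg Subtype.val hy1
    rw [hSmem] at hq
    induction q using QuotientGroup.induction_on with
    | H g =>
      have hg : g ∉ H := by
        intro hgH
        apply hq
        show (QuotientGroup.mk g : G ⧸ H) = QuotientGroup.mk 1
        rw [QuotientGroup.eq]
        simpa using hgH
      rw [MulAction.Quotient.smul_mk, QuotientGroup.eq, smul_eq_mul] at hy2
      have h1 : g⁻¹ * (y : G) * g ∈ H := by
        have := H.inv_mem hy2
        simpa [mul_assoc] using this
      have h2 := hfree g hg y y.2 h1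
      exact Subtype.ext h2
  let _ : Fintype S := Fintype.ofFinite _
  obtain ⟨ι, _, r, hr⟩ := sum_free hSfree (fun x : S => f x.1)
  have hsplit : ∑ q, f q = f q0 + ∑ x : S, f x.1 := by
    rw [← Finset.add_sum_erase Finset.univ f (Finset.mem_univ q0)]
    congr 1
    exact Finset.sum_subtype (Finset.univ.erase q0) (fun q => by simp [hSmem]) f
  have hq0 : f q0 = w := by
    show τ 1 w = w
    simp
  have hmem : ∑ x : S, f x.1 ∈ maximalIdeal O • lat O τ w := by
    rw [hr]
    refine Submodule.sum_mem _ fun i _ => ?_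
    have h1 : ∀ y : P, f ((y • r i : S) : G ⧸ H) = τ (y : G) (f (r i).1) := by
      intro y
      exact hfsmul (y : G) (r i).1
    simp only [h1]
    exact key _ (hfL _)
  have hw' : w = -∑ x : S, f x.1 := by
    rw [hsplit, hq0] at hfsum
    exact eq_neg_of_add_eq_zero_left hfsum
  apply not_mem_smul_lat O τ w hw
  have h9 := Submodule.neg_mem _ hmem
  rw [← hw'] at h9
  exact h9

end Cfsg.Agent.Helper24.TIDim
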