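import Mathlib
import Cfsg.Prelude.Def_Characters
import Cfsg.Agent.Lib.Helper24.TIDimB
import Cfsg.Agent.Lib.Helper24.CharBasic
import Cfsg.Agent.Lib.Helper24.CharComplete

set_option autoImplicit false

open IsLocalRing
open scoped ComplexConjugate Pointwise

namespace Cfsg.Agent.Helper24.TIDim

/-- If the module is small compared with `|P|`, every `H`-fixed vector is `G`-fixed. -/
theorem fixed_of_fixed {G : Type*} [Group G] [Fintype G] {p : ℕ} [Fact p.Prime]
    (P H : Subgroup G) (hP : IsPGroup p P) (hPH : P ≤ H)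
    (hfree : ∀ g : G, g ∉ H → ∀ y ∈ P, g⁻¹ * y * g ∈ H → y = 1)
    {E : Type*} [AddCommGroup E] [Module ℂ E] [FiniteDimensional ℂ E]
    (τ : Representation ℂ G E)
    (hdim : Module.finrank ℂ E < Nat.card P + Module.finrank ℂ τ.invariants)
    (A : E) (hA : ∀ h ∈ H, τ h A = A) (g : G) : τ g A = A := by
  classical
  have hcard : (Fintype.card G : ℂ) ≠ 0 := Nat.cast_ne_zero.2 Fintype.card_ne_zero
  let A0 : E := (Fintype.card G : ℂ)⁻¹ • ∑ a, τ a A
  have hA0 : ∀ b : G, τ b A0 = A0 := by
    intro b
    show τ b ((Fintype.card G : ℂ)⁻¹ • ∑ a, τ a A) = (Fintype.card G : ℂ)⁻¹ • ∑ a, τ a A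
    rw [map_smul, map_sum]
    congr 1
    refine Fintype.sum_equiv (Equiv.mulLeft b) _ _ fun a => ?_
    rw [Equiv.coe_mulLeft, map_mul]
    rfl
  let w : E := A - A0
  have hwH : ∀ h ∈ H, τ h w = w := by
    intro h hh
    show τ h (A - A0) = A - A0
    rw [map_sub, hA h hh, hA0]
  have hwsum : ∑ a, τ a w = 0 := by
    show ∑ a, τ a (A - A0) = 0
    simp only [map_sub, hA0, Finset.sum_sub_distrib, Finset.sum_const, Finset.card_univ]
    show ∑ a, τ a A - Fintype.card G • ((Fintype.card G : ℂ)⁻¹ • ∑ a, τ a A) = 0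
    rw [← Nat.cast_smul_eq_nsmul ℂ, smul_smul, mul_inv_cancel₀ hcard, one_smul, sub_self]
  by_cases hw : w = 0
  · have h1 : A = A0 := sub_eq_zero.1 hw
    rw [h1]
    exact hA0 g
  · exfalso
    have h1 := card_le_finrank P H hP hPH hfree τ w hw hwH hwsum
    have hspan : ∀ x ∈ Submodule.span ℂ (Set.range fun a : G => τ a w), ∑ a, τ a x = 0 := by
      intro x hx
      induction hx using Submodule.span_induction with
        | mem y hy =>
          obtain ⟨b, rfl⟩ := hy
          rw [← hwsum]
          refine Fintype.sum_equiv (Equiv.mulRight b) _ _ fun a => ?_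
          rw [Equiv.coe_mulRight, map_mul]
          rfl
        | zero => simp
        | add y z _ _ hy hz => simp only [map_add, Finset.sum_add_distrib, hy, hz, add_zero]
        | smul c y _ hy => simp only [map_smul, ← Finset.smul_sum, hy, smul_zero]
    have hdisj : Disjoint (Submodule.span ℂ (Set.range fun a : G => τ a w)) τ.invariants := by
      rw [Submodule.disjoint_def]
      intro x hx hxinv
      have h2 : ∑ a, τ a x = 0 := hspan x hx
      have h3 : ∀ a : G, τ a x = x := fun a => (Representation.mem_invariants τ x).1 hxinv a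
      simp only [h3, Finset.sum_const, Finset.card_univ] at h2
      rw [← Nat.cast_smul_eq_nsmul ℂ] at h2
      exact (smul_eq_zero.1 h2).resolve_left hcard
    have h4 := Submodule.finrank_add_finrank_le_of_disjoint hdisj
    omega

/-- From the TI hypothesis on a Sylow subgroup to the semiregularity hypothesis. -/
theorem free_of_TI {G : Type*} [Group G] [Finite G] {p : ℕ} [Fact p.Prime] (P : Sylow p G)
    (hTI : ∀ g : G, g ∉ Subgroup.normalizer ((P : Subgroup G) : Set G) →
      (P : Subgroup G) ⊓ (MulAut.conj g • (P : Subgroup G)) = ⊥)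
    (H : Subgroup G) (hH : Subgroup.normalizer ((P : Subgroup G) : Set G) ≤ H) :
    ∀ g : G, g ∉ H → ∀ y ∈ (P : Subgroup G), g⁻¹ * y * g ∈ H → y = 1 := by
  intro g hg y hy hy'
  have hp : p.Prime := Fact.out
  have hPH : (P : Subgroup G) ≤ H := le_trans Subgroup.le_normalizer hH
  -- the element a of H
  let a : H := ⟨g⁻¹ * y * g, hy'⟩
  obtain ⟨k, hk⟩ := P.isPGroup' ⟨y, hy⟩
  have hyk : y ^ p ^ k = 1 := by
    have := congrArg Subtype.val hk
    simpa using this
  have hak : a ^ p ^ k = 1 := by
    apply Subtype.ext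
    show (g⁻¹ * y * g) ^ p ^ k = 1
    have h1 : g⁻¹ * y * g = g⁻¹ * y * g⁻¹⁻¹ := by rw [inv_inv]
    rw [h1, conj_pow, hyk]
    simp
  have hza : IsPGroup p (Subgroup.zpowers a) := by
    have h1 : orderOf a ∣ p ^ k := orderOf_dvd_of_pow_eq_one hak
    obtain ⟨j, -, hj⟩ := (Nat.dvd_prime_pow hp).1 h1
    apply IsPGroup.of_card (n := j)
    rw [Nat.card_zpowers, hj]
  obtain ⟨S, hS⟩ := hza.exists_le_sylow
  obtain ⟨h, hh⟩ := MulAction.exists_smul_eq H (P.subtype hPH) S
  have haS : a ∈ (S : Subgroup H) := hS (Subgroup.mem_zpowers a)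
  rw [← hh, Sylow.coe_subgroup_smul, Subgroup.mem_pointwise_smul_iff_inv_smul_mem] at haS
  have h2 : ((h⁻¹ * a * h : H) : G) ∈ (P : Subgroup G) := by
    have h3 : (MulAut.conj h)⁻¹ • a = h⁻¹ * a * h := by
      simp [MulAut.smul_def]
    rw [h3, Sylow.coe_subtype, Subgroup.mem_subgroupOf] at haS
    exact haS
  have hgh : g * h ∉ Subgroup.normalizer ((P : Subgroup G) : Set G) := by
    intro hmem
    apply hg
    have h3 : g * h ∈ H := hH hmem
    have h4 : g = g * h * (h : G)⁻¹ := by group
    rw [h4]
    exact H.mul_mem h3 (H.inv_mem h.2)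
  have h5 := hTI (g * h) hgh
  have h6 : y ∈ (P : Subgroup G) ⊓ (MulAut.conj (g * (h : G)) • (P : Subgroup G)) := by
    refine Subgroup.mem_inf.2 ⟨hy, ?_⟩
    rw [Subgroup.mem_pointwise_smul_iff_inv_smul_mem]
    have h7 : (MulAut.conj (g * (h : G)))⁻¹ • y = ((h⁻¹ * a * h : H) : G) := by
      simp only [MulAut.smul_def, MulAut.conj_inv_apply]
      show (g * (h : G))⁻¹ * y * (g * (h : G)) = (h : G)⁻¹ * (g⁻¹ * y * g) * (h : G)
      group
    rw [h7]
    exact h2
  rw [h5, Subgroup.mem_bot] at h6
  exact h6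

end Cfsg.Agent.Helper24.TIDim

namespace Cfsg.Agent.Helper24.TIDim

open Cfsg

theorem classInner_self_eq_finrank {G : Type*} [Group G] [Fintype G] {n : ℕ}
    (ρ : Representation ℂ G (Fin n → ℂ)) :
    classInner ρ.character ρ.character
      = (Module.finrank ℂ (Representation.linHom ρ ρ).invariants : ℂ) := by
  unfold classInner
  have : Invertible (Nat.card G : ℂ) :=
    invertibleOfNonzero (Nat.cast_ne_zero.2 Nat.card_pos.ne')
  rw [← Representation.card_inv_mul_sum_char_eq_finrank]
  congr 1
  refine Finset.sum_congr rfl fun g _ => ?_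
  rw [Representation.char_linHom, ← char_inv, mul_comm]

/-- **TI Sylow subgroups and small characters**: restriction to an overgroup of the normaliser
preserves the norm. -/
theorem classInner_restrict_eq {G : Type*} [Group G] [Fintype G] (p : ℕ) [Fact p.Prime]
    (P : Sylow p G)
    (hTI : ∀ g : G, g ∉ Subgroup.normalizer ((P : Subgroup G) : Set G) →
      (P : Subgroup G) ⊓ (MulAut.conj g • (P : Subgroup G)) = ⊥)
    (χ : G → ℂ) (hχ : IsCharacter G χ)
    (hdeg : charDegree χ ^ 2 ≤ Nat.card ↥(P : Subgroup G)) (H : Subgroup G) [Fintype ↥H]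
    (hH : Subgroup.normalizer ((P : Subgroup G) : Set G) ≤ H) :
    classInner χ χ = classInner (fun h : ↥H => χ h) (fun h : ↥H => χ h) := by
  obtain ⟨n, ρ, rfl⟩ := hχ
  have hdeg' : n ^ 2 ≤ Nat.card ↥(P : Subgroup G) := by
    rwa [charDegree_natCast n (by simp)] at hdeg
  let ρH : Representation ℂ H (Fin n → ℂ) := ρ.comp H.subtype
  have hres : (fun h : H => ρ.character h) = ρH.character := rfl
  rw [hres, classInner_self_eq_finrank, classInner_self_eq_finrank]
  have hPH : (P : Subgroup G) ≤ H := le_trans Subgroup.le_normalizer hH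
  have hfree := free_of_TI P hTI H hH
  have hdim : Module.finrank ℂ ((Fin n → ℂ) →ₗ[ℂ] (Fin n → ℂ))
      < Nat.card ↥(P : Subgroup G) + Module.finrank ℂ (Representation.linHom ρ ρ).invariants := by
    rw [Module.finrank_linearMap, Module.finrank_fin_fun]
    rcases Nat.eq_zero_or_pos n with hn | hn
    · subst hn
      have : 0 < Nat.card ↥(P : Subgroup G) := Nat.card_pos
      omega
    · have h1 : 0 < Module.finrank ℂ (Representation.linHom ρ ρ).invariants := by
        apply Nat.pos_of_ne_zero
        intro h0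
        have hbot := Submodule.finrank_eq_zero.1 h0
        have hid : (LinearMap.id : (Fin n → ℂ) →ₗ[ℂ] (Fin n → ℂ))
            ∈ (Representation.linHom ρ ρ).invariants := by
          rw [Representation.mem_invariants]
          intro g
          rw [Representation.linHom_apply]
          ext v
          simp only [LinearMap.comp_apply, LinearMap.id_apply]
          rw [← Module.End.mul_apply, ← map_mul, mul_inv_cancel, map_one, Module.End.one_apply]
        rw [hbot, Submodule.mem_bot] at hid
        have h3 := LinearMap.congr_fun hid (fun _ => (1 : ℂ))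
        have h4 := congrFun h3 ⟨0, hn⟩
        simp at h4
      nlinarith [hdeg']
  have heq : (Representation.linHom ρH ρH).invariants = (Representation.linHom ρ ρ).invariants := by
    ext A
    rw [Representation.mem_invariants, Representation.mem_invariants]
    constructor
    · intro hA g
      exact fixed_of_fixed (P : Subgroup G) H P.isPGroup' hPH hfree (Representation.linHom ρ ρ)
        hdim A (fun h hh => hA ⟨h, hh⟩) g
    · intro hA h
      exact hA h
  rw [heq]

end Cfsg.Agent.Helper24.TIDim
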