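import Mathlib
import Cfsg.Prelude.Def_Local
import Cfsg.Prelude.Def_Transfer
import Cfsg.Agent.Lib.Helper26.TIDefs3
import Cfsg.Agent.Lib.Helper9.TILOCC2A

/-!
# S1786 piece TI-LOCC2B, core: `[P,P] ≤ V` and squares of `P` lie in `V`
(the conclusions of TI-LOCA and TI-LOCZ are hypotheses)
-/

set_option autoImplicit false

namespace Cfsg.Agent.Helper26.TI

open scoped commutatorElement

variable {G : Type*} [Group G]

/-- conjugation by an element normalizing `P`, as an automorphism of `↥P` -/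
def tilocc2b_aut (P : Subgroup G) (m : G) (hm : ∀ x ∈ P, m * x * m⁻¹ ∈ P)
    (hm' : ∀ x ∈ P, m⁻¹ * x * m ∈ P) : ↥P ≃* ↥P where
  toFun x := ⟨m * x * m⁻¹, hm x x.2⟩
  invFun x := ⟨m⁻¹ * x * m, hm' x x.2⟩
  left_inv x := by ext; simp [mul_assoc]
  right_inv x := by ext; simp [mul_assoc]
  map_mul' x y := by ext; simp [mul_assoc]

theorem tilocc2b_cj_eq_of_mem_normalizer (V : Subgroup G) (m : G)
    (hm : m ∈ Subgroup.normalizer (V : Set G)) : cj m V = V := by
  ext z
  rw [mem_cj']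
  have h := (Subgroup.mem_normalizer_iff.mp hm) (m⁻¹ * z * m)
  rw [h]
  have : m * (m⁻¹ * z * m) * m⁻¹ = z := by group
  rw [this]

/-- an abelian `N(V)`-invariant subgroup of `P ≤ C(V)` lies in `V` (maximality `h2`) -/
theorem tilocc2b_le_V (V P : Subgroup G)
    (h2 : ∀ A : Subgroup G, V ≤ A → A ≤ Subgroup.normalizer (V : Set G) → IsMulCommutative ↥A →
      (∀ m ∈ Subgroup.normalizer (V : Set G), ∀ a ∈ A, m * a * m⁻¹ ∈ A) → A = V)
    (hPN : P ≤ Subgroup.normalizer (V : Set G))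
    (hcent : ∀ x ∈ P, ∀ v ∈ V, x * v = v * x) (hVc : ∀ v ∈ V, ∀ w ∈ V, v * w = w * v)
    (B : Subgroup G) (hBP : B ≤ P) (hBc : ∀ a ∈ B, ∀ b ∈ B, a * b = b * a)
    (hBinv : ∀ m ∈ Subgroup.normalizer (V : Set G), ∀ b ∈ B, m * b * m⁻¹ ∈ B) : B ≤ V := by
  have hcomm : IsMulCommutative ↥(B ⊔ V) := by
    rw [← Subgroup.le_centralizer_iff_isMulCommutative]
    apply sup_le
    · rw [Subgroup.le_centralizer_iff]
      apply sup_le
      · intro a ha
        rw [Subgroup.mem_centralizer_iff]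
        intro b hb
        exact hBc b hb a ha
      · intro v hv
        rw [Subgroup.mem_centralizer_iff]
        intro b hb
        exact hcent b (hBP hb) v hv
    · rw [Subgroup.le_centralizer_iff]
      apply sup_le
      · intro b hb
        rw [Subgroup.mem_centralizer_iff]
        intro v hv
        exact (hcent b (hBP hb) v hv).symm
      · intro v hv
        rw [Subgroup.mem_centralizer_iff]
        intro w hw
        exact hVc w hw v hv
  have hinv : ∀ m ∈ Subgroup.normalizer (V : Set G), ∀ a ∈ B ⊔ V, m * a * m⁻¹ ∈ B ⊔ V := by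
    intro m hm a ha
    have h1 : m * a * m⁻¹ ∈ (B ⊔ V).map (MulAut.conj m).toMonoidHom :=
      Subgroup.mem_map.mpr ⟨a, ha, rfl⟩
    rw [Subgroup.map_sup] at h1
    have hle : B.map (MulAut.conj m).toMonoidHom ⊔ V.map (MulAut.conj m).toMonoidHom ≤ B ⊔ V := by
      apply sup_le_sup
      · rintro _ ⟨b, hb, rfl⟩
        exact hBinv m hm b hb
      · rintro _ ⟨v, hv, rfl⟩
        exact (Subgroup.mem_normalizer_iff.mp hm v).mp hv
    exact hle h1
  have hAV : B ⊔ V = V :=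
    h2 (B ⊔ V) le_sup_right (sup_le (hBP.trans hPN) Subgroup.le_normalizer) hcomm hinv
  exact le_sup_left.trans hAV.le

/-- TI-LOCC2B with the conclusions of TI-LOCA and TI-LOCZ as hypotheses. -/
theorem tilocc2b_core [Finite G] (V : Subgroup G) (hV : Cfsg.IsElementaryAbelian 2 V)
    (h2 : ∀ A : Subgroup G, V ≤ A → A ≤ Subgroup.normalizer (V : Set G) → IsMulCommutative ↥A →
      (∀ m ∈ Subgroup.normalizer (V : Set G), ∀ a ∈ A, m * a * m⁻¹ ∈ A) → A = V)
    (hA : V ≤ Ps V ∧ IsPGroup 2 (Ps V) ∧ (∀ x ∈ Ps V, ∀ v ∈ V, x * v = v * x) ∧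
      (∀ m : G, cj m V = V → cj m (Qs V) = Qs V) ∧ (∀ m : G, cj m V = V → cj m (Ps V) = Ps V))
    (hZ : ∀ x ∈ Ps V, (∀ y ∈ Ps V, x * y = y * x) → x ∈ V) :
    (∀ x ∈ Ps V, ∀ y ∈ Ps V, x * y * x⁻¹ * y⁻¹ ∈ V) ∧ (∀ x ∈ Ps V, x * x ∈ V) := by
  obtain ⟨hVP, hPp, hcent, -, hnormP⟩ := hA
  have hVc : ∀ v ∈ V, ∀ w ∈ V, v * w = w * v := by
    intro v hv w hw
    have h := isMulCommutative_iff.mp hV.1 ⟨v, hv⟩ ⟨w, hw⟩
    exact congrArg Subtype.val h
  have hPN : Ps V ≤ Subgroup.normalizer (V : Set G) := by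
    intro x hx
    have h2' : x ∈ Subgroup.centralizer (V : Set G) := hx.2
    exact Subgroup.centralizer_le_normalizer (V : Set G) h2'
  -- `N(V)` normalizes `P`
  have hm1 : ∀ m ∈ Subgroup.normalizer (V : Set G), ∀ x ∈ Ps V, m * x * m⁻¹ ∈ Ps V := by
    intro m hm x hx
    have hmP : cj m (Ps V) = Ps V := hnormP m (tilocc2b_cj_eq_of_mem_normalizer V m hm)
    have := conj_mem_cj (x := m) hx
    rwa [hmP] at this
  have hm2 : ∀ m ∈ Subgroup.normalizer (V : Set G), ∀ x ∈ Ps V, m⁻¹ * x * m ∈ Ps V := by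
    intro m hm x hx
    have := hm1 m⁻¹ (Subgroup.inv_mem _ hm) x hx
    simpa using this
  -- characteristic abelian subgroups of `P` are central
  have hchar : ∀ A0 : Subgroup ↥(Ps V), A0.Characteristic → IsMulCommutative ↥A0 →
      A0 ≤ Subgroup.center ↥(Ps V) := by
    intro A0 hA0 hA0c
    have hB : A0.map (Ps V).subtype ≤ V := by
      apply tilocc2b_le_V V (Ps V) h2 hPN hcent hVc
      · exact Subgroup.map_subtype_le A0
      · rintro _ ⟨a, ha, rfl⟩ _ ⟨b, hb, rfl⟩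
        have h := isMulCommutative_iff.mp hA0c ⟨a, ha⟩ ⟨b, hb⟩
        have h' : a * b = b * a := congrArg Subtype.val h
        exact congrArg Subtype.val h'
      · rintro m hm _ ⟨a, ha, rfl⟩
        have hfix := hA0.fixed (tilocc2b_aut (Ps V) m (hm1 m hm) (hm2 m hm))
        have ha' : a ∈ A0.comap (tilocc2b_aut (Ps V) m (hm1 m hm) (hm2 m hm)).toMonoidHom := by
          rw [hfix]; exact ha
        rw [Subgroup.mem_comap] at ha'
        exact Subgroup.mem_map.mpr ⟨_, ha', rfl⟩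
    intro a ha
    rw [Subgroup.mem_center_iff]
    intro g
    apply Subtype.ext
    have haV : (a : G) ∈ V := hB (Subgroup.mem_map.mpr ⟨a, ha, rfl⟩)
    exact hcent g g.2 a haV
  have hcl : commutator ↥(Ps V) ≤ Subgroup.center ↥(Ps V) :=
    class_two_of_char_abelian_le_center (p := 2) hPp hchar
  -- commutators
  have hcommV : ∀ x ∈ Ps V, ∀ y ∈ Ps V, x * y * x⁻¹ * y⁻¹ ∈ V := by
    intro x hx y hy
    have h1 : ⁅(⟨x, hx⟩ : ↥(Ps V)), ⟨y, hy⟩⁆ ∈ commutator ↥(Ps V) := by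
      rw [commutator_def]
      exact Subgroup.commutator_mem_commutator (Subgroup.mem_top _) (Subgroup.mem_top _)
    have h2' := hcl h1
    rw [Subgroup.mem_center_iff] at h2'
    have hcP : x * y * x⁻¹ * y⁻¹ ∈ Ps V :=
      (Ps V).mul_mem ((Ps V).mul_mem ((Ps V).mul_mem hx hy) ((Ps V).inv_mem hx)) ((Ps V).inv_mem hy)
    apply hZ _ hcP
    intro z hz
    have h3 := h2' ⟨z, hz⟩
    have h4 := congrArg Subtype.val h3
    rw [commutatorElement_def] at h4
    exact h4.symm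
  refine ⟨hcommV, ?_⟩
  -- squares
  intro x hx
  apply hZ _ ((Ps V).mul_mem hx hx)
  intro y hy
  obtain ⟨c, hc⟩ : ∃ c, c = x * y * x⁻¹ * y⁻¹ := ⟨_, rfl⟩
  have hcV : c ∈ V := hc ▸ hcommV x hx y hy
  have hcc : c * c = 1 := by
    have := hV.2 c hcV
    rwa [pow_two] at this
  have hxc : x * c = c * x := hcent x hx c hcV
  have hxy : x * y = c * y * x := by rw [hc]; group
  calc x * x * y = x * (x * y) := by rw [mul_assoc]
    _ = x * (c * y * x) := by rw [hxy]
    _ = (x * c) * y * x := by simp only [mul_assoc]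
    _ = (c * x) * y * x := by rw [hxc]
    _ = c * (x * y) * x := by simp only [mul_assoc]
    _ = c * (c * y * x) * x := by rw [hxy]
    _ = (c * c) * y * x * x := by simp only [mul_assoc]
    _ = y * (x * x) := by rw [hcc, one_mul, mul_assoc]

end Cfsg.Agent.Helper26.TI
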