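import Mathlib
import Cfsg.Agent.Lib.Helper24.TILOCC2BCore
import Cfsg.Agent.Lib.Helper25.TILOCA
import Cfsg.Agent.Lib.Helper8.TILOCZ

/-!
# S1786 piece TI-LOCC2B: `[P,P] ≤ V` and squares of `P` lie in `V`
-/

set_option autoImplicit false

namespace Cfsg.Agent.Helper26.TI

variable {G : Type*} [Group G]

/-- TI-LOCC2b: `[P,P] ≤ V` and squares of `P` lie in `V` (uses LOCZ, LOCC2a, h2). -/
theorem locC2 [Finite G] (V : Subgroup G) (hV : Cfsg.IsElementaryAbelian 2 V)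
    (h2 : ∀ A : Subgroup G, V ≤ A → A ≤ Subgroup.normalizer (V : Set G) → IsMulCommutative ↥A →
      (∀ m ∈ Subgroup.normalizer (V : Set G), ∀ a ∈ A, m * a * m⁻¹ ∈ A) → A = V) :
    (∀ x ∈ Ps V, ∀ y ∈ Ps V, x * y * x⁻¹ * y⁻¹ ∈ V) ∧ (∀ x ∈ Ps V, x * x ∈ V) :=
  tilocc2b_core V hV h2 (locA_easy V hV) (locZ_center V hV h2)

end Cfsg.Agent.Helper26.TI
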