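import Mathlib
import Cfsg.Prelude.Def_Blocks
import Cfsg.Agent.Lib.Helper24.CharLinear
import Cfsg.Agent.Lib.Helper24.CharHom
import Cfsg.Agent.Lib.Helper24.CharOrtho
import Cfsg.Agent.Lib.Helper24.CharComplete
import Cfsg.Agent.Lib.Helper24.TLAPPXCore

/-!
# S4441 PIECE FINTOP, part A: transitivity of `N_G(P)` on `P^#` when `e = p - 1`, and integrality of
the character values on `P^#`.
-/

set_option autoImplicit false

namespace Cfsg.Agent.Helper5.TL

variable (p : ℕ) [Fact p.Prime]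

section FINTOPA

variable {G : Type*} [Group G] [Finite G]

/-- every element of `P` is a power of `x` -/
theorem ft_mem_powers (P : Sylow p G) (hP : Nat.card P = p) (x : G) (hx : x ∈ (P : Subgroup G))
    (hx1 : x ≠ 1) (u : G) (hu : u ∈ (P : Subgroup G)) : ∃ k : ℕ, x ^ k = u := by
  have h1 : (⟨u, hu⟩ : (P : Subgroup G)) ∈ Subgroup.zpowers (⟨x, hx⟩ : (P : Subgroup G)) :=
    mem_zpowers_of_prime_card (G := (P : Subgroup G)) hP
      (by intro h; exact hx1 (by simpa using congrArg Subtype.val h))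
  rw [← mem_powers_iff_mem_zpowers] at h1
  obtain ⟨k, hk⟩ := h1
  exact ⟨k, by simpa using congrArg Subtype.val hk⟩

/-- an element commuting with `x` centralizes `P` -/
theorem ft_mem_centralizer (P : Sylow p G) (hP : Nat.card P = p) (x : G)
    (hx : x ∈ (P : Subgroup G)) (hx1 : x ≠ 1) (c : G) (hc : c * x = x * c) :
    c ∈ Subgroup.centralizer ((P : Subgroup G) : Set G) := by
  rw [Subgroup.mem_centralizer_iff]
  intro u hu
  obtain ⟨k, rfl⟩ := ft_mem_powers p P hP x hx hx1 u hu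
  have : Commute c x := hc
  exact ((this.pow_right k).eq).symm

/-- if `e = p - 1` then `N_G(P)` is transitive on `P^#` -/
theorem ft_exists_conj (P : Sylow p G) (hP : Nat.card P = p)
    (he : (Subgroup.centralizer ((P : Subgroup G) : Set G)).relIndex
      (Subgroup.normalizer ((P : Subgroup G) : Set G)) = p - 1)
    (x : G) (hx : x ∈ (P : Subgroup G)) (hx1 : x ≠ 1)
    (x' : G) (hx' : x' ∈ (P : Subgroup G)) (hx1' : x' ≠ 1) :
    ∃ n : G, n * x * n⁻¹ = x' := by
  classical
  have hpp : p.Prime := Fact.out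
  set N := Subgroup.normalizer ((P : Subgroup G) : Set G) with hN
  set C := Subgroup.centralizer ((P : Subgroup G) : Set G) with hC
  let T := {u : G // u ∈ (P : Subgroup G) ∧ u ≠ 1}
  have hmemN : ∀ n : N, (n : G) * x * (n : G)⁻¹ ∈ (P : Subgroup G) := by
    intro n
    exact (Subgroup.mem_normalizer_iff.mp n.2 x).mp hx
  have hne : ∀ n : N, (n : G) * x * (n : G)⁻¹ ≠ 1 := by
    intro n h
    apply hx1
    have : x = (n : G)⁻¹ * ((n : G) * x * (n : G)⁻¹) * (n : G) := by group
    rw [this, h]; group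
  let f0 : N → T := fun n => ⟨(n : G) * x * (n : G)⁻¹, hmemN n, hne n⟩
  have hf0 : ∀ a b : N, (QuotientGroup.leftRel (C.subgroupOf N)) a b → f0 a = f0 b := by
    intro a b hab
    rw [QuotientGroup.leftRel_apply, Subgroup.mem_subgroupOf] at hab
    apply Subtype.ext
    show (a : G) * x * (a : G)⁻¹ = (b : G) * x * (b : G)⁻¹
    have h1 : ((a⁻¹ * b : N) : G) * x = x * ((a⁻¹ * b : N) : G) := by
      rw [hC, Subgroup.mem_centralizer_iff] at hab
      exact (hab x hx).symm
    have h2 : ((a⁻¹ * b : N) : G) = (a : G)⁻¹ * (b : G) := by simp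
    rw [h2] at h1
    have h3 : (b : G) * x * (b : G)⁻¹ = (a : G) * (((a : G)⁻¹ * (b : G)) * x) * (b : G)⁻¹ := by
      group
    rw [h3, h1]; group
  let f : N ⧸ (C.subgroupOf N) → T := Quotient.lift f0 hf0
  have hfinj : Function.Injective f := by
    intro q1 q2
    induction q1 using QuotientGroup.induction_on with
    | H a =>
    induction q2 using QuotientGroup.induction_on with
    | H b =>
    intro h
    have h1 : (a : G) * x * (a : G)⁻¹ = (b : G) * x * (b : G)⁻¹ := congrArg Subtype.val h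
    rw [QuotientGroup.eq, Subgroup.mem_subgroupOf]
    have h2 : ((a⁻¹ * b : N) : G) = (a : G)⁻¹ * (b : G) := by simp
    rw [h2]
    apply ft_mem_centralizer p P hP x hx hx1
    have h3 : (a : G)⁻¹ * (b : G) * x = (a : G)⁻¹ * ((b : G) * x * (b : G)⁻¹) * (b : G) := by
      group
    rw [h3, ← h1]; group
  have hcardQ : Nat.card (N ⧸ (C.subgroupOf N)) = p - 1 := by
    rw [← Subgroup.index_eq_card]
    exact he
  have hcardT : Nat.card T = p - 1 := by
    have e1 : T ≃ {u : (P : Subgroup G) // u ≠ 1} :=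
      { toFun := fun u => ⟨⟨u.1, u.2.1⟩, fun h => u.2.2 (congrArg Subtype.val h)⟩
        invFun := fun u => ⟨u.1.1, u.1.2, fun h => u.2 (Subtype.ext h)⟩
        left_inv := fun u => rfl
        right_inv := fun u => rfl }
    rw [Nat.card_congr e1]
    haveI : Fintype (P : Subgroup G) := Fintype.ofFinite _
    rw [Nat.card_eq_fintype_card, Fintype.card_subtype_compl, Fintype.card_subtype_eq,
      ← Nat.card_eq_fintype_card, hP]
  have hbij : Function.Bijective f := by
    haveI : Fintype (N ⧸ (C.subgroupOf N)) := Fintype.ofFinite _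
    haveI : Fintype T := Fintype.ofFinite _
    rw [Fintype.bijective_iff_injective_and_card]
    refine ⟨hfinj, ?_⟩
    rw [← Nat.card_eq_fintype_card, ← Nat.card_eq_fintype_card, hcardQ, hcardT]
  obtain ⟨q, hq⟩ := hbij.2 ⟨x', hx', hx1'⟩
  induction q using QuotientGroup.induction_on with
  | H n =>
  exact ⟨n, congrArg Subtype.val hq⟩

/-- if all elements of `P^#` are conjugate, every irreducible character takes one integer value
`a ≡ ψ(1) (mod p)` on `P^#` -/
theorem ft_int_value (P : Sylow p G) (hP : Nat.card P = p)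
    (hconj : ∀ x ∈ (P : Subgroup G), x ≠ 1 → ∀ x' ∈ (P : Subgroup G), x' ≠ 1 →
      ∃ n : G, n * x * n⁻¹ = x')
    (ψ : Cfsg.IrrCharacter G) :
    ∃ a : ℤ, (∀ x ∈ (P : Subgroup G), x ≠ 1 → (ψ : G → ℂ) x = (a : ℂ)) ∧
      (Cfsg.charDegree (ψ : G → ℂ) : ℤ) ≡ a [ZMOD p] := by
  classical
  have hpp : p.Prime := Fact.out
  haveI : Fintype (P : Subgroup G) := Fintype.ofFinite _
  haveI : Fintype (Cfsg.IrrCharacter (P : Subgroup G)) := Cfsg.Agent.Helper24.irrFintype
  have hcardP : Fintype.card (P : Subgroup G) = p := by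
    rw [← Nat.card_eq_fintype_card]; exact hP
  -- a nontrivial element
  have hnt : Nontrivial (P : Subgroup G) := by
    rw [← Fintype.one_lt_card_iff_nontrivial, hcardP]
    exact hpp.one_lt
  obtain ⟨x₀', hx₀'⟩ := exists_ne (1 : (P : Subgroup G))
  set x₀ : G := (x₀' : G) with hx₀def
  have hx₀ : x₀ ∈ (P : Subgroup G) := x₀'.2
  have hx₀1 : x₀ ≠ 1 := fun h => hx₀' (Subtype.ext h)
  set z : ℂ := (ψ : G → ℂ) x₀ with hz
  have hcf := Cfsg.Agent.Helper24.isClassFunction_of_isIrrCharacter ψ.2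
  have hval : ∀ x ∈ (P : Subgroup G), x ≠ 1 → (ψ : G → ℂ) x = z := by
    intro x hx hx1
    obtain ⟨n, hn⟩ := hconj x₀ hx₀ hx₀1 x hx hx1
    rw [← hn, hcf x₀ n]
  obtain ⟨d, hd, hd1⟩ := Cfsg.Agent.Helper24.irr_one_eq ψ.2
  have hdeg : Cfsg.charDegree (ψ : G → ℂ) = d := Cfsg.Agent.Helper24.charDegree_natCast d hd1
  -- restriction to P
  have hres : Cfsg.IsCharacter (P : Subgroup G) (fun u : (P : Subgroup G) => (ψ : G → ℂ) u) :=
    Cfsg.Agent.Helper24.isCharacter_restrict (P : Subgroup G)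
      (Cfsg.Agent.Helper24.isCharacter_of_isIrrCharacter ψ.2)
  obtain ⟨hm, -⟩ := Cfsg.Agent.Helper24.isCharacter_decomp hres
  obtain ⟨m, hm⟩ := hm ⟨fun _ => (1 : ℂ), Cfsg.Agent.Helper24.isIrrCharacter_one⟩
  have hsum : ∑ u : (P : Subgroup G), (ψ : G → ℂ) u = (d : ℂ) + ((p : ℂ) - 1) * z := by
    rw [← Finset.add_sum_erase Finset.univ _ (Finset.mem_univ (1 : (P : Subgroup G)))]
    have h1 : ∀ u ∈ Finset.univ.erase (1 : (P : Subgroup G)), (ψ : G → ℂ) u = z := by
      intro u hu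
      have hu1 : u ≠ 1 := Finset.ne_of_mem_erase hu
      exact hval u u.2 (fun h => hu1 (Subtype.ext h))
    rw [Finset.sum_congr rfl h1, Finset.sum_const, Finset.card_erase_of_mem (Finset.mem_univ _),
      Finset.card_univ, hcardP, nsmul_eq_mul]
    have hp1 : 1 ≤ p := hpp.one_lt.le
    push_cast [Nat.cast_sub hp1]
    rw [hd1]
  have hmp : (m : ℂ) * (p : ℂ) = (d : ℂ) + ((p : ℂ) - 1) * z := by
    rw [← hsum, ← hm, Cfsg.classInner, hP]
    have hp0 : (p : ℂ) ≠ 0 := by exact_mod_cast hpp.ne_zero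
    simp only [map_one, mul_one]
    field_simp
  have hp1' : ((p : ℂ) - 1) ≠ 0 := by
    intro h
    have h2 : (p : ℂ) = 1 := sub_eq_zero.mp h
    have : (p : ℕ) = 1 := by exact_mod_cast h2
    exact hpp.one_lt.ne' this
  have hzq : z = ((((m : ℚ) * (p : ℚ) - (d : ℚ)) / ((p : ℚ) - 1) : ℚ) : ℂ) := by
    push_cast
    rw [eq_div_iff hp1']
    linear_combination -hmp
  have hint : IsIntegral ℤ z := Cfsg.Agent.Helper24.isIntegral_of_isCharacter
    (Cfsg.Agent.Helper24.isCharacter_of_isIrrCharacter ψ.2) x₀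
  obtain ⟨a, ha⟩ := exists_int_of_rat_integral z hint _ hzq
  refine ⟨a, fun x hx hx1 => by rw [hval x hx hx1, ha], ?_⟩
  rw [hdeg, Int.modEq_iff_dvd]
  rw [ha] at hmp
  have hZ : (m : ℤ) * (p : ℤ) = (d : ℤ) + ((p : ℤ) - 1) * a := by exact_mod_cast hmp
  exact ⟨a - m, by push_cast; linear_combination hZ⟩

end FINTOPA

end Cfsg.Agent.Helper5.TL
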