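import Mathlib
import Cfsg.Prelude.Def_Blocks
import Cfsg.Agent.S0942
import Cfsg.Agent.S0947
import Cfsg.Agent.S0907
import Cfsg.Agent.Lib.Helper5.TLConcl
import Cfsg.Agent.Lib.Helper24.TLFINTOPA
import Cfsg.Agent.Lib.Helper24.TLTLPCore

/-!
# S4441 PIECE FINTOP (core): the case `e = p - 1`, with GT and APPX as hypotheses.
-/

set_option autoImplicit false

namespace Cfsg.Agent.Helper5.TL

open scoped ComplexConjugate

variable (p : ℕ) [Fact p.Prime]

section FINTOPB

variable {G : Type*} [Group G] [Finite G]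

/-- a principal block character does not vanish on `P^#` -/
theorem ft_ne_zero (M : Ideal Cfsg.AlgInt) (hM : Cfsg.IsPModular p M) (P : Sylow p G)
    (hP : Nat.card P = p) (ψ : Cfsg.IrrCharacter G) (hψ : ψ ∈ Cfsg.principalBlock M G)
    (x : G) (hx : x ∈ (P : Subgroup G)) (hx1 : x ≠ 1) : (ψ : G → ℂ) x ≠ 0 := by
  intro h0
  have h1 : Cfsg.MemLocalIdeal M (Cfsg.centralChar (fun _ : G => (1 : ℂ)) x -
      Cfsg.centralChar (ψ : G → ℂ) x) := hψ x
  have h2 : Cfsg.centralChar (ψ : G → ℂ) x = 0 := by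
    rw [Cfsg.centralChar, h0, mul_zero, zero_div]
  have h3 : Cfsg.centralChar (fun _ : G => (1 : ℂ)) x =
      ((Subgroup.centralizer ({x} : Set G)).index : ℂ) := by
    rw [Cfsg.centralChar, mul_one, div_one]
  rw [h2, h3, sub_zero, Cfsg.Agent.Helper23.Blk.memLocalIdeal_natCast_iff hM] at h1
  have hle : (P : Subgroup G) ≤ Subgroup.centralizer ({x} : Set G) := by
    intro u hu
    rw [Subgroup.mem_centralizer_iff]
    intro z hz
    rw [Set.mem_singleton_iff] at hz
    subst hz
    obtain ⟨k, rfl⟩ := ft_mem_powers p P hP z hx hx1 u hu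
    exact ((Commute.refl z).pow_right k).eq
  have h4 := Subgroup.index_dvd_of_le hle
  exact P.not_dvd_index (dvd_trans h1 h4)

theorem ft_triv_mem (M : Ideal Cfsg.AlgInt) (hM : Cfsg.IsPModular p M) :
    (⟨fun _ : G => (1 : ℂ), Cfsg.Agent.Helper24.isIrrCharacter_one⟩ : Cfsg.IrrCharacter G) ∈
      Cfsg.principalBlock M G := by
  haveI := Cfsg.Agent.Helper23.Blk.isPrime_of_isPModular hM
  intro g
  exact Cfsg.Agent.Helper23.Blk.cong_refl _

/-- `C_G(x)` has a normal `p`-complement: the index of `O_{p'}(C_G(x))` is a power of `p` -/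
theorem ft_index_pow (P : Sylow p G) (hP : Nat.card P = p)
    (x : G) (hx : x ∈ (P : Subgroup G)) (hx1 : x ≠ 1) (K : Subgroup G)
    (hK1 : ∀ y : G, y ∈ K ↔ (y ∈ Subgroup.centralizer ((P : Subgroup G) : Set G) ∧ ¬ p ∣ orderOf y))
    (hK2 : ¬ p ∣ Nat.card K)
    (hK3 : ∀ n ∈ Subgroup.normalizer ((P : Subgroup G) : Set G), ∀ k ∈ K, n * k * n⁻¹ ∈ K)
    (hK4 : ∀ c : G, (∀ u ∈ (P : Subgroup G), c * u = u * c) →
        ∃ u k : G, u ∈ (P : Subgroup G) ∧ k ∈ K ∧ c = u * k) :
    ∃ k : ℕ, (Cfsg.pPrimeCore p (Subgroup.centralizer ({x} : Set G))).index = p ^ k := by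
  classical
  have hpp : p.Prime := Fact.out
  set C := Subgroup.centralizer ({x} : Set G) with hC
  have hCP : ∀ c ∈ C, ∀ u ∈ (P : Subgroup G), c * u = u * c := by
    intro c hc u hu
    rw [hC, Subgroup.mem_centralizer_iff] at hc
    have h1 : c * x = x * c := (hc x (Set.mem_singleton x)).symm
    have h2 := ft_mem_centralizer p P hP x hx hx1 c h1
    rw [Subgroup.mem_centralizer_iff] at h2
    exact (h2 u hu).symm
  have hCN : ∀ c ∈ C, c ∈ Subgroup.normalizer ((P : Subgroup G) : Set G) := by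
    intro c hc
    rw [Subgroup.mem_normalizer_iff]
    intro u
    constructor
    · intro hu
      have := hCP c hc u hu
      have h2 : c * u * c⁻¹ = u := by rw [this]; group
      rw [h2]; exact hu
    · intro hu
      have := hCP c hc _ hu
      have h2 : u = c * u * c⁻¹ := by
        have h3 : c * (c * u * c⁻¹) = c * u := by rw [this]; group
        exact (mul_left_cancel h3).symm
      rw [h2]; exact hu
  have hKC : K ≤ C := by
    intro k hk
    have h1 := ((hK1 k).mp hk).1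
    rw [Subgroup.mem_centralizer_iff] at h1
    rw [hC, Subgroup.mem_centralizer_iff]
    intro z hz
    rw [Set.mem_singleton_iff] at hz
    subst hz
    exact h1 z hx
  haveI hnorm : (K.subgroupOf C).Normal := by
    constructor
    intro k hk c
    rw [Subgroup.mem_subgroupOf] at hk ⊢
    have := hK3 c (hCN c c.2) k hk
    simpa using this
  have hcop : (Nat.card (K.subgroupOf C)).Coprime p := by
    have h1 : Nat.card (K.subgroupOf C) = Nat.card K :=
      Nat.card_congr (Subgroup.subgroupOfEquivOfLe hKC).toEquiv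
    rw [h1, Nat.coprime_comm]
    exact (Nat.Prime.coprime_iff_not_dvd hpp).mpr hK2
  have hle : K.subgroupOf C ≤ Cfsg.pPrimeCore p C := le_sSup ⟨hnorm, hcop⟩
  have hpg : IsPGroup p (C ⧸ K.subgroupOf C) := by
    intro q
    induction q using QuotientGroup.induction_on with
    | H c =>
    refine ⟨1, ?_⟩
    rw [pow_one, ← QuotientGroup.mk_pow, QuotientGroup.eq_one_iff, Subgroup.mem_subgroupOf]
    obtain ⟨u, k, hu, hk, huk⟩ := hK4 c (hCP c c.2)
    have hcomm : Commute u k := by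
      have h1 := ((hK1 k).mp hk).1
      rw [Subgroup.mem_centralizer_iff] at h1
      exact h1 u hu
    have hup : u ^ p = 1 := by
      have := pow_card_eq_one' (G := (P : Subgroup G)) (x := ⟨u, hu⟩)
      rw [hP] at this
      simpa using congrArg Subtype.val this
    have : ((c ^ p : C) : G) = k ^ p := by
      rw [Subgroup.coe_pow, huk, hcomm.mul_pow, hup, one_mul]
    rw [this]
    exact K.pow_mem hk p
  obtain ⟨n, hn⟩ := IsPGroup.iff_card.mp hpg
  have hidx : (K.subgroupOf C).index = p ^ n := by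
    rw [Subgroup.index_eq_card]; exact hn
  have hdvd := Subgroup.index_dvd_of_le hle
  rw [hidx] at hdvd
  obtain ⟨j, -, hj⟩ := (Nat.dvd_prime_pow hpp).mp hdvd
  exact ⟨j, hj⟩

/-- PIECE FINTOP with GT and APPX as hypotheses. -/
theorem concl_top_core (M : Ideal Cfsg.AlgInt) (hM : Cfsg.IsPModular p M) (hodd : p ≠ 2)
    (P : Sylow p G) (hP : Nat.card P = p)
    (he : (Subgroup.centralizer ((P : Subgroup G) : Set G)).relIndex
      (Subgroup.normalizer ((P : Subgroup G) : Set G)) = p - 1)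
    (hGT : ∃ (K : Subgroup G) (n₀ : G),
      (∀ y : G, y ∈ K ↔ (y ∈ Subgroup.centralizer ((P : Subgroup G) : Set G) ∧ ¬ p ∣ orderOf y)) ∧
      ¬ p ∣ Nat.card K ∧
      (∀ n ∈ Subgroup.normalizer ((P : Subgroup G) : Set G), ∀ k ∈ K, n * k * n⁻¹ ∈ K) ∧
      (∀ c : G, (∀ u ∈ (P : Subgroup G), c * u = u * c) →
        ∃ u k : G, u ∈ (P : Subgroup G) ∧ k ∈ K ∧ c = u * k) ∧
      n₀ ∈ Subgroup.normalizer ((P : Subgroup G) : Set G) ∧
      (∀ n ∈ Subgroup.normalizer ((P : Subgroup G) : Set G),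
        ∃ (i : ℕ) (c : G), (∀ u ∈ (P : Subgroup G), c * u = u * c) ∧ n = n₀ ^ i * c))
    (hAPPX : ∀ χ : Cfsg.IrrCharacter G, χ ∈ Cfsg.principalBlock M G →
      ∀ x : G, x ∈ (P : Subgroup G) → x ≠ 1 → ∀ a : ℤ, (χ : G → ℂ) x = (a : ℂ) → a ≠ 0 →
        a = 1 ∨ a = -1) :
    Concl p M P (p - 1) := by
  classical
  haveI : Fintype G := Fintype.ofFinite G
  haveI : Fintype (Cfsg.IrrCharacter G) := Cfsg.Agent.Helper24.irrFintype
  have hpp : p.Prime := Fact.out
  have hp3 : 3 ≤ p := by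
    have := hpp.two_le
    omega
  obtain ⟨K, n₀, hK1, hK2, hK3, hK4, -, -⟩ := hGT
  have hconj : ∀ x ∈ (P : Subgroup G), x ≠ 1 → ∀ x' ∈ (P : Subgroup G), x' ≠ 1 →
      ∃ n : G, n * x * n⁻¹ = x' :=
    fun x hx hx1 x' hx' hx1' => ft_exists_conj p P hP he x hx hx1 x' hx' hx1'
  have hval := fun ψ : Cfsg.IrrCharacter G => ft_int_value p P hP hconj ψ
  choose a ha1 ha2 using hval
  -- a nontrivial element
  haveI : Fintype (P : Subgroup G) := Fintype.ofFinite _
  have hnt : Nontrivial (P : Subgroup G) := by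
    rw [← Fintype.one_lt_card_iff_nontrivial, ← Nat.card_eq_fintype_card, hP]
    exact hpp.one_lt
  obtain ⟨x₀', hx₀'⟩ := exists_ne (1 : (P : Subgroup G))
  set x₀ : G := (x₀' : G) with hx₀def
  have hx₀ : x₀ ∈ (P : Subgroup G) := x₀'.2
  have hx₀1 : x₀ ≠ 1 := fun h => hx₀' (Subtype.ext h)
  have hord : orderOf x₀ = p := by
    have h1 : orderOf (⟨x₀, hx₀⟩ : (P : Subgroup G)) ∣ p := by
      have := orderOf_dvd_natCard (⟨x₀, hx₀⟩ : (P : Subgroup G))
      rwa [hP] at this
    rw [Subgroup.orderOf_mk] at h1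
    rcases (Nat.dvd_prime hpp).mp h1 with h | h
    · exact absurd (orderOf_eq_one_iff.mp h) hx₀1
    · exact h
  set B₀ := Cfsg.principalBlock M G with hB₀
  -- values ±1 on the principal block
  have hpm : ∀ ψ ∈ B₀, a ψ = 1 ∨ a ψ = -1 := by
    intro ψ hψ
    have h1 := ha1 ψ x₀ hx₀ hx₀1
    have h2 : a ψ ≠ 0 := by
      intro h
      apply ft_ne_zero p M hM P hP ψ hψ x₀ hx₀ hx₀1
      rw [h1, h, Int.cast_zero]
    exact hAPPX ψ hψ x₀ hx₀ hx₀1 (a ψ) h1 h2
  -- the principal block has p members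
  have hcardB : Nat.card B₀ = p := by
    have h947 := (Cfsg.Agent.S0947.result p M hM x₀ ⟨1, by rw [hord, pow_one]⟩ hx₀1
      (1 : Subgroup.centralizer ({x₀} : Set G)) (by
        rw [orderOf_one]
        exact fun h => hpp.one_lt.ne' (Nat.dvd_one.mp h))).2
      (ft_index_pow p P hP x₀ hx₀ hx₀1 K hK1 hK2 hK3 hK4)
    have hfac : (Nat.card (Subgroup.centralizer ({x₀} : Set G))).factorization p = 1 := by
      have hG : (Nat.card G).factorization p = 1 := by
        have h1 := P.card_eq_multiplicity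
        rw [hP] at h1
        have h2 : p ^ 1 = p ^ (Nat.card G).factorization p := by rw [pow_one]; exact h1
        exact (Nat.pow_right_injective hpp.two_le h2).symm
      have hdvd : Nat.card (Subgroup.centralizer ({x₀} : Set G)) ∣ Nat.card G :=
        Subgroup.card_subgroup_dvd_card _
      have hle1 : (Nat.card (Subgroup.centralizer ({x₀} : Set G))).factorization p ≤ 1 := by
        rw [← hG]
        exact (Nat.factorization_le_iff_dvd Nat.card_pos.ne' Nat.card_pos.ne').mpr hdvd p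
      have hge1 : 1 ≤ (Nat.card (Subgroup.centralizer ({x₀} : Set G))).factorization p := by
        have hpd : p ∣ Nat.card (Subgroup.centralizer ({x₀} : Set G)) := by
          have hmem : x₀ ∈ Subgroup.centralizer ({x₀} : Set G) := by
            rw [Subgroup.mem_centralizer_iff]
            intro z hz
            rw [Set.mem_singleton_iff] at hz
            rw [hz]
          have := orderOf_dvd_natCard (⟨x₀, hmem⟩ : Subgroup.centralizer ({x₀} : Set G))
          rwa [Subgroup.orderOf_mk, hord] at this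
        exact (hpp.dvd_iff_one_le_factorization Nat.card_pos.ne').mp hpd
      omega
    rw [hfac, pow_one] at h947
    have hone : ∀ ζ ∈ B₀, ‖(ζ : G → ℂ) (x₀ * ((1 : Subgroup.centralizer ({x₀} : Set G)) : G))‖ ^ 2
        = (1 : ℝ) := by
      intro ζ hζ
      rw [Subgroup.coe_one, mul_one, ha1 ζ x₀ hx₀ hx₀1]
      rcases hpm ζ hζ with h | h
      · rw [h]; simp
      · rw [h]; simp
    rw [finsum_mem_congr rfl hone, finsum_mem_eq_finite_toFinset_sum _ (Set.toFinite B₀),
      Finset.sum_const, nsmul_eq_mul, mul_one] at h947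
    rw [Nat.card_eq_card_finite_toFinset (Set.toFinite B₀)]
    exact_mod_cast h947
  set triv : Cfsg.IrrCharacter G :=
    ⟨fun _ : G => (1 : ℂ), Cfsg.Agent.Helper24.isIrrCharacter_one⟩ with htriv
  have htrivB : triv ∈ B₀ := ft_triv_mem p M hM
  have hp1 : 1 ≤ p := hpp.one_lt.le
  refine ⟨B₀ \ {triv}, {triv}, ?_, ?_, ?_, ?_, a, -1, ?_, ?_, ?_, ?_, ?_⟩
  · rw [Set.sdiff_union_self, Set.union_eq_self_of_subset_right]
    intro y hy
    rw [Set.mem_singleton_iff] at hy
    rw [hy]; exact htrivB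
  · exact Set.disjoint_sdiff_left
  · rw [Nat.card_coe_set_eq, Set.ncard_diff_singleton_of_mem htrivB,
      ← Nat.card_coe_set_eq, hcardB]
  · rw [Nat.div_self (by omega), Nat.card_coe_set_eq, Set.ncard_singleton]
  · intro χ hχ
    have hχB : χ ∈ B₀ := hχ.1
    refine ⟨hpm χ hχB, ha2 χ, ?_⟩
    intro x hx hx1 y hy hyp
    have hyK : y ∈ K := (hK1 y).mpr ⟨hy, hyp⟩
    have hmem := mem_centralizerPPrimeCore_of_pcore p P hP x hx hx1 K hK1 hK2 hK3 y hyK
    have hordx : ∃ k : ℕ, orderOf x = p ^ k := by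
      refine ⟨1, ?_⟩
      rw [pow_one]
      have h1 : orderOf (⟨x, hx⟩ : (P : Subgroup G)) ∣ p := by
        have := orderOf_dvd_natCard (⟨x, hx⟩ : (P : Subgroup G))
        rwa [hP] at this
      rw [Subgroup.orderOf_mk] at h1
      rcases (Nat.dvd_prime hpp).mp h1 with h | h
      · exact absurd (orderOf_eq_one_iff.mp h) hx1
      · exact h
    rw [Cfsg.Agent.S0942.result p M hM x hordx y hmem χ hχB, ha1 χ x hx hx1]
  · right; rfl
  · intro θ hθ
    rw [Set.mem_singleton_iff] at hθ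
    rw [hθ]
    have hdeg : Cfsg.charDegree (triv : G → ℂ) = 1 :=
      Cfsg.Agent.Helper24.charDegree_natCast 1 (by simp [htriv])
    rw [hdeg, Int.modEq_iff_dvd]
    refine ⟨-1, ?_⟩
    push_cast [Nat.cast_sub hp1]
    ring
  · intro θ hθ θ' hθ' g _
    rw [Set.mem_singleton_iff] at hθ hθ'
    rw [hθ, hθ']
  · intro θ hθ g hg
    rw [Set.mem_singleton_iff] at hθ
    rw [hθ]
    have h907 := Cfsg.Agent.S0907.result p M hM B₀ ⟨triv, rfl⟩ g x₀ hg (by rw [hord])
    have hsplit : B₀ = (B₀ \ {triv}) ∪ {triv} := by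
      rw [Set.sdiff_union_self, Set.union_eq_self_of_subset_right]
      intro y hy
      rw [Set.mem_singleton_iff] at hy
      rw [hy]; exact htrivB
    rw [hsplit, finsum_mem_union Set.disjoint_sdiff_left (Set.toFinite _) (Set.toFinite _),
      finsum_mem_singleton] at h907
    have h1 : ∀ χ ∈ B₀ \ {triv}, (χ : G → ℂ) g * conj ((χ : G → ℂ) x₀) =
        (a χ : ℂ) * (χ : G → ℂ) g := by
      intro χ _
      rw [ha1 χ x₀ hx₀ hx₀1, map_intCast, mul_comm]
    rw [finsum_mem_congr rfl h1] at h907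
    have h2 : (triv : G → ℂ) g * conj ((triv : G → ℂ) x₀) = 1 := by simp [htriv]
    rw [h2] at h907
    have h3 : (triv : G → ℂ) g = 1 := rfl
    rw [h3]
    push_cast
    linear_combination -h907

end FINTOPB

end Cfsg.Agent.Helper5.TL
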