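import Mathlib
import Cfsg.Prelude.Def_Blocks
import Cfsg.Agent.Lib.Helper5.TLConcl
import Cfsg.Agent.Lib.Helper15.TLGT
import Cfsg.Agent.Lib.Helper20.TLJ
import Cfsg.Agent.Lib.Helper23.TLSM
import Cfsg.Agent.Lib.Helper24.TLTLCCore
import Cfsg.Agent.Lib.Helper24.TLTLPCore
import Cfsg.Agent.Lib.Helper24.TLAPPXCore
import Cfsg.Agent.Lib.Helper24.TLFINTOPB

/-!
# S4441: the pieces TLC, TLP, APPX, FINTOP with only the Thompson lemma (piece TL) left as a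
hypothesis `TLHyp`.
-/

set_option autoImplicit false

namespace Cfsg.Agent.Helper5.TL

open scoped Padic

variable (p : ℕ) [Fact p.Prime]

section Chain

variable {G : Type*} [Group G] [Finite G]

/-- the statement of the piece TL (`thompson_lemma`) for coordinate lattices, at a fixed `x ∈ P`. -/
def TLHyp (P : Sylow p G) (x : G) : Prop :=
  ∀ (n : ℕ) (ρ : Representation ℤ_[p] G (Fin n → ℤ_[p])),
    (∀ ε : Module.End ℤ_[p] (Fin n → ℤ_[p]), (∀ g, Commute ε (ρ g)) → ε * ε = ε →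
      ε = 0 ∨ ε = 1) →
    ∀ (K : Subgroup G), ¬ p ∣ Nat.card K →
    (∀ k ∈ K, ∀ u ∈ (P : Subgroup G), k * u = u * k) →
    (∀ n ∈ Subgroup.normalizer ((P : Subgroup G) : Set G), ∀ k ∈ K, n * k * n⁻¹ ∈ K) →
    (∀ c : G, (∀ u ∈ (P : Subgroup G), c * u = u * c) →
      ∃ u k : G, u ∈ (P : Subgroup G) ∧ k ∈ K ∧ c = u * k) →
    ∀ (n₀ : G), n₀ ∈ Subgroup.normalizer ((P : Subgroup G) : Set G) →
    (∀ n ∈ Subgroup.normalizer ((P : Subgroup G) : Set G),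
      ∃ (i : ℕ) (c : G), (∀ u ∈ (P : Subgroup G), c * u = u * c) ∧ n = n₀ ^ i * c) →
    ∃ t : ℤ, (t = -1 ∨ t = 0 ∨ t = 1) ∧
      ∑ᶠ y ∈ (K : Set G), LinearMap.trace ℤ_[p] (Fin n → ℤ_[p]) (ρ (x * y)) =
        (Nat.card K : ℤ_[p]) * (t : ℤ_[p])

/-- PIECE TLC modulo TL -/
theorem tl_char_of_TL (P : Sylow p G) (hP : Nat.card P = p) (χ : Cfsg.IrrCharacter G)
    (x : G) (hx : x ∈ (P : Subgroup G)) (hx1 : x ≠ 1) (hTL : TLHyp p P x) :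
    ∃ mult : Cfsg.IrrCharacter G → ℕ, 1 ≤ mult χ ∧
      (∀ ψ ψ' : Cfsg.IrrCharacter G, 0 < mult ψ → 0 < mult ψ' →
        (∃ r : ℚ, Cfsg.centralChar (ψ : G → ℂ) x = (r : ℂ)) →
          Cfsg.centralChar (ψ' : G → ℂ) x = Cfsg.centralChar (ψ : G → ℂ) x) ∧
      ∃ t : ℤ, (t = -1 ∨ t = 0 ∨ t = 1) ∧
        ∑ᶠ ψ : Cfsg.IrrCharacter G, (mult ψ : ℂ) *
          ∑ᶠ y ∈ {y : G | y ∈ Subgroup.centralizer ((P : Subgroup G) : Set G) ∧ ¬ p ∣ orderOf y},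
            (ψ : G → ℂ) (x * y) =
        (Nat.card {y : G | y ∈ Subgroup.centralizer ((P : Subgroup G) : Set G) ∧ ¬ p ∣ orderOf y} : ℂ)
          * (t : ℂ) :=
  tl_char_core p P hP χ x hx hx1 (exists_padic_embedding p) (exists_pcore p P hP) hTL

/-- PIECE TLP modulo TL -/
theorem tl_principal_of_TL (M : Ideal Cfsg.AlgInt) (hM : Cfsg.IsPModular p M) (P : Sylow p G)
    (hP : Nat.card P = p) (χ : Cfsg.IrrCharacter G)
    (x : G) (hx : x ∈ (P : Subgroup G)) (hx1 : x ≠ 1) (hTL : TLHyp p P x) :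
    ∃ mult : Cfsg.IrrCharacter G → ℕ, 1 ≤ mult χ ∧
      (∀ ψ ψ' : Cfsg.IrrCharacter G, 0 < mult ψ → 0 < mult ψ' →
        (∃ r : ℚ, Cfsg.centralChar (ψ : G → ℂ) x = (r : ℂ)) →
          Cfsg.centralChar (ψ' : G → ℂ) x = Cfsg.centralChar (ψ : G → ℂ) x) ∧
      ∃ t : ℤ, (t = -1 ∨ t = 0 ∨ t = 1) ∧
        ∑ᶠ ψ ∈ Cfsg.principalBlock M G, (mult ψ : ℂ) * (ψ : G → ℂ) x = (t : ℂ) :=
  tl_principal_core p M hM P hP χ x hx hx1 (exists_pcore p P hP)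
    (fun ψ hψ => sum_pcore_eq_zero p M hM P hP x hx hx1 ψ hψ)
    (tl_char_of_TL p P hP χ x hx hx1 hTL)

/-- PIECE APPX modulo TL -/
theorem abs_eq_one_of_int_value_of_TL (M : Ideal Cfsg.AlgInt) (hM : Cfsg.IsPModular p M)
    (P : Sylow p G) (hP : Nat.card P = p) (χ : Cfsg.IrrCharacter G)
    (hχ : χ ∈ Cfsg.principalBlock M G)
    (x : G) (hx : x ∈ (P : Subgroup G)) (hx1 : x ≠ 1) (hTL : TLHyp p P x)
    (a : ℤ) (ha : (χ : G → ℂ) x = (a : ℂ)) (ha0 : a ≠ 0) : a = 1 ∨ a = -1 :=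
  abs_eq_one_of_int_value_core (Cfsg.principalBlock M G) χ hχ x a ha ha0
    (tl_principal_of_TL p M hM P hP χ x hx hx1 hTL)

/-- PIECE FINTOP modulo TL -/
theorem concl_top_of_TL (M : Ideal Cfsg.AlgInt) (hM : Cfsg.IsPModular p M) (hodd : p ≠ 2)
    (P : Sylow p G) (hP : Nat.card P = p)
    (he : (Subgroup.centralizer ((P : Subgroup G) : Set G)).relIndex
      (Subgroup.normalizer ((P : Subgroup G) : Set G)) = p - 1)
    (hTL : ∀ x : G, x ∈ (P : Subgroup G) → x ≠ 1 → TLHyp p P x) : Concl p M P (p - 1) :=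
  concl_top_core p M hM hodd P hP he (exists_pcore p P hP)
    (fun χ hχ x hx hx1 a ha ha0 =>
      abs_eq_one_of_int_value_of_TL p M hM P hP χ hχ x hx hx1 (hTL x hx hx1) a ha ha0)

end Chain

end Cfsg.Agent.Helper5.TL
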