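import Mathlib

/-!
# Transfer lemmas (helper24's shared library)

* `transfer_comp_subtype_eq_pow`: the transfer of the restriction of a homomorphism `τ : G →* A`
  to a subgroup `H` of finite index is `τ ^ [G : H]`.
* `map_transfer`: transfer commutes with post-composition.
-/

set_option autoImplicit false
set_option linter.style.haveILetI false
set_option linter.unusedSectionVars false

namespace Cfsg.Agent.Helper24.Transfer

open Subgroup Subgroup.leftTransversals MulAction

/-- The transfer of a restricted homomorphism is the index-th power. -/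
theorem transfer_comp_subtype_eq_pow {G A : Type*} [Group G] [CommGroup A] (H : Subgroup G)
    [H.FiniteIndex] (τ : G →* A) (g : G) :
    MonoidHom.transfer (τ.comp H.subtype) g = τ g ^ H.index := by
  classical
  letI := H.fintypeQuotientOfFiniteIndex
  rw [MonoidHom.transfer_def (τ.comp H.subtype) (default : H.LeftTransversal) g]
  unfold diff
  simp only [MonoidHom.comp_apply, Subgroup.subtype_apply, map_mul, map_inv,
    smul_apply_eq_smul_apply_inv_smul, smul_eq_mul]
  rw [Finset.prod_mul_distrib, Finset.prod_mul_distrib, Finset.prod_const, Finset.card_univ]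
  have h1 : ∏ q : G ⧸ H, τ ((default : H.LeftTransversal).2.leftQuotientEquiv (g⁻¹ • q) : G) =
      ∏ q : G ⧸ H, τ ((default : H.LeftTransversal).2.leftQuotientEquiv q : G) :=
    Fintype.prod_equiv (MulAction.toPerm g⁻¹) _ _ (fun _ => rfl)
  rw [h1, Finset.prod_inv_distrib, index_eq_card, Nat.card_eq_fintype_card]
  rw [mul_comm, mul_assoc, mul_inv_cancel, mul_one]

/-- Transfer commutes with post-composition by a homomorphism of commutative groups. -/
theorem map_transfer {G A B : Type*} [Group G] [CommGroup A] [CommGroup B] (H : Subgroup G)
    [H.FiniteIndex] (ϕ : H →* A) (ρ : A →* B) (g : G) :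
    ρ (MonoidHom.transfer ϕ g) = MonoidHom.transfer (ρ.comp ϕ) g := by
  classical
  letI := H.fintypeQuotientOfFiniteIndex
  rw [MonoidHom.transfer_def ϕ (default : H.LeftTransversal) g,
    MonoidHom.transfer_def (ρ.comp ϕ) (default : H.LeftTransversal) g]
  unfold diff
  rw [map_prod]
  rfl

end Cfsg.Agent.Helper24.Transfer
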