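import Mathlib
import Cfsg.Agent.Lib.Helper24.TransferLemmas

/-!
# Squares in a Sylow 2-subgroup via transfer (helper24's shared library)
-/

set_option autoImplicit false
set_option linter.style.haveILetI false
set_option linter.unusedSectionVars false

namespace Cfsg.Agent.Helper24.Transfer

open Subgroup
open scoped commutatorElement

variable {G : Type*} [Group G] [Finite G]

/-- Elements of `⁅P, P⁆` are killed by `Abelianization.of : P → P/P'`. -/
theorem of_eq_one_of_mem_commutator (P : Subgroup G) {c : G} (hc : c ∈ ⁅P, P⁆) (hcP : c ∈ P) :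
    (Abelianization.of (⟨c, hcP⟩ : P) : Abelianization P) = 1 := by
  rw [← Subgroup.map_subtype_commutator] at hc
  obtain ⟨c', hc', hcc'⟩ := hc
  have : c' = ⟨c, hcP⟩ := Subtype.ext hcc'
  rw [← this]
  rw [← MonoidHom.mem_ker, Abelianization.ker_of]
  exact hc'

/-- Conversely. -/
theorem mem_commutator_of_of_eq_one (P : Subgroup G) {c : P}
    (hc : (Abelianization.of c : Abelianization P) = 1) : (c : G) ∈ ⁅P, P⁆ := by
  rw [← MonoidHom.mem_ker, Abelianization.ker_of] at hc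
  rw [← Subgroup.map_subtype_commutator]
  exact ⟨c, hc, rfl⟩

/-- **Main theorem**: `P` a 2-subgroup of odd index, `N ⊴ G`, `Q = P ∩ N`. If `P/QP'` and `Q/Q'`
are elementary abelian and `N/N'` has odd order, then `P/P'` is elementary abelian. -/
theorem sq_mem_commutator (N : Subgroup G) [hN : N.Normal] (P : Subgroup G) (hP2 : IsPGroup 2 P)
    (hPodd : Odd P.index)
    (hP : ∀ x ∈ P, x ^ 2 ∈ (P ⊓ N) ⊔ ⁅P, P⁆)
    (hQ : ∀ x ∈ P ⊓ N, x ^ 2 ∈ ⁅P ⊓ N, P ⊓ N⁆)
    (hodd : Odd (Nat.card (Abelianization N))) :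
    ∀ x ∈ P, x ^ 2 ∈ ⁅P, P⁆ := by
  classical
  set L := P ⊔ N with hL
  have hPL : P ≤ L := le_sup_left
  have hNL : N ≤ L := le_sup_right
  set H : Subgroup L := P.subgroupOf L with hH
  set NL : Subgroup L := N.subgroupOf L with hNLdef
  haveI : NL.Normal := Subgroup.normal_subgroupOf
  let εP : H ≃* P := Subgroup.subgroupOfEquivOfLe hPL
  let ϕ : H →* Abelianization P := (Abelianization.of).comp εP.toMonoidHom
  let V : L →* Abelianization P := MonoidHom.transfer ϕ
  -- Step 1: `V` kills `N`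
  have hcardA : ∃ k : ℕ, Nat.card (Abelianization P) ∣ 2 ^ k := by
    obtain ⟨k, hk⟩ := hP2.exists_card_eq
    refine ⟨k, ?_⟩
    rw [← hk]
    exact (commutator P).card_quotient_dvd_card
  have hVN : ∀ n : L, (n : G) ∈ N → V n = 1 := by
    intro n hn
    let f : N →* Abelianization P := V.comp (Subgroup.inclusion hNL)
    have h1 : V n = Abelianization.lift f (Abelianization.of (⟨(n : G), hn⟩ : N)) := by
      rw [Abelianization.lift_apply_of]
      rfl
    have h2 : orderOf (V n) ∣ Nat.card (Abelianization N) := by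
      rw [h1]
      exact (orderOf_map_dvd _ _).trans (_root_.orderOf_dvd_natCard _)
    obtain ⟨k, hk⟩ := hcardA
    have h3 : orderOf (V n) ∣ 2 ^ k := (_root_.orderOf_dvd_natCard _).trans hk
    obtain ⟨i, -, hi⟩ := (Nat.dvd_prime_pow Nat.prime_two).mp h3
    have hi0 : i = 0 := by
      by_contra hne
      have h4 : 2 ∣ Nat.card (Abelianization N) := by
        refine Dvd.dvd.trans ?_ h2
        rw [hi]
        exact dvd_pow_self 2 hne
      exact (Nat.not_even_iff_odd.mpr hodd) (even_iff_two_dvd.mpr h4)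
    rw [hi0, pow_zero] at hi
    exact orderOf_eq_one_iff.mp hi
  -- the subgroup `B`
  let B : Subgroup (Abelianization P) := (N.subgroupOf P).map Abelianization.of
  have hBsq : ∀ b ∈ B, b ^ 2 = 1 := by
    rintro _ ⟨q, hq, rfl⟩
    rw [← map_pow]
    have h1 : ((q ^ 2 : P) : G) ∈ ⁅P, P⁆ := by
      have h2 : ((q : G)) ∈ P ⊓ N := ⟨q.2, hq⟩
      have h3 := hQ _ h2
      have h4 : ⁅P ⊓ N, P ⊓ N⁆ ≤ ⁅P, P⁆ := Subgroup.commutator_mono inf_le_left inf_le_left
      have := h4 h3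
      simpa using this
    exact of_eq_one_of_mem_commutator P h1 (q ^ 2 : P).2
  -- the homomorphism `τ`
  let κ : P →* L ⧸ NL := (QuotientGroup.mk' NL).comp (Subgroup.inclusion hPL)
  have hκ : Function.Surjective κ := by
    intro q
    obtain ⟨l, rfl⟩ := QuotientGroup.mk_surjective q
    have hl : (l : G) ∈ P ⊔ N := l.2
    rw [Subgroup.mem_sup_of_normal_right] at hl
    obtain ⟨y, hy, n, hn, hyn⟩ := hl
    refine ⟨⟨y, hy⟩, ?_⟩
    show ((Subgroup.inclusion hPL ⟨y, hy⟩ : L) : L ⧸ NL) = (l : L ⧸ NL)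
    rw [QuotientGroup.eq]
    show (Subgroup.inclusion hPL ⟨y, hy⟩ : L)⁻¹ * l ∈ N.subgroupOf L
    rw [Subgroup.mem_subgroupOf]
    have : (((Subgroup.inclusion hPL ⟨y, hy⟩ : L)⁻¹ * l : L) : G) = n := by
      rw [Subgroup.coe_mul, Subgroup.coe_inv, ← hyn]
      show y⁻¹ * (y * n) = n
      group
    rw [this]
    exact hn
  let ψ : P →* Abelianization P ⧸ B := (QuotientGroup.mk' B).comp Abelianization.of
  have hκψ : κ.ker ≤ ψ.ker := by
    intro y hy
    rw [MonoidHom.mem_ker] at hy ⊢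
    have h1 : (Subgroup.inclusion hPL y : L) ∈ NL := (QuotientGroup.eq_one_iff _).mp hy
    have h2 : (y : G) ∈ N := h1
    show ((Abelianization.of y : Abelianization P) : Abelianization P ⧸ B) = 1
    rw [QuotientGroup.eq_one_iff]
    exact ⟨y, h2, rfl⟩
  let ψ' : P ⧸ κ.ker →* Abelianization P ⧸ B := QuotientGroup.lift κ.ker ψ hκψ
  let E : P ⧸ κ.ker ≃* L ⧸ NL := QuotientGroup.quotientKerEquivOfSurjective κ hκ
  let τ : L →* Abelianization P ⧸ B :=
    ψ'.comp (E.symm.toMonoidHom.comp (QuotientGroup.mk' NL))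
  have hτP : ∀ y : P, τ (Subgroup.inclusion hPL y) = ψ y := by
    intro y
    show ψ' (E.symm ((Subgroup.inclusion hPL y : L) : L ⧸ NL)) = ψ y
    have : E.symm ((Subgroup.inclusion hPL y : L) : L ⧸ NL) = (y : P ⧸ κ.ker) := by
      rw [MulEquiv.symm_apply_eq]
      rfl
    rw [this]
    rfl
  have hτN : ∀ n : L, (n : G) ∈ N → τ n = 1 := by
    intro n hn
    show ψ' (E.symm ((n : L) : L ⧸ NL)) = 1
    have : ((n : L) : L ⧸ NL) = 1 := (QuotientGroup.eq_one_iff n).mpr hn
    rw [this, map_one, map_one]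
  -- elements of `(P ⊓ N) ⊔ ⁅P, P⁆` are killed by `V` and `τ`
  have hkill : (P ⊓ N) ⊔ ⁅P, P⁆ ≤ (V.ker ⊓ τ.ker).map L.subtype := by
    apply sup_le
    · intro y hy
      refine ⟨⟨y, hNL hy.2⟩, ⟨?_, ?_⟩, rfl⟩
      · exact hVN _ hy.2
      · exact hτN _ hy.2
    · have h1 : ⁅P, P⁆ ≤ ⁅L, L⁆ := Subgroup.commutator_mono hPL hPL
      refine h1.trans ?_
      rw [← Subgroup.map_subtype_commutator]
      apply Subgroup.map_mono
      exact le_inf (Abelianization.commutator_subset_ker V) (Abelianization.commutator_subset_ker τ)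
  -- the main argument
  intro x hx
  have hxL : x ∈ L := hPL hx
  obtain ⟨y, ⟨hyV, hyτ⟩, hyx⟩ := hkill (hP x hx)
  have hy : y = (⟨x, hxL⟩ : L) ^ 2 := by
    apply Subtype.ext
    rw [Subgroup.coe_pow]
    exact hyx
  rw [hy] at hyV hyτ
  -- `τ x` has order dividing 2
  have hτsq : τ ⟨x, hxL⟩ ^ 2 = 1 := by
    rw [← map_pow]; exact hyτ
  -- `ρ (V x) = τ x ^ index = τ x`
  haveI : H.FiniteIndex := ⟨Subgroup.index_ne_zero_of_finite⟩
  have hρϕ : (QuotientGroup.mk' B).comp ϕ = τ.comp H.subtype := by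
    ext h
    show ψ (εP h) = τ (h : L)
    rw [← hτP (εP h)]
    congr 1
  have h1 : ((V ⟨x, hxL⟩ : Abelianization P) : Abelianization P ⧸ B) =
      τ ⟨x, hxL⟩ ^ H.index := by
    have := map_transfer H ϕ (QuotientGroup.mk' B) ⟨x, hxL⟩
    rw [hρϕ, transfer_comp_subtype_eq_pow] at this
    exact this
  have hHodd : Odd H.index := by
    have h2 : H.index = P.relIndex L := rfl
    have h3 : P.relIndex L ∣ P.index := Subgroup.relIndex_dvd_index_of_le hPL
    rw [h2]
    exact Odd.of_dvd_nat hPodd h3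
  obtain ⟨m, hm⟩ := hHodd
  have h2 : τ ⟨x, hxL⟩ ^ H.index = τ ⟨x, hxL⟩ := by
    rw [hm, pow_succ, pow_mul, hτsq, one_pow, one_mul]
  rw [h2] at h1
  have h3 : τ ⟨x, hxL⟩ = ψ ⟨x, hx⟩ := hτP ⟨x, hx⟩
  rw [h3] at h1
  -- so `V x = of x * b` with `b ∈ B`
  have h4 : (Abelianization.of (⟨x, hx⟩ : P))⁻¹ * V ⟨x, hxL⟩ ∈ B := by
    rw [← QuotientGroup.eq]
    exact h1.symm
  have h5 := hBsq _ h4
  rw [mul_pow, inv_pow, ← map_pow V, hyV, mul_one, inv_eq_one, ← map_pow] at h5
  have h6 := mem_commutator_of_of_eq_one P h5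
  simpa using h6

end Cfsg.Agent.Helper24.Transfer
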