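import Mathlib

/-!
# S2347 PIECE COMM: the commutant of the lifted representation is spanned by `1` and `∑ v, π v`.
-/

set_option autoImplicit false

namespace Cfsg.Agent.Helper6.Weil

universe u

section Abstract

variable {G : Type u} [Group G] {V : Type*} [AddCommGroup V] [Fintype V] [DistribMulAction G V]
  {W : Type u} [AddCommGroup W] [Module ℂ W] [FiniteDimensional ℂ W]
  (π : V → Module.End ℂ W)

/-- PIECE COMM: the commutant of the lifted representation -/
theorem commutant_le (h0 : π 0 = 1) (hLI : LinearIndependent ℂ π)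
    (hspan : Submodule.span ℂ (Set.range π) = ⊤)
    (R : G →* (Module.End ℂ W)ˣ)
    (hR : ∀ g v, (R g : Module.End ℂ W) * π v = π (g • v) * (R g : Module.End ℂ W))
    (htrans : ∀ v w : V, v ≠ 0 → w ≠ 0 → ∃ g : G, g • v = w)
    (E : Module.End ℂ W) (hE : ∀ g, E * (R g : Module.End ℂ W) = (R g : Module.End ℂ W) * E) :
    ∃ a b : ℂ, E = a • 1 + b • ∑ v, π v := by
  classical
  have hEmem : E ∈ Submodule.span ℂ (Set.range π) := by rw [hspan]; trivial
  obtain ⟨e, he⟩ := (Submodule.mem_span_range_iff_exists_fun ℂ).mp hEmem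
  -- invariance of the coefficients
  have hinv : ∀ (g : G) (v : V), e (g⁻¹ • v) = e v := by
    intro g
    have h1 : (∑ v, e v • π v) * (R g : Module.End ℂ W) =
        (∑ v, e v • π (g • v)) * (R g : Module.End ℂ W) := by
      rw [he, hE g, ← he, Finset.mul_sum, Finset.sum_mul]
      refine Finset.sum_congr rfl fun v _ => ?_
      rw [mul_smul_comm, hR g v, smul_mul_assoc]
    have h2 : (∑ v, e v • π v) = ∑ v, e v • π (g • v) := (Units.mul_left_inj (R g)).mp h1
    have h3 : (∑ v, e v • π (g • v)) = ∑ w, e (g⁻¹ • w) • π w := by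
      refine Fintype.sum_equiv (MulAction.toPerm g) _ _ ?_
      intro v
      simp [MulAction.toPerm_apply, inv_smul_smul]
    have h4 : ∑ v, (e (g⁻¹ • v) - e v) • π v = 0 := by
      simp only [sub_smul, Finset.sum_sub_distrib]
      rw [← h3, ← h2, sub_self]
    have h5 := Fintype.linearIndependent_iff.mp hLI _ h4
    intro v
    exact sub_eq_zero.mp (h5 v)
  have hconst : ∀ v w : V, v ≠ 0 → w ≠ 0 → e v = e w := by
    intro v w hv hw
    obtain ⟨g, hg⟩ := htrans v w hv hw
    have := hinv g w
    rw [← hg, inv_smul_smul] at this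
    rw [← hg]; exact this
  -- the common value off zero
  obtain ⟨b, hb⟩ : ∃ b : ℂ, ∀ v : V, v ≠ 0 → e v = b := by
    by_cases h : ∃ v : V, v ≠ 0
    · obtain ⟨v0, hv0⟩ := h
      exact ⟨e v0, fun v hv => hconst v v0 hv hv0⟩
    · push_neg at h
      exact ⟨0, fun v hv => absurd (h v) hv⟩
  refine ⟨e 0 - b, b, ?_⟩
  rw [← he, Finset.smul_sum]
  have hterm : ∀ v : V, e v • π v = (if v = 0 then (e 0 - b) • (1 : Module.End ℂ W) else 0) + b • π v := by
    intro v
    by_cases hv : v = 0
    · subst hv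
      rw [if_pos rfl, h0, ← add_smul, sub_add_cancel]
    · rw [if_neg hv, zero_add, hb v hv]
  rw [Finset.sum_congr rfl (fun v _ => hterm v), Finset.sum_add_distrib, Finset.sum_ite_eq']
  simp

end Abstract

end Cfsg.Agent.Helper6.Weil
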