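import Mathlib

/-!
# S2347 PIECE IRR: the eigenspaces of `T` are irreducible when the commutant is spanned by `1`
and `T` (Maschke averaging).
-/

set_option autoImplicit false

namespace Cfsg.Agent.Helper6.Weil

universe u

section Abstract

variable {G : Type u} [Group G]
  {W : Type u} [AddCommGroup W] [Module ℂ W] [FiniteDimensional ℂ W]

/-- PIECE IRR: the eigenspaces of `T` are irreducible when the commutant is spanned by `1` and `T` -/
theorem irreducible_of_commutant [Finite G] (R : G →* (Module.End ℂ W)ˣ) (T : Module.End ℂ W)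
    (hcomm : ∀ E : Module.End ℂ W,
      (∀ g, E * (R g : Module.End ℂ W) = (R g : Module.End ℂ W) * E) → ∃ a b : ℂ, E = a • 1 + b • T)
    (t : ℂ) (U : Submodule ℂ W) (hUT : ∀ f ∈ U, T f = t • f)
    (hU : ∀ g, ∀ f ∈ U, (R g : Module.End ℂ W) f ∈ U) (hU0 : U ≠ ⊥) :
    ∀ f : W, T f = t • f → f ∈ U := by
  classical
  haveI : Fintype G := Fintype.ofFinite G
  obtain ⟨U', hc⟩ := Submodule.exists_isCompl U
  let p0 : Module.End ℂ W := U.subtype ∘ₗ U.linearProjOfIsCompl U' hc
  have hp0U : ∀ w, p0 w ∈ U := fun w => (U.linearProjOfIsCompl U' hc w).2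
  have hp0fix : ∀ u ∈ U, p0 u = u := by
    intro u hu
    have := Submodule.linearProjOfIsCompl_apply_left hc ⟨u, hu⟩
    show ((U.linearProjOfIsCompl U' hc u : U) : W) = u
    have h2 : (U.linearProjOfIsCompl U' hc) u = ⟨u, hu⟩ := this
    rw [h2]
  let S : Module.End ℂ W := ∑ g : G, (R g : Module.End ℂ W) * p0 * (R g⁻¹ : Module.End ℂ W)
  have hRR : ∀ g h : G, (R g : Module.End ℂ W) * (R h : Module.End ℂ W) =
      (R (g * h) : Module.End ℂ W) := by
    intro g h; rw [map_mul]; rfl
  have hcommS : ∀ h, S * (R h : Module.End ℂ W) = (R h : Module.End ℂ W) * S := by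
    intro h
    simp only [S, Finset.sum_mul, Finset.mul_sum]
    refine Fintype.sum_equiv (Equiv.mulLeft h⁻¹) _ _ ?_
    intro g
    simp only [Equiv.coe_mulLeft]
    rw [mul_assoc, hRR, ← mul_assoc, ← mul_assoc, hRR]
    congr 2
    · simp
    · simp
  have hSU : ∀ w, S w ∈ U := by
    intro w
    simp only [S, LinearMap.sum_apply]
    refine Submodule.sum_mem _ ?_
    intro g _
    simp only [Module.End.mul_apply]
    exact hU g _ (hp0U _)
  have hSfix : ∀ u ∈ U, S u = (Fintype.card G : ℂ) • u := by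
    intro u hu
    simp only [S, LinearMap.sum_apply, Module.End.mul_apply]
    have : ∀ g : G, (R g : Module.End ℂ W) (p0 ((R g⁻¹ : Module.End ℂ W) u)) = u := by
      intro g
      rw [hp0fix _ (hU g⁻¹ u hu)]
      have h4 : (R g : Module.End ℂ W) * (R g⁻¹ : Module.End ℂ W) = 1 := by
        rw [hRR, mul_inv_cancel, map_one]; rfl
      exact congrArg (fun X : Module.End ℂ W => X u) h4
    rw [Finset.sum_congr rfl (fun g _ => this g)]
    rw [Finset.sum_const, Finset.card_univ, Nat.cast_smul_eq_nsmul]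
  obtain ⟨a, b, hab⟩ := hcomm S hcommS
  obtain ⟨u, hu, hu0⟩ := (Submodule.ne_bot_iff U).mp hU0
  have hcard : (Fintype.card G : ℂ) ≠ 0 := by
    exact_mod_cast Fintype.card_ne_zero
  have h1 : a + b * t = (Fintype.card G : ℂ) := by
    have h2 := hSfix u hu
    rw [hab] at h2
    simp only [LinearMap.add_apply, LinearMap.smul_apply, Module.End.one_apply, hUT u hu] at h2
    rw [smul_smul, ← add_smul] at h2
    have h3 : (a + b * t - (Fintype.card G : ℂ)) • u = 0 := by
      rw [sub_smul, h2, sub_self]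
    rcases smul_eq_zero.mp h3 with h4 | h4
    · exact sub_eq_zero.mp h4
    · exact absurd h4 hu0
  intro f hf
  have h5 : S f = (Fintype.card G : ℂ) • f := by
    rw [hab]
    simp only [LinearMap.add_apply, LinearMap.smul_apply, Module.End.one_apply, hf]
    rw [smul_smul, ← add_smul, h1]
  have h6 : f = (Fintype.card G : ℂ)⁻¹ • S f := by
    rw [h5, smul_smul, inv_mul_cancel₀ hcard, one_smul]
  rw [h6]
  exact U.smul_mem _ (hSU f)

end Abstract

end Cfsg.Agent.Helper6.Weil
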