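import Mathlib
import Cfsg.Agent.Lib.Helper24.CharBasic

/-!
# S2347 PIECE TRANSP: an irreducible invariant subspace of dimension `k` gives an irreducible
representation on `Fin k → ℂ`.
-/

set_option autoImplicit false

namespace Cfsg.Agent.Helper6.Weil

universe u

section Abstract

variable {G : Type u} [Group G]
  {W : Type u} [AddCommGroup W] [Module ℂ W] [FiniteDimensional ℂ W]

/-- The restriction of a representation by units of `End W` to an invariant subspace. -/
noncomputable def subRep (R : G →* (Module.End ℂ W)ˣ) (U : Submodule ℂ W)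
    (hU : ∀ g, ∀ f ∈ U, (R g : Module.End ℂ W) f ∈ U) : Representation ℂ G U where
  toFun g := (R g : Module.End ℂ W).restrict (hU g)
  map_one' := by
    ext f
    simp
  map_mul' a b := by
    ext f
    simp

theorem subRep_apply (R : G →* (Module.End ℂ W)ˣ) (U : Submodule ℂ W)
    (hU : ∀ g, ∀ f ∈ U, (R g : Module.End ℂ W) f ∈ U) (g : G) (f : U) :
    ((subRep R U hU g f : U) : W) = (R g : Module.End ℂ W) f := rfl

/-- PIECE TRANSP: an irreducible invariant subspace of dimension `k` gives an irreducible
representation on `Fin k → ℂ` -/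
theorem exists_rep_of_submodule (R : G →* (Module.End ℂ W)ˣ) (U : Submodule ℂ W)
    (hU : ∀ g, ∀ f ∈ U, (R g : Module.End ℂ W) f ∈ U) (k : ℕ) (hk : Module.finrank ℂ U = k)
    (hk0 : 0 < k)
    (hirr : ∀ U' : Submodule ℂ W, U' ≤ U → (∀ g, ∀ f ∈ U', (R g : Module.End ℂ W) f ∈ U') →
      U' = ⊥ ∨ U' = U) :
    ∃ ρ : Representation ℂ G (Fin k → ℂ), ρ.IsIrreducible := by
  classical
  have hirrU : (subRep R U hU).IsIrreducible := by
    rw [Cfsg.Agent.Helper24.isIrreducible_iff]
    refine ⟨?_, ?_⟩
    · apply Module.nontrivial_of_finrank_pos (R := ℂ)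
      rw [hk]; exact hk0
    · intro U'' hU''
      have h1 := hirr (U''.map U.subtype) (by
        intro x hx
        obtain ⟨y, _, rfl⟩ := hx
        exact y.2) (by
        intro g f hf
        obtain ⟨y, hy, rfl⟩ := hf
        refine ⟨subRep R U hU g y, hU'' g y hy, ?_⟩
        rfl)
      rcases h1 with h1 | h1
      · left
        rw [eq_bot_iff]
        intro y hy
        have : (U.subtype y) ∈ U''.map U.subtype := ⟨y, hy, rfl⟩
        rw [h1] at this
        rw [Submodule.mem_bot] at this ⊢
        exact Subtype.ext this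
      · right
        rw [eq_top_iff]
        intro y _
        have : (y : W) ∈ U''.map U.subtype := by rw [h1]; exact y.2
        obtain ⟨z, hz, hzy⟩ := this
        have : z = y := Subtype.ext hzy
        rw [← this]; exact hz
  let b : Module.Basis (Fin k) ℂ U := (Module.finBasis ℂ U).reindex (finCongr hk)
  exact ⟨Cfsg.Agent.Helper24.transportRep (subRep R U hU) b.equivFun,
    Cfsg.Agent.Helper24.isIrreducible_transport _ _ hirrU⟩

end Abstract

end Cfsg.Agent.Helper6.Weil
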