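import Mathlib
import Cfsg.Prelude.Def_JComponents
import Cfsg.Agent.Lib.Helper4.ZNDefs

/-!
# S0518 piece SYL (core): a Sylow 2-subgroup `S` of `G` over `T` is `T` or satisfies `SB2`   (helper24)

The core takes piece NT (`normalizer_T`, `swap_mul_mem`) as hypotheses `hNT`, `hsm`.
-/

set_option autoImplicit false
open Cfsg

namespace Cfsg.Agent.Helper4.ZN

variable {G : Type*} [Group G]

/-- normalizers grow in a Sylow `2`-subgroup -/
theorem syl_exists_normalizer_not_mem [Finite G] (S : Sylow 2 G) (K : Subgroup G)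
    (hK : K ≤ (S : Subgroup G)) (hne : K ≠ (S : Subgroup G)) :
    ∃ g ∈ (S : Subgroup G), g ∉ K ∧ g ∈ Subgroup.normalizer (K : Set G) := by
  have : Fact (Nat.Prime 2) := ⟨Nat.prime_two⟩
  have : Group.IsNilpotent ↥(S : Subgroup G) := S.isPGroup'.isNilpotent
  have hNC : NormalizerCondition ↥(S : Subgroup G) := Group.normalizerCondition_of_isNilpotent
  have hlt : K.subgroupOf (S : Subgroup G) < ⊤ := by
    rw [lt_top_iff_ne_top]
    intro h
    rw [Subgroup.subgroupOf_eq_top] at h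
    exact hne (le_antisymm hK h)
  have h2 := hNC _ hlt
  obtain ⟨x, hxN, hxK⟩ := SetLike.exists_of_lt h2
  refine ⟨x.1, x.2, ?_, ?_⟩
  · intro hx
    exact hxK (Subgroup.mem_subgroupOf.mpr hx)
  · rw [Subgroup.mem_normalizer_iff] at hxN ⊢
    intro h
    constructor
    · intro hh
      have := (hxN ⟨h, hK hh⟩).mp (Subgroup.mem_subgroupOf.mpr hh)
      simpa [Subgroup.mem_subgroupOf] using this
    · intro hh
      have hS : h ∈ (S : Subgroup G) := by
        have h1 : x.1 * h * x.1⁻¹ ∈ (S : Subgroup G) := hK hh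
        have h2 : x.1⁻¹ * (x.1 * h * x.1⁻¹) * x.1 ∈ (S : Subgroup G) :=
          mul_mem (mul_mem (inv_mem x.2) h1) x.2
        have : x.1⁻¹ * (x.1 * h * x.1⁻¹) * x.1 = h := by group
        rwa [this] at h2
      have := (hxN ⟨h, hS⟩).mpr (by simpa [Subgroup.mem_subgroupOf] using hh)
      simpa [Subgroup.mem_subgroupOf] using this

variable {P₁ P₂ T : Subgroup G} {t₁ t₂ : G} {E₁ E₂ V₁ V₂ : Subgroup G}

/-- an involution of `T` centralized by a swapping element is `1` or `z` -/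
theorem syl_inv_fix (e : TE T E₁ E₂) {z : G} (v : TV T t₁ t₂ z E₁ E₂ V₁ V₂) {g : G}
    (hg : Swap g P₁ P₂ t₁ t₂ E₁ E₂ V₁ V₂) {x : G} (hxT : x ∈ T) (hx2 : x * x = 1)
    (hxg : x * g = g * x) : x = 1 ∨ x = z := by
  have hconj : g * x * g⁻¹ = x := by rw [← hxg]; group
  have hZ : x ∈ E₁ ⊓ E₂ := by
    rcases e.inv_cover x hxT hx2 with h1 | h2
    · refine ⟨h1, ?_⟩
      have := (hg.E₁₂ x).mp h1
      rwa [hconj] at this
    · refine ⟨?_, h2⟩
      have := (hg.E₂₁ x).mp h2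
      rwa [hconj] at this
  rcases v.Z_eq x hZ with h | h | h | h
  · exact Or.inl h
  · exact Or.inr h
  · exfalso
    have h1 := hg.t₁₂
    rw [← h, hconj, h] at h1
    exact v.t_ne h1
  · exfalso
    have h1 := hg.t₂₁
    rw [← h, hconj, h] at h1
    exact v.t_ne h1.symm

/-- the hypotheses of piece NT, packaged -/
structure NTHyp (P₁ P₂ T : Subgroup G) (t₁ t₂ : G) (E₁ E₂ V₁ V₂ : Subgroup G) : Prop where
  nt : ∀ g ∈ Subgroup.normalizer (T : Set G), g ∈ T ∨ Swap g P₁ P₂ t₁ t₂ E₁ E₂ V₁ V₂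
  sm : ∀ g h : G, Swap g P₁ P₂ t₁ t₂ E₁ E₂ V₁ V₂ → Swap h P₁ P₂ t₁ t₂ E₁ E₂ V₁ V₂ → g⁻¹ * h ∈ T

/-- elementary abelian subgroups of order 8 of a subgroup of `N_G(T)` lie in `T` -/
theorem syl_e8 (e : TE T E₁ E₂) {z : G} (v : TV T t₁ t₂ z E₁ E₂ V₁ V₂)
    (n : NTHyp P₁ P₂ T t₁ t₂ E₁ E₂ V₁ V₂)
    (S₁ : Subgroup G) (hS₁ : S₁ ≤ Subgroup.normalizer (T : Set G))
    (A : Subgroup G) (hA : A ≤ S₁) (hcard : Nat.card ↥A = 8) (hA2 : ∀ a ∈ A, a * a = 1) :
    A ≤ T := by
  classical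
  by_contra hcon
  obtain ⟨a, haA, haT⟩ := SetLike.not_le_iff_exists.mp hcon
  have hsa : Swap a P₁ P₂ t₁ t₂ E₁ E₂ V₁ V₂ := by
    rcases n.nt a (hS₁ (hA haA)) with h | h
    · exact absurd h haT
    · exact h
  have hcomm : ∀ x ∈ A, ∀ y ∈ A, x * y = y * x := by
    intro x hx y hy
    have h1 := hA2 x hx
    have h2 := hA2 y hy
    have h3 := hA2 (x * y) (mul_mem hx hy)
    have hxi : x⁻¹ = x := inv_eq_of_mul_eq_one_right h1
    have hyi : y⁻¹ = y := inv_eq_of_mul_eq_one_right h2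
    have h4 : (x * y)⁻¹ = x * y := inv_eq_of_mul_eq_one_right h3
    rw [mul_inv_rev, hxi, hyi] at h4
    exact h4.symm
  have hAT : ∀ x ∈ A, x ∈ T → x = 1 ∨ x = z := by
    intro x hx hxT
    exact syl_inv_fix e v hsa hxT (hA2 x hx) (hcomm x hx a haA)
  have hsub : (A : Set G) ⊆ (({1, z, a, a * z} : Finset G) : Set G) := by
    intro b hb
    have hbA : b ∈ A := hb
    simp only [Finset.coe_insert, Finset.coe_singleton, Set.mem_insert_iff, Set.mem_singleton_iff]
    by_cases hbT : b ∈ T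
    · rcases hAT b hbA hbT with h | h
      · exact Or.inl h
      · exact Or.inr (Or.inl h)
    · have hsb : Swap b P₁ P₂ t₁ t₂ E₁ E₂ V₁ V₂ := by
        rcases n.nt b (hS₁ (hA hbA)) with h | h
        · exact absurd h hbT
        · exact h
      have h1 : a⁻¹ * b ∈ T := n.sm a b hsa hsb
      rcases hAT (a⁻¹ * b) (mul_mem (inv_mem haA) hbA) h1 with h | h
      · right; right; left
        have : b = a * (a⁻¹ * b) := by group
        rw [this, h, mul_one]
      · right; right; right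
        have : b = a * (a⁻¹ * b) := by group
        rw [this, h]
  have h1 : Nat.card ↥A ≤ 4 := by
    rw [← SetLike.coe_sort_coe, Nat.card_coe_set_eq]
    calc (A : Set G).ncard ≤ ((({1, z, a, a * z} : Finset G)) : Set G).ncard :=
          Set.ncard_le_ncard hsub (Finset.finite_toSet _)
      _ = ({1, z, a, a * z} : Finset G).card := Set.ncard_coe_finset _
      _ ≤ 4 := Finset.card_le_four
  omega

/-- an element normalizing a subgroup `S₁` with `T ≤ S₁ ≤ N_G(T)` normalizes `T` -/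
theorem syl_normalizer_le [Finite G] (c : Ctx P₁ P₂ T t₁ t₂ E₁ E₂ V₁ V₂) (e : TE T E₁ E₂) {z : G} (v : TV T t₁ t₂ z E₁ E₂ V₁ V₂)
    (n : NTHyp P₁ P₂ T t₁ t₂ E₁ E₂ V₁ V₂)
    (S₁ : Subgroup G) (hTS₁ : T ≤ S₁) (hS₁ : S₁ ≤ Subgroup.normalizer (T : Set G))
    {g : G} (hg : ∀ x ∈ S₁, g * x * g⁻¹ ∈ S₁) :
    g ∈ Subgroup.normalizer (T : Set G) := by
  have key : ∀ E : Subgroup G, E ≤ T → Nat.card ↥E = 8 → (∀ x ∈ E, x * x = 1) →
      ∀ x ∈ E, g * x * g⁻¹ ∈ T := by
    intro E hET hE8 hE2 x hx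
    have hA : E.map (MulAut.conj g).toMonoidHom ≤ T := by
      apply syl_e8 e v n S₁ hS₁
      · rintro _ ⟨y, hy, rfl⟩
        exact hg y (hTS₁ (hET hy))
      · rw [Subgroup.card_map_of_injective (MulAut.conj g).injective, hE8]
      · rintro _ ⟨y, hy, rfl⟩
        simp only [MulEquiv.coe_toMonoidHom, MulAut.conj_apply]
        have := hE2 y hy
        calc g * y * g⁻¹ * (g * y * g⁻¹) = g * (y * y) * g⁻¹ := by group
          _ = 1 := by rw [this]; group
    exact hA ⟨x, hx, rfl⟩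
  have h1 : ∀ x ∈ E₁, g * x * g⁻¹ ∈ T := key E₁ e.E₁_le c.b₁.card_E c.b₁.E_sq
  have h2 : ∀ x ∈ E₂, g * x * g⁻¹ ∈ T := key E₂ e.E₂_le c.b₂.card_E c.b₂.E_sq
  have hle : T ≤ T.comap (MulAut.conj g).toMonoidHom := by
    rw [← e.sup_eq, sup_le_iff]
    constructor
    · intro x hx
      rw [e.sup_eq]
      exact h1 x hx
    · intro x hx
      rw [e.sup_eq]
      exact h2 x hx
  rw [Subgroup.mem_normalizer_iff_map_conj_eq]
  apply Subgroup.eq_of_le_of_card_ge
  · rintro _ ⟨y, hy, rfl⟩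
    exact hle hy
  · rw [Subgroup.card_map_of_injective (MulAut.conj g).injective]

/-- Piece SYL, with piece NT as a hypothesis -/
theorem sylow_cases_core [Finite G]
    (hZ : ∀ S : Sylow 2 G,
      Subgroup.centralizer {z : G | z ∈ (S : Subgroup G) ∧ z ^ 2 = 1 ∧ ∀ s ∈ (S : Subgroup G), s * z = z * s} ≤
        Subgroup.normalizer ((S : Subgroup G) : Set G))
    (c : Ctx P₁ P₂ T t₁ t₂ E₁ E₂ V₁ V₂) (e : TE T E₁ E₂) {z : G} (v : TV T t₁ t₂ z E₁ E₂ V₁ V₂)
    (n : NTHyp P₁ P₂ T t₁ t₂ E₁ E₂ V₁ V₂)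
    (S : Sylow 2 G) (hTS : T ≤ (S : Subgroup G)) :
    (S : Subgroup G) = T ∨ SB2 S P₁ P₂ T t₁ t₂ z E₁ E₂ V₁ V₂ := by
  by_cases hST : (S : Subgroup G) = T
  · exact Or.inl hST
  right
  -- Step 1: `S ≤ N_G(T)`
  have hSN : (S : Subgroup G) ≤ Subgroup.normalizer (T : Set G) := by
    by_contra hcon
    have hne : (S : Subgroup G) ⊓ Subgroup.normalizer (T : Set G) ≠ (S : Subgroup G) := by
      intro h
      apply hcon
      rw [← h]
      exact inf_le_right
    obtain ⟨g, hgS, hgS₁, hgN⟩ := syl_exists_normalizer_not_mem S _ inf_le_left hne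
    apply hgS₁
    refine ⟨hgS, ?_⟩
    apply syl_normalizer_le c e v n _ (le_inf hTS Subgroup.le_normalizer) inf_le_right
    intro x hx
    exact ((Subgroup.mem_normalizer_iff.mp hgN) x).mp hx
  obtain ⟨a, haS, haT⟩ : ∃ a ∈ (S : Subgroup G), a ∉ T := by
    by_contra hcon
    push Not at hcon
    exact hST (le_antisymm hcon hTS)
  have hswap : ∀ b ∈ (S : Subgroup G), b ∉ T → Swap b P₁ P₂ t₁ t₂ E₁ E₂ V₁ V₂ := by
    intro b hb hbT
    rcases n.nt b (hSN hb) with h | h
    · exact absurd h hbT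
    · exact h
  have hsa := hswap a haS haT
  have hcard : Nat.card ↥(S : Subgroup G) = 32 := by
    have hidx : (T.subgroupOf (S : Subgroup G)).index = 2 := by
      rw [Subgroup.index_eq_two_iff']
      refine ⟨⟨a⁻¹, inv_mem haS⟩, ?_⟩
      intro b
      by_cases hb : (b : G) ∈ T
      · right
        refine ⟨Subgroup.mem_subgroupOf.mpr hb, ?_⟩
        intro h
        have h1 : a⁻¹ * (b : G) ∈ T := by simpa [Subgroup.mem_subgroupOf] using h
        have h2 : a⁻¹ ∈ T := by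
          have := mul_mem h1 (inv_mem hb)
          simpa using this
        exact haT (by simpa using inv_mem h2)
      · left
        refine ⟨?_, fun h => hb (Subgroup.mem_subgroupOf.mp h)⟩
        have := n.sm a b hsa (hswap b b.2 hb)
        simpa [Subgroup.mem_subgroupOf] using this
    have h1 := Subgroup.index_mul_card (T.subgroupOf (S : Subgroup G))
    have h2 : Nat.card ↥(T.subgroupOf (S : Subgroup G)) = Nat.card ↥T :=
      Nat.card_congr (Subgroup.subgroupOfEquivOfLe hTS).toEquiv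
    rw [hidx, h2, e.card_T] at h1
    omega
  have hNS : Subgroup.normalizer (((S : Subgroup G)) : Set G) ≤ (S : Subgroup G) := by
    intro g hg
    have hgT : g ∈ Subgroup.normalizer (T : Set G) := by
      apply syl_normalizer_le c e v n _ hTS hSN
      intro x hx
      exact ((Subgroup.mem_normalizer_iff.mp hg) x).mp hx
    rcases n.nt g hgT with h | h
    · exact hTS h
    · have h1 := n.sm a g hsa h
      have h2 : g = a * (a⁻¹ * g) := by group
      rw [h2]
      exact mul_mem haS (hTS h1)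
  refine ⟨hcard, hswap, ?_, ?_, ?_⟩
  · intro b hb hbT x hxT hx2 hxb
    exact syl_inv_fix e v (hswap b hb hbT) hxT hx2 hxb
  · intro A hA hA8 hA2
    exact syl_e8 e v n _ hSN A hA hA8 hA2
  · intro g hg
    apply hNS
    apply hZ S
    rw [Subgroup.mem_centralizer_iff] at hg ⊢
    rintro x ⟨hxS, hx2, hxc⟩
    have ht₁T : t₁ ∈ T := e.E₁_le c.b₁.t_E
    have hxT : x ∈ T := by
      by_contra hxT
      have hsx := hswap x hxS hxT
      have h1 := hsx.t₁₂
      have h2 := hxc t₁ (hTS ht₁T)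
      have h3 : x * t₁ * x⁻¹ = t₁ := by rw [← h2]; group
      exact v.t_ne (h3.symm.trans h1)
    have hx2' : x * x = 1 := by rw [← pow_two]; exact hx2
    have h4 := hxc a haS
    rcases syl_inv_fix e v hsa hxT hx2' h4.symm with h | h
    · rw [h]; simp
    · rw [h]; exact hg z rfl

end Cfsg.Agent.Helper4.ZN
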