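import Mathlib
import Cfsg.Prelude.Def_JComponents
import Cfsg.Agent.Lib.Helper4.ZNDefs
import Cfsg.Agent.Lib.Helper2.ZNNT
import Cfsg.Agent.Lib.Helper24.ZNSYLCore

/-!
# S0518 piece SYL: a Sylow 2-subgroup `S` of `G` over `T` is `T` or satisfies `SB2`   (helper24)

Exact skeleton signature; the proof is `sylow_cases_core` fed with helper2's piece NT.
-/

set_option autoImplicit false
open Cfsg

namespace Cfsg.Agent.Helper4.ZN

variable {G : Type*} [Group G]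
variable {P₁ P₂ T : Subgroup G} {t₁ t₂ : G} {E₁ E₂ V₁ V₂ : Subgroup G}

theorem sylow_cases [Finite G]
    (hZ : ∀ S : Sylow 2 G,
      Subgroup.centralizer {z : G | z ∈ (S : Subgroup G) ∧ z ^ 2 = 1 ∧ ∀ s ∈ (S : Subgroup G), s * z = z * s} ≤
        Subgroup.normalizer ((S : Subgroup G) : Set G))
    (c : Ctx P₁ P₂ T t₁ t₂ E₁ E₂ V₁ V₂) (e : TE T E₁ E₂) {z : G} (v : TV T t₁ t₂ z E₁ E₂ V₁ V₂)
    (S : Sylow 2 G) (hTS : T ≤ (S : Subgroup G)) :
    (S : Subgroup G) = T ∨ SB2 S P₁ P₂ T t₁ t₂ z E₁ E₂ V₁ V₂ :=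
  sylow_cases_core hZ c e v
    ⟨normalizer_T c e, fun _ _ hg hh => swap_mul_mem c hg hh⟩ S hTS

end Cfsg.Agent.Helper4.ZN
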